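import Cfsg.Agent.Lib.Helper38.BG128a
import Cfsg.Agent.Lib.Helper34.BG10d
import Cfsg.Agent.Lib.Helper33.Syl
import Cfsg.Agent.Lib.Helper55.BGHall
import Cfsg.Agent.Lib.Helper55.BGDecomp2
import Cfsg.Agent.Lib.Helper1.Hall
import Cfsg.Agent.S0636

/-!
# Bender–Glauberman 12.8–12.12 (statement S1420), from the conclusions of S1350, S1404, S1405,
S1415, S1416, S1417 taken as hypotheses.
-/

set_option autoImplicit false
set_option linter.style.haveILetI false
open Pointwise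

namespace Cfsg.Agent.Helper38.BG128

open Subgroup Cfsg
open Cfsg.Agent.Helper33 (card_conj_smul IsSylIn exists_isSylIn_ge exists_isSylIn)
open Cfsg.Agent.Helper34.BG

variable {G : Type*} [Group G] [Finite G]

/-- The conclusion of the frozen statement S1417 (BG Theorem 12.5). -/
def C1417 (M : Subgroup G) (p : ℕ) (A : Subgroup G) : Prop :=
  Group.IsNilpotent (Cfsg.sigmaCore M) ∧
    (∀ P : Sylow p M, IsMulCommutative (P : Subgroup M) ∧
      (A ≤ (P : Subgroup M).map M.subtype →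
        (∀ x ∈ (P : Subgroup M).map M.subtype, x ^ p = 1 ↔ x ∈ A) ∧
        ¬ Subgroup.normalizer ((((P : Subgroup M).map M.subtype : Subgroup G)) : Set G) ≤ M)) ∧
    M ≤ Subgroup.normalizer ((Cfsg.sigmaCore M ⊔ A : Subgroup G) : Set G) ∧
    Cfsg.sigmaCore M ⊓ Subgroup.centralizer (A : Set G) = ⊥ ∧
    (∀ Mstar : Subgroup G, IsCoatom Mstar → Mstar ≠ M → A ≤ Mstar →
      Cfsg.sigmaCore M ⊓ Mstar = ⊥) ∧
    ∃ A₁ : Subgroup G, A₁ ≤ A ∧ Nat.card A₁ = p ∧
      Cfsg.sigmaCore M ⊓ Subgroup.centralizer (A₁ : Set G) = ⊥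

/-- S1417 for all primes of `τ₂(M)`. -/
def H17 (M : Subgroup G) : Prop :=
  ∀ (p : ℕ) [Fact p.Prime], p ∈ Cfsg.tau2 M → ∀ A : Subgroup G,
    (A ≤ M ∧ Cfsg.IsElementaryAbelian p A ∧ Nat.card A = p ^ 2) → C1417 M p A

omit [Finite G] in
theorem card_eq_of_isComplIn' {A B M : Subgroup G} (h : IsComplIn A B M) :
    Nat.card M = Nat.card A * Nat.card B := by
  let f : A × B → M := fun x => ⟨x.1.1 * x.2.1, M.mul_mem (h.1 x.1.2) (h.2.1 x.2.2)⟩
  have hf : Function.Bijective f := by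
    constructor
    · rintro ⟨a, b⟩ ⟨a', b'⟩ hab
      have h1 : (a : G) * b = a' * b' := congrArg Subtype.val hab
      have h2 : (a' : G)⁻¹ * a = b' * (b : G)⁻¹ := by
        have : (a' : G)⁻¹ * ((a : G) * b) * (b : G)⁻¹ = (a' : G)⁻¹ * (a' * b') * (b : G)⁻¹ := by
          rw [h1]
        simpa [mul_assoc] using this
      have h3 : (a' : G)⁻¹ * a ∈ A ⊓ B :=
        ⟨A.mul_mem (A.inv_mem a'.2) a.2, h2 ▸ B.mul_mem b'.2 (B.inv_mem b.2)⟩
      rw [h.2.2.1, Subgroup.mem_bot] at h3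
      have ha : (a : G) = a' := by rw [inv_mul_eq_one] at h3; exact h3.symm
      have hb : (b : G) = b' := by rw [ha] at h1; exact mul_left_cancel h1
      exact Prod.ext (Subtype.ext ha) (Subtype.ext hb)
    · rintro ⟨m, hm⟩
      obtain ⟨a, ha, b, hb, rfl⟩ := h.2.2.2 m hm
      exact ⟨(⟨a, ha⟩, ⟨b, hb⟩), rfl⟩
  rw [← Nat.card_prod]
  exact (Nat.card_congr (Equiv.ofBijective f hf)).symm

theorem relIndex_eq_of_isComplIn' {A B M : Subgroup G} (h : IsComplIn A B M) :
    B.relIndex M = Nat.card A := by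
  have h1 := card_eq_of_isComplIn' h
  have h2 : Nat.card (B.subgroupOf M) * (B.subgroupOf M).index = Nat.card M :=
    Subgroup.card_mul_index _
  rw [card_subgroupOf_of_le h.2.1, h1, mul_comm] at h2
  exact Nat.eq_of_mul_eq_mul_right Nat.card_pos h2

theorem not_mem_sigma_of_dvd' {M E : Subgroup G}
    (hσ : IsPiHallOf (sigma M) (sigmaCore M) M) (hE : IsComplIn E (sigmaCore M) M)
    {t : ℕ} (ht : t.Prime) (hd : t ∣ Nat.card E) : t ∉ sigma M := by
  intro hts
  apply hσ.2.2 t ht hts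
  rw [relIndex_eq_of_isComplIn' hE]
  exact hd

omit [Finite G] in
theorem isElementaryAbelian_map' {H : Type*} [Group H] {p : ℕ} {A : Subgroup H}
    (f : H →* G) (hA : IsElementaryAbelian p A) : IsElementaryAbelian p (A.map f) := by
  refine ⟨⟨⟨fun x y => ?_⟩⟩, fun a ha => ?_⟩
  · obtain ⟨a, ha, hax⟩ := x.2
    obtain ⟨b, hb, hby⟩ := y.2
    apply Subtype.ext
    show (x : G) * y = y * x
    rw [← hax, ← hby, ← map_mul, ← map_mul, commute_of_isElementaryAbelian hA ha hb]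
  · obtain ⟨b, hb, rfl⟩ := ha
    rw [← map_pow, hA.2 b hb, map_one]

theorem sylIn_map_eq {M : Subgroup G} {p : ℕ} [Fact p.Prime] {T : Subgroup G}
    (hT : IsSylIn p T M) : ((hT.toSylow : Sylow p M) : Subgroup M).map M.subtype = T := by
  rw [hT.coe_toSylow]
  exact Subgroup.map_subgroupOf_eq_of_le hT.1

theorem sylIn_comm {M : Subgroup G} {p : ℕ} [Fact p.Prime] {A : Subgroup G} (h : C1417 M p A)
    {T : Subgroup G} (hT : IsSylIn p T M) : ∀ u ∈ T, ∀ v ∈ T, u * v = v * u := by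
  intro u hu v hv
  have hc := (h.2.1 hT.toSylow).1
  have huM := hT.1 hu
  have hvM := hT.1 hv
  have hu' : (⟨u, huM⟩ : M) ∈ ((hT.toSylow : Sylow p M) : Subgroup M) := by
    rw [hT.coe_toSylow]; exact mem_subgroupOf.mpr hu
  have hv' : (⟨v, hvM⟩ : M) ∈ ((hT.toSylow : Sylow p M) : Subgroup M) := by
    rw [hT.coe_toSylow]; exact mem_subgroupOf.mpr hv
  have h1 := hc.is_comm.comm ⟨⟨u, huM⟩, hu'⟩ ⟨⟨v, hvM⟩, hv'⟩
  have h2 := congrArg (fun t : ↥((hT.toSylow : Sylow p M) : Subgroup M) => ((t : M) : G)) h1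
  simpa using h2

theorem sylIn_omega {M : Subgroup G} {p : ℕ} [Fact p.Prime] {A : Subgroup G} (h : C1417 M p A)
    {T : Subgroup G} (hT : IsSylIn p T M) (hAT : A ≤ T) : ∀ g ∈ T, g ^ p = 1 ↔ g ∈ A := by
  have hmap := sylIn_map_eq hT
  have h1 := ((h.2.1 hT.toSylow).2 (by rw [hmap]; exact hAT)).1
  rw [hmap] at h1
  exact h1

theorem exists_elemAb_sq {M : Subgroup G} {p : ℕ} [Fact p.Prime] (hr1 : ¬ PRankLE p 1 ↥M) :
    ∃ A : Subgroup G, A ≤ M ∧ IsElementaryAbelian p A ∧ Nat.card A = p ^ 2 := by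
  obtain ⟨A, hAM, hA, hc⟩ := exists_elemAb_of_not_pRankLE hr1
  obtain ⟨B, hBA, hB, hcB⟩ := exists_elemAb_card_eq hA hc
  exact ⟨B, hBA.trans hAM, hB, by simpa using hcB⟩

/-- BG 12.9-type: nilpotent `σ(M)'`-subgroups of `M` are abelian. -/
theorem part_a (hG : IsMinSimpleOddOrder G) {M : Subgroup G}
    (hα : IsPiHallOf (alpha M) (alphaCore M) M) (hασ : alphaCore M ≤ sigmaCore M)
    (h17 : H17 M)
    (N : Subgroup G) (hNM : N ≤ M) (hNn : Group.IsNilpotent N)
    (hNσ : ∀ p : ℕ, p.Prime → p ∣ Nat.card N → p ∉ sigma M) : IsMulCommutative N := by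
  refine ⟨⟨fun a b => ?_⟩⟩
  refine comm_of_nilpotent_of_sylow_comm hNn ?_ a b
  intro q hq Q a ha b hb
  by_cases hqN : q ∣ Nat.card N
  swap
  · have hQ1 : Nat.card (Q : Subgroup N) = 1 := by
      rcases Q.isPGroup'.card_eq_or_dvd with h | h
      · exact h
      · exact absurd (h.trans (Subgroup.card_subgroup_dvd_card _)) hqN
    have hbot := Subgroup.card_eq_one.mp hQ1
    rw [hbot, Subgroup.mem_bot] at ha hb
    rw [ha, hb]
  have hqσ := hNσ q hq.out hqN
  have hq2 : q ≠ 2 := prime_ne_two hG N hqN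
  have hQ'p : IsPGroup q ((Q : Subgroup N).map N.subtype) := Q.isPGroup'.map _
  have hQ'M : (Q : Subgroup N).map N.subtype ≤ M := (Subgroup.map_subtype_le _).trans hNM
  obtain ⟨T, hT, hQT⟩ := exists_isSylIn_ge (p := q) hQ'p hQ'M
  have hTcomm : ∀ u ∈ T, ∀ v ∈ T, u * v = v * u := by
    by_cases hr1 : PRankLE q 1 ↥M
    · have hcyc : IsCyclic ↥T :=
        isCyclic_of_pRankLE_one hq2 hT.isPGroup (pRankLE_mono hT.le hr1)
      intro u hu v hv
      have h1 : ∀ s t : ↥T, s * t = t * s := fun s t => by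
        let _ := IsCyclic.commGroup (α := ↥T)
        exact mul_comm s t
      have h2 := congrArg Subtype.val (h1 ⟨u, hu⟩ ⟨v, hv⟩)
      simpa using h2
    · have hr2 : PRankLE q 2 ↥M :=
        Cfsg.Agent.Helper55.BGB.prankLE_two_of_not_mem_sigma hq.out hα hασ hqσ
      have hτ : q ∈ tau2 M := ⟨hq.out, hqσ, hr2, hr1⟩
      obtain ⟨A, hAM, hA, hAc⟩ := exists_elemAb_sq (p := q) hr1
      exact sylIn_comm (h17 q hτ A ⟨hAM, hA, hAc⟩) hT
  have h1 := hTcomm _ (hQT ⟨a, ha, rfl⟩) _ (hQT ⟨b, hb, rfl⟩)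
  exact Subtype.ext (by simpa using h1)

/-- BG 12.12-type: normalizers of noncyclic `p`-subgroups of `M`, `p ∈ σ(M)`, lie in `M`. -/
theorem part_c (hG : IsMinSimpleOddOrder G) {M : Subgroup G}
    (h04 : ∀ (p : ℕ) [Fact p.Prime], p ∈ sigma M → ∀ X : Subgroup G, IsPGroup p X → X ≠ ⊥ → X ≤ M →
      normalizer (X : Set G) = (M ⊓ normalizer (X : Set G)) ⊔ centralizer (X : Set G))
    (h16a : ∀ (p : ℕ) [Fact p.Prime] (A : Subgroup G), A ≤ M → IsElementaryAbelian p A →
      Nat.card A = p ^ 2 → centralizer (A : Set G) ≤ M)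
    (p : ℕ) (P : Subgroup G) (hp : p ∈ sigma M) (hP : IsPGroup p P) (hPM : P ≤ M)
    (hPc : ¬ IsCyclic P) : normalizer (P : Set G) ≤ M := by
  haveI : Fact p.Prime := ⟨hp.1⟩
  have hp2 : p ≠ 2 := prime_ne_two hG M hp.2.1
  have hP1 : P ≠ ⊥ := by
    rintro rfl
    exact hPc isCyclic_of_subsingleton
  have hPc' : ¬ IsCyclic ↥(⊤ : Subgroup ↥P) := by
    intro h
    exact hPc (isCyclic_of_surjective (Subgroup.topEquiv : (⊤ : Subgroup ↥P) ≃* ↥P)
      Subgroup.topEquiv.surjective)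
  obtain ⟨A₀, -, -, hA₀e, hA₀c⟩ :=
    Cfsg.Agent.S0636.result (R := ↥P) hp2 hP (⊤ : Subgroup ↥P) hPc'
  have hB : IsElementaryAbelian p (A₀.map P.subtype) := isElementaryAbelian_map' P.subtype hA₀e
  have hBc : Nat.card (A₀.map P.subtype) = p ^ 2 := by
    rw [Subgroup.card_map_of_injective P.subtype_injective]; exact hA₀c
  have hBP : A₀.map P.subtype ≤ P := Subgroup.map_subtype_le _
  have hCB := h16a p _ (hBP.trans hPM) hB hBc
  have hCP : centralizer (P : Set G) ≤ M := (Subgroup.centralizer_le hBP).trans hCB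
  rw [h04 p hp P hP hP1 hPM]
  exact sup_le inf_le_left hCP

/-- Hall superset: a complement of `M_σ` in `M` containing a given `σ(M)'`-element of `M`. -/
theorem exists_compl_mem (hG : IsMinSimpleOddOrder G) {M : Subgroup G} (hM : IsCoatom M)
    (hσ : IsPiHallOf (sigma M) (sigmaCore M) M) {x : G} (hxM : x ∈ M)
    (hx : ∀ p : ℕ, p.Prime → p ∣ orderOf x → p ∉ sigma M) :
    ∃ E : Subgroup G, IsComplIn E (sigmaCore M) M ∧ x ∈ E := by
  haveI : Group.IsSolvable ↥M := solvable_of_ne_top hG hM.1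
  have hsM : sigmaCore M ≤ M := Cfsg.Agent.Helper55.BGB.sigmaCore_le M
  have hcard : Nat.card ↥M = (sigmaCore M).relIndex M * Nat.card (sigmaCore M) := by
    have h1 : Nat.card ((sigmaCore M).subgroupOf M) * ((sigmaCore M).subgroupOf M).index =
        Nat.card M := Subgroup.card_mul_index _
    rw [card_subgroupOf_of_le hsM] at h1
    rw [← h1, mul_comm]; rfl
  have hcop : ((sigmaCore M).relIndex M).Coprime (Nat.card (sigmaCore M)) := by
    apply Nat.Coprime.symm
    apply Nat.coprime_of_dvd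
    intro k hk hk1 hk2
    exact hσ.2.2 k hk (hσ.2.1 k hk hk1) hk2
  obtain ⟨H, hH, hdom⟩ := Cfsg.Agent.Helper1.hall_exists_dominant (G := ↥M) _ _ hcard hcop
  have hKcop : (Nat.card (Subgroup.zpowers (⟨x, hxM⟩ : ↥M))).Coprime (Nat.card (sigmaCore M)) := by
    rw [Nat.card_zpowers, Subgroup.orderOf_mk]
    apply Nat.coprime_of_dvd
    intro k hk hk1 hk2
    exact hx k hk hk1 (hσ.2.1 k hk hk2)
  obtain ⟨g, hg⟩ := hdom _ hKcop
  have hc : Nat.card ((MulAut.conj g • H).map M.subtype) = (sigmaCore M).relIndex M := by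
    rw [Subgroup.card_map_of_injective M.subtype_injective, card_conj_smul, hH]
  refine ⟨(MulAut.conj g • H).map M.subtype, ?_, ?_⟩
  · apply Cfsg.Agent.Helper55.BGB.isComplIn_of_card (Subgroup.map_subtype_le _) hsM
    · apply Disjoint.eq_bot
      apply Subgroup.disjoint_of_coprime_natCard
      rw [hc]; exact hcop
    · rw [hc, hcard]
  · exact ⟨⟨x, hxM⟩, hg (Subgroup.mem_zpowers _), rfl⟩

omit [Finite G] in
theorem isPGroup_zpowers_of_pow {p : ℕ} {y : G} {k : ℕ} (hk : y ^ (p ^ k) = 1) :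
    IsPGroup p (Subgroup.zpowers y) := by
  rintro ⟨g, hg⟩
  obtain ⟨j, rfl⟩ := Subgroup.mem_zpowers_iff.mp hg
  refine ⟨k, Subtype.ext ?_⟩
  simp only [Subgroup.coe_pow, Subgroup.coe_one]
  rw [← zpow_natCast, ← zpow_mul, mul_comm, zpow_mul, zpow_natCast, hk, one_zpow]

/-- BG 12.16-type (`cent1_nreg_sigma_uniq`). -/
theorem part_d (hG : IsMinSimpleOddOrder G) {M : Subgroup G} (hM : IsCoatom M)
    (hσ : IsPiHallOf (sigma M) (sigmaCore M) M) (h17 : H17 M)
    (x : G) (hxM : x ∈ M) (hx1 : x ≠ 1)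
    (hxτ : ∀ p : ℕ, p.Prime → p ∣ orderOf x → p ∈ tau2 M) (hxσ : x ∈ sigmaHat M) :
    centralizer ({x} : Set G) ≤ M ∧
      ∀ L : Subgroup G, IsCoatom L → centralizer ({x} : Set G) ≤ L → L = M := by
  have huniq : ∀ L : Subgroup G, IsCoatom L → centralizer ({x} : Set G) ≤ L → L = M := by
    intro L hL hCL
    by_contra hne
    have hn0 : orderOf x ≠ 0 := (orderOf_pos x).ne'
    have hn1 : orderOf x ≠ 1 := fun h => hx1 (orderOf_eq_one_iff.mp h)
    have hpp : (orderOf x).minFac.Prime := Nat.minFac_prime hn1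
    set p := (orderOf x).minFac with hpdef
    haveI : Fact p.Prime := ⟨hpp⟩
    have hpn : p ∣ orderOf x := Nat.minFac_dvd _
    have hpτ : p ∈ tau2 M := hxτ p hpp hpn
    have hpσ : p ∉ sigma M := hpτ.2.1
    have hr1 : ¬ PRankLE p 1 ↥M := hpτ.2.2.2
    -- a complement containing x
    obtain ⟨E, hE, hxE⟩ :=
      exists_compl_mem hG hM hσ hxM (fun q hq hqn => (hxτ q hq hqn).2.1)
    -- an elementary abelian subgroup of order p² of E
    obtain ⟨A, hAE, hA, hAc⟩ :
        ∃ A : Subgroup G, A ≤ E ∧ IsElementaryAbelian p A ∧ Nat.card A = p ^ 2 := by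
      obtain ⟨A₁, hA₁M, hA₁, hA₁c⟩ := exists_elemAb_sq (p := p) hr1
      obtain ⟨T₀, hT₀⟩ := exists_isSylIn (p := p) E
      have hEidx : E.relIndex M = Nat.card (sigmaCore M) := by
        have h2 : Nat.card (E.subgroupOf M) * (E.subgroupOf M).index = Nat.card M :=
          Subgroup.card_mul_index _
        rw [card_subgroupOf_of_le hE.1, card_eq_of_isComplIn' hE] at h2
        exact Nat.eq_of_mul_eq_mul_left Nat.card_pos h2
      have hT₀M : IsSylIn p T₀ M := by
        refine ⟨hT₀.1.trans hE.1, hT₀.2.1, ?_⟩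
        rw [← Subgroup.relIndex_mul_relIndex T₀ E M hT₀.1 hE.1]
        intro hdvd
        rcases (Nat.Prime.dvd_mul hpp).mp hdvd with h | h
        · exact hT₀.2.2 h
        · rw [hEidx] at h
          exact hpσ (hσ.2.1 p hpp h)
      obtain ⟨u, -, hle⟩ := hT₀M.exists_conj_le (isElementaryAbelian_isPGroup hA₁) hA₁M
      refine ⟨MulAut.conj u • A₁, hle.trans hT₀.1, isElementaryAbelian_conj hA₁ u, ?_⟩
      rw [card_conj_smul]; exact hA₁c
    have hAM : A ≤ M := hAE.trans hE.1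
    have h17A := h17 p hpτ A ⟨hAM, hA, hAc⟩
    have hc := h17A.2.2.1
    have he := h17A.2.2.2.2.1
    -- E normalizes A
    have hEN : ∀ e ∈ E, ∀ a ∈ A, e * a * e⁻¹ ∈ A := by
      intro e he' a ha
      have heN := hc (hE.1 he')
      have haS : a ∈ sigmaCore M ⊔ A := (le_sup_right : A ≤ _) ha
      have h1 : e * a * e⁻¹ ∈ sigmaCore M ⊔ A := (Subgroup.mem_normalizer_iff.mp heN a).mp haS
      have hAN : A ≤ normalizer ((sigmaCore M : Subgroup G) : Set G) :=
        hAM.trans (Cfsg.Agent.Helper55.BGB.le_normalizer_sigmaCore M)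
      have hset := Subgroup.coe_mul_of_right_le_normalizer_left (sigmaCore M) A hAN
      have h2 : e * a * e⁻¹ ∈ ((sigmaCore M ⊔ A : Subgroup G) : Set G) := h1
      rw [hset] at h2
      obtain ⟨k, hk, a', ha', hka⟩ := Set.mem_mul.mp h2
      have hkE : k ∈ E := by
        have : k = e * a * e⁻¹ * a'⁻¹ := by rw [← hka]; group
        rw [this]
        exact E.mul_mem (E.mul_mem (E.mul_mem he' (hAE ha)) (E.inv_mem he')) (E.inv_mem (hAE ha'))
      have hk1 : k = 1 := by
        have : k ∈ E ⊓ sigmaCore M := ⟨hkE, hk⟩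
        rw [hE.2.2.1] at this
        exact Subgroup.mem_bot.mp this
      rw [← hka, hk1, one_mul]
      exact ha'
    -- p-elements of E
    have key : ∀ y ∈ E, (∃ k, y ^ (p ^ k) = 1) →
        (y ^ p = 1 → y ∈ A) ∧ ∀ a ∈ A, y * a = a * y := by
      rintro y hyE ⟨k, hk⟩
      have hYp : IsPGroup p (Subgroup.zpowers y) := isPGroup_zpowers_of_pow hk
      have hAp : IsPGroup p A := isElementaryAbelian_isPGroup hA
      have hyN : y ∈ normalizer (A : Set G) := by
        rw [Subgroup.mem_normalizer_iff]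
        intro h
        constructor
        · exact hEN y hyE h
        · intro hh
          have := hEN y⁻¹ (E.inv_mem hyE) _ hh
          simpa [mul_assoc] using this
      have hYN : Subgroup.zpowers y ≤ normalizer (A : Set G) := Subgroup.zpowers_le.mpr hyN
      have hS : IsPGroup p (Subgroup.zpowers y ⊔ A : Subgroup G) := hYp.to_sup_of_normal_right' hAp hYN
      have hSM : Subgroup.zpowers y ⊔ A ≤ M :=
        sup_le (Subgroup.zpowers_le.mpr (hE.1 hyE)) hAM
      obtain ⟨T, hT, hST⟩ := exists_isSylIn_ge (p := p) hS hSM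
      have hyT : y ∈ T := hST ((le_sup_left : Subgroup.zpowers y ≤ _) (Subgroup.mem_zpowers y))
      have hAT : A ≤ T := le_sup_right.trans hST
      exact ⟨fun hyp => (sylIn_omega h17A hT hAT y hyT).mp hyp,
        fun a ha => sylIn_comm h17A hT y hyT a (hAT ha)⟩
    -- the element z of order p of ⟨x⟩
    set z := x ^ (orderOf x / p) with hzdef
    have hzo : orderOf z = p := orderOf_pow_orderOf_div hn0 hpn
    have hzE : z ∈ E := E.pow_mem hxE _
    have hz1 : z ≠ 1 := by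
      intro h
      rw [h, orderOf_one] at hzo
      exact hpp.one_lt.ne hzo
    have hzp : z ^ p = 1 := by rw [← hzo]; exact pow_orderOf_eq_one z
    have hxz : x * z = z * x := (Commute.pow_right (Commute.refl x) _).eq
    have hzA : z ∈ A := (key z hzE ⟨1, by simpa using hzp⟩).1 hzp
    -- the p'-part
    obtain ⟨k, m, hmp, hnkm⟩ := Nat.exists_eq_pow_mul_and_not_dvd hn0 p hpp.ne_one
    have hxm : ∀ a ∈ A, x ^ m * a = a * x ^ m :=
      (key (x ^ m) (E.pow_mem hxE m)
        ⟨k, by rw [← pow_mul, mul_comm, ← hnkm]; exact pow_orderOf_eq_one x⟩).2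
    have hcop : (p - 1).Coprime (orderOf x) := by
      apply Nat.coprime_of_dvd
      intro q hq hq1 hq2
      have h1 : p ≤ q := Nat.minFac_le_of_dvd hq.two_le hq2
      have h2 : q ≤ p - 1 := Nat.le_of_dvd (by have := hpp.two_le; omega) hq1
      have := hpp.two_le
      omega
    have hmcop : m.Coprime p := ((Nat.Prime.coprime_iff_not_dvd hpp).mpr hmp).symm
    have hxA : ∀ a ∈ A, x * a = a * x :=
      centralizes_of_flag A (fun a ha b hb => commute_of_isElementaryAbelian hA ha hb) hA.2 hAc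
        z hzA hz1 x (hEN x hxE) hxz hcop m hmcop hxm
    have hAL : A ≤ L := by
      intro a ha
      apply hCL
      rw [Subgroup.mem_centralizer_iff]
      intro h hh
      rw [Set.mem_singleton_iff] at hh
      rw [hh]
      exact hxA a ha
    have hbot := he L hL hne hAL
    obtain ⟨-, y, hy, hy1, hxy⟩ := hxσ
    have hyL : y ∈ L := by
      apply hCL
      rw [Subgroup.mem_centralizer_iff]
      intro h hh
      rw [Set.mem_singleton_iff] at hh
      rw [hh]
      exact hxy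
    have : y ∈ sigmaCore M ⊓ L := ⟨hy, hyL⟩
    rw [hbot] at this
    exact hy1 (Subgroup.mem_bot.mp this)
  refine ⟨?_, huniq⟩
  obtain ⟨L, hL, hCL⟩ := exists_coatom_ge (centralizer_singleton_ne_top hG hx1)
  rw [← huniq L hL hCL]
  exact hCL

end Cfsg.Agent.Helper38.BG128
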