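import Mathlib
import Cfsg.Agent.Lib.Helper64.S4017Defs
import Cfsg.Agent.Lib.Helper3.S4017DDefs
import Cfsg.Agent.Lib.Helper63.S4017D1
import Cfsg.Agent.Lib.Helper90.S4017C1
import Cfsg.Agent.Lib.Helper62.S4017D3
import Cfsg.Agent.Lib.Helper69.S4017D4a

set_option autoImplicit false
set_option linter.unusedVariables false
set_option linter.unusedSectionVars false
set_option linter.style.haveILetI false

/-!
# S4017M (D4b) `D_sylow_le` for helper64's server (S4017)
-/

namespace Cfsg.Agent.Helper38.S4017M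

open Cfsg.Agent.Helper64.S4017
open Cfsg.Agent.Helper63.S4017M Cfsg.Agent.Helper90.S4017M
open Cfsg.Agent.Helper62.S4017M Cfsg.Agent.Helper69.S4017M

variable {G : Type*} [Group G] [Finite G] {a p : ℕ} {Q : Subgroup G} {x : G}

theorem d4b_mem_smul {p : ℕ} (g : G) (P : Sylow p G) (y : G) :
    y ∈ ((g • P : Sylow p G) : Subgroup G) ↔ g⁻¹ * y * g ∈ (P : Subgroup G) := by
  rw [Sylow.coe_subgroup_smul, Subgroup.mem_pointwise_smul_iff_inv_smul_mem, MulAut.smul_def,
    MulAut.conj_inv_apply]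

/-- elements of a Sylow `p`-subgroup are `p`-elements -/
theorem d4b_isPel_of_mem {p : ℕ} [hp : Fact p.Prime] (P : Sylow p G) {g : G}
    (hg : g ∈ (P : Subgroup G)) : IsPel p g := by
  obtain ⟨k, hk⟩ := P.2 ⟨g, hg⟩
  have h1 : g ^ p ^ k = 1 := by
    have := congrArg Subtype.val hk
    simpa using this
  obtain ⟨m, _, hm⟩ := (Nat.dvd_prime_pow hp.out).mp (orderOf_dvd_of_pow_eq_one h1)
  exact ⟨m, hm⟩

/-- a subgroup of exponent `2` is abelian -/
theorem d4b_comm_of_exp_two (Q : Subgroup G) (helem : ∀ g ∈ Q, g * g = 1) :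
    ∀ a ∈ Q, ∀ b ∈ Q, a * b = b * a := by
  intro a ha b hb
  have h1 := helem (a * b) (Q.mul_mem ha hb)
  have ha' : a⁻¹ = a := inv_eq_of_mul_eq_one_left (helem a ha)
  have hb' : b⁻¹ = b := inv_eq_of_mul_eq_one_left (helem b hb)
  have h2 : (a * b)⁻¹ = a * b := inv_eq_of_mul_eq_one_left h1
  rw [mul_inv_rev, ha', hb'] at h2
  exact h2.symm

/-- a group with four elements has an element different from two given ones -/
theorem d4b_exists_third (Q : Subgroup G) (hQ : Nat.card Q = 4) (t : G) :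
    ∃ s ∈ Q, s ≠ 1 ∧ s ≠ t := by
  classical
  by_contra hcon
  have hall : ∀ s ∈ Q, s = 1 ∨ s = t := by
    intro s hs
    by_contra h1
    rw [not_or] at h1
    exact hcon ⟨s, hs, h1.1, h1.2⟩
  haveI : Fintype ↥Q := Fintype.ofFinite _
  have hsub : (Finset.univ : Finset ↥Q) ⊆
      (({1, t} : Finset G).preimage (Subtype.val : ↥Q → G) Subtype.val_injective.injOn) := by
    intro s _
    rw [Finset.mem_preimage, Finset.mem_insert, Finset.mem_singleton]
    exact hall s.1 s.2
  have h1 := Finset.card_le_card hsub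
  have h2 : ((({1, t} : Finset G).preimage (Subtype.val : ↥Q → G)
      Subtype.val_injective.injOn)).card ≤ ({1, t} : Finset G).card :=
    Finset.card_le_card_of_injOn Subtype.val (fun s hs => by simpa using Finset.mem_preimage.mp hs)
      Subtype.val_injective.injOn
  have h3 : ({1, t} : Finset G).card ≤ 2 := Finset.card_le_two
  rw [Finset.card_univ, ← Nat.card_eq_fintype_card, hQ] at h1
  omega

/-- (D4b) -/
theorem D_sylow_le (h : Setting a p Q x) (T : Tools a p Q x) (ha : a = 2)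
    (hP1 : ¬ P1ne p Q) {t z : G} (ht : t ∈ Q) (ht1 : t ≠ 1) (hz : IsPel p z) (hz1 : z ≠ 1)
    (hzt : z * t = t * z) (P : Sylow p G) (hzP : z ∈ P) : ∀ g ∈ P, g * t = t * g := by
  classical
  haveI : Fact p.Prime := ⟨h.prime⟩
  have hcardQ : Nat.card Q = 4 := by rw [h.card_Q, ha]; norm_num
  have hp3 : p = 3 := by
    have := h.p_eq
    rw [ha] at this
    norm_num at this
    omega
  have htinv : t * t = 1 := h.elem t ht
  have hQcomm := d4b_comm_of_exp_two Q h.elem
  obtain ⟨P0, hzP0, hP0uniq, hP0pel, hP0cz⟩ := D_sylow h T ha hP1 ht ht1 hz hz1 hzt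
  have hPP0 : P = P0 := hP0uniq P hzP
  rw [← hPP0] at hP0pel hP0uniq
  -- the `p`-elements of `C(t)` lie in `P`
  obtain ⟨Z, hZmem, hZcomm⟩ := T.ct t ht ht1
  have hzZ : z ∈ Z := (hZmem z).mpr ⟨hzt, hz⟩
  have hpelP : ∀ g : G, IsPel p g → g * t = t * g → g ∈ (P : Subgroup G) := by
    intro g hg hgt
    have hgZ : g ∈ Z := (hZmem g).mpr ⟨hgt, hg⟩
    exact hP0pel g (hZcomm g hgZ z hzZ) hg
  -- `Q` normalises `P`
  have hszs : ∀ s ∈ Q, s * z * s⁻¹ ∈ (P : Subgroup G) := by
    intro s hs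
    by_cases hs1 : s = 1
    · rw [hs1, one_mul, inv_one, mul_one]; exact hzP
    by_cases hst : s = t
    · rw [hst]
      have : t * z * t⁻¹ = z := by rw [← hzt, mul_assoc, mul_inv_cancel, mul_one]
      rw [this]; exact hzP
    · rw [D_inverts h T ha hP1 ht ht1 hs hs1 hst hz hzt]
      exact (P : Subgroup G).inv_mem hzP
  have hQnorm : ∀ s ∈ Q, ∀ g ∈ (P : Subgroup G), s * g * s⁻¹ ∈ (P : Subgroup G) := by
    intro s hs g hg
    have h1 : z ∈ ((s⁻¹ • P : Sylow p G) : Subgroup G) := by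
      rw [d4b_mem_smul, inv_inv]; exact hszs s hs
    have h2 : (s⁻¹ • P : Sylow p G) = P := hP0uniq _ h1
    have h3 : g ∈ ((s⁻¹ • P : Sylow p G) : Subgroup G) := by rw [h2]; exact hg
    rw [d4b_mem_smul, inv_inv] at h3
    exact h3
  -- `P` is generated by eigenvectors
  have hodd : ∀ g ∈ (P : Subgroup G), Odd (orderOf g) := by
    intro g hg
    obtain ⟨j, hj⟩ := d4b_isPel_of_mem P hg
    rw [hj, hp3]
    exact Odd.pow (by decide)
  have hgen := eigen_generate (P : Subgroup G) Q (h.abel P) hQcomm h.elem hQnorm hodd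
  -- every eigenvector commutes with `t`
  have heig : ∀ w : G, w ∈ (P : Subgroup G) → IsEig Q w → w * t = t * w := by
    intro w hwP hwE
    by_cases hw1 : w = 1
    · rw [hw1, one_mul, mul_one]
    have hwpel : IsPel p w := d4b_isPel_of_mem P hwP
    rcases hwE t ht with h1 | h1
    · calc w * t = (t * w * t⁻¹) * t := by rw [h1]
        _ = t * w := by group
    · exfalso
      -- an involution `t' ≠ t` of `Q` centralising `w`
      have hex : ∃ t' ∈ Q, t' ≠ 1 ∧ t' ≠ t ∧ w * t' = t' * w := by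
        obtain ⟨s, hs, hs1, hst⟩ := d4b_exists_third Q hcardQ t
        rcases hwE s hs with h2 | h2
        · refine ⟨s, hs, hs1, hst, ?_⟩
          calc w * s = (s * w * s⁻¹) * s := by rw [h2]
            _ = s * w := by group
        · refine ⟨t * s, Q.mul_mem ht hs, ?_, ?_, ?_⟩
          · intro h3
            apply hst
            have h4 : s = t⁻¹ := eq_inv_of_mul_eq_one_right h3
            rw [h4]; exact inv_eq_of_mul_eq_one_left htinv
          · intro h3
            apply hs1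
            have h4 : t * s = t * 1 := by rw [h3, mul_one]
            exact mul_left_cancel h4
          · have h5 : (t * s) * w * (t * s)⁻¹ = w := by
              calc (t * s) * w * (t * s)⁻¹ = t * (s * w * s⁻¹) * t⁻¹ := by group
                _ = t * w⁻¹ * t⁻¹ := by rw [h2]
                _ = (t * w * t⁻¹)⁻¹ := by group
                _ = w := by rw [h1, inv_inv]
            calc w * (t * s) = ((t * s) * w * (t * s)⁻¹) * (t * s) := by rw [h5]
              _ = (t * s) * w := by group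
      obtain ⟨t', ht', ht'1, ht'ne, hwt'⟩ := hex
      -- the `p`-elements of `C(t')` lie in `P`
      obtain ⟨P1, hwP1, hP1uniq, hP1pel, _⟩ := D_sylow h T ha hP1 ht' ht'1 hwpel hw1 hwt'
      have hPP1 : P = P1 := hP1uniq P hwP
      rw [← hPP1] at hP1pel
      obtain ⟨Z', hZ'mem, hZ'comm⟩ := T.ct t' ht' ht'1
      have hwZ' : w ∈ Z' := (hZ'mem w).mpr ⟨hwt', hwpel⟩
      have hpelP' : ∀ g : G, IsPel p g → g * t' = t' * g → g ∈ (P : Subgroup G) := by
        intro g hg hgt
        have hgZ : g ∈ Z' := (hZ'mem g).mpr ⟨hgt, hg⟩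
        exact hP1pel g (hZ'comm g hgZ w hwZ') hg
      exact D_comm_false h T ha hP1 ht ht1 ht' ht'1 (fun e => ht'ne e.symm) ⟨z, hz1, hz, hzt⟩
        (fun z1 z2 hz1p hz1t hz2p hz2t =>
          h.abel P z1 (hpelP z1 hz1p hz1t) z2 (hpelP' z2 hz2p hz2t))
  -- conclusion
  intro g hg
  have hle : Subgroup.closure {w | w ∈ (P : Subgroup G) ∧ IsEig Q w}
      ≤ Subgroup.centralizer ({t} : Set G) := by
    rw [Subgroup.closure_le]
    rintro w ⟨hwP, hwE⟩
    show w ∈ Subgroup.centralizer ({t} : Set G)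
    rw [Subgroup.mem_centralizer_iff]
    intro u hu
    rw [Set.mem_singleton_iff.mp hu]
    exact (heig w hwP hwE).symm
  have h1 := hle (hgen hg)
  rw [Subgroup.mem_centralizer_iff] at h1
  exact (h1 t rfl).symm

end Cfsg.Agent.Helper38.S4017M
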