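import Mathlib
import Cfsg.Agent.Lib.Helper64.S4017Defs
import Cfsg.Agent.Lib.Helper3.S4017DDefs
import Cfsg.Agent.Lib.Helper63.S4017D1
import Cfsg.Agent.Lib.Helper63.S4017CQ
import Cfsg.Agent.Lib.Helper63.S4017INVC
import Cfsg.Agent.Lib.Helper38.S4017D4b
import Cfsg.Agent.Lib.Helper62.S4017D3

set_option autoImplicit false
set_option linter.unusedVariables false
set_option linter.unusedSectionVars false
set_option linter.style.haveILetI false

/-!
# S4017M (D5) `caseD` for helper64's server (S4017)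
-/

namespace Cfsg.Agent.Helper38.S4017M

open Cfsg.Agent.Helper64.S4017
open Cfsg.Agent.Helper63.S4017M
open Cfsg.Agent.Helper62.S4017M

variable {G : Type*} [Group G] [Finite G] {a p : ℕ} {Q : Subgroup G} {x : G}

/-- (D5) -/
theorem caseD (h : Setting a p Q x) (T : Tools a p Q x) (ha : a = 2) (hP1 : ¬ P1ne p Q)
    (hZ : ∃ t ∈ Q, t ≠ 1 ∧ ∃ z : G, z ≠ 1 ∧ IsPel p z ∧ z * t = t * z) :
    ∃ (P : Subgroup G) (t : G) (w : ℕ), Cfsg.Agent.Helper3.S4017.CaseD G Q P t w := by
  classical
  subst ha
  have hp3 : p = 3 := by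
    have := h.p_eq
    norm_num at this
    omega
  subst hp3
  haveI : Fact (Nat.Prime 3) := ⟨by norm_num⟩
  obtain ⟨t, ht, ht1, z, hz1, hz, hzt⟩ := hZ
  obtain ⟨P, hzP, hPuniq, hPpel, hPcz⟩ := D_sylow h T rfl hP1 ht ht1 hz hz1 hzt
  have hPt : ∀ g ∈ (P : Subgroup G), g * t = t * g :=
    D_sylow_le h T rfl hP1 ht ht1 hz hz1 hzt P hzP
  obtain ⟨w, hw⟩ := IsPGroup.iff_card.mp P.2
  have hw1 : 1 ≤ w := by
    by_contra hlt
    have hw0 : w = 0 := by omega
    rw [hw0, pow_zero] at hw
    have hbot := (P : Subgroup G).card_eq_one.mp hw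
    have hzb : z ∈ (⊥ : Subgroup G) := by rw [← hbot]; exact hzP
    exact hz1 (Subgroup.mem_bot.mp hzb)
  have htinv : t * t = 1 := h.elem t ht
  -- involutions are not in `P`
  have hnotP : ∀ u : G, u ≠ 1 → u * u = 1 → u ∉ (P : Subgroup G) := by
    intro u hu1 huu huP
    obtain ⟨j, hj⟩ := d4b_isPel_of_mem P huP
    have h2 : orderOf u = 2 := orderOf_eq_prime (by rw [sq]; exact huu) hu1
    rw [h2] at hj
    rcases j with _ | j
    · norm_num at hj
    · have h3 : 3 ∣ 2 := by rw [hj]; exact dvd_pow_self 3 (Nat.succ_ne_zero j)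
      omega
  -- the `3`-elements of `C(t)` lie in `P`
  obtain ⟨Z, hZmem, hZcomm⟩ := T.ct t ht ht1
  have hzZ : z ∈ Z := (hZmem z).mpr ⟨hzt, hz⟩
  have hpelP : ∀ g : G, IsPel 3 g → g * t = t * g → g ∈ (P : Subgroup G) := by
    intro g hg hgt
    have hgZ : g ∈ Z := (hZmem g).mpr ⟨hgt, hg⟩
    exact hPpel g (hZcomm g hgZ z hzZ) hg
  have hQcomm := d4b_comm_of_exp_two Q h.elem
  have hcardQ : Nat.card Q = 4 := by rw [h.card_Q]; norm_num
  have hinf : (P : Subgroup G) ⊓ Q = ⊥ := by
    apply disjoint_iff.mp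
    apply Subgroup.disjoint_of_coprime_natCard
    rw [hw, hcardQ]
    exact Nat.Coprime.pow_left w (by norm_num)
  -- `|C(t)| = 4 * 3 ^ w`
  have hcardCt : Nat.card (Subgroup.centralizer ({t} : Set G)) = 4 * 3 ^ w := by
    have hPC : ∀ y ∈ (P : Subgroup G), y ∈ Subgroup.centralizer ({t} : Set G) := by
      intro y hy
      rw [Subgroup.mem_centralizer_iff]
      intro u hu
      rw [Set.mem_singleton_iff.mp hu]
      exact (hPt y hy).symm
    have hQC : ∀ q ∈ Q, q ∈ Subgroup.centralizer ({t} : Set G) := by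
      intro q hq
      rw [Subgroup.mem_centralizer_iff]
      intro u hu
      rw [Set.mem_singleton_iff.mp hu]
      exact hQcomm t ht q hq
    let f : ↥(P : Subgroup G) × ↥Q → ↥(Subgroup.centralizer ({t} : Set G)) := fun y =>
      ⟨y.1.1 * y.2.1, (Subgroup.centralizer ({t} : Set G)).mul_mem (hPC _ y.1.2) (hQC _ y.2.2)⟩
    have finj : Function.Injective f := by
      rintro ⟨⟨y, hy⟩, ⟨q, hq⟩⟩ ⟨⟨y', hy'⟩, ⟨q', hq'⟩⟩ hxy
      have h1 : y * q = y' * q' := congrArg Subtype.val hxy
      have h2 : y'⁻¹ * y = q' * q⁻¹ := by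
        calc y'⁻¹ * y = y'⁻¹ * (y * q) * q⁻¹ := by group
          _ = y'⁻¹ * (y' * q') * q⁻¹ := by rw [h1]
          _ = q' * q⁻¹ := by group
      have h3 : y'⁻¹ * y ∈ (P : Subgroup G) ⊓ Q :=
        ⟨(P : Subgroup G).mul_mem ((P : Subgroup G).inv_mem hy') hy,
          by rw [h2]; exact Q.mul_mem hq' (Q.inv_mem hq)⟩
      rw [hinf, Subgroup.mem_bot] at h3
      have hyy : y = y' := (inv_mul_eq_one.mp h3).symm
      subst hyy
      have hqq : q = q' := mul_left_cancel h1
      subst hqq
      rfl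
    have fsurj : Function.Surjective f := by
      rintro ⟨g, hg⟩
      have hgt : g * t = t * g := by
        rw [Subgroup.mem_centralizer_iff] at hg
        exact (hg t rfl).symm
      obtain ⟨z', s, hz', hz't, hs, rfl⟩ := T.ct1 t ht ht1 g hgt
      exact ⟨⟨⟨z', hpelP z' hz' hz't⟩, ⟨s, hs⟩⟩, rfl⟩
    rw [← Nat.card_congr (Equiv.ofBijective f ⟨finj, fsurj⟩), Nat.card_prod, hw, hcardQ, mul_comm]
  -- the strong TI property
  have hti : ∀ g : G, (∃ y ∈ (P : Subgroup G), y ≠ 1 ∧ g * y * g⁻¹ ∈ (P : Subgroup G)) →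
      g * t = t * g := by
    rintro g ⟨y, hy, hy1, hgy⟩
    obtain ⟨y', hy'def⟩ : ∃ y' : G, y' = g * y * g⁻¹ := ⟨_, rfl⟩
    rw [← hy'def] at hgy
    have hy'1 : y' ≠ 1 := by
      intro h1
      apply hy1
      rw [hy'def] at h1
      exact conj_eq_one_iff.mp h1
    have hy'pel : IsPel 3 y' := d4b_isPel_of_mem P hgy
    have hy't : y' * t = t * y' := hPt y' hgy
    obtain ⟨P2, hy'P2, hP2uniq, _, hP2cz⟩ := D_sylow h T rfl hP1 ht ht1 hy'pel hy'1 hy't
    have hPP2 : P = P2 := hP2uniq P hgy
    obtain ⟨t', ht'def⟩ : ∃ t' : G, t' = g * t * g⁻¹ := ⟨_, rfl⟩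
    have ht'1 : t' ≠ 1 := by
      intro h1
      apply ht1
      rw [ht'def] at h1
      exact conj_eq_one_iff.mp h1
    have ht't' : t' * t' = 1 := by
      rw [ht'def]
      calc g * t * g⁻¹ * (g * t * g⁻¹) = g * (t * t) * g⁻¹ := by group
        _ = 1 := by rw [htinv, mul_one, mul_inv_cancel]
    have ht'y' : t' * y' = y' * t' := by
      have h1 := hPt y hy
      rw [ht'def, hy'def]
      calc g * t * g⁻¹ * (g * y * g⁻¹) = g * (t * y) * g⁻¹ := by group
        _ = g * (y * t) * g⁻¹ := by rw [h1]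
        _ = g * y * g⁻¹ * (g * t * g⁻¹) := by group
    have ht'eq : t' = t := by
      rcases hP2cz t' ht'y' with h1 | h1
      · exfalso
        rw [← hPP2] at h1
        exact hnotP t' ht'1 ht't' h1
      · rw [← hPP2] at h1
        have h2 : (t' * t) * t = t * (t' * t) := hPt _ h1
        have h3 : t' * t = t * t' := by
          apply mul_right_cancel (b := t)
          rw [h2, mul_assoc]
        have h4 : (t' * t) * (t' * t) = 1 := by
          calc (t' * t) * (t' * t) = t' * (t * t') * t := by group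
            _ = t' * (t' * t) * t := by rw [h3]
            _ = (t' * t') * (t * t) := by group
            _ = 1 := by rw [ht't', htinv, one_mul]
        have h5 : t' * t = 1 := by
          by_contra hne
          exact hnotP _ hne h4 h1
        have h6 : t' = t⁻¹ := eq_inv_of_mul_eq_one_left h5
        rw [h6]
        exact inv_eq_of_mul_eq_one_left htinv
    calc g * t = (g * t * g⁻¹) * g := by group
      _ = t * g := by rw [← ht'def, ht'eq]
  refine ⟨(P : Subgroup G), t, w, ?_⟩
  exact
    { simple := h.simple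
      card_Q := hcardQ
      not8 := by
        have := h.sylow
        norm_num at this
        exact this
      elem := h.elem
      t_mem := ht
      t_ne := ht1
      conj := by
        intro u hu
        have hu1 : u ≠ 1 := by
          intro h1
          rw [h1, orderOf_one] at hu
          omega
        have huu : u * u = 1 := by
          rw [← sq, ← hu]
          exact pow_orderOf_eq_one u
        exact inv_conj h ht ht1 ⟨hu1, huu⟩
      star := fun H hH h2 r hr hrH => h.star H hH h2 r hr hrH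
      w_pos := hw1
      card_P := hw
      sylow3 := by
        intro hdvd
        have h1 := P.card_eq_multiplicity
        rw [hw] at h1
        have h2 : w = (Nat.card G).factorization 3 := Nat.pow_right_injective (a := 3) (by norm_num) h1
        have h3 := (Nat.Prime.pow_dvd_iff_le_factorization (by norm_num : Nat.Prime 3)
          (Nat.card_pos.ne')).mp hdvd
        omega
      P_comm := h.abel P
      P_cent := hPt
      P_inv := by
        intro s hs hs1 hst g hg
        exact D_inverts h T rfl hP1 ht ht1 hs hs1 hst (d4b_isPel_of_mem P hg) (hPt g hg)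
      card_Ct := hcardCt
      ti := hti
      cent_Q := fun g hg => mem_of_centralizes h T hP1 hg }

end Cfsg.Agent.Helper38.S4017M
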