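import Mathlib
import Cfsg.Agent.Lib.Helper7.M11UDefs

set_option autoImplicit false
set_option linter.style.haveILetI false
set_option linter.unusedVariables false

/-!
# M11U (K) `sharp_of_chain` for helper7's server (S0420)
-/

namespace Cfsg.Agent.Helper38.M11U

open Subgroup Cfsg.Agent.Helper7.M11U
open scoped Pointwise

/-- (K) from a chain of subgroups to a sharply 4-transitive action on `G ⧸ M`. -/
theorem sharp_of_chain {G : Type*} [Group G] [Finite G] (hs : IsSimpleGroup G) (hc : Nat.card G = 7920)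
    (M N0 O : Subgroup G) (s m n : G) (hch : Chain M N0 O s m n) :
    Nat.card (G ⧸ M) = 11 ∧
    ∃ K : Subgroup (Equiv.Perm (G ⧸ M)), Sharp4 K ∧ Nonempty (G ≃* K) := by
  classical
  obtain ⟨hM, hN0, hO, hmM, hnN0, hN0def, hOdef, hreg⟩ := hch
  have hX : Nat.card (G ⧸ M) = 11 := by
    have h1 := Subgroup.card_eq_card_quotient_mul_card_subgroup M
    rw [hc, hM] at h1; omega
  haveI : Fintype G := Fintype.ofFinite G
  haveI : Fintype (G ⧸ M) := Fintype.ofFinite _
  -- the four points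
  set x₀ : G ⧸ M := ((1 : G) : G ⧸ M) with hx₀
  set x₁ : G ⧸ M := ((s : G) : G ⧸ M) with hx₁
  set x₂ : G ⧸ M := m • x₁ with hx₂
  set x₃ : G ⧸ M := n • x₂ with hx₃
  -- stabilizer facts
  have F0 : ∀ g : G, g • x₀ = x₀ ↔ g ∈ M := by
    intro g
    rw [hx₀, MulAction.Quotient.smul_coe, QuotientGroup.eq, smul_eq_mul, mul_one, mul_one]
    exact ⟨fun h => by simpa using M.inv_mem h, fun h => M.inv_mem h⟩
  have F1' : ∀ g : G, g • x₁ = x₁ ↔ s⁻¹ * g * s ∈ M := by
    intro g
    rw [hx₁, MulAction.Quotient.smul_coe, QuotientGroup.eq, smul_eq_mul]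
    have h1 : (g * s)⁻¹ * s = (s⁻¹ * g * s)⁻¹ := by group
    rw [h1]
    exact ⟨fun h => by simpa using M.inv_mem h, fun h => M.inv_mem h⟩
  have F1 : ∀ g : G, g ∈ N0 ↔ g • x₀ = x₀ ∧ g • x₁ = x₁ := by
    intro g; rw [hN0def, F0, F1']
  have hN0M : N0 ≤ M := fun g hg => ((hN0def g).mp hg).1
  have hconj : ∀ (a g : G) (x : G ⧸ M), g • (a • x) = a • x ↔ (a⁻¹ * g * a) • x = x := by
    intro a g x
    constructor
    · intro h
      calc (a⁻¹ * g * a) • x = a⁻¹ • (g • (a • x)) := by rw [mul_smul, mul_smul]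
        _ = a⁻¹ • (a • x) := by rw [h]
        _ = x := inv_smul_smul a x
    · intro h
      calc g • (a • x) = a • ((a⁻¹ * g * a) • x) := by
            rw [← mul_smul, ← mul_smul]; congr 1; group
        _ = a • x := by rw [h]
  have F2 : ∀ g : G, g ∈ O ↔ g ∈ N0 ∧ g • x₂ = x₂ := by
    intro g
    rw [hOdef, hx₂, hconj]
    constructor
    · rintro ⟨h1, h2⟩
      exact ⟨h1, ((F1 _).mp h2).2⟩
    · rintro ⟨h1, h2⟩
      refine ⟨h1, (F1 _).mpr ⟨?_, h2⟩⟩
      rw [F0]
      exact M.mul_mem (M.mul_mem (M.inv_mem hmM) (hN0M h1)) hmM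
  have hON0 : O ≤ N0 := fun g hg => ((F2 g).mp hg).1
  have F3 : ∀ g : G, g ∈ O → g • x₃ = x₃ → g = 1 := by
    intro g hg h
    apply hreg g hg
    rw [hx₃, hconj] at h
    rw [F2]
    exact ⟨N0.mul_mem (N0.mul_mem (N0.inv_mem hnN0) (hON0 hg)) hnN0, h⟩
  have hstab : ∀ g : G, g • x₀ = x₀ → g • x₁ = x₁ → g • x₂ = x₂ → g • x₃ = x₃ → g = 1 := by
    intro g h0 h1 h2 h3
    exact F3 g ((F2 g).mpr ⟨(F1 g).mpr ⟨h0, h1⟩, h2⟩) h3
  -- distinctness
  have hm0 : m • x₀ = x₀ := (F0 m).mpr hmM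
  have hn0 : n • x₀ = x₀ := ((F1 n).mp hnN0).1
  have hn1 : n • x₁ = x₁ := ((F1 n).mp hnN0).2
  have d10 : x₁ ≠ x₀ := by
    intro h
    have hsM : s ∈ M := by
      have h1 : s • x₀ = x₀ := by
        rw [hx₀, MulAction.Quotient.smul_coe, smul_eq_mul, mul_one]; exact h
      exact (F0 s).mp h1
    have hEq : N0 = M := by
      ext x
      rw [hN0def]
      exact ⟨fun h => h.1, fun h => ⟨h, M.mul_mem (M.mul_mem (M.inv_mem hsM) h) hsM⟩⟩
    rw [hEq, hM] at hN0; omega
  have d20 : x₂ ≠ x₀ := by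
    intro h
    apply d10
    have h1 : m • x₁ = m • x₀ := by rw [hm0]; exact h
    exact smul_left_cancel m h1
  have d21 : x₂ ≠ x₁ := by
    intro h
    have hmN0 : m ∈ N0 := (F1 m).mpr ⟨hm0, h⟩
    have hEq : O = N0 := by
      ext x
      rw [hOdef]
      exact ⟨fun h => h.1, fun h => ⟨h, N0.mul_mem (N0.mul_mem (N0.inv_mem hmN0) h) hmN0⟩⟩
    rw [hEq, hN0] at hO; omega
  have d30 : x₃ ≠ x₀ := by
    intro h
    apply d20
    have h1 : n • x₂ = n • x₀ := by rw [hn0]; exact h
    exact smul_left_cancel n h1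
  have d31 : x₃ ≠ x₁ := by
    intro h
    apply d21
    have h1 : n • x₂ = n • x₁ := by rw [hn1]; exact h
    exact smul_left_cancel n h1
  have d32 : x₃ ≠ x₂ := by
    intro h
    have hnO : n ∈ O := (F2 n).mpr ⟨hnN0, h⟩
    have hEq : O = ⊥ := by
      rw [eq_bot_iff]
      intro x hx
      rw [Subgroup.mem_bot]
      exact hreg x hx (O.mul_mem (O.mul_mem (O.inv_mem hnO) hx) hnO)
    rw [hEq, Subgroup.card_bot] at hO; omega
  -- the base tuple
  have tinj : Function.Injective (![x₀, x₁, x₂, x₃] : Fin 4 → G ⧸ M) := by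
    intro i j h
    fin_cases i <;> fin_cases j <;> simp at h <;>
      first
        | rfl
        | exact absurd h d10
        | exact absurd h d10.symm
        | exact absurd h d20
        | exact absurd h d20.symm
        | exact absurd h d21
        | exact absurd h d21.symm
        | exact absurd h d30
        | exact absurd h d30.symm
        | exact absurd h d31
        | exact absurd h d31.symm
        | exact absurd h d32
        | exact absurd h d32.symm
  let t : Fin 4 ↪ G ⧸ M := ⟨![x₀, x₁, x₂, x₃], tinj⟩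
  have ht0 : t 0 = x₀ := rfl
  have ht1 : t 1 = x₁ := rfl
  have ht2 : t 2 = x₂ := rfl
  have ht3 : t 3 = x₃ := rfl
  have hstab' : ∀ g : G, g • t = t → g = 1 := by
    intro g h
    have hi : ∀ i, g • t i = t i := fun i => by
      rw [← Function.Embedding.smul_apply, h]
    exact hstab g (hi 0) (hi 1) (hi 2) (hi 3)
  -- the orbit map is bijective
  let f : G → (Fin 4 ↪ G ⧸ M) := fun g => g • t
  have finj : Function.Injective f := by
    intro g h hgh
    have h1 : (h⁻¹ * g) • t = t := by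
      rw [mul_smul]; show h⁻¹ • f g = t; rw [hgh]; exact inv_smul_smul h t
    have h2 := hstab' _ h1
    calc g = h * (h⁻¹ * g) := by group
      _ = h := by rw [h2, mul_one]
  have hcardE : Nat.card (Fin 4 ↪ G ⧸ M) = 7920 := by
    rw [Nat.card_eq_fintype_card, Fintype.card_embedding_eq, Fintype.card_fin,
      ← Nat.card_eq_fintype_card, hX]
    decide
  have fbij : Function.Bijective f :=
    Function.Injective.bijective_of_nat_card_le finj (by rw [hcardE, hc])
  -- the permutation group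
  let φ : G →* Equiv.Perm (G ⧸ M) := MulAction.toPermHom G (G ⧸ M)
  have hφ : ∀ (g : G) (x : G ⧸ M), φ g x = g • x := fun g x => rfl
  have φinj : Function.Injective φ := by
    intro g h hgh
    apply finj
    show g • t = h • t
    ext i
    rw [Function.Embedding.smul_apply, Function.Embedding.smul_apply, ← hφ, ← hφ, hgh]
  refine ⟨hX, φ.range, ⟨?_, ?_⟩, ⟨MonoidHom.ofInjective φinj⟩⟩
  · -- 4-transitive
    rw [MulAction.isMultiplyPretransitive_iff]
    intro x y
    obtain ⟨g₁, hg₁⟩ := fbij.2 x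
    obtain ⟨g₂, hg₂⟩ := fbij.2 y
    refine ⟨⟨φ (g₂ * g₁⁻¹), ⟨_, rfl⟩⟩, ?_⟩
    ext i
    rw [Function.Embedding.smul_apply]
    show φ (g₂ * g₁⁻¹) (x i) = y i
    rw [hφ, ← hg₁, ← hg₂]
    show (g₂ * g₁⁻¹) • ((g₁ • t) i) = (g₂ • t) i
    rw [Function.Embedding.smul_apply, Function.Embedding.smul_apply, ← mul_smul]
    congr 1; group
  · -- sharp
    intro x
    rw [eq_bot_iff]
    rintro ⟨k, ⟨g, rfl⟩⟩ hk
    rw [MulAction.mem_stabilizer_iff] at hk
    obtain ⟨g₁, hg₁⟩ := fbij.2 x
    have h1 : (g₁⁻¹ * g * g₁) • t = t := by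
      ext i
      have h2 : φ g (x i) = x i := by
        have h6 := DFunLike.congr_fun hk i
        exact h6
      rw [hφ, ← hg₁] at h2
      have h3 : g • (g₁ • t i) = g₁ • t i := by
        have : (g₁ • t) i = g₁ • t i := Function.Embedding.smul_apply _ _ _
        show g • (g₁ • t i) = g₁ • t i
        rw [← this]; exact h2
      rw [Function.Embedding.smul_apply, mul_smul, mul_smul, h3, inv_smul_smul]
    have h4 := hstab' _ h1
    have h5 : g = 1 := by
      calc g = g₁ * (g₁⁻¹ * g * g₁) * g₁⁻¹ := by group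
        _ = 1 := by rw [h4]; group
    rw [Subgroup.mem_bot]
    apply Subtype.ext
    show φ g = 1
    rw [h5, map_one]

end Cfsg.Agent.Helper38.M11U
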