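import Mathlib

set_option autoImplicit false
set_option linter.style.haveILetI false
set_option linter.unusedVariables false

/-!
# (NILCRIT) for helper31's G2 server (S3795): a nilpotency criterion
-/

namespace Cfsg.Agent.Helper38.G2

open Subgroup

/-- In a nilpotent group, elements of coprime order commute. -/
theorem h38_commute_of_coprime (H : Type*) [Group H] [Group.IsNilpotent H] :
    ∀ a b : H, (orderOf a).Coprime (orderOf b) → a * b = b * a := by
  refine Group.nilpotent_center_quotient_ind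
    (P := fun H _ _ => ∀ a b : H, (orderOf a).Coprime (orderOf b) → a * b = b * a) H ?_ ?_
  · intro H _ _ a b _
    exact Subsingleton.elim _ _
  · intro H _ _ ih a b hab
    have h1 : ((a : H ⧸ center H)) * (b : H ⧸ center H) = b * a := by
      apply ih
      have ha : orderOf (a : H ⧸ center H) ∣ orderOf a :=
        orderOf_map_dvd (QuotientGroup.mk' (center H)) a
      have hb : orderOf (b : H ⧸ center H) ∣ orderOf b :=
        orderOf_map_dvd (QuotientGroup.mk' (center H)) b
      exact Nat.Coprime.coprime_dvd_left ha (Nat.Coprime.coprime_dvd_right hb hab)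
    set z := (b * a)⁻¹ * (a * b) with hz
    have hzc : z ∈ center H := by
      rw [← QuotientGroup.eq_one_iff]
      rw [hz, QuotientGroup.mk_mul, QuotientGroup.mk_inv, QuotientGroup.mk_mul,
        QuotientGroup.mk_mul, h1, inv_mul_cancel]
    have hcz : ∀ x : H, x * z = z * x := fun x => (mem_center_iff.1 hzc x)
    have e1 : a * b * a⁻¹ = b * z := by
      have : a * b = b * a * z := by rw [hz]; group
      rw [this, mul_assoc b a z, hcz a, ← mul_assoc, mul_assoc (b * z), mul_inv_cancel, mul_one]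
    have e2 : b * a * b⁻¹ = a * z⁻¹ := by
      have : b * a = a * b * z⁻¹ := by rw [hz]; group
      have hcz' : ∀ x : H, x * z⁻¹ = z⁻¹ * x := fun x => by
        have := hcz x
        calc x * z⁻¹ = z⁻¹ * (z * x) * z⁻¹ := by group
          _ = z⁻¹ * (x * z) * z⁻¹ := by rw [this]
          _ = z⁻¹ * x := by group
      rw [this, mul_assoc a b, hcz' b, ← mul_assoc, mul_assoc (a * z⁻¹), mul_inv_cancel, mul_one]
    have h2 : z ^ orderOf b = 1 := by
      have h := congrArg (· ^ orderOf b) e1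
      simp only [conj_pow, pow_orderOf_eq_one, mul_one, mul_inv_cancel] at h
      have hc : Commute b z := hcz b
      rw [hc.mul_pow, pow_orderOf_eq_one, one_mul] at h
      exact h.symm
    have h3 : z⁻¹ ^ orderOf a = 1 := by
      have h := congrArg (· ^ orderOf a) e2
      simp only [conj_pow, pow_orderOf_eq_one, mul_one, mul_inv_cancel] at h
      have hc : Commute a z⁻¹ := (Commute.inv_right (hcz a))
      rw [hc.mul_pow, pow_orderOf_eq_one, one_mul] at h
      exact h.symm
    have d2 : orderOf z ∣ orderOf b := orderOf_dvd_of_pow_eq_one h2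
    have d3 : orderOf z ∣ orderOf a := by
      rw [← orderOf_inv]; exact orderOf_dvd_of_pow_eq_one h3
    have : orderOf z = 1 := Nat.eq_one_of_dvd_coprimes hab d3 d2
    have hz1 : z = 1 := orderOf_eq_one_iff.1 this
    have : a * b = b * a * z := by rw [hz]; group
    rw [this, hz1, mul_one]

/-- Splitting an element of finite order `a * b` (`a`, `b` coprime) into a product of powers. -/
theorem h38_split {G : Type*} [Group G] (y : G) (a b : ℕ) (hab : a.Coprime b)
    (_hy : y ^ (a * b) = 1) : ∃ u v : ℤ, y = (y ^ a) ^ u * (y ^ b) ^ v := by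
  refine ⟨Nat.gcdA a b, Nat.gcdB a b, ?_⟩
  have h := Nat.gcd_eq_gcd_ab a b
  rw [hab.gcd_eq_one] at h
  have : y ^ ((1 : ℕ) : ℤ) = (y ^ a) ^ (Nat.gcdA a b) * (y ^ b) ^ (Nat.gcdB a b) := by
    rw [h, zpow_add, zpow_mul, zpow_mul, zpow_natCast, zpow_natCast]
  simpa using this

/-- If a subgroup `Z` contains every power of `y` of prime-power order, then it contains `y`
(`y` of finite order coprime to `q`; only primes `≠ q` occur). -/
theorem h38_mem_of_prime_pow_powers {G : Type*} [Group G] (Z : Subgroup G) (q : ℕ) :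
    ∀ (n : ℕ) (y : G), orderOf y = n → 0 < n → n.Coprime q →
      (∀ (j s e : ℕ), s.Prime → s ≠ q → (y ^ j) ^ s ^ e = 1 → y ^ j ∈ Z) → y ∈ Z := by
  intro n
  induction n using Nat.strong_induction_on with
  | _ n ih =>
    intro y hy hn hq hZ
    by_cases h1 : n = 1
    · rw [h1, orderOf_eq_one_iff] at hy
      rw [hy]; exact Z.one_mem
    have hs : (n.minFac).Prime := Nat.minFac_prime h1
    set s := n.minFac with hsdef
    have hsn : s ∣ n := Nat.minFac_dvd n
    have hsq : s ≠ q := by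
      intro h
      have : s ∣ Nat.gcd n q := Nat.dvd_gcd hsn (h ▸ dvd_rfl)
      rw [hq.gcd_eq_one] at this
      exact hs.one_lt.ne' (Nat.dvd_one.mp this)
    obtain ⟨e, m, hsm, hnm⟩ := Nat.exists_eq_pow_mul_and_not_dvd hn.ne' s hs.ne_one
    have he : e ≠ 0 := by
      intro he
      rw [he, pow_zero, one_mul] at hnm
      exact hsm (hnm ▸ hsn)
    have hm0 : 0 < m := by
      rcases Nat.eq_zero_or_pos m with h | h
      · rw [h, mul_zero] at hnm; omega
      · exact h
    have hmn : m < n := by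
      rw [hnm]
      have : 2 ≤ s ^ e := by
        calc 2 ≤ s := hs.two_le
          _ = s ^ 1 := (pow_one s).symm
          _ ≤ s ^ e := Nat.pow_le_pow_right hs.pos (Nat.one_le_iff_ne_zero.mpr he)
      nlinarith
    have hcop : (s ^ e).Coprime m :=
      Nat.Coprime.pow_left e ((Nat.Prime.coprime_iff_not_dvd hs).mpr hsm)
    have hyn : y ^ (s ^ e * m) = 1 := by rw [← hnm, ← hy]; exact pow_orderOf_eq_one y
    obtain ⟨u, v, huv⟩ := h38_split y (s ^ e) m hcop hyn
    -- `y ^ m` has order dividing `s ^ e`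
    have h1m : y ^ m ∈ Z := by
      apply hZ m s e hs hsq
      rw [← pow_mul, mul_comm]; exact hyn
    -- `y ^ (s ^ e)` has order `m`
    have h2m : y ^ (s ^ e) ∈ Z := by
      have hord : orderOf (y ^ (s ^ e)) = m := by
        rw [orderOf_pow_of_dvd (pow_ne_zero e hs.ne_zero) (by rw [hy, hnm]; exact dvd_mul_right _ _),
          hy, hnm, Nat.mul_div_cancel_left m (pow_pos hs.pos e)]
      apply ih m hmn (y ^ (s ^ e)) hord hm0
        (Nat.Coprime.coprime_dvd_left (by rw [hnm]; exact dvd_mul_left _ _) hq)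
      intro j s' e' hs' hs'q hj
      have hjj : (y ^ (s ^ e)) ^ j = y ^ (s ^ e * j) := (pow_mul y (s ^ e) j).symm
      rw [hjj] at hj ⊢
      exact hZ _ s' e' hs' hs'q hj
    rw [huv]
    exact Z.mul_mem (Z.zpow_mem h2m u) (Z.zpow_mem h1m v)

/-- Key lemma in a finite nilpotent group `X` with an endomorphism `tb`: if `X` is generated by the
`x⁻¹ tb(x)` and the Sylow `q`-subgroup `Q` is `tb`-invariant, then `Q` is generated by the
`a⁻¹ tb(a)`, `a ∈ Q`. -/
theorem h38_sylow_le_comm {X : Type*} [Group X] [Finite X] [hX : Group.IsNilpotent X] (q : ℕ)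
    [hq : Fact q.Prime] (tb : X →* X) (Q : Sylow q X) (hQt : ∀ a ∈ Q, tb a ∈ Q)
    (hgen : Subgroup.closure {c : X | ∃ x : X, c = x⁻¹ * tb x} = ⊤) :
    (Q : Subgroup X) ≤ Subgroup.closure {c : X | ∃ a ∈ Q, c = a⁻¹ * tb a} := by
  classical
  have hQn : (Q : Subgroup X).Normal := inferInstance
  have hcop : (Nat.card (Q : Subgroup X)).Coprime (Q : Subgroup X).index := Q.card_coprime_index
  obtain ⟨H, hH⟩ := Subgroup.exists_right_complement'_of_coprime hcop
  have hHcard : Nat.card H = (Q : Subgroup X).index := (hH.symm.index_eq_card).symm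
  have hHcop : (Nat.card H).Coprime q := by
    rw [hHcard]
    exact ((Nat.Prime.coprime_iff_not_dvd hq.out).mpr Q.not_dvd_index).symm
  have hHq : ∀ b ∈ H, (orderOf b).Coprime q := by
    intro b hb
    have h1 : orderOf b ∣ Nat.card H := by
      have := orderOf_dvd_natCard (⟨b, hb⟩ : H)
      rwa [Subgroup.orderOf_mk] at this
    exact Nat.Coprime.coprime_dvd_left h1 hHcop
  have hQq : ∀ a ∈ Q, ∃ k, orderOf a = q ^ k := by
    intro a ha
    obtain ⟨k, hk⟩ := (IsPGroup.iff_orderOf.mp Q.isPGroup') ⟨a, ha⟩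
    rw [Subgroup.orderOf_mk] at hk
    exact ⟨k, hk⟩
  have hcomm : ∀ a ∈ Q, ∀ b ∈ H, a * b = b * a := by
    intro a ha b hb
    obtain ⟨k, hk⟩ := hQq a ha
    apply h38_commute_of_coprime X a b
    rw [hk]
    exact Nat.Coprime.pow_left k (hHq b hb).symm
  have hHn : H.Normal := by
    constructor
    intro h hh x
    obtain ⟨⟨⟨a, ha⟩, ⟨b, hb⟩⟩, hab, -⟩ := hH.existsUnique x
    simp only at hab
    rw [← hab]
    have hbh : b * h * b⁻¹ ∈ H := H.mul_mem (H.mul_mem hb hh) (H.inv_mem hb)
    have hc := hcomm a ha (b * h * b⁻¹) hbh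
    have : a * b * h * (a * b)⁻¹ = b * h * b⁻¹ := by
      calc a * b * h * (a * b)⁻¹ = a * (b * h * b⁻¹) * a⁻¹ := by group
        _ = (b * h * b⁻¹) * a * a⁻¹ := by rw [hc]
        _ = b * h * b⁻¹ := by group
    rw [this]; exact hbh
  have hinH : ∀ y : X, (orderOf y).Coprime q → y ∈ H := by
    intro y hy
    obtain ⟨⟨⟨a, ha⟩, ⟨b, hb⟩⟩, hab, -⟩ := hH.existsUnique y
    simp only at hab
    have hc : Commute a b := hcomm a ha b hb
    have hb1 : b ^ Nat.card H = 1 := by
      have := pow_card_eq_one' (G := H) (x := ⟨b, hb⟩)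
      exact congrArg Subtype.val this
    have hpow : y ^ Nat.card H = a ^ Nat.card H := by
      rw [← hab, hc.mul_pow, hb1, mul_one]
    obtain ⟨k, hk⟩ := hQq a ha
    have h1 : orderOf (a ^ Nat.card H) ∣ q ^ k := hk ▸ orderOf_pow_dvd (Nat.card H)
    have h2 : orderOf (a ^ Nat.card H) ∣ orderOf y := by rw [← hpow]; exact orderOf_pow_dvd _
    have h3 : orderOf (a ^ Nat.card H) = 1 :=
      Nat.eq_one_of_dvd_coprimes (Nat.Coprime.pow_right k hy) h2 h1
    have h4 : a ^ Nat.card H = 1 := orderOf_eq_one_iff.mp h3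
    have h5 : orderOf a ∣ Nat.card H := orderOf_dvd_of_pow_eq_one h4
    have h6 : orderOf a = 1 :=
      Nat.eq_one_of_dvd_coprimes (Nat.Coprime.pow_right k hHcop) h5 (hk ▸ dvd_rfl)
    have h7 : a = 1 := orderOf_eq_one_iff.mp h6
    rw [← hab, h7, one_mul]; exact hb
  set Q₀ := Subgroup.closure {c : X | ∃ a ∈ Q, c = a⁻¹ * tb a} with hQ₀
  have hQ₀Q : Q₀ ≤ Q := by
    rw [hQ₀, Subgroup.closure_le]
    rintro c ⟨a, ha, rfl⟩
    exact mul_mem (inv_mem ha) (hQt a ha)
  have hY : (⊤ : Subgroup X) ≤ Q₀ ⊔ H := by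
    rw [← hgen, Subgroup.closure_le]
    rintro c ⟨x, rfl⟩
    obtain ⟨⟨⟨a, ha⟩, ⟨b, hb⟩⟩, hab, -⟩ := hH.existsUnique x
    simp only at hab
    rw [← hab]
    have htbb : tb b ∈ H :=
      hinH _ (Nat.Coprime.coprime_dvd_left (orderOf_map_dvd tb b) (hHq b hb))
    have : (a * b)⁻¹ * tb (a * b) = b⁻¹ * (a⁻¹ * tb a) * tb b := by
      rw [map_mul]; group
    rw [this]
    exact mul_mem (mul_mem (Subgroup.mem_sup_right (H.inv_mem hb))
      (Subgroup.mem_sup_left (Subgroup.subset_closure ⟨a, ha, rfl⟩))) (Subgroup.mem_sup_right htbb)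
  intro g hg
  have hg' : g ∈ Q₀ ⊔ H := hY (Subgroup.mem_top g)
  rw [Subgroup.mem_sup_of_normal_right] at hg'
  obtain ⟨c, hc, h, hh, rfl⟩ := hg'
  have hhQ : h ∈ (Q : Subgroup X) := by
    have : h = c⁻¹ * (c * h) := by group
    rw [this]; exact mul_mem (inv_mem (hQ₀Q hc)) hg
  have h1 : h = 1 := (Subgroup.disjoint_def.mp hH.disjoint) hhQ hh
  rw [h1, mul_one]; exact hc

/-- (NILCRIT) a nilpotency criterion.  `K` finite of odd order, `t` an automorphism with `t² = 1`,
`L ⊴ K` `t`-invariant nilpotent with `K/L` nilpotent, `K` generated by the `k⁻¹ t(k)`; for every prime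
`q` a `t`-invariant Sylow `q`-subgroup `P` of `K` such that `g⁻¹ t(g)` (`g ∈ P`) commutes with every
element of `L` of prime-power order `s^e`, `s ≠ q`.  Then `K` is nilpotent. -/
theorem g2_nilcrit {K : Type*} [Group K] [Finite K] (hodd : Odd (Nat.card K)) (t : MulAut K)
    (ht : t ^ 2 = 1) (L : Subgroup K) [L.Normal] (hLt : ∀ g ∈ L, t g ∈ L)
    (hLnil : Group.IsNilpotent L) (hKL : ∃ k : ℕ, (⊤ : Subgroup K).lowerCentralSeries k ≤ L)
    (hgen : Subgroup.closure {c : K | ∃ k : K, c = k⁻¹ * t k} = ⊤)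
    (hsyl : ∀ q : ℕ, q.Prime → ∃ P : Subgroup K, IsPGroup q P ∧
      (∀ P' : Subgroup K, IsPGroup q P' → P ≤ P' → P' = P) ∧ (∀ g ∈ P, t g ∈ P) ∧
      ∀ g ∈ P, ∀ (s e : ℕ), s.Prime → s ≠ q → ∀ a ∈ L, a ^ s ^ e = 1 →
        (g⁻¹ * t g) * a = a * (g⁻¹ * t g)) :
    Group.IsNilpotent K := by
  classical
  have hπ : Function.Surjective (QuotientGroup.mk' L) := QuotientGroup.mk'_surjective L
  -- the quotient is nilpotent
  have hXnil : Group.IsNilpotent (K ⧸ L) := by
    obtain ⟨k, hk⟩ := hKL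
    rw [Subgroup.nilpotent_iff_lowerCentralSeries]
    refine ⟨k, ?_⟩
    have h1 : ((⊤ : Subgroup K).lowerCentralSeries k).map (QuotientGroup.mk' L) =
        (⊤ : Subgroup (K ⧸ L)).lowerCentralSeries k := by
      rw [Subgroup.map_lowerCentralSeries, Subgroup.map_top_of_surjective _ hπ]
    rw [← h1, eq_bot_iff]
    calc ((⊤ : Subgroup K).lowerCentralSeries k).map (QuotientGroup.mk' L)
        ≤ L.map (QuotientGroup.mk' L) := Subgroup.map_mono hk
      _ = ⊥ := QuotientGroup.map_mk'_self L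
  have key : ∀ q : ℕ, q.Prime → ∀ P : Subgroup K, IsPGroup q P →
      (∀ P' : Subgroup K, IsPGroup q P' → P ≤ P' → P' = P) → (∀ g ∈ P, t g ∈ P) →
      (∀ g ∈ P, ∀ (s e : ℕ), s.Prime → s ≠ q → ∀ a ∈ L, a ^ s ^ e = 1 →
        (g⁻¹ * t g) * a = a * (g⁻¹ * t g)) → P.Normal := by
    intro q hq P hP hmax hPt hcomm
    have : Fact q.Prime := ⟨hq⟩
    let Ps : Sylow q K := ⟨P, hP, fun hQ hle => hmax _ hQ hle⟩
    set π : K →* K ⧸ L := QuotientGroup.mk' L with hπdef
    let tb : K ⧸ L →* K ⧸ L :=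
      QuotientGroup.map L L t.toMonoidHom (fun g hg => by
        rw [Subgroup.mem_comap]; exact hLt g hg)
    have htb : ∀ k : K, tb (π k) = π (t k) := fun k => QuotientGroup.map_mk L L _ _ k
    let Q : Sylow q (K ⧸ L) := Ps.mapSurjective hπ
    have hQcoe : (Q : Subgroup (K ⧸ L)) = P.map π := Sylow.coe_mapSurjective hπ Ps
    have hQt : ∀ a ∈ Q, tb a ∈ Q := by
      intro a ha
      have ha' : a ∈ (Q : Subgroup (K ⧸ L)) := ha
      rw [hQcoe] at ha'
      obtain ⟨g, hg, rfl⟩ := ha'
      show tb (π g) ∈ (Q : Subgroup (K ⧸ L))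
      rw [hQcoe, htb]
      exact Subgroup.mem_map_of_mem π (hPt g hg)
    have hgenX : Subgroup.closure {c : K ⧸ L | ∃ x : K ⧸ L, c = x⁻¹ * tb x} = ⊤ := by
      rw [eq_top_iff]
      have h1 : (⊤ : Subgroup (K ⧸ L)) =
          (Subgroup.closure {c : K | ∃ k : K, c = k⁻¹ * t k}).map π := by
        rw [hgen, Subgroup.map_top_of_surjective π hπ]
      rw [h1, MonoidHom.map_closure, Subgroup.closure_le]
      rintro _ ⟨c, ⟨k, rfl⟩, rfl⟩
      apply Subgroup.subset_closure
      refine ⟨π k, ?_⟩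
      rw [htb, map_mul, map_inv]
    have hle := h38_sylow_le_comm q tb Q hQt hgenX
    set P₀ : Subgroup K := Subgroup.closure {c : K | ∃ g ∈ P, c = g⁻¹ * t g} with hP₀
    have hP₀P : P₀ ≤ P := by
      rw [hP₀, Subgroup.closure_le]
      rintro c ⟨g, hg, rfl⟩
      exact P.mul_mem (P.inv_mem hg) (hPt g hg)
    have hQ₀ : Subgroup.closure {c : K ⧸ L | ∃ a ∈ Q, c = a⁻¹ * tb a} ≤ P₀.map π := by
      rw [Subgroup.closure_le]
      rintro c ⟨a, ha, rfl⟩
      have ha' : a ∈ (Q : Subgroup (K ⧸ L)) := ha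
      rw [hQcoe] at ha'
      obtain ⟨g, hg, rfl⟩ := ha'
      refine ⟨g⁻¹ * t g, Subgroup.subset_closure ⟨g, hg, rfl⟩, ?_⟩
      rw [htb, map_mul, map_inv]
    have hdecomp : ∀ g ∈ P, ∃ c ∈ P₀, ∃ l ∈ L, l ∈ P ∧ g = c * l := by
      intro g hg
      have h1 : π g ∈ (Q : Subgroup (K ⧸ L)) := by
        rw [hQcoe]; exact Subgroup.mem_map_of_mem π hg
      obtain ⟨c, hc, hcg⟩ := hQ₀ (hle h1)
      have hl : c⁻¹ * g ∈ L := by
        have h2 : (c : K ⧸ L) = (g : K ⧸ L) := hcg
        exact QuotientGroup.eq.mp h2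
      exact ⟨c, hc, c⁻¹ * g, hl, P.mul_mem (P.inv_mem (hP₀P hc)) hg, by group⟩
    have hcent : ∀ g ∈ P, ∀ (s e : ℕ), s.Prime → s ≠ q → ∀ a ∈ L, a ^ s ^ e = 1 →
        g * a = a * g := by
      intro g hg s e hs hsq a ha hae
      obtain ⟨c, hc, l, hl, hlP, rfl⟩ := hdecomp g hg
      have h1 : c * a = a * c := by
        have hcen : P₀ ≤ Subgroup.centralizer {a} := by
          rw [hP₀, Subgroup.closure_le]
          rintro x ⟨g', hg', rfl⟩
          rw [SetLike.mem_coe, Subgroup.mem_centralizer_iff]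
          intro y hy
          rw [Set.mem_singleton_iff] at hy
          subst hy
          exact (hcomm g' hg' s e hs hsq y ha hae).symm
        have h2 := hcen hc
        rw [Subgroup.mem_centralizer_iff] at h2
        exact (h2 a rfl).symm
      have h2 : l * a = a * l := by
        haveI := hLnil
        obtain ⟨k, hk⟩ := (IsPGroup.iff_orderOf.mp hP) ⟨l, hlP⟩
        rw [Subgroup.orderOf_mk] at hk
        have hord_a : orderOf a ∣ s ^ e := orderOf_dvd_of_pow_eq_one hae
        have hcop : (orderOf (⟨l, hl⟩ : L)).Coprime (orderOf (⟨a, ha⟩ : L)) := by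
          rw [Subgroup.orderOf_mk, Subgroup.orderOf_mk, hk]
          exact Nat.Coprime.coprime_dvd_right hord_a
            (Nat.Coprime.pow k e ((Nat.coprime_primes hq hs).mpr (Ne.symm hsq)))
        have h3 := h38_commute_of_coprime L ⟨l, hl⟩ ⟨a, ha⟩ hcop
        exact congrArg Subtype.val h3
      calc c * l * a = c * (l * a) := mul_assoc _ _ _
        _ = c * (a * l) := by rw [h2]
        _ = (c * a) * l := (mul_assoc _ _ _).symm
        _ = a * c * l := by rw [h1]
        _ = a * (c * l) := mul_assoc _ _ _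
    have hcentq' : ∀ l ∈ L, (orderOf l).Coprime q → l ∈ Subgroup.centralizer (P : Set K) := by
      intro l hl hlq
      apply h38_mem_of_prime_pow_powers (Subgroup.centralizer (P : Set K)) q (orderOf l) l rfl
        (orderOf_pos l) hlq
      intro j s e hs hsq hj
      rw [Subgroup.mem_centralizer_iff]
      intro g hg
      exact hcent g hg s e hs hsq (l ^ j) (L.pow_mem hl j) hj
    -- the Sylow `q`-subgroup of `L`
    haveI := hLnil
    let Sq : Sylow q L := default
    have hSqn : (Sq : Subgroup L).Normal := inferInstance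
    haveI hSqc : (Sq : Subgroup L).Characteristic := Sylow.characteristic_of_normal Sq hSqn
    have hSqK : ((Sq : Subgroup L).map L.subtype).Normal := inferInstance
    have hSqP : (Sq : Subgroup L).map L.subtype ≤ P := by
      have hpg : IsPGroup q ((Sq : Subgroup L).map L.subtype) := Sq.isPGroup'.map L.subtype
      have h1 := hmax (P ⊔ (Sq : Subgroup L).map L.subtype) (hP.to_sup_of_normal_right hpg)
        le_sup_left
      calc (Sq : Subgroup L).map L.subtype ≤ P ⊔ (Sq : Subgroup L).map L.subtype := le_sup_right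
        _ = P := h1
    have hqL : ∀ l ∈ L, (∃ k : ℕ, l ^ q ^ k = 1) → l ∈ P := by
      intro l hl hk
      obtain ⟨k, hk⟩ := hk
      have hz : IsPGroup q (Subgroup.zpowers (⟨l, hl⟩ : L)) := by
        rintro ⟨x, hx⟩
        obtain ⟨n, rfl⟩ := Subgroup.mem_zpowers_iff.mp hx
        refine ⟨k, ?_⟩
        apply Subtype.ext
        apply Subtype.ext
        simp only [Subgroup.coe_pow, Subgroup.coe_zpow, Subgroup.coe_one]
        rw [← zpow_natCast, ← zpow_mul, mul_comm, zpow_mul, zpow_natCast, hk, one_zpow]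
      obtain ⟨S', hS'⟩ := hz.exists_le_sylow
      have hS'eq : S' = Sq := by
        haveI := Sylow.unique_of_normal Sq hSqn
        exact Subsingleton.elim _ _
      apply hSqP
      exact ⟨⟨l, hl⟩, hS'eq ▸ hS' (Subgroup.mem_zpowers _), rfl⟩
    have hLnorm : L ≤ Subgroup.normalizer (P : Set K) := by
      intro l hl
      obtain ⟨e, m, hqm, hnm⟩ :=
        Nat.exists_eq_pow_mul_and_not_dvd (orderOf_pos l).ne' q hq.ne_one
      have hcop : (q ^ e).Coprime m :=
        Nat.Coprime.pow_left e ((Nat.Prime.coprime_iff_not_dvd hq).mpr hqm)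
      have hl1 : l ^ (q ^ e * m) = 1 := by rw [← hnm]; exact pow_orderOf_eq_one l
      obtain ⟨u, v, huv⟩ := h38_split l (q ^ e) m hcop hl1
      have h1 : l ^ (q ^ e) ∈ Subgroup.normalizer (P : Set K) := by
        apply Subgroup.centralizer_le_normalizer
        apply hcentq' _ (L.pow_mem hl _)
        have h2 : orderOf (l ^ (q ^ e)) ∣ m :=
          orderOf_dvd_of_pow_eq_one (by rw [← pow_mul]; exact hl1)
        exact Nat.Coprime.coprime_dvd_left h2 ((Nat.Prime.coprime_iff_not_dvd hq).mpr hqm).symm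
      have h2 : l ^ m ∈ Subgroup.normalizer (P : Set K) :=
        Subgroup.le_normalizer (hqL (l ^ m) (L.pow_mem hl m)
          ⟨e, by rw [← pow_mul, mul_comm]; exact hl1⟩)
      rw [huv]
      exact mul_mem (zpow_mem h1 u) (zpow_mem h2 v)
    -- `N = P L` is normal in `K` and normalises `P`
    set N : Subgroup K := (P.map π).comap π with hN
    have hNn : N.Normal := by
      haveI := hXnil
      have h1 : (Q : Subgroup (K ⧸ L)).Normal := inferInstance
      rw [hQcoe] at h1
      exact h1.comap π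
    have hPN : P ≤ N := Subgroup.le_comap_map π P
    have hNnorm : N ≤ Subgroup.normalizer (P : Set K) := by
      intro x hx
      obtain ⟨g, hg, hgx⟩ := hx
      have hl : g⁻¹ * x ∈ L := by
        have h2 : (g : K ⧸ L) = (x : K ⧸ L) := hgx
        exact QuotientGroup.eq.mp h2
      have h3 : x = g * (g⁻¹ * x) := by group
      rw [h3]
      exact mul_mem (Subgroup.le_normalizer hg) (hLnorm hl)
    constructor
    intro g hg k
    set P' : Subgroup K := P.map (MulAut.conj k).toMonoidHom with hP'def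
    have hP' : IsPGroup q P' := hP.map _
    have hP'N : P' ≤ N := by
      rintro _ ⟨x, hx, rfl⟩
      have := hNn.conj_mem x (hPN hx) k
      simpa using this
    have hsup : IsPGroup q (P' ⊔ P : Subgroup K) := hP'.to_sup_of_normal_right' hP (hP'N.trans hNnorm)
    have h1 := hmax (P' ⊔ P) hsup le_sup_right
    have hle' : P' ≤ P := by
      calc P' ≤ P' ⊔ P := le_sup_left
        _ = P := h1
    apply hle'
    exact ⟨g, hg, by simp⟩
  refine ((Group.isNilpotent_of_finite_tfae (G := K)).out 0 3).mpr ?_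
  intro p hp P'
  obtain ⟨P, hP, hmax, hPt, hcomm⟩ := hsyl p hp.out
  have hPn := key p hp.out P hP hmax hPt hcomm
  let Ps : Sylow p K := ⟨P, hP, fun hQ hle => hmax _ hQ hle⟩
  haveI : (Ps : Subgroup K).Normal := hPn
  obtain ⟨g, hg⟩ := MulAction.exists_smul_eq K Ps P'
  have h1 : g • Ps = Ps := Sylow.smul_eq_of_normal
  rw [← hg, h1]
  exact hPn

end Cfsg.Agent.Helper38.G2
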