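import Mathlib

set_option autoImplicit false

namespace Cfsg.Agent.Helper38.SL2Pres

variable {K : Type*} [Field K] {Γ : Type*} [Group Γ]

/-- The relations (A), (B') of the rank-one Steinberg presentation, for two families
`X, Y : K → Γ` in an arbitrary group. -/
structure Rel (X Y : K → Γ) : Prop where
  addX : ∀ t u, X t * X u = X (t + u)
  addY : ∀ t u, Y t * Y u = Y (t + u)
  conjX : ∀ t u, t ≠ 0 →
    (X t * Y (-t⁻¹) * X t) * X u * (X t * Y (-t⁻¹) * X t)⁻¹ = Y (-(t⁻¹ ^ 2 * u))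
  conjY : ∀ t u, t ≠ 0 →
    (Y t * X (-t⁻¹) * Y t) * Y u * (Y t * X (-t⁻¹) * Y t)⁻¹ = X (-(t⁻¹ ^ 2 * u))

/-- `w(t) = x(t) y(-t⁻¹) x(t)` -/
def w (X Y : K → Γ) (t : K) : Γ := X t * Y (-t⁻¹) * X t

/-- `h(t) = w(t) w(1)⁻¹` -/
def h (X Y : K → Γ) (t : K) : Γ := w X Y t * (w X Y 1)⁻¹

theorem conj_mul' (a b x : Γ) : (a * b) * x * (a * b)⁻¹ = a * (b * x * b⁻¹) * a⁻¹ := by group

theorem conj_inv_eq_iff (a x y : Γ) : a⁻¹ * x * a = y ↔ x = a * y * a⁻¹ := by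
  constructor
  · rintro rfl; group
  · rintro rfl; group

namespace Rel

variable {X Y : K → Γ}

theorem symm (hR : Rel X Y) : Rel Y X := ⟨hR.addY, hR.addX, hR.conjY, hR.conjX⟩

theorem X_zero (hR : Rel X Y) : X 0 = 1 := by
  have := hR.addX 0 0
  rw [add_zero] at this
  exact mul_left_cancel (a := X 0) (by rw [this, mul_one])

theorem X_neg (hR : Rel X Y) (t : K) : X (-t) = (X t)⁻¹ := by
  rw [eq_inv_iff_mul_eq_one, hR.addX, neg_add_cancel, hR.X_zero]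

theorem Y_zero (hR : Rel X Y) : Y 0 = 1 := hR.symm.X_zero

theorem Y_neg (hR : Rel X Y) (t : K) : Y (-t) = (Y t)⁻¹ := hR.symm.X_neg t

theorem w_neg (hR : Rel X Y) (t : K) : w X Y (-t) = (w X Y t)⁻¹ := by
  unfold w
  rw [mul_inv_rev, mul_inv_rev, ← hR.X_neg, ← hR.Y_neg, inv_neg, neg_neg, mul_assoc]

theorem w_conj_X (hR : Rel X Y) {t : K} (ht : t ≠ 0) (u : K) :
    w X Y t * X u * (w X Y t)⁻¹ = Y (-(t⁻¹ ^ 2 * u)) := hR.conjX t u ht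

theorem w_conj_Y (hR : Rel X Y) {t : K} (ht : t ≠ 0) (v : K) :
    w X Y t * Y v * (w X Y t)⁻¹ = X (-(t ^ 2 * v)) := by
  have h1 := hR.w_conj_X (neg_ne_zero.mpr ht) (-(t ^ 2 * v))
  rw [hR.w_neg, inv_inv, conj_inv_eq_iff] at h1
  rw [h1]
  congr 3
  field_simp

/-- `w(t) w(u) w(t)⁻¹ = w'(-t⁻²u)` where `w'` is the opposite `w`. -/
theorem w_conj_w' (hR : Rel X Y) {t u : K} (ht : t ≠ 0) (hu : u ≠ 0) :
    w X Y t * w X Y u * (w X Y t)⁻¹ = w Y X (-(t⁻¹ ^ 2 * u)) := by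
  have e : w X Y t * w X Y u * (w X Y t)⁻¹ =
      (w X Y t * X u * (w X Y t)⁻¹) * (w X Y t * Y (-u⁻¹) * (w X Y t)⁻¹) *
        (w X Y t * X u * (w X Y t)⁻¹) := by
    rw [show w X Y u = X u * Y (-u⁻¹) * X u from rfl]; group
  rw [e, hR.w_conj_X ht, hR.w_conj_Y ht]
  unfold w
  congr 3
  field_simp

theorem w'_eq (hR : Rel X Y) {t : K} (ht : t ≠ 0) : w Y X t = w X Y (-t⁻¹) := by
  have ht' : -t⁻¹ ≠ 0 := neg_ne_zero.mpr (inv_ne_zero ht)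
  have h1 := hR.w_conj_w' ht' ht'
  rw [mul_inv_cancel_right] at h1
  rw [h1]
  congr 1
  field_simp

theorem w_conj_w (hR : Rel X Y) {t u : K} (ht : t ≠ 0) (hu : u ≠ 0) :
    w X Y t * w X Y u * (w X Y t)⁻¹ = w X Y (t ^ 2 * u⁻¹) := by
  rw [hR.w_conj_w' ht hu, hR.w'_eq (by simp [ht, hu])]
  congr 1
  field_simp

theorem h_one (_hR : Rel X Y) : h X Y 1 = 1 := by
  unfold h; group

theorem w_eq_h_mul (_hR : Rel X Y) (t : K) : w X Y t = h X Y t * w X Y 1 := by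
  unfold h; group

theorem w_one_inv_conj_X (hR : Rel X Y) (u : K) :
    (w X Y 1)⁻¹ * X u * w X Y 1 = Y (-u) := by
  have h1 := hR.w_conj_X (t := -1) (by simp) u
  rw [hR.w_neg, inv_inv] at h1
  rw [h1]; congr 1; simp

theorem w_one_inv_conj_Y (hR : Rel X Y) (u : K) :
    (w X Y 1)⁻¹ * Y u * w X Y 1 = X (-u) := by
  have h1 := hR.w_conj_Y (t := -1) (by simp) u
  rw [hR.w_neg, inv_inv] at h1
  rw [h1]; congr 1; simp

theorem h_conj_X (hR : Rel X Y) {t : K} (ht : t ≠ 0) (u : K) :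
    h X Y t * X u * (h X Y t)⁻¹ = X (t ^ 2 * u) := by
  have e : h X Y t * X u * (h X Y t)⁻¹ =
      w X Y t * ((w X Y 1)⁻¹ * X u * w X Y 1) * (w X Y t)⁻¹ := by
    unfold h; group
  rw [e, hR.w_one_inv_conj_X, hR.w_conj_Y ht]
  congr 1; ring

theorem h_conj_Y (hR : Rel X Y) {t : K} (ht : t ≠ 0) (u : K) :
    h X Y t * Y u * (h X Y t)⁻¹ = Y (t⁻¹ ^ 2 * u) := by
  have e : h X Y t * Y u * (h X Y t)⁻¹ =
      w X Y t * ((w X Y 1)⁻¹ * Y u * w X Y 1) * (w X Y t)⁻¹ := by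
    unfold h; group
  rw [e, hR.w_one_inv_conj_Y, hR.w_conj_X ht]
  congr 1; ring

theorem h_conj_w (hR : Rel X Y) {t u : K} (ht : t ≠ 0) (hu : u ≠ 0) :
    h X Y t * w X Y u * (h X Y t)⁻¹ = w X Y (t ^ 2 * u) := by
  have e : h X Y t * w X Y u * (h X Y t)⁻¹ =
      (h X Y t * X u * (h X Y t)⁻¹) * (h X Y t * Y (-u⁻¹) * (h X Y t)⁻¹) *
        (h X Y t * X u * (h X Y t)⁻¹) := by
    rw [show w X Y u = X u * Y (-u⁻¹) * X u from rfl]; group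
  rw [e, hR.h_conj_X ht, hR.h_conj_Y ht]
  unfold w
  congr 3
  field_simp

theorem h_conj_h (hR : Rel X Y) {t u : K} (ht : t ≠ 0) (hu : u ≠ 0) :
    h X Y t * h X Y u * (h X Y t)⁻¹ = h X Y (t ^ 2 * u) * (h X Y (t ^ 2))⁻¹ := by
  have e : h X Y t * h X Y u * (h X Y t)⁻¹ =
      (h X Y t * w X Y u * (h X Y t)⁻¹) * (h X Y t * w X Y 1 * (h X Y t)⁻¹)⁻¹ := by
    rw [show h X Y u = w X Y u * (w X Y 1)⁻¹ from rfl]; group
  rw [e, hR.h_conj_w ht hu, hR.h_conj_w ht one_ne_zero, mul_one]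
  unfold h; group

theorem w_one_conj_h (hR : Rel X Y) {u : K} (hu : u ≠ 0) :
    w X Y 1 * h X Y u * (w X Y 1)⁻¹ = h X Y u⁻¹ := by
  have e : w X Y 1 * h X Y u * (w X Y 1)⁻¹ =
      (w X Y 1 * w X Y u * (w X Y 1)⁻¹) * (w X Y 1)⁻¹ := by
    rw [show h X Y u = w X Y u * (w X Y 1)⁻¹ from rfl]; group
  rw [e, hR.w_conj_w one_ne_zero hu, one_pow, one_mul]
  rfl

theorem w_one_sq (hR : Rel X Y) : w X Y 1 * w X Y 1 = (h X Y (-1))⁻¹ := by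
  unfold h
  rw [hR.w_neg, mul_inv_rev, inv_inv]

theorem w_one_inv (hR : Rel X Y) : (w X Y 1)⁻¹ = h X Y (-1) * w X Y 1 := by
  unfold h
  rw [hR.w_neg]; group

/-- `Y(s) = X(s⁻¹) w(-s⁻¹) X(s⁻¹)` -/
theorem Y_eq (hR : Rel X Y) {s : K} (hs : s ≠ 0) :
    Y s = X s⁻¹ * w X Y (-s⁻¹) * X s⁻¹ := by
  unfold w
  rw [hR.X_neg]
  have : -(-s⁻¹)⁻¹ = s := by field_simp
  rw [this]; group

/-- `X(s) = Y(s⁻¹) w(s) Y(s⁻¹)` -/
theorem X_eq (hR : Rel X Y) {s : K} (hs : s ≠ 0) :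
    X s = Y s⁻¹ * w X Y s * Y s⁻¹ := by
  have h1 := hR.symm.Y_eq hs
  rw [hR.w'_eq (by simp [hs])] at h1
  rw [h1]; congr 3; field_simp

end Rel

end Cfsg.Agent.Helper38.SL2Pres
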