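import Mathlib
import Cfsg.Agent.Lib.Helper38.SL2PresRel

set_option autoImplicit false

namespace Cfsg.Agent.Helper38.SL2Pres

variable {K : Type*} [Field K] {Γ : Type*} [Group Γ]

/-- The subgroup generated by the `h(t)`, `t ≠ 0`. -/
def H (X Y : K → Γ) : Subgroup Γ := Subgroup.closure {g | ∃ t : K, t ≠ 0 ∧ g = h X Y t}

theorem h_mem_H (X Y : K → Γ) {t : K} (ht : t ≠ 0) : h X Y t ∈ H X Y :=
  Subgroup.subset_closure ⟨t, ht, rfl⟩

/-- Normal form: `B ∪ B w U`. -/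
def NF (X Y : K → Γ) (g : Γ) : Prop :=
  (∃ a : K, ∃ d ∈ H X Y, g = X a * d) ∨
    (∃ a c : K, ∃ d ∈ H X Y, g = X a * d * w X Y 1 * X c)

namespace Rel

variable {X Y : K → Γ}

theorem H_scale (hR : Rel X Y) {d : Γ} (hd : d ∈ H X Y) :
    ∃ l : K, l ≠ 0 ∧ ∀ a, d * X a * d⁻¹ = X (l * a) := by
  induction hd using Subgroup.closure_induction with
  | mem x hx =>
    obtain ⟨t, ht, rfl⟩ := hx
    exact ⟨t ^ 2, pow_ne_zero 2 ht, fun a => hR.h_conj_X ht a⟩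
  | one => exact ⟨1, one_ne_zero, fun a => by simp⟩
  | mul x y _ _ hx hy =>
    obtain ⟨l, hl, h1⟩ := hx
    obtain ⟨m, hm, h2⟩ := hy
    refine ⟨l * m, mul_ne_zero hl hm, fun a => ?_⟩
    rw [conj_mul', h2, h1, mul_assoc]
  | inv x _ hx =>
    obtain ⟨l, hl, h1⟩ := hx
    refine ⟨l⁻¹, inv_ne_zero hl, fun a => ?_⟩
    have := h1 (l⁻¹ * a)
    rw [mul_inv_cancel_left₀ hl] at this
    rw [← this]; group

theorem X_mul_H (hR : Rel X Y) {d : Γ} (hd : d ∈ H X Y) (a : K) :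
    ∃ a' : K, X a * d = d * X a' := by
  obtain ⟨l, hl, h1⟩ := hR.H_scale hd
  refine ⟨l⁻¹ * a, ?_⟩
  have := h1 (l⁻¹ * a)
  rw [mul_inv_cancel_left₀ hl] at this
  rw [← this]; group

theorem H_mul_X (hR : Rel X Y) {d : Γ} (hd : d ∈ H X Y) (a : K) :
    ∃ a' : K, d * X a = X a' * d := by
  obtain ⟨l, hl, h1⟩ := hR.H_scale hd
  refine ⟨l * a, ?_⟩
  rw [← h1 a]; group

theorem w_conj_H (hR : Rel X Y) {d : Γ} (hd : d ∈ H X Y) :
    w X Y 1 * d * (w X Y 1)⁻¹ ∈ H X Y := by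
  induction hd using Subgroup.closure_induction with
  | mem x hx =>
    obtain ⟨t, ht, rfl⟩ := hx
    rw [hR.w_one_conj_h ht]
    exact h_mem_H X Y (inv_ne_zero ht)
  | one => simp [(H X Y).one_mem]
  | mul x y _ _ hx hy =>
    have : w X Y 1 * (x * y) * (w X Y 1)⁻¹ =
        (w X Y 1 * x * (w X Y 1)⁻¹) * (w X Y 1 * y * (w X Y 1)⁻¹) := by group
    rw [this]; exact (H X Y).mul_mem hx hy
  | inv x _ hx =>
    have : w X Y 1 * x⁻¹ * (w X Y 1)⁻¹ = (w X Y 1 * x * (w X Y 1)⁻¹)⁻¹ := by group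
    rw [this]; exact (H X Y).inv_mem hx

theorem nf_X_mul (hR : Rel X Y) (t : K) {g : Γ} (hg : NF X Y g) : NF X Y (X t * g) := by
  rcases hg with ⟨a, d, hd, rfl⟩ | ⟨a, c, d, hd, rfl⟩
  · exact Or.inl ⟨t + a, d, hd, by rw [← hR.addX]; group⟩
  · exact Or.inr ⟨t + a, c, d, hd, by rw [← hR.addX]; group⟩

theorem nf_H_mul (hR : Rel X Y) {e : Γ} (he : e ∈ H X Y) {g : Γ} (hg : NF X Y g) :
    NF X Y (e * g) := by
  rcases hg with ⟨a, d, hd, rfl⟩ | ⟨a, c, d, hd, rfl⟩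
  · obtain ⟨a', ha'⟩ := hR.H_mul_X he a
    exact Or.inl ⟨a', e * d, (H X Y).mul_mem he hd, by
      rw [← mul_assoc, ha']; group⟩
  · obtain ⟨a', ha'⟩ := hR.H_mul_X he a
    exact Or.inr ⟨a', c, e * d, (H X Y).mul_mem he hd, by
      simp only [← mul_assoc]; rw [ha']⟩

theorem nf_w_mul (hR : Rel X Y) {g : Γ} (hg : NF X Y g) : NF X Y (w X Y 1 * g) := by
  rcases hg with ⟨a, d, hd, rfl⟩ | ⟨a, c, d, hd, rfl⟩
  · -- w X a d = w d X a' = (w d w⁻¹) w X a'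
    obtain ⟨a', ha'⟩ := hR.X_mul_H hd a
    refine Or.inr ⟨0, a', w X Y 1 * d * (w X Y 1)⁻¹, hR.w_conj_H hd, ?_⟩
    rw [ha', hR.X_zero]; group
  · by_cases ha : a = 0
    · subst ha
      -- w d w X c = (w d w⁻¹) (w w) X c
      have hmem : w X Y 1 * d * (w X Y 1)⁻¹ * (h X Y (-1))⁻¹ ∈ H X Y :=
        (H X Y).mul_mem (hR.w_conj_H hd) ((H X Y).inv_mem (h_mem_H X Y (by simp)))
      obtain ⟨c', hc'⟩ := hR.H_mul_X hmem c
      refine Or.inl ⟨c', _, hmem, ?_⟩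
      rw [← hc', ← hR.w_one_sq, hR.X_zero]; group
    · -- w X a = Y(-a) w
      have h1 : w X Y 1 * X a = Y (-a) * w X Y 1 := by
        have := hR.w_conj_X one_ne_zero a
        rw [inv_one, one_pow, one_mul] at this
        rw [← this]; group
      have hna : -a ≠ 0 := neg_ne_zero.mpr ha
      have h2 := hR.Y_eq hna
      have h3 : w X Y (-(-a)⁻¹) = h X Y (-(-a)⁻¹) * w X Y 1 := hR.w_eq_h_mul _
      set e := w X Y 1 * d * (w X Y 1)⁻¹ * (h X Y (-1))⁻¹ with he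
      have hmem : e ∈ H X Y :=
        (H X Y).mul_mem (hR.w_conj_H hd) ((H X Y).inv_mem (h_mem_H X Y (by simp)))
      obtain ⟨a'', ha''⟩ := hR.X_mul_H hmem (-a)⁻¹
      have hmem2 : h X Y (-(-a)⁻¹) * (w X Y 1 * e * (w X Y 1)⁻¹) ∈ H X Y :=
        (H X Y).mul_mem (h_mem_H X Y (by simp [ha])) (hR.w_conj_H hmem)
      refine Or.inr ⟨(-a)⁻¹, a'' + c, _, hmem2, ?_⟩
      have step : w X Y 1 * (X a * d * w X Y 1 * X c) = Y (-a) * e * X c := by
        rw [he, ← hR.w_one_sq]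
        calc w X Y 1 * (X a * d * w X Y 1 * X c)
            = (w X Y 1 * X a) * d * w X Y 1 * X c := by group
          _ = _ := by rw [h1]; group
      rw [step, h2, h3]
      calc X (-a)⁻¹ * (h X Y (-(-a)⁻¹) * w X Y 1) * X (-a)⁻¹ * e * X c
          = X (-a)⁻¹ * h X Y (-(-a)⁻¹) * w X Y 1 * (X (-a)⁻¹ * e) * X c := by group
        _ = X (-a)⁻¹ * h X Y (-(-a)⁻¹) * w X Y 1 * (e * X a'') * X c := by rw [ha'']
        _ = X (-a)⁻¹ * (h X Y (-(-a)⁻¹) * (w X Y 1 * e * (w X Y 1)⁻¹)) * w X Y 1 *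
              (X a'' * X c) := by group
        _ = _ := by rw [hR.addX]

theorem nf_Y_mul (hR : Rel X Y) (t : K) {g : Γ} (hg : NF X Y g) : NF X Y (Y t * g) := by
  have h1 : Y t = w X Y 1 * (X (-t) * (h X Y (-1) * w X Y 1)) := by
    have := hR.w_conj_X one_ne_zero (-t)
    rw [inv_one, one_pow, one_mul, neg_neg] at this
    rw [← this, ← hR.w_one_inv]; group
  rw [h1]
  have := hR.nf_w_mul (hR.nf_X_mul (-t) (hR.nf_H_mul (h_mem_H X Y (by simp : (-1 : K) ≠ 0))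
    (hR.nf_w_mul hg)))
  convert this using 1
  group

theorem nf_all (hR : Rel X Y)
    (hgen : Subgroup.closure (Set.range X ∪ Set.range Y) = ⊤) (g : Γ) : NF X Y g := by
  have hg : g ∈ Subgroup.closure (Set.range X ∪ Set.range Y) := by rw [hgen]; trivial
  induction hg using Subgroup.closure_induction_left with
  | one => exact Or.inl ⟨0, 1, (H X Y).one_mem, by rw [hR.X_zero, mul_one]⟩
  | mul_left x hx y _ ih =>
    rcases hx with ⟨t, rfl⟩ | ⟨t, rfl⟩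
    · exact hR.nf_X_mul t ih
    · exact hR.nf_Y_mul t ih
  | inv_mul_cancel x hx y _ ih =>
    rcases hx with ⟨t, rfl⟩ | ⟨t, rfl⟩
    · rw [← hR.X_neg]; exact hR.nf_X_mul _ ih
    · rw [← hR.Y_neg]; exact hR.nf_Y_mul _ ih

end Rel

end Cfsg.Agent.Helper38.SL2Pres
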