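import Mathlib
import Cfsg.Agent.Lib.Helper38.SL2PresNF

set_option autoImplicit false

namespace Cfsg.Agent.Helper38.SL2Pres

variable {K : Type*} [Field K] {Γ : Type*} [Group Γ]

/-- The Steinberg symbol `h(t) h(u) h(tu)⁻¹`. -/
def f (X Y : K → Γ) (t u : K) : Γ := h X Y t * h X Y u * (h X Y (t * u))⁻¹

theorem central_move {c : Γ} (hc : ∀ g, g * c = c * g) (a b : Γ) : a * c * b = a * b * c := by
  rw [mul_assoc, ← hc b, ← mul_assoc]

theorem comm_of_central {a b c1 c2 : Γ} (hab : a * b = b * a) (hc1 : ∀ g, g * c1 = c1 * g)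
    (hc2 : ∀ g, g * c2 = c2 * g) : (a * c1) * (b * c2) = (b * c2) * (a * c1) := by
  calc (a * c1) * (b * c2) = a * (c1 * (b * c2)) := mul_assoc _ _ _
    _ = a * ((b * c2) * c1) := by rw [hc1]
    _ = (a * b) * (c2 * c1) := by group
    _ = (b * a) * (c1 * c2) := by rw [hab, hc1 c2]
    _ = b * ((a * c1) * c2) := by group
    _ = b * (c2 * (a * c1)) := by rw [hc2]
    _ = _ := by group

namespace Rel

variable {X Y : K → Γ}

theorem h_inv_conj_X (hR : Rel X Y) {t : K} (ht : t ≠ 0) (v : K) :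
    (h X Y t)⁻¹ * X v * h X Y t = X (t⁻¹ ^ 2 * v) := by
  rw [conj_inv_eq_iff, hR.h_conj_X ht]; congr 1; field_simp

theorem h_inv_conj_Y (hR : Rel X Y) {t : K} (ht : t ≠ 0) (v : K) :
    (h X Y t)⁻¹ * Y v * h X Y t = Y (t ^ 2 * v) := by
  rw [conj_inv_eq_iff, hR.h_conj_Y ht]; congr 1; field_simp

theorem f_conj_X (hR : Rel X Y) {t u : K} (ht : t ≠ 0) (hu : u ≠ 0) (v : K) :
    f X Y t u * X v * (f X Y t u)⁻¹ = X v := by
  have e : f X Y t u * X v * (f X Y t u)⁻¹ =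
      h X Y t * (h X Y u * ((h X Y (t * u))⁻¹ * X v * h X Y (t * u)) * (h X Y u)⁻¹) *
        (h X Y t)⁻¹ := by
    unfold f; group
  rw [e, hR.h_inv_conj_X (mul_ne_zero ht hu), hR.h_conj_X hu, hR.h_conj_X ht]
  congr 1; field_simp

theorem f_conj_Y (hR : Rel X Y) {t u : K} (ht : t ≠ 0) (hu : u ≠ 0) (v : K) :
    f X Y t u * Y v * (f X Y t u)⁻¹ = Y v := by
  have e : f X Y t u * Y v * (f X Y t u)⁻¹ =
      h X Y t * (h X Y u * ((h X Y (t * u))⁻¹ * Y v * h X Y (t * u)) * (h X Y u)⁻¹) *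
        (h X Y t)⁻¹ := by
    unfold f; group
  rw [e, hR.h_inv_conj_Y (mul_ne_zero ht hu), hR.h_conj_Y hu, hR.h_conj_Y ht]
  congr 1; field_simp

theorem f_central (hR : Rel X Y)
    (hgen : Subgroup.closure (Set.range X ∪ Set.range Y) = ⊤)
    {t u : K} (ht : t ≠ 0) (hu : u ≠ 0) (g : Γ) : g * f X Y t u = f X Y t u * g := by
  have hle : Subgroup.closure (Set.range X ∪ Set.range Y) ≤
      Subgroup.centralizer {f X Y t u} := by
    rw [Subgroup.closure_le]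
    rintro x (⟨v, rfl⟩ | ⟨v, rfl⟩)
    · rw [SetLike.mem_coe, Subgroup.mem_centralizer_iff]
      intro z hz; rw [Set.mem_singleton_iff] at hz; subst hz
      exact mul_inv_eq_iff_eq_mul.mp (hR.f_conj_X ht hu v)
    · rw [SetLike.mem_coe, Subgroup.mem_centralizer_iff]
      intro z hz; rw [Set.mem_singleton_iff] at hz; subst hz
      exact mul_inv_eq_iff_eq_mul.mp (hR.f_conj_Y ht hu v)
  have : g ∈ Subgroup.centralizer {f X Y t u} := hle (by rw [hgen]; trivial)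
  rw [Subgroup.mem_centralizer_iff] at this
  exact (this _ rfl).symm

theorem f_mul_sq (hR : Rel X Y)
    (hgen : Subgroup.closure (Set.range X ∪ Set.range Y) = ⊤)
    {t u v : K} (ht : t ≠ 0) (hu : u ≠ 0) (hv : v ≠ 0) :
    f X Y t (u ^ 2 * v) =
      f X Y t v * (h X Y t * h X Y u * (h X Y t)⁻¹ * (h X Y u)⁻¹) := by
  have e1 : h X Y (u ^ 2 * v) = h X Y u * h X Y v * (h X Y u)⁻¹ * h X Y (u ^ 2) := by
    rw [hR.h_conj_h hu hv]; group
  have e2 : h X Y (u ^ 2 * (t * v)) =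
      h X Y u * h X Y (t * v) * (h X Y u)⁻¹ * h X Y (u ^ 2) := by
    rw [hR.h_conj_h hu (mul_ne_zero ht hv)]; group
  have e3 : t * (u ^ 2 * v) = u ^ 2 * (t * v) := by ring
  have hz := hR.f_central hgen ht hv
  have e4 : h X Y v * (h X Y (t * v))⁻¹ = (h X Y t)⁻¹ * f X Y t v := by unfold f; group
  calc f X Y t (u ^ 2 * v)
      = h X Y t * h X Y u * (h X Y v * (h X Y (t * v))⁻¹) * (h X Y u)⁻¹ := by
        unfold f; rw [e3, e1, e2]; group
    _ = h X Y t * h X Y u * (h X Y t)⁻¹ * (f X Y t v * (h X Y u)⁻¹) := by rw [e4]; group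
    _ = h X Y t * h X Y u * (h X Y t)⁻¹ * ((h X Y u)⁻¹ * f X Y t v) := by rw [← hz]
    _ = (h X Y t * h X Y u * (h X Y t)⁻¹ * (h X Y u)⁻¹) * f X Y t v := by group
    _ = _ := hz _

theorem f_one_right (hR : Rel X Y) (t : K) : f X Y t 1 = 1 := by
  unfold f; rw [mul_one, hR.h_one]; group

theorem f_one_left (hR : Rel X Y) (t : K) : f X Y 1 t = 1 := by
  unfold f; rw [one_mul, hR.h_one]; group

theorem h_mul_eq (_hR : Rel X Y) (t u : K) :
    h X Y (t * u) = (f X Y t u)⁻¹ * h X Y t * h X Y u := by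
  unfold f; group

theorem w_inv_conj_X (hR : Rel X Y) {b : K} (hb : b ≠ 0) (v : K) :
    (w X Y b)⁻¹ * X v * w X Y b = Y (-(b⁻¹ ^ 2 * v)) := by
  have h1 := hR.w_conj_X (neg_ne_zero.mpr hb) v
  rw [hR.w_neg, inv_inv] at h1
  rw [h1]; congr 2; field_simp

/-- The basic relation among the `w`'s obtained by computing `Y(a) X(b)` in two ways. -/
theorem w_rel (hR : Rel X Y) {a b c : K} (ha : a ≠ 0) (hb : b ≠ 0) (hc : c ≠ 0)
    (hcab : c = a + b⁻¹) :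
    w X Y (-a⁻¹) = w X Y (-c⁻¹) * w X Y b * w X Y (-(b * c / a)) := by
  have hbc : b * c = a * b + 1 := by rw [hcab]; field_simp
  set d : K := a / (b * c) with hd
  have hd0 : d ≠ 0 := div_ne_zero ha (mul_ne_zero hb hc)
  have key1 : Y a * X b = X a⁻¹ * w X Y (-a⁻¹) * X (a⁻¹ + b) := by
    rw [hR.Y_eq ha, ← hR.addX]; group
  have hd1 : -(b⁻¹ ^ 2 * c⁻¹) + b⁻¹ = d := by
    rw [hd]; field_simp; linear_combination hbc
  have key2 : Y a * X b = X c⁻¹ * (w X Y (-c⁻¹) * w X Y b) * Y d := by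
    have s1 : X c⁻¹ * w X Y b = w X Y b * Y (-(b⁻¹ ^ 2 * c⁻¹)) := by
      rw [← hR.w_inv_conj_X hb]; group
    calc Y a * X b = Y a * (Y b⁻¹ * w X Y b * Y b⁻¹) := by rw [← hR.X_eq hb]
      _ = Y (a + b⁻¹) * w X Y b * Y b⁻¹ := by rw [← hR.addY]; group
      _ = X c⁻¹ * w X Y (-c⁻¹) * (X c⁻¹ * w X Y b) * Y b⁻¹ := by
        rw [← hcab, hR.Y_eq hc]; group
      _ = X c⁻¹ * (w X Y (-c⁻¹) * w X Y b) * (Y (-(b⁻¹ ^ 2 * c⁻¹)) * Y b⁻¹) := by
        rw [s1]; group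
      _ = _ := by rw [hR.addY, hd1]
  have key4 : ∀ v, (w X Y (-c⁻¹) * w X Y b) * X v =
      X (c⁻¹ ^ 2 * b⁻¹ ^ 2 * v) * (w X Y (-c⁻¹) * w X Y b) := by
    intro v
    have h1 : (w X Y (-c⁻¹) * w X Y b) * X v * (w X Y (-c⁻¹) * w X Y b)⁻¹ =
        X (c⁻¹ ^ 2 * b⁻¹ ^ 2 * v) := by
      rw [conj_mul', hR.w_conj_X hb, hR.w_conj_Y (neg_ne_zero.mpr (inv_ne_zero hc))]
      congr 1; ring
    rw [← h1]; group
  have hd2 : d⁻¹ = a⁻¹ + b := by
    rw [hd]; field_simp; linear_combination hbc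
  have hd3 : c⁻¹ + c⁻¹ ^ 2 * b⁻¹ ^ 2 * d⁻¹ = a⁻¹ := by
    rw [hd]; field_simp; linear_combination (-1 : K) * hbc
  have hd4 : -d⁻¹ = -(b * c / a) := by rw [hd]; field_simp
  have key5 : Y a * X b = X a⁻¹ * (w X Y (-c⁻¹) * w X Y b * w X Y (-(b * c / a))) *
      X (a⁻¹ + b) := by
    calc Y a * X b = X c⁻¹ * (w X Y (-c⁻¹) * w X Y b) * (X d⁻¹ * w X Y (-d⁻¹) * X d⁻¹) := by
          rw [key2, ← hR.Y_eq hd0]
      _ = X c⁻¹ * ((w X Y (-c⁻¹) * w X Y b) * X d⁻¹) * w X Y (-d⁻¹) * X d⁻¹ := by group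
      _ = (X c⁻¹ * X (c⁻¹ ^ 2 * b⁻¹ ^ 2 * d⁻¹)) * (w X Y (-c⁻¹) * w X Y b) * w X Y (-d⁻¹) *
            X d⁻¹ := by rw [key4]; group
      _ = _ := by rw [hR.addX, hd3, hd4, hd2]; group
  have := key1.symm.trans key5
  have := mul_right_cancel this
  simpa [mul_assoc] using mul_left_cancel (a := X a⁻¹) (by simpa [mul_assoc] using this)

end Rel

end Cfsg.Agent.Helper38.SL2Pres
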