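import Mathlib
import Cfsg.Agent.Lib.Helper38.SL2PresSym

set_option autoImplicit false

namespace Cfsg.Agent.Helper38.SL2Pres

variable {K : Type*} [Field K] {Γ : Type*} [Group Γ]

namespace Rel

variable {X Y : K → Γ}

theorem w_rel_one (hR : Rel X Y) {t u : K} (ht : t ≠ 0) (hu : u ≠ 0) (htu : t + u = 1) :
    w X Y 1 = w X Y (-(t / u)) * w X Y t * w X Y u := by
  have hut : (-1 + t⁻¹ : K) = u / t := by
    field_simp; linear_combination (-1 : K) * htu
  have hc : (-1 + t⁻¹ : K) ≠ 0 := by rw [hut]; exact div_ne_zero hu ht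
  have := hR.w_rel (a := -1) (b := t) (c := -1 + t⁻¹) (by simp) ht hc rfl
  have e1 : -(-1 : K)⁻¹ = 1 := by norm_num
  have e2 : -(-1 + t⁻¹ : K)⁻¹ = -(t / u) := by rw [hut, inv_div]
  have e3 : -(t * (-1 + t⁻¹) / -1 : K) = u := by
    rw [hut]; field_simp
  rw [e1, e2, e3] at this
  exact this

theorem h_rel (hR : Rel X Y) {t u : K} (ht : t ≠ 0) (hu : u ≠ 0) (htu : t + u = 1) :
    h X Y (-(t / u)) * h X Y t⁻¹ * (h X Y (-1))⁻¹ * h X Y u = 1 := by
  have h1 := hR.w_rel_one ht hu htu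
  rw [hR.w_eq_h_mul (-(t / u)), hR.w_eq_h_mul t, hR.w_eq_h_mul u] at h1
  have h2 : w X Y 1 * h X Y t * w X Y 1 = h X Y t⁻¹ * (h X Y (-1))⁻¹ := by
    rw [← hR.w_one_conj_h ht, ← hR.w_one_sq]; group
  have h3 : 1 * w X Y 1 =
      (h X Y (-(t / u)) * (w X Y 1 * h X Y t * w X Y 1) * h X Y u) * w X Y 1 := by
    rw [one_mul]; exact h1.trans (by group)
  have h5 := mul_right_cancel h3
  rw [h2] at h5
  exact (h5.trans (by group)).symm

section Finite

variable [Finite K]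

omit [Finite K] in
theorem h_pow_central (hR : Rel X Y)
    (hgen : Subgroup.closure (Set.range X ∪ Set.range Y) = ⊤) (z : Kˣ) (n : ℕ) :
    ∃ c : Γ, (∀ g, g * c = c * g) ∧ h X Y ((z : K) ^ n) = (h X Y (z : K)) ^ n * c := by
  induction n with
  | zero => exact ⟨1, by simp, by simp [hR.h_one]⟩
  | succ n ih =>
    obtain ⟨c, hc, hn⟩ := ih
    have hz : (z : K) ≠ 0 := z.ne_zero
    have hzn : (z : K) ^ n ≠ 0 := pow_ne_zero _ hz
    have hf := hR.f_central hgen hzn hz
    have hf' : ∀ g, g * (f X Y ((z : K) ^ n) z)⁻¹ = (f X Y ((z : K) ^ n) z)⁻¹ * g := by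
      intro g
      have := hf g⁻¹
      have h2 := congrArg (·⁻¹) this
      simpa [mul_inv_rev] using h2.symm
    refine ⟨c * (f X Y ((z : K) ^ n) z)⁻¹, ?_, ?_⟩
    · intro g
      rw [← mul_assoc, hc g, mul_assoc, hf' g, ← mul_assoc]
    · rw [pow_succ, hR.h_mul_eq, hn, pow_succ]
      calc (f X Y ((z : K) ^ n) ↑z)⁻¹ * (h X Y ↑z ^ n * c) * h X Y ↑z
          = (f X Y ((z : K) ^ n) ↑z)⁻¹ * (h X Y ↑z ^ n * c * h X Y ↑z) := by group
        _ = (h X Y ↑z ^ n * c * h X Y ↑z) * (f X Y ((z : K) ^ n) ↑z)⁻¹ := (hf' _).symm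
        _ = (h X Y ↑z ^ n * h X Y ↑z * c) * (f X Y ((z : K) ^ n) ↑z)⁻¹ := by
          rw [central_move hc]
        _ = _ := by group

theorem h_comm (hR : Rel X Y)
    (hgen : Subgroup.closure (Set.range X ∪ Set.range Y) = ⊤)
    {t u : K} (ht : t ≠ 0) (hu : u ≠ 0) : h X Y t * h X Y u = h X Y u * h X Y t := by
  obtain ⟨z, hz⟩ := IsCyclic.exists_monoid_generator (α := Kˣ)
  obtain ⟨n, hn⟩ := hz (Units.mk0 t ht)
  obtain ⟨m, hm⟩ := hz (Units.mk0 u hu)
  have ht' : t = (z : K) ^ n := by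
    have := congrArg Units.val hn; simpa using this.symm
  have hu' : u = (z : K) ^ m := by
    have := congrArg Units.val hm; simpa using this.symm
  obtain ⟨c1, hc1, e1⟩ := hR.h_pow_central hgen z n
  obtain ⟨c2, hc2, e2⟩ := hR.h_pow_central hgen z m
  rw [ht', hu', e1, e2]
  exact comm_of_central ((Commute.refl (h X Y (z : K))).pow_pow n m).eq hc1 hc2

theorem f_sq_mul (hR : Rel X Y)
    (hgen : Subgroup.closure (Set.range X ∪ Set.range Y) = ⊤)
    {t u v : K} (ht : t ≠ 0) (hu : u ≠ 0) (hv : v ≠ 0) :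
    f X Y t (u ^ 2 * v) = f X Y t v := by
  rw [hR.f_mul_sq hgen ht hu hv, hR.h_comm hgen ht hu]; group

theorem f_symm (hR : Rel X Y)
    (hgen : Subgroup.closure (Set.range X ∪ Set.range Y) = ⊤)
    {t u : K} (ht : t ≠ 0) (hu : u ≠ 0) : f X Y t u = f X Y u t := by
  unfold f; rw [hR.h_comm hgen ht hu, mul_comm t u]

theorem f_eq_one (hR : Rel X Y)
    (hgen : Subgroup.closure (Set.range X ∪ Set.range Y) = ⊤)
    {t u : K} (ht : t ≠ 0) (hu : u ≠ 0) : f X Y t u = 1 := by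
  classical
  have S3 : ∀ {a s b : K}, a ≠ 0 → s ≠ 0 → b ≠ 0 → f X Y a (s ^ 2 * b) = f X Y a b :=
    fun ha hs hb => hR.f_sq_mul hgen ha hs hb
  have S2 : ∀ {a b : K}, a ≠ 0 → b ≠ 0 → f X Y a b = f X Y b a :=
    fun ha hb => hR.f_symm hgen ha hb
  have S3' : ∀ {a s b : K}, a ≠ 0 → s ≠ 0 → b ≠ 0 → f X Y (s ^ 2 * a) b = f X Y a b := by
    intro a s b ha hs hb
    rw [S2 (mul_ne_zero (pow_ne_zero 2 hs) ha) hb, S3 hb hs ha, S2 hb ha]
  have sqR : ∀ {a b : K}, a ≠ 0 → b ≠ 0 → IsSquare b → f X Y a b = 1 := by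
    rintro a b ha hb ⟨s, hs⟩
    have hs0 : s ≠ 0 := by rintro rfl; simp at hs; exact hb hs
    have : b = s ^ 2 * 1 := by rw [hs]; ring
    rw [this, S3 ha hs0 one_ne_zero, hR.f_one_right]
  have sqL : ∀ {a b : K}, a ≠ 0 → b ≠ 0 → IsSquare a → f X Y a b = 1 :=
    fun ha hb hsq => by rw [S2 ha hb]; exact sqR hb ha hsq
  by_cases hall : ∀ a : K, IsSquare a
  · exact sqR ht hu (hall u)
  · push_neg at hall
    obtain ⟨ν, hν⟩ := hall
    have hν0 : ν ≠ 0 := by rintro rfl; exact hν ⟨0, by simp⟩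
    let _ : Fintype K := Fintype.ofFinite K
    have hchar : ringChar K ≠ 2 := fun h2 => hν (FiniteField.isSquare_of_char_two h2 ν)
    have idx : ∀ {a b : K}, ¬ IsSquare a → ¬ IsSquare b → IsSquare (a * b) := by
      intro a b ha hb
      have ha0 : a ≠ 0 := by rintro rfl; exact ha ⟨0, by simp⟩
      have hb0 : b ≠ 0 := by rintro rfl; exact hb ⟨0, by simp⟩
      rw [← quadraticChar_one_iff_isSquare (mul_ne_zero ha0 hb0), map_mul,
        quadraticChar_neg_one_iff_not_isSquare.mpr ha,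
        quadraticChar_neg_one_iff_not_isSquare.mpr hb]
      norm_num
    -- two nonsquares that sum to one
    have hνν : f X Y ν ν = 1 := by
      have hcard : Fintype.card K % 2 = 1 := FiniteField.odd_card_of_char_ne_two hchar
      obtain ⟨a, b, hab⟩ : ∃ a b : K, a ^ 2 + b ^ 2 = ν⁻¹ := by
        obtain ⟨a, b, hab⟩ : ∃ a b, (Polynomial.X ^ 2 : Polynomial K).eval a +
            (Polynomial.X ^ 2 - Polynomial.C ν⁻¹ : Polynomial K).eval b = 0 :=
          FiniteField.exists_root_sum_quadratic (Polynomial.degree_X_pow 2)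
            (Polynomial.degree_X_pow_sub_C (by decide) _) hcard
        refine ⟨a, b, ?_⟩
        rw [← sub_eq_zero]
        simpa only [Polynomial.eval_C, Polynomial.eval_X, Polynomial.eval_pow,
          Polynomial.eval_sub, ← add_sub_assoc] using hab
      have hνi : ¬ IsSquare ν⁻¹ := by
        rintro ⟨s, hs⟩
        exact hν ⟨s⁻¹, by rw [← mul_inv, ← hs, inv_inv]⟩
      have ha0 : a ≠ 0 := by
        rintro rfl
        exact hνi ⟨b, by rw [← hab]; ring⟩
      have hb0 : b ≠ 0 := by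
        rintro rfl
        exact hνi ⟨a, by rw [← hab]; ring⟩
      set t' : K := ν * a ^ 2 with ht'
      set u' : K := ν * b ^ 2 with hu'
      have ht0 : t' ≠ 0 := mul_ne_zero hν0 (pow_ne_zero 2 ha0)
      have hu0 : u' ≠ 0 := mul_ne_zero hν0 (pow_ne_zero 2 hb0)
      have hsum : t' + u' = 1 := by
        rw [ht', hu', ← mul_add, hab, mul_inv_cancel₀ hν0]
      have hrel := hR.h_rel ht0 hu0 hsum
      -- rewrite hrel with symbols
      have hm1 : (-1 : K) ≠ 0 := by simp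
      have hA0 : -(t' / u') ≠ 0 := neg_ne_zero.mpr (div_ne_zero ht0 hu0)
      have hB0 : t'⁻¹ ≠ 0 := inv_ne_zero ht0
      have hAB : -(t' / u') * t'⁻¹ = -u'⁻¹ := by field_simp
      have hABu : -u'⁻¹ * u' = -1 := by field_simp
      have e1 : h X Y (-(t' / u')) * h X Y t'⁻¹ =
          f X Y (-(t' / u')) t'⁻¹ * h X Y (-u'⁻¹) := by
        rw [← hAB]; unfold f; group
      have e2 : h X Y (-u'⁻¹) * h X Y u' = f X Y (-u'⁻¹) u' * h X Y (-1) := by
        rw [← hABu]; unfold f; group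
      have hcomm := hR.h_comm hgen hm1 hu0
      have hprod : f X Y (-(t' / u')) t'⁻¹ * f X Y (-u'⁻¹) u' = 1 := by
        have h1 : h X Y (-(t' / u')) * h X Y t'⁻¹ * h X Y u' = h X Y (-1) := by
          have : h X Y (-(t' / u')) * h X Y t'⁻¹ * (h X Y (-1))⁻¹ * h X Y u' =
              h X Y (-(t' / u')) * h X Y t'⁻¹ * h X Y u' * (h X Y (-1))⁻¹ := by
            have hc2 : (h X Y (-1))⁻¹ * h X Y u' = h X Y u' * (h X Y (-1))⁻¹ := by
              rw [eq_mul_inv_iff_mul_eq, mul_assoc, ← hcomm, ← mul_assoc, inv_mul_cancel, one_mul]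
            rw [mul_assoc _ (h X Y (-1))⁻¹, hc2, ← mul_assoc]
          rw [this] at hrel
          exact mul_inv_eq_one.mp hrel
        rw [e1, mul_assoc, e2, ← mul_assoc] at h1
        exact mul_eq_right.mp h1
      -- identify the two symbols
      have hf1 : f X Y (-(t' / u')) t'⁻¹ = f X Y (-1) ν := by
        have x1 : -(t' / u') = (a / b) ^ 2 * (-1) := by
          rw [ht', hu']; field_simp
        have x2 : t'⁻¹ = ((ν * a)⁻¹) ^ 2 * ν := by
          rw [ht']; field_simp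
        rw [x1, x2, S3' hm1 (div_ne_zero ha0 hb0) (mul_ne_zero (pow_ne_zero 2
          (inv_ne_zero (mul_ne_zero hν0 ha0))) hν0), S3 hm1 (inv_ne_zero (mul_ne_zero hν0 ha0)) hν0]
      have hf2 : f X Y (-u'⁻¹) u' = f X Y (-ν) ν := by
        have x1 : -u'⁻¹ = ((ν * b)⁻¹) ^ 2 * (-ν) := by
          rw [hu']; field_simp
        have x2 : u' = b ^ 2 * ν := by rw [hu']; ring
        rw [x1, x2, S3' (neg_ne_zero.mpr hν0) (inv_ne_zero (mul_ne_zero hν0 hb0))
          (mul_ne_zero (pow_ne_zero 2 hb0) hν0), S3 (neg_ne_zero.mpr hν0) hb0 hν0]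
      rw [hf1, hf2] at hprod
      by_cases hneg : IsSquare (-1 : K)
      · obtain ⟨i, hi⟩ := hneg
        have hi0 : i ≠ 0 := by rintro rfl; simp at hi
        rw [sqL hm1 hν0 ⟨i, hi⟩, one_mul] at hprod
        have : -ν = i ^ 2 * ν := by rw [sq, ← hi]; ring
        rw [this, S3' hν0 hi0 hν0] at hprod
        exact hprod
      · have hsq : IsSquare (-ν) := by
          have := idx hneg hν
          rwa [neg_one_mul] at this
        rw [sqL (neg_ne_zero.mpr hν0) hν0 hsq, mul_one] at hprod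
        obtain ⟨r, hr⟩ := hsq
        have hr0 : r ≠ 0 := by rintro rfl; simp at hr; exact hν0 hr
        have : (-1 : K) = (r / ν) ^ 2 * ν := by
          rw [div_pow, sq r, ← hr]; field_simp
        rw [this, S3' hν0 (div_ne_zero hr0 hν0) hν0] at hprod
        exact hprod
    by_cases h1 : IsSquare t
    · exact sqL ht hu h1
    by_cases h2 : IsSquare u
    · exact sqR ht hu h2
    -- both nonsquares
    have hνi : ¬ IsSquare ν⁻¹ := by
      rintro ⟨s, hs⟩
      exact hν ⟨s⁻¹, by rw [← mul_inv, ← hs, inv_inv]⟩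
    obtain ⟨r, hr⟩ := idx h1 hνi
    obtain ⟨s, hs⟩ := idx h2 hνi
    have hr0 : r ≠ 0 := by
      rintro rfl; simp at hr; rcases hr with h | h
      · exact ht h
      · exact hν0 h
    have hs0 : s ≠ 0 := by
      rintro rfl; simp at hs; rcases hs with h | h
      · exact hu h
      · exact hν0 h
    have et : t = r ^ 2 * ν := by
      rw [sq, ← hr]; field_simp
    have eu : u = s ^ 2 * ν := by
      rw [sq, ← hs]; field_simp
    rw [et, eu, S3' hν0 hr0 (mul_ne_zero (pow_ne_zero 2 hs0) hν0), S3 hν0 hs0 hν0]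
    exact hνν

theorem h_mul (hR : Rel X Y)
    (hgen : Subgroup.closure (Set.range X ∪ Set.range Y) = ⊤)
    {t u : K} (ht : t ≠ 0) (hu : u ≠ 0) : h X Y t * h X Y u = h X Y (t * u) := by
  have := hR.f_eq_one hgen ht hu
  unfold f at this
  exact mul_inv_eq_one.mp this

theorem H_eq (hR : Rel X Y)
    (hgen : Subgroup.closure (Set.range X ∪ Set.range Y) = ⊤)
    {d : Γ} (hd : d ∈ H X Y) : ∃ t : K, t ≠ 0 ∧ d = h X Y t := by
  induction hd using Subgroup.closure_induction with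
  | mem x hx => exact hx
  | one => exact ⟨1, one_ne_zero, hR.h_one.symm⟩
  | mul x y _ _ hx hy =>
    obtain ⟨t, ht, rfl⟩ := hx
    obtain ⟨u, hu, rfl⟩ := hy
    exact ⟨t * u, mul_ne_zero ht hu, hR.h_mul hgen ht hu⟩
  | inv x _ hx =>
    obtain ⟨t, ht, rfl⟩ := hx
    refine ⟨t⁻¹, inv_ne_zero ht, ?_⟩
    have := hR.h_mul hgen ht (inv_ne_zero ht)
    rw [mul_inv_cancel₀ ht, hR.h_one] at this
    exact inv_eq_of_mul_eq_one_right this

end Finite

end Rel

end Cfsg.Agent.Helper38.SL2Pres
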