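import Mathlib
import Cfsg.Agent.Lib.Helper38.SL2PresFin

set_option autoImplicit false

namespace Cfsg.Agent.Helper38.SL2Pres

open Matrix

variable {K : Type*} [Field K] {Γ : Type*} [Group Γ]

/-- upper unitriangular matrix -/
def xmat (t : K) : Matrix.SpecialLinearGroup (Fin 2) K :=
  ⟨!![1, t; 0, 1], by simp [Matrix.det_fin_two]⟩

/-- lower unitriangular matrix -/
def ymat (t : K) : Matrix.SpecialLinearGroup (Fin 2) K :=
  ⟨!![1, 0; t, 1], by simp [Matrix.det_fin_two]⟩

@[simp] theorem xmat_coe (t : K) :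
    ((xmat t : Matrix.SpecialLinearGroup (Fin 2) K) : Matrix (Fin 2) (Fin 2) K) =
      !![1, t; 0, 1] := rfl

@[simp] theorem ymat_coe (t : K) :
    ((ymat t : Matrix.SpecialLinearGroup (Fin 2) K) : Matrix (Fin 2) (Fin 2) K) =
      !![1, 0; t, 1] := rfl

omit [Field K] in
theorem mat2_ext {a b c d a' b' c' d' : K} (h1 : a = a') (h2 : b = b') (h3 : c = c')
    (h4 : d = d') : !![a, b; c, d] = !![a', b'; c', d'] := by
  subst h1 h2 h3 h4; rfl

omit [Field K] in
theorem mat2_inj {a b c d a' b' c' d' : K} (h : !![a, b; c, d] = !![a', b'; c', d']) :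
    a = a' ∧ b = b' ∧ c = c' ∧ d = d' := by
  refine ⟨?_, ?_, ?_, ?_⟩
  · simpa using congrFun (congrFun h 0) 0
  · simpa using congrFun (congrFun h 0) 1
  · simpa using congrFun (congrFun h 1) 0
  · simpa using congrFun (congrFun h 1) 1

theorem sl_ext {A B : Matrix.SpecialLinearGroup (Fin 2) K}
    (h : (A : Matrix (Fin 2) (Fin 2) K) = B) : A = B := Subtype.ext h

theorem xmat_add (t u : K) : xmat t * xmat u = xmat (t + u) := by
  apply sl_ext
  simp only [Matrix.SpecialLinearGroup.coe_mul, xmat_coe, Matrix.mul_fin_two]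
  apply mat2_ext <;> ring

theorem ymat_add (t u : K) : ymat t * ymat u = ymat (t + u) := by
  apply sl_ext
  simp only [Matrix.SpecialLinearGroup.coe_mul, ymat_coe, Matrix.mul_fin_two]
  apply mat2_ext <;> ring

theorem wmat_coe {t : K} (ht : t ≠ 0) :
    ((xmat t * ymat (-t⁻¹) * xmat t : Matrix.SpecialLinearGroup (Fin 2) K) :
      Matrix (Fin 2) (Fin 2) K) = !![0, t; -t⁻¹, 0] := by
  simp only [Matrix.SpecialLinearGroup.coe_mul, xmat_coe, ymat_coe, Matrix.mul_fin_two]
  apply mat2_ext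
  · field_simp; ring
  · field_simp; ring
  · ring
  · field_simp; ring

theorem wmat_conj_x {t : K} (ht : t ≠ 0) (u : K) :
    (xmat t * ymat (-t⁻¹) * xmat t) * xmat u * (xmat t * ymat (-t⁻¹) * xmat t)⁻¹ =
      ymat (-(t⁻¹ ^ 2 * u)) := by
  rw [mul_inv_eq_iff_eq_mul]
  apply sl_ext
  rw [Matrix.SpecialLinearGroup.coe_mul, Matrix.SpecialLinearGroup.coe_mul _ (_ * _ * _),
    wmat_coe ht]
  simp only [xmat_coe, ymat_coe, Matrix.mul_fin_two]
  apply mat2_ext
  · ring
  · ring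
  · ring
  · field_simp

theorem wmat'_coe {t : K} (ht : t ≠ 0) :
    ((ymat t * xmat (-t⁻¹) * ymat t : Matrix.SpecialLinearGroup (Fin 2) K) :
      Matrix (Fin 2) (Fin 2) K) = !![0, -t⁻¹; t, 0] := by
  simp only [Matrix.SpecialLinearGroup.coe_mul, xmat_coe, ymat_coe, Matrix.mul_fin_two]
  apply mat2_ext
  · field_simp; ring
  · ring
  · field_simp; ring
  · field_simp; ring

theorem wmat_conj_y {t : K} (ht : t ≠ 0) (u : K) :
    (ymat t * xmat (-t⁻¹) * ymat t) * ymat u * (ymat t * xmat (-t⁻¹) * ymat t)⁻¹ =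
      xmat (-(t⁻¹ ^ 2 * u)) := by
  rw [mul_inv_eq_iff_eq_mul]
  apply sl_ext
  rw [Matrix.SpecialLinearGroup.coe_mul, Matrix.SpecialLinearGroup.coe_mul _ (_ * _ * _),
    wmat'_coe ht]
  simp only [xmat_coe, ymat_coe, Matrix.mul_fin_two]
  apply mat2_ext
  · field_simp
  · ring
  · ring
  · ring

theorem rel_mat : Rel (xmat : K → Matrix.SpecialLinearGroup (Fin 2) K) ymat :=
  ⟨xmat_add, ymat_add, fun _ u ht => wmat_conj_x ht u, fun _ u ht => wmat_conj_y ht u⟩

/-- every matrix in SL₂ is a product of elementary matrices -/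
theorem mem_closure_elem (A : Matrix.SpecialLinearGroup (Fin 2) K) :
    A ∈ Subgroup.closure
      (Set.range (xmat : K → Matrix.SpecialLinearGroup (Fin 2) K) ∪ Set.range ymat) := by
  have hx : ∀ t : K, xmat t ∈ Subgroup.closure
      (Set.range (xmat : K → Matrix.SpecialLinearGroup (Fin 2) K) ∪ Set.range ymat) :=
    fun t => Subgroup.subset_closure (Or.inl ⟨t, rfl⟩)
  have hy : ∀ t : K, ymat t ∈ Subgroup.closure
      (Set.range (xmat : K → Matrix.SpecialLinearGroup (Fin 2) K) ∪ Set.range ymat) :=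
    fun t => Subgroup.subset_closure (Or.inr ⟨t, rfl⟩)
  have key : ∀ B : Matrix.SpecialLinearGroup (Fin 2) K,
      (B : Matrix (Fin 2) (Fin 2) K) 1 0 ≠ 0 →
      B ∈ Subgroup.closure
        (Set.range (xmat : K → Matrix.SpecialLinearGroup (Fin 2) K) ∪ Set.range ymat) := by
    intro B hc
    have hdet : (B : Matrix (Fin 2) (Fin 2) K) 0 0 * (B : Matrix (Fin 2) (Fin 2) K) 1 1 -
        (B : Matrix (Fin 2) (Fin 2) K) 0 1 * (B : Matrix (Fin 2) (Fin 2) K) 1 0 = 1 := by
      have := B.2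
      rwa [Matrix.det_fin_two] at this
    have : B = xmat (((B : Matrix (Fin 2) (Fin 2) K) 0 0 - 1) / (B : Matrix (Fin 2) (Fin 2) K) 1 0) *
        ymat ((B : Matrix (Fin 2) (Fin 2) K) 1 0) *
        xmat (((B : Matrix (Fin 2) (Fin 2) K) 1 1 - 1) / (B : Matrix (Fin 2) (Fin 2) K) 1 0) := by
      apply sl_ext
      rw [Matrix.eta_fin_two (B : Matrix (Fin 2) (Fin 2) K)]
      simp only [Matrix.SpecialLinearGroup.coe_mul, xmat_coe, ymat_coe, Matrix.mul_fin_two]
      apply mat2_ext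
      · simp only [Matrix.of_apply, Matrix.cons_val', Matrix.cons_val_zero, Matrix.cons_val_one,
          Matrix.cons_val_fin_one]
        field_simp; ring
      · simp only [Matrix.of_apply, Matrix.cons_val', Matrix.cons_val_zero, Matrix.cons_val_one,
          Matrix.cons_val_fin_one]
        field_simp
        linear_combination (-1 : K) * hdet
      · simp only [Matrix.of_apply, Matrix.cons_val', Matrix.cons_val_zero, Matrix.cons_val_one,
          Matrix.cons_val_fin_one]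
        ring
      · simp only [Matrix.of_apply, Matrix.cons_val', Matrix.cons_val_zero, Matrix.cons_val_one,
          Matrix.cons_val_fin_one]
        field_simp; ring
    rw [this]
    exact Subgroup.mul_mem _ (Subgroup.mul_mem _ (hx _) (hy _)) (hx _)
  by_cases hc : (A : Matrix (Fin 2) (Fin 2) K) 1 0 = 0
  · have hdet : (A : Matrix (Fin 2) (Fin 2) K) 0 0 * (A : Matrix (Fin 2) (Fin 2) K) 1 1 -
        (A : Matrix (Fin 2) (Fin 2) K) 0 1 * (A : Matrix (Fin 2) (Fin 2) K) 1 0 = 1 := by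
      have := A.2
      rwa [Matrix.det_fin_two] at this
    have ha : (A : Matrix (Fin 2) (Fin 2) K) 0 0 ≠ 0 := by
      intro h0; rw [h0, hc] at hdet; simp at hdet
    have h1 : ((ymat 1 * A : Matrix.SpecialLinearGroup (Fin 2) K) :
        Matrix (Fin 2) (Fin 2) K) 1 0 ≠ 0 := by
      rw [Matrix.SpecialLinearGroup.coe_mul, ymat_coe, Matrix.mul_apply, Fin.sum_univ_two]
      simp [hc, ha]
    have h2 := key _ h1
    have : A = (ymat 1)⁻¹ * (ymat 1 * A) := by group
    rw [this]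
    exact Subgroup.mul_mem _ (Subgroup.inv_mem _ (hy 1)) h2
  · exact key A hc

section Inj

variable {X Y : K → Γ}

theorem pi_w (π : Γ →* Matrix.SpecialLinearGroup (Fin 2) K)
    (hX : ∀ t, π (X t) = xmat t) (hY : ∀ t, π (Y t) = ymat t) (t : K) :
    π (w X Y t) = xmat t * ymat (-t⁻¹) * xmat t := by
  unfold w; rw [map_mul, map_mul, hX, hY]

theorem pi_h (π : Γ →* Matrix.SpecialLinearGroup (Fin 2) K)
    (hX : ∀ t, π (X t) = xmat t) (hY : ∀ t, π (Y t) = ymat t) {t : K} (ht : t ≠ 0) :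
    (π (h X Y t) : Matrix (Fin 2) (Fin 2) K) = !![t, 0; 0, t⁻¹] := by
  have h1 : π (h X Y t) * π (w X Y 1) = π (w X Y t) := by
    rw [← map_mul]; unfold h; congr 1; group
  rw [pi_w π hX hY, pi_w π hX hY] at h1
  have h2 : (π (h X Y t) : Matrix (Fin 2) (Fin 2) K) * !![0, 1; -(1 : K)⁻¹, 0] =
      !![0, t; -t⁻¹, 0] := by
    rw [← wmat_coe ht, ← wmat_coe (one_ne_zero), ← Matrix.SpecialLinearGroup.coe_mul, h1]
  rw [Matrix.eta_fin_two (π (h X Y t) : Matrix (Fin 2) (Fin 2) K)] at h2 ⊢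
  rw [Matrix.mul_fin_two] at h2
  obtain ⟨e1, e2, e3, e4⟩ := mat2_inj h2
  apply mat2_ext
  · linear_combination e2
  · linear_combination (-1 : K) * e1
  · linear_combination e4
  · linear_combination (-1 : K) * e3

theorem injective_of_rel [Finite K] (hR : Rel X Y)
    (hgen : Subgroup.closure (Set.range X ∪ Set.range Y) = ⊤)
    (π : Γ →* Matrix.SpecialLinearGroup (Fin 2) K)
    (hX : ∀ t, π (X t) = xmat t) (hY : ∀ t, π (Y t) = ymat t) : Function.Injective π := by
  rw [injective_iff_map_eq_one]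
  intro g hg
  rcases hR.nf_all hgen g with ⟨a, d, hd, rfl⟩ | ⟨a, c, d, hd, rfl⟩
  · obtain ⟨t, ht, rfl⟩ := hR.H_eq hgen hd
    have h2 : (!![1, a; 0, 1] : Matrix (Fin 2) (Fin 2) K) * !![t, 0; 0, t⁻¹] = !![1, 0; 0, 1] := by
      rw [← pi_h π hX hY ht, ← xmat_coe, ← hX, ← Matrix.SpecialLinearGroup.coe_mul, ← map_mul,
        hg, Matrix.SpecialLinearGroup.coe_one, Matrix.one_fin_two]
    rw [Matrix.mul_fin_two] at h2
    obtain ⟨e1, e2, -, -⟩ := mat2_inj h2
    have ht1 : t = 1 := by linear_combination e1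
    subst ht1
    have ha : a = 0 := by simpa using e2
    subst ha
    rw [hR.X_zero, hR.h_one, one_mul]
  · exfalso
    obtain ⟨t, ht, rfl⟩ := hR.H_eq hgen hd
    have h2 : (!![1, a; 0, 1] : Matrix (Fin 2) (Fin 2) K) * !![t, 0; 0, t⁻¹] *
        !![0, 1; -(1 : K)⁻¹, 0] * !![1, c; 0, 1] = !![1, 0; 0, 1] := by
      rw [← pi_h π hX hY ht, ← xmat_coe a, ← xmat_coe c, ← hX, ← hX, ← wmat_coe (one_ne_zero),
        ← pi_w π hX hY, ← Matrix.SpecialLinearGroup.coe_mul, ← Matrix.SpecialLinearGroup.coe_mul,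
        ← Matrix.SpecialLinearGroup.coe_mul, ← map_mul, ← map_mul, ← map_mul,
        hg, Matrix.SpecialLinearGroup.coe_one, Matrix.one_fin_two]
    rw [Matrix.mul_fin_two, Matrix.mul_fin_two, Matrix.mul_fin_two] at h2
    obtain ⟨-, -, e3, -⟩ := mat2_inj h2
    have : t⁻¹ = 0 := by
      have := e3
      simp at this
      simpa using this
    exact ht (inv_eq_zero.mp this)

end Inj

end Cfsg.Agent.Helper38.SL2Pres
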