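import Mathlib
import Cfsg.Agent.Lib.Helper38.SL2PresMain

set_option autoImplicit false

/-!
# The subgroup of `SL₂(L)` generated by `x(k)` and `y(k α)`: basic facts
-/

namespace Cfsg.Agent.Helper38.SL2Alg

open Matrix Cfsg.Agent.Helper38.SL2Pres

variable {k L : Type*} [Field k] [Field L] [Algebra k L]

/-- the generating set -/
def gens (k : Type*) {L : Type*} [Field k] [Field L] [Algebra k L] (α : L) :
    Set (Matrix.SpecialLinearGroup (Fin 2) L) :=
  {g | ∃ c : k, g = xmat (algebraMap k L c)} ∪ {g | ∃ c : k, g = ymat (algebraMap k L c * α)}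

/-- the group generated -/
def G (k : Type*) {L : Type*} [Field k] [Field L] [Algebra k L] (α : L) :
    Subgroup (Matrix.SpecialLinearGroup (Fin 2) L) :=
  Subgroup.closure (gens k α)

theorem xmat_mem_G (α : L) (c : k) : xmat (algebraMap k L c) ∈ G k α :=
  Subgroup.subset_closure (Or.inl ⟨c, rfl⟩)

theorem ymat_mem_G (α : L) (c : k) : ymat (algebraMap k L c * α) ∈ G k α :=
  Subgroup.subset_closure (Or.inr ⟨c, rfl⟩)

/-! ### entries -/

theorem det_eq (g : Matrix.SpecialLinearGroup (Fin 2) L) :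
    g.1 0 0 * g.1 1 1 - g.1 0 1 * g.1 1 0 = 1 := by
  have := g.2
  rwa [Matrix.det_fin_two] at this

theorem xmat_mul_00 (t : L) (g : Matrix.SpecialLinearGroup (Fin 2) L) :
    (xmat t * g).1 0 0 = g.1 0 0 + t * g.1 1 0 := by
  change ((xmat t * g : Matrix.SpecialLinearGroup (Fin 2) L) : Matrix (Fin 2) (Fin 2) L) 0 0 = _
  rw [Matrix.SpecialLinearGroup.coe_mul, xmat_coe, Matrix.mul_apply, Fin.sum_univ_two]
  simp

theorem xmat_mul_10 (t : L) (g : Matrix.SpecialLinearGroup (Fin 2) L) :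
    (xmat t * g).1 1 0 = g.1 1 0 := by
  change ((xmat t * g : Matrix.SpecialLinearGroup (Fin 2) L) : Matrix (Fin 2) (Fin 2) L) 1 0 = _
  rw [Matrix.SpecialLinearGroup.coe_mul, xmat_coe, Matrix.mul_apply, Fin.sum_univ_two]
  simp

theorem ymat_mul_00 (s : L) (g : Matrix.SpecialLinearGroup (Fin 2) L) :
    (ymat s * g).1 0 0 = g.1 0 0 := by
  change ((ymat s * g : Matrix.SpecialLinearGroup (Fin 2) L) : Matrix (Fin 2) (Fin 2) L) 0 0 = _
  rw [Matrix.SpecialLinearGroup.coe_mul, ymat_coe, Matrix.mul_apply, Fin.sum_univ_two]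
  simp

theorem ymat_mul_10 (s : L) (g : Matrix.SpecialLinearGroup (Fin 2) L) :
    (ymat s * g).1 1 0 = s * g.1 0 0 + g.1 1 0 := by
  change ((ymat s * g : Matrix.SpecialLinearGroup (Fin 2) L) : Matrix (Fin 2) (Fin 2) L) 1 0 = _
  rw [Matrix.SpecialLinearGroup.coe_mul, ymat_coe, Matrix.mul_apply, Fin.sum_univ_two]
  simp

/-- explicit form of an element of `SL₂` -/
theorem coe_eq (g : Matrix.SpecialLinearGroup (Fin 2) L) :
    (g : Matrix (Fin 2) (Fin 2) L) = !![g.1 0 0, g.1 0 1; g.1 1 0, g.1 1 1] :=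
  Matrix.eta_fin_two _

theorem coe_inv_eq (g : Matrix.SpecialLinearGroup (Fin 2) L) :
    ((g⁻¹ : Matrix.SpecialLinearGroup (Fin 2) L) : Matrix (Fin 2) (Fin 2) L) =
      !![g.1 1 1, -g.1 0 1; -g.1 1 0, g.1 0 0] := by
  rw [Matrix.SpecialLinearGroup.coe_inv, Matrix.adjugate_fin_two]

/-- an upper triangular element normalizes the upper unitriangular group -/
theorem conj_xmat_of_ut (g : Matrix.SpecialLinearGroup (Fin 2) L) (h : g.1 1 0 = 0) (t : L) :
    g * xmat t * g⁻¹ = xmat (g.1 0 0 ^ 2 * t) := by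
  have hd := det_eq g
  rw [h, mul_zero, sub_zero] at hd
  apply sl_ext
  rw [Matrix.SpecialLinearGroup.coe_mul, Matrix.SpecialLinearGroup.coe_mul, coe_inv_eq, coe_eq g,
    xmat_coe, xmat_coe]
  simp only [Matrix.mul_fin_two, Matrix.of_apply, Matrix.cons_val', Matrix.cons_val_zero,
    Matrix.cons_val_one, Matrix.cons_val_fin_one]
  rw [h]
  apply mat2_ext
  · linear_combination hd
  · ring
  · ring
  · linear_combination hd

/-- an element with vanishing `(0,0)` entry conjugates `x(t)` to a `y` -/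
theorem conj_xmat_of_00 (g : Matrix.SpecialLinearGroup (Fin 2) L) (h : g.1 0 0 = 0) (t : L) :
    g * xmat t * g⁻¹ = ymat (-(g.1 1 0 ^ 2 * t)) := by
  have hd := det_eq g
  rw [h, zero_mul, zero_sub] at hd
  apply sl_ext
  rw [Matrix.SpecialLinearGroup.coe_mul, Matrix.SpecialLinearGroup.coe_mul, coe_inv_eq, coe_eq g,
    xmat_coe, ymat_coe]
  simp only [Matrix.mul_fin_two, Matrix.of_apply, Matrix.cons_val', Matrix.cons_val_zero,
    Matrix.cons_val_one, Matrix.cons_val_fin_one]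
  rw [h]
  apply mat2_ext
  · linear_combination hd
  · ring
  · ring
  · linear_combination hd

/-- two elements with first column `(0, q)`, `(0, q')`: `g'⁻¹ g` is upper triangular -/
theorem inv_mul_10 (g g' : Matrix.SpecialLinearGroup (Fin 2) L) (h : g.1 0 0 = 0)
    (h' : g'.1 0 0 = 0) : (g'⁻¹ * g).1 1 0 = 0 := by
  change ((g'⁻¹ * g : Matrix.SpecialLinearGroup (Fin 2) L) : Matrix (Fin 2) (Fin 2) L) 1 0 = _
  rw [Matrix.SpecialLinearGroup.coe_mul, coe_inv_eq, Matrix.mul_apply, Fin.sum_univ_two]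
  simp [h, h']

theorem inv_mul_00 (g g' : Matrix.SpecialLinearGroup (Fin 2) L) (h : g.1 0 0 = 0)
    (h' : g'.1 0 0 = 0) : (g'⁻¹ * g).1 0 0 * g'.1 1 0 = g.1 1 0 := by
  have hd := det_eq g'
  rw [h', zero_mul, zero_sub] at hd
  change ((g'⁻¹ * g : Matrix.SpecialLinearGroup (Fin 2) L) : Matrix (Fin 2) (Fin 2) L) 0 0 * _ = _
  rw [Matrix.SpecialLinearGroup.coe_mul, coe_inv_eq, Matrix.mul_apply, Fin.sum_univ_two]
  simp only [Matrix.of_apply, Matrix.cons_val', Matrix.cons_val_zero, Matrix.cons_val_one,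
    Matrix.cons_val_fin_one, h]
  linear_combination (g.1 1 0) * hd

/-! ### the diagonal automorphism -/

/-- conjugation by `diag(c, 1)` on matrices -/
def sigM (c : L) (M : Matrix (Fin 2) (Fin 2) L) : Matrix (Fin 2) (Fin 2) L :=
  !![M 0 0, c * M 0 1; c⁻¹ * M 1 0, M 1 1]

theorem sigM_mul (c : L) (hc : c ≠ 0) (A B : Matrix (Fin 2) (Fin 2) L) :
    sigM c (A * B) = sigM c A * sigM c B := by
  unfold sigM
  rw [Matrix.mul_fin_two]
  simp only [Matrix.mul_apply, Fin.sum_univ_two]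
  apply mat2_ext
  · field_simp
  · ring
  · field_simp
  · field_simp

theorem sigM_det (c : L) (hc : c ≠ 0) (M : Matrix (Fin 2) (Fin 2) L) :
    (sigM c M).det = M.det := by
  unfold sigM
  rw [Matrix.det_fin_two_of, Matrix.det_fin_two]
  field_simp

/-- conjugation by `diag(c, 1)` -/
def sig (c : L) (hc : c ≠ 0) :
    Matrix.SpecialLinearGroup (Fin 2) L →* Matrix.SpecialLinearGroup (Fin 2) L where
  toFun g := ⟨sigM c g.1, by rw [sigM_det c hc]; exact g.2⟩
  map_one' := by
    apply sl_ext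
    change sigM c (1 : Matrix (Fin 2) (Fin 2) L) = 1
    unfold sigM
    rw [← Matrix.ext_iff]
    intro i j
    fin_cases i <;> fin_cases j <;> simp
  map_mul' a b := by
    apply sl_ext
    change sigM c ((a * b : Matrix.SpecialLinearGroup (Fin 2) L) : Matrix (Fin 2) (Fin 2) L) =
      sigM c a.1 * sigM c b.1
    rw [Matrix.SpecialLinearGroup.coe_mul, sigM_mul c hc]

theorem sig_xmat (c : L) (hc : c ≠ 0) (t : L) : sig c hc (xmat t) = xmat (c * t) := by
  apply sl_ext
  change sigM c !![1, t; 0, 1] = !![1, c * t; 0, 1]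
  unfold sigM
  apply mat2_ext <;> simp

theorem sig_ymat (c : L) (hc : c ≠ 0) (s : L) : sig c hc (ymat s) = ymat (c⁻¹ * s) := by
  apply sl_ext
  change sigM c !![1, 0; s, 1] = !![1, 0; c⁻¹ * s, 1]
  unfold sigM
  apply mat2_ext <;> simp

theorem sig_mem_G (α : L) (c : k) (hc' : algebraMap k L c ≠ 0)
    {g : Matrix.SpecialLinearGroup (Fin 2) L} (hg : g ∈ G k α) :
    sig (algebraMap k L c) hc' g ∈ G k α := by
  have : G k α ≤ (G k α).comap (sig (algebraMap k L c) hc') := by
    unfold G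
    rw [Subgroup.closure_le]
    rintro g (⟨d, rfl⟩ | ⟨d, rfl⟩)
    · rw [SetLike.mem_coe, Subgroup.mem_comap, sig_xmat, ← map_mul]
      exact Subgroup.subset_closure (Or.inl ⟨_, rfl⟩)
    · rw [SetLike.mem_coe, Subgroup.mem_comap, sig_ymat, ← mul_assoc, ← map_inv₀, ← map_mul]
      exact Subgroup.subset_closure (Or.inr ⟨_, rfl⟩)
  exact this hg

/-- the parameters of the upper unitriangular elements of `G` are closed under `k`-scaling -/
theorem xmat_smul_mem (α : L) (c : k) {t : L} (ht : xmat t ∈ G k α) :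
    xmat (algebraMap k L c * t) ∈ G k α := by
  by_cases hc : c = 0
  · rw [hc, map_zero, zero_mul]
    have : (xmat (0 : L)) = 1 := by
      apply sl_ext
      rw [xmat_coe, Matrix.SpecialLinearGroup.coe_one]
      rw [← Matrix.ext_iff]
      intro i j
      fin_cases i <;> fin_cases j <;> simp
    rw [this]
    exact Subgroup.one_mem _
  · have hc' : algebraMap k L c ≠ 0 := by simpa using hc
    have := sig_mem_G α c hc' ht
    rwa [sig_xmat] at this

theorem xmat_zero : (xmat (0 : L)) = 1 := by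
  apply sl_ext
  rw [xmat_coe, Matrix.SpecialLinearGroup.coe_one]
  rw [← Matrix.ext_iff]
  intro i j
  fin_cases i <;> fin_cases j <;> simp

theorem xmat_neg (t : L) : xmat (-t) = (xmat t)⁻¹ := by
  rw [eq_inv_iff_mul_eq_one, xmat_add, neg_add_cancel, xmat_zero]

theorem ymat_zero : (ymat (0 : L)) = 1 := by
  apply sl_ext
  rw [ymat_coe, Matrix.SpecialLinearGroup.coe_one]
  rw [← Matrix.ext_iff]
  intro i j
  fin_cases i <;> fin_cases j <;> simp

theorem ymat_neg (t : L) : ymat (-t) = (ymat t)⁻¹ := by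
  rw [eq_inv_iff_mul_eq_one, ymat_add, neg_add_cancel, ymat_zero]

/-- if all `x(t)` and all `y(t)` lie in a subgroup then it is everything -/
theorem eq_top_of_xy (H : Subgroup (Matrix.SpecialLinearGroup (Fin 2) L))
    (hx : ∀ t : L, xmat t ∈ H) (hy : ∀ t : L, ymat t ∈ H) : H = ⊤ := by
  rw [eq_top_iff]
  intro A _
  have := mem_closure_elem A
  refine (Subgroup.closure_le H).mpr ?_ this
  rintro g (⟨t, rfl⟩ | ⟨t, rfl⟩)
  · exact hx t
  · exact hy t

end Cfsg.Agent.Helper38.SL2Alg
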