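import Mathlib
import Cfsg.Agent.Lib.Helper38.SL2AlgBase

set_option autoImplicit false
set_option linter.unusedSectionVars false

/-!
# Homomorphisms out of `SL₂(K)` from the Steinberg relations

If `X, Y : K → Γ` satisfy the rank one Steinberg relations (`K` a finite field), there is a
homomorphism `SL₂(K) → Γ` with `x(t) ↦ X t`, `y(t) ↦ Y t`.
-/

namespace Cfsg.Agent.Helper38.SL2Pres

open Matrix Cfsg.Agent.Helper38.SL2Alg

variable {K : Type*} [Field K] [Finite K] {Γ : Type*} [Group Γ]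

theorem exists_hom_of_rel {X Y : K → Γ} (hR : Rel X Y) :
    ∃ Φ : Matrix.SpecialLinearGroup (Fin 2) K →* Γ,
      (∀ t, Φ (xmat t) = X t) ∧ (∀ t, Φ (ymat t) = Y t) := by
  classical
  -- the graph
  let X₂ : K → Matrix.SpecialLinearGroup (Fin 2) K × Γ := fun t => (xmat t, X t)
  let Y₂ : K → Matrix.SpecialLinearGroup (Fin 2) K × Γ := fun t => (ymat t, Y t)
  let S : Set (Matrix.SpecialLinearGroup (Fin 2) K × Γ) := Set.range X₂ ∪ Set.range Y₂
  let Γ₂ : Subgroup (Matrix.SpecialLinearGroup (Fin 2) K × Γ) := Subgroup.closure S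
  let X₃ : K → Γ₂ := fun t => ⟨X₂ t, Subgroup.subset_closure (Or.inl ⟨t, rfl⟩)⟩
  let Y₃ : K → Γ₂ := fun t => ⟨Y₂ t, Subgroup.subset_closure (Or.inr ⟨t, rfl⟩)⟩
  have hR₂ : Rel X₂ Y₂ := by
    refine ⟨?_, ?_, ?_, ?_⟩
    · intro t u
      exact Prod.ext (rel_mat.addX t u) (hR.addX t u)
    · intro t u
      exact Prod.ext (rel_mat.addY t u) (hR.addY t u)
    · intro t u ht
      exact Prod.ext (rel_mat.conjX t u ht) (hR.conjX t u ht)
    · intro t u ht
      exact Prod.ext (rel_mat.conjY t u ht) (hR.conjY t u ht)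
  have hR₃ : Rel X₃ Y₃ := by
    refine ⟨?_, ?_, ?_, ?_⟩
    · intro t u
      exact Subtype.ext (hR₂.addX t u)
    · intro t u
      exact Subtype.ext (hR₂.addY t u)
    · intro t u ht
      exact Subtype.ext (hR₂.conjX t u ht)
    · intro t u ht
      exact Subtype.ext (hR₂.conjY t u ht)
  have hgen : Subgroup.closure (Set.range X₃ ∪ Set.range Y₃) = ⊤ := by
    have h := Subgroup.closure_closure_coe_preimage (k := S)
    have hS : Set.range X₃ ∪ Set.range Y₃ = ((↑) : Γ₂ → _) ⁻¹' S := by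
      ext g
      constructor
      · rintro (⟨t, rfl⟩ | ⟨t, rfl⟩)
        · exact Or.inl ⟨t, rfl⟩
        · exact Or.inr ⟨t, rfl⟩
      · rintro (⟨t, ht⟩ | ⟨t, ht⟩)
        · exact Or.inl ⟨t, Subtype.ext ht⟩
        · exact Or.inr ⟨t, Subtype.ext ht⟩
    rw [hS]
    exact h
  let π : Γ₂ →* Matrix.SpecialLinearGroup (Fin 2) K :=
    (MonoidHom.fst _ _).comp Γ₂.subtype
  have hπX : ∀ t, π (X₃ t) = xmat t := fun t => rfl
  have hπY : ∀ t, π (Y₃ t) = ymat t := fun t => rfl
  have hinj : Function.Injective π := injective_of_rel hR₃ hgen π hπX hπY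
  have hsurj : Function.Surjective π := by
    rw [← MonoidHom.range_eq_top]
    apply eq_top_of_xy
    · intro t
      exact ⟨X₃ t, hπX t⟩
    · intro t
      exact ⟨Y₃ t, hπY t⟩
  let e : Γ₂ ≃* Matrix.SpecialLinearGroup (Fin 2) K := MulEquiv.ofBijective π ⟨hinj, hsurj⟩
  refine ⟨((MonoidHom.snd _ _).comp Γ₂.subtype).comp e.symm.toMonoidHom, ?_, ?_⟩
  · intro t
    have : e.symm (xmat t) = X₃ t := by
      rw [MulEquiv.symm_apply_eq]
      exact (hπX t).symm
    change ((MonoidHom.snd _ _).comp Γ₂.subtype) (e.symm (xmat t)) = X t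
    rw [this]
    rfl
  · intro t
    have : e.symm (ymat t) = Y₃ t := by
      rw [MulEquiv.symm_apply_eq]
      exact (hπY t).symm
    change ((MonoidHom.snd _ _).comp Γ₂.subtype) (e.symm (ymat t)) = Y t
    rw [this]
    rfl

end Cfsg.Agent.Helper38.SL2Pres
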