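import Cfsg.Agent.Lib.Helper38.BG128b
import Cfsg.Agent.Lib.Helper24.RankTwoAut

/-!
# Bender–Glauberman 12.13 (statement S1421): the structure of `τ₂`-Sylow subgroups of a complement
`E` of `M_σ` when all Sylow `p`-subgroups of `G` are abelian (Case II), from the conclusions of
S1350, S1405, S1411, S1417, S1418, S1420 taken as hypotheses.
-/

set_option autoImplicit false
set_option linter.style.haveILetI false
set_option linter.unusedSectionVars false
open Pointwise

namespace Cfsg.Agent.Helper38.BG1213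

open Subgroup Cfsg
open scoped commutatorElement
open Cfsg.Agent.Helper33 (card_conj_smul IsSylIn exists_isSylIn_ge exists_isSylIn mem_conj_smul
  conj_mem_conj_smul smul_eq_of_mem_normalizer mem_normalizer_iff_smul_eq)
open Cfsg.Agent.Helper34.BG
open Cfsg.Agent.Helper38.BG128

variable {G : Type*} [Group G] [Finite G]

/-- The regularity hypothesis `h` of S1421. -/
def Hreg (M E : Subgroup G) : Prop :=
  ∀ e ∈ E, e ≠ 1 → (∀ p : ℕ, p.Prime → p ∣ orderOf e → p ∈ tau1 M ∪ tau3 M) →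
    sigmaCore M ⊓ centralizer ({e} : Set G) = ⊥

/-- The conclusion of the frozen statement S1418. -/
def C1418 (M E : Subgroup G) (p : ℕ) (A : Subgroup G) : Prop :=
  (E ≤ Subgroup.normalizer (A : Set G) ∧ ∀ X : Subgroup G, X ≤ E → Nat.card X = p → X ≤ A) ∧
    (Subgroup.centralizer (A : Set G) ≤ M ⊓ Subgroup.normalizer (A : Set G) ∧
      M ⊓ Subgroup.normalizer (A : Set G) = E ∧ ¬ Subgroup.normalizer (A : Set G) ≤ M) ∧
    ∀ X : Subgroup G, X ≤ A → Nat.card X = p →
      Cfsg.sigmaCore M ⊓ Subgroup.centralizer (X : Set G) ≠ ⊥ →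
      (Subgroup.centralizer (X : Set G) ≤ M ∧
        ∀ L : Subgroup G, IsCoatom L → Subgroup.centralizer (X : Set G) ≤ L → L = M)

/-- S1418 for all primes of `τ₂(M)`. -/
def H18 (M E : Subgroup G) : Prop :=
  ∀ (p : ℕ) [Fact p.Prime], p ∈ Cfsg.tau2 M → ∀ A : Subgroup G,
    (A ≤ E ∧ Cfsg.IsElementaryAbelian p A ∧ Nat.card A = p ^ 2) → C1418 M E p A

/-- The conclusion of S1411 for all Sylow subgroups. -/
def H11 (G : Type*) [Group G] : Prop :=
  ∀ (p : ℕ) [Fact p.Prime] (P : Sylow p G) (V : Subgroup G),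
    Cfsg.IsComplIn (P : Subgroup G) V (Subgroup.normalizer ((P : Subgroup G) : Set G)) →
    (P : Subgroup G) = ⁅(P : Subgroup G), V⁆ ∧
      (P : Subgroup G) ≤ ⁅Subgroup.normalizer ((P : Subgroup G) : Set G),
        Subgroup.normalizer ((P : Subgroup G) : Set G)⁆

/-- Schur–Zassenhaus: a Sylow `p`-subgroup has a complement in its normalizer
(copy of `Helper30.BGFus.exists_isComplIn_normalizer`, to keep the import closure small). -/
theorem exists_isComplIn_normalizer {p : ℕ} [Fact p.Prime] (P : Sylow p G) :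
    ∃ V : Subgroup G,
      Cfsg.IsComplIn (P : Subgroup G) V (Subgroup.normalizer ((P : Subgroup G) : Set G)) := by
  classical
  set N := Subgroup.normalizer ((P : Subgroup G) : Set G) with hN
  have hPN : (P : Subgroup G) ≤ N := Subgroup.le_normalizer
  have hnorm : ((P : Subgroup G).subgroupOf N).Normal := Subgroup.normal_in_normalizer
  have hcard : Nat.card ((P : Subgroup G).subgroupOf N) = Nat.card (P : Subgroup G) :=
    Nat.card_congr (Subgroup.subgroupOfEquivOfLe hPN).toEquiv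
  have hidx : ¬ p ∣ ((P : Subgroup G).subgroupOf N).index := by
    intro h
    apply P.not_dvd_index
    have h1 : ((P : Subgroup G).subgroupOf N).index = (P : Subgroup G).relIndex N := rfl
    rw [h1] at h
    exact h.trans (Subgroup.relIndex_dvd_index_of_le hPN)
  have hcop : Nat.Coprime (Nat.card ((P : Subgroup G).subgroupOf N))
      ((P : Subgroup G).subgroupOf N).index := by
    rw [hcard]
    obtain ⟨n, hn⟩ := P.isPGroup'.exists_card_eq
    rw [hn]
    apply Nat.Coprime.pow_left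
    exact (Nat.Prime.coprime_iff_not_dvd Fact.out).2 hidx
  obtain ⟨H, hH⟩ := Subgroup.exists_right_complement'_of_coprime hcop
  refine ⟨H.map N.subtype, ⟨hPN, Subgroup.map_subtype_le _, ?_, ?_⟩⟩
  · rw [eq_bot_iff]
    rintro x ⟨hxP, ⟨h, hh, rfl⟩⟩
    have h1 : h ∈ (P : Subgroup G).subgroupOf N ⊓ H := ⟨hxP, hh⟩
    rw [hH.disjoint.eq_bot, Subgroup.mem_bot] at h1
    rw [h1]; exact Subgroup.one_mem _
  · intro m hm
    obtain ⟨⟨a, b⟩, hab, -⟩ := (Subgroup.isComplement'_def.1 hH).existsUnique ⟨m, hm⟩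
    refine ⟨(a : N), a.2, (b : N), ⟨b, b.2, rfl⟩, ?_⟩
    have := congrArg Subtype.val hab
    simpa using this.symm

/-- (KL₀) If `H` (odd order, solvable) normalizes a `q`-group `R` of rank at most 2, then every
element of `⁅H, H⁆` has a `q`-power power centralizing `R`. -/
theorem exists_pow_mem_centralizer {q : ℕ} [Fact q.Prime] (hq2 : q ≠ 2) {H R : Subgroup G}
    (hR : IsPGroup q R) (hrk : PRankLE q 2 R) (hHR : H ≤ normalizer (R : Set G))
    (hodd : Odd (Nat.card H)) (hsolv : Group.IsSolvable H) {x : G} (hx : x ∈ ⁅H, H⁆) :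
    ∃ k : ℕ, x ^ (q ^ k) ∈ centralizer (R : Set G) := by
  classical
  let φ : ↥H →* MulAut ↥R := R.normalizerMonoidHom.comp (Subgroup.inclusion hHR)
  let X : Subgroup (MulAut ↥R) := φ.range
  have hXodd : Odd (Nat.card X) := Odd.of_dvd_nat hodd (Subgroup.card_range_dvd φ)
  have hXsolv : Group.IsSolvable X := Group.isSolvable_of_surjective φ.rangeRestrict_surjective
  have hpg : IsPGroup q (commutator X) :=
    Cfsg.Agent.Helper24.RankTwoAut.isPGroup_commutator_of_rank_two hq2 hR hrk X.subtype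
      X.subtype_injective hXodd hXsolv
  rw [← Subgroup.map_subtype_commutator] at hx
  obtain ⟨y, hy, rfl⟩ := hx
  have hy' : φ.rangeRestrict y ∈ commutator X := by
    have h1 : (commutator ↥H).map φ.rangeRestrict ≤ commutator X := by
      rw [commutator_def, commutator_def, Subgroup.map_commutator]
      exact Subgroup.commutator_mono le_top le_top
    exact h1 ⟨y, hy, rfl⟩
  obtain ⟨k, hk⟩ := hpg ⟨_, hy'⟩
  refine ⟨k, ?_⟩
  have h2 : (φ.rangeRestrict y) ^ (q ^ k) = 1 := by
    have := congrArg Subtype.val hk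
    simpa using this
  have h3 : φ (y ^ (q ^ k)) = 1 := by
    have := congrArg Subtype.val h2
    simpa using this
  have h4 : Subgroup.inclusion hHR (y ^ (q ^ k)) ∈ R.normalizerMonoidHom.ker := by
    rw [MonoidHom.mem_ker]
    exact h3
  rw [Subgroup.normalizerMonoidHom_ker, Subgroup.mem_subgroupOf] at h4
  simpa using h4

omit [Finite G] in
/-- Bezout: if coprime powers of `x` lie in `C`, so does `x`. -/
theorem mem_of_coprime_pow_mem {C : Subgroup G} {x : G} {a b : ℕ} (hab : a.Coprime b)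
    (ha : x ^ a ∈ C) (hb : x ^ b ∈ C) : x ∈ C := by
  have h1 : IsCoprime (a : ℤ) (b : ℤ) := Nat.isCoprime_iff_coprime.mpr hab
  obtain ⟨u, v, huv⟩ := h1
  have h2 : x = (x ^ a) ^ u * (x ^ b) ^ v := by
    rw [← zpow_natCast x a, ← zpow_natCast x b, ← zpow_mul, ← zpow_mul, ← zpow_add,
      mul_comm (a : ℤ) u, mul_comm (b : ℤ) v, huv, zpow_one]
  rw [h2]
  exact C.mul_mem (C.zpow_mem ha u) (C.zpow_mem hb v)

/-- (gen) A subgroup containing every prime-power-order element of `⟨b⟩` contains `b`. -/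
theorem mem_of_prime_pow_parts {C : Subgroup G} (b : G)
    (h : ∀ y ∈ Subgroup.zpowers b, ∀ q k : ℕ, q.Prime → y ^ (q ^ k) = 1 → y ∈ C) : b ∈ C := by
  induction' hn : orderOf b using Nat.strong_induction_on with n ih generalizing b
  by_cases hn1 : n = 1
  · rw [hn1] at hn
    rw [orderOf_eq_one_iff.mp hn]; exact C.one_mem
  have hn0 : n ≠ 0 := by rw [← hn]; exact (orderOf_pos b).ne'
  set q := n.minFac with hq
  have hqp : q.Prime := Nat.minFac_prime hn1
  obtain ⟨k, m, hqm, hnkm⟩ := Nat.exists_eq_pow_mul_and_not_dvd hn0 q hqp.ne_one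
  have hm0 : m ≠ 0 := by rintro rfl; exact hn0 (by rw [hnkm, mul_zero])
  have hk0 : k ≠ 0 := by
    rintro rfl
    apply hqm
    have : q ∣ n := Nat.minFac_dvd n
    rwa [hnkm, pow_zero, one_mul] at this
  have hcop : (q ^ k).Coprime m := Nat.Coprime.pow_left _ ((Nat.Prime.coprime_iff_not_dvd hqp).mpr hqm)
  apply mem_of_coprime_pow_mem hcop
  · -- `b ^ (q ^ k)` has order `m < n`
    have hord : orderOf (b ^ (q ^ k)) = m := by
      rw [orderOf_pow_of_dvd (pow_ne_zero _ hqp.ne_zero) (by rw [hn, hnkm]; exact Dvd.intro _ rfl),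
        hn, hnkm, Nat.mul_div_cancel_left _ (pow_pos hqp.pos k)]
    have hlt : m < n := by
      rw [hnkm]
      have : 1 < q ^ k := Nat.one_lt_pow hk0 hqp.one_lt
      nlinarith [Nat.pos_of_ne_zero hm0]
    apply ih m hlt (b ^ (q ^ k)) _ hord
    intro y hy
    apply h y
    exact (Subgroup.zpowers_le.mpr (Subgroup.pow_mem _ (Subgroup.mem_zpowers b) _)) hy
  · apply h (b ^ m) (Subgroup.pow_mem _ (Subgroup.mem_zpowers b) _) q k hqp
    rw [← pow_mul, mul_comm, ← hnkm, ← hn, pow_orderOf_eq_one]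

omit [Finite G] in
/-- The `q`-primary part of an abelian subgroup `D`. -/
def primePart (D : Subgroup G) (hD : ∀ a ∈ D, ∀ b ∈ D, a * b = b * a) (q : ℕ) : Subgroup G where
  carrier := {d | d ∈ D ∧ ∃ k : ℕ, d ^ (q ^ k) = 1}
  one_mem' := ⟨D.one_mem, 0, by simp⟩
  mul_mem' := by
    rintro a b ⟨ha, k, hk⟩ ⟨hb, l, hl⟩
    refine ⟨D.mul_mem ha hb, k + l, ?_⟩
    have hc : Commute a b := hD a ha b hb
    rw [hc.mul_pow, pow_add, pow_mul, hk, one_pow, mul_comm (q ^ k), pow_mul, hl, one_pow, one_mul]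
  inv_mem' := by
    rintro a ⟨ha, k, hk⟩
    exact ⟨D.inv_mem ha, k, by rw [inv_pow, hk, inv_one]⟩

omit [Finite G] in
theorem mem_primePart {D : Subgroup G} {hD : ∀ a ∈ D, ∀ b ∈ D, a * b = b * a} {q : ℕ} {d : G} :
    d ∈ primePart D hD q ↔ d ∈ D ∧ ∃ k : ℕ, d ^ (q ^ k) = 1 := Iff.rfl

omit [Finite G] in
theorem primePart_le (D : Subgroup G) (hD : ∀ a ∈ D, ∀ b ∈ D, a * b = b * a) (q : ℕ) :
    primePart D hD q ≤ D := fun _ hd => hd.1

omit [Finite G] in
theorem isPGroup_primePart (D : Subgroup G) (hD : ∀ a ∈ D, ∀ b ∈ D, a * b = b * a) (q : ℕ) :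
    IsPGroup q (primePart D hD q) := by
  rintro ⟨d, hd⟩
  obtain ⟨k, hk⟩ := hd.2
  exact ⟨k, Subtype.ext (by simpa using hk)⟩

omit [Finite G] in
theorem normalizer_le_normalizer_primePart (D : Subgroup G)
    (hD : ∀ a ∈ D, ∀ b ∈ D, a * b = b * a) (q : ℕ) :
    normalizer (D : Set G) ≤ normalizer ((primePart D hD q : Subgroup G) : Set G) := by
  have key : ∀ g ∈ normalizer (D : Set G), ∀ d ∈ primePart D hD q,
      g * d * g⁻¹ ∈ primePart D hD q := by
    rintro g hg d ⟨hd, k, hk⟩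
    refine ⟨(Subgroup.mem_normalizer_iff.mp hg d).mp hd, k, ?_⟩
    rw [conj_pow, hk, mul_one, mul_inv_cancel]
  intro g hg
  rw [Subgroup.mem_normalizer_iff]
  intro d
  refine ⟨key g hg d, fun h => ?_⟩
  have := key g⁻¹ (Subgroup.inv_mem _ hg) _ h
  simpa [mul_assoc] using this

/-- A normal Sylow subgroup of `X` is normalized by everything normalizing `X`. -/
theorem mem_normalizer_of_sylow_normal {p : ℕ} [Fact p.Prime] {P X : Subgroup G}
    (hP : IsSylIn p P X) (hPX : X ≤ normalizer (P : Set G)) {g : G}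
    (hg : g ∈ normalizer (X : Set G)) : g ∈ normalizer (P : Set G) := by
  have hP' := hP.conj g
  rw [smul_eq_of_mem_normalizer hg] at hP'
  obtain ⟨x, hx, hle⟩ := hP.exists_conj_le hP'.2.1 hP'.1
  have h1 : MulAut.conj x • (MulAut.conj g • P) = P := by
    apply Subgroup.eq_of_le_of_card_ge hle
    rw [card_conj_smul, card_conj_smul]
  have h2 : MulAut.conj x • P = P := smul_eq_of_mem_normalizer (hPX hx)
  rw [mem_normalizer_iff_smul_eq]
  have h3 : MulAut.conj x • (MulAut.conj g • P) = MulAut.conj x • P := by rw [h1, h2]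
  exact smul_left_cancel _ h3

/-- A Sylow `p`-subgroup of a complement `E` of `M_σ` is a Sylow subgroup of `M` if `p ∉ σ(M)`. -/
theorem isSylIn_of_compl {M E : Subgroup G} (hσ : IsPiHallOf (sigma M) (sigmaCore M) M)
    (hE : IsComplIn E (sigmaCore M) M) {p : ℕ} [Fact p.Prime] (hpσ : p ∉ sigma M)
    {P : Subgroup G} (hP : IsSylIn p P E) : IsSylIn p P M := by
  have hpp : p.Prime := Fact.out
  have hEidx : E.relIndex M = Nat.card (sigmaCore M) := by
    have h2 : Nat.card (E.subgroupOf M) * (E.subgroupOf M).index = Nat.card M :=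
      Subgroup.card_mul_index _
    rw [card_subgroupOf_of_le hE.1, card_eq_of_isComplIn' hE] at h2
    exact Nat.eq_of_mul_eq_mul_left Nat.card_pos h2
  refine ⟨hP.1.trans hE.1, hP.2.1, ?_⟩
  rw [← Subgroup.relIndex_mul_relIndex P E M hP.1 hE.1]
  intro hdvd
  rcases (Nat.Prime.dvd_mul hpp).mp hdvd with h | h
  · exact hP.2.2 h
  · rw [hEidx] at h
    exact hpσ (hσ.2.1 p hpp h)

/-- An elementary abelian subgroup of order `p²` inside a Sylow `p`-subgroup of `E`, `p ∈ τ₂(M)`. -/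
theorem exists_elemAb_le {M E : Subgroup G} (hσ : IsPiHallOf (sigma M) (sigmaCore M) M)
    (hE : IsComplIn E (sigmaCore M) M) {p : ℕ} [Fact p.Prime] (hp : p ∈ tau2 M)
    {P : Subgroup G} (hP : IsSylIn p P E) :
    ∃ A : Subgroup G, A ≤ P ∧ IsElementaryAbelian p A ∧ Nat.card A = p ^ 2 := by
  obtain ⟨A₁, hA₁M, hA₁, hA₁c⟩ := exists_elemAb_sq (p := p) hp.2.2.2
  have hPM := isSylIn_of_compl hσ hE hp.2.1 hP
  obtain ⟨u, -, hle⟩ := hPM.exists_conj_le (isElementaryAbelian_isPGroup hA₁) hA₁M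
  refine ⟨MulAut.conj u • A₁, hle, isElementaryAbelian_conj hA₁ u, ?_⟩
  rw [card_conj_smul]; exact hA₁c

omit [Finite G] in
theorem le_normalizer_of_conj_mem {C X : Subgroup G}
    (h : ∀ c ∈ C, ∀ x ∈ X, c * x * c⁻¹ ∈ X) : C ≤ normalizer (X : Set G) := by
  intro c hc
  rw [Subgroup.mem_normalizer_iff]
  intro x
  refine ⟨h c hc x, fun hx => ?_⟩
  have := h c⁻¹ (C.inv_mem hc) _ hx
  simpa [mul_assoc] using this

omit [Finite G] in
theorem commutator_self_le (C : Subgroup G) : ⁅C, C⁆ ≤ C :=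
  Subgroup.commutator_le.mpr fun a ha b hb => by
    rw [commutatorElement_def]
    exact C.mul_mem (C.mul_mem (C.mul_mem ha hb) (C.inv_mem ha)) (C.inv_mem hb)

omit [Finite G] in
/-- A subgroup between `⁅C, C⁆` and `C` is normal in `C`. -/
theorem le_normalizer_of_commutator_le {C X : Subgroup G} (hXC : X ≤ C) (hD : ⁅C, C⁆ ≤ X) :
    C ≤ normalizer (X : Set G) := by
  apply le_normalizer_of_conj_mem
  intro c hc x hx
  have h1 : c * x * c⁻¹ = ⁅c, x⁆ * x := by rw [commutatorElement_def]; group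
  rw [h1]
  exact X.mul_mem (hD (Subgroup.commutator_mem_commutator hc (hXC hx))) hx

omit [Finite G] in
theorem normalizer_le_normalizer_centralizer (A : Subgroup G) :
    normalizer (A : Set G) ≤ normalizer ((centralizer (A : Set G) : Subgroup G) : Set G) := by
  intro g hg
  rw [mem_normalizer_iff_smul_eq, ← Cfsg.Agent.Helper33.centralizer_conj_smul,
    smul_eq_of_mem_normalizer hg]

omit [Finite G] in
theorem normalizer_le_normalizer_commutator (C : Subgroup G) :
    normalizer (C : Set G) ≤ normalizer ((⁅C, C⁆ : Subgroup G) : Set G) := by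
  intro g hg
  rw [mem_normalizer_iff_smul_eq, ← Cfsg.Agent.Helper33.map_conj_eq_smul, Subgroup.map_commutator,
    Cfsg.Agent.Helper33.map_conj_eq_smul, smul_eq_of_mem_normalizer hg]

/-- **Case II structure.**  `p ∈ τ₂(M)`, all Sylow `p`-subgroups of `G` abelian, `P` a Sylow
`p`-subgroup of `E`, `A ≤ P` elementary abelian of order `p²`. -/
theorem caseII_structure (hG : IsMinSimpleOddOrder G) {M E : Subgroup G} (hM : IsCoatom M)
    (hE : IsComplIn E (sigmaCore M) M)
    (hσ : IsPiHallOf (sigma M) (sigmaCore M) M)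
    (hα : IsPiHallOf (alpha M) (alphaCore M) M) (hασ : alphaCore M ≤ sigmaCore M)
    (h11 : H11 G) (h17 : H17 M) (h18 : H18 M E)
    (h20 : IsMulCommutative ↥⁅E, E⁆)
    {p : ℕ} [Fact p.Prime] (hp : p ∈ tau2 M)
    (hab : ∀ S : Sylow p G, IsMulCommutative (S : Subgroup G))
    {P : Subgroup G} (hP : IsSylIn p P E)
    {A : Subgroup G} (hAP : A ≤ P) (hA : IsElementaryAbelian p A) (hAc : Nat.card A = p ^ 2) :
    E ≤ normalizer (P : Set G) ∧ ¬ p ∣ P.index ∧ (∀ a ∈ P, ∀ b ∈ P, a * b = b * a) ∧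
      normalizer (P : Set G) = normalizer (A : Set G) ∧
      ⁅normalizer (A : Set G), normalizer (A : Set G)⁆ ≤ centralizer (A : Set G) ∧
      normalizer (A : Set G) ≤ normalizer (E : Set G) := by
  classical
  have hpp : p.Prime := Fact.out
  have hpσ : p ∉ sigma M := hp.2.1
  have hPM := isSylIn_of_compl hσ hE hpσ hP
  have hAE : A ≤ E := hAP.trans hP.1
  have hAM : A ≤ M := hAE.trans hE.1
  have h17A := h17 p hp A ⟨hAM, hA, hAc⟩
  have h18A := h18 p hp A ⟨hAE, hA, hAc⟩
  have hPc : ∀ u ∈ P, ∀ v ∈ P, u * v = v * u := sylIn_comm h17A hPM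
  have hΩ : ∀ g ∈ P, g ^ p = 1 ↔ g ∈ A := sylIn_omega h17A hPM hAP
  have hC₀E : centralizer (A : Set G) ≤ E := by
    have := h18A.2.1.1
    rw [h18A.2.1.2.1] at this
    exact this
  have hEA : E ≤ normalizer (A : Set G) := h18A.1.1
  -- `P` is a Sylow subgroup of `G`
  obtain ⟨S, hPS⟩ := hP.2.1.exists_le_sylow
  have hSc := hab S
  have hSC : (S : Subgroup G) ≤ centralizer (A : Set G) := by
    intro s hs
    rw [Subgroup.mem_centralizer_iff]
    intro a ha
    have := hSc.is_comm.comm ⟨a, hPS (hAP ha)⟩ ⟨s, hs⟩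
    exact congrArg Subtype.val this
  have hSP : (S : Subgroup G) = P := hP.eq_of_le S.isPGroup' (hSC.trans hC₀E) hPS
  have hidx : ¬ p ∣ P.index := by rw [← hSP]; exact S.not_dvd_index
  -- `N_G(P) ≤ N_G(A)`
  have hHA : normalizer (P : Set G) ≤ normalizer (A : Set G) := by
    apply le_normalizer_of_conj_mem
    intro g hg a ha
    have h1 : g * a * g⁻¹ ∈ P := (Subgroup.mem_normalizer_iff.mp hg a).mp (hAP ha)
    rw [← hΩ _ h1, conj_pow, (hΩ a (hAP ha)).mpr ha, mul_one, mul_inv_cancel]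
  have hA1 : Nat.card A ≠ 1 := by
    rw [hAc]
    exact (Nat.one_lt_pow (by norm_num) hpp.one_lt).ne'
  have hA0 : A ≠ ⊥ := by
    rintro rfl
    exact hA1 Subgroup.card_bot
  have hP0 : P ≠ ⊥ := by
    rintro rfl
    exact hA0 (le_bot_iff.mp hAP)
  have hP1 : P ≠ ⊤ := by
    rintro rfl
    exact hM.1 (top_le_iff.mp hPM.1)
  have hAtop : A ≠ ⊤ := by
    rintro rfl
    exact hP1 (top_le_iff.mp hAP)
  set H := normalizer (P : Set G) with hH
  have hHtop : H ≠ ⊤ := normalizer_ne_top hG hP0 hP1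
  have hHsolv : Group.IsSolvable H := solvable_of_ne_top hG hHtop
  have hHodd : Odd (Nat.card H) := odd_card_subgroup hG H
  have hPHH : P ≤ ⁅H, H⁆ := by
    obtain ⟨V, hV⟩ := exists_isComplIn_normalizer S
    have := (h11 p S V hV).2
    rw [hSP] at this
    exact this
  set C₀ := centralizer (A : Set G) with hC₀
  have hPC₀ : P ≤ C₀ := by
    intro x hx
    rw [Subgroup.mem_centralizer_iff]
    intro a ha
    exact hPc a (hAP ha) x hx
  set D := ⁅C₀, C₀⁆ with hD
  have hDE : D ≤ ⁅E, E⁆ := Subgroup.commutator_mono hC₀E hC₀E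
  have hDc : ∀ a ∈ D, ∀ b ∈ D, a * b = b * a := by
    intro a ha b hb
    have := h20.is_comm.comm ⟨a, hDE ha⟩ ⟨b, hDE hb⟩
    exact congrArg Subtype.val this
  have hDC₀ : D ≤ C₀ := commutator_self_le C₀
  have hNC : normalizer (A : Set G) ≤ normalizer (C₀ : Set G) :=
    normalizer_le_normalizer_centralizer A
  have hND : normalizer (C₀ : Set G) ≤ normalizer (D : Set G) :=
    normalizer_le_normalizer_commutator C₀
  have hNR : ∀ q : ℕ, normalizer (A : Set G) ≤
      normalizer ((primePart D hDc q : Subgroup G) : Set G) := fun q =>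
    hNC.trans (hND.trans (normalizer_le_normalizer_primePart D hDc q))
  -- `P` centralizes `D`
  have hDP : D ≤ centralizer (P : Set G) := by
    intro b hb
    apply mem_of_prime_pow_parts b
    intro y hy q k hq hyk
    have hyD : y ∈ D := (Subgroup.zpowers_le.mpr hb) hy
    have hyE : y ∈ E := hC₀E (hDC₀ hyD)
    by_cases hy1 : y = 1
    · rw [hy1]; exact Subgroup.one_mem _
    haveI : Fact q.Prime := ⟨hq⟩
    have hyR : y ∈ primePart D hDc q := ⟨hyD, k, hyk⟩
    by_cases hqp : q = p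
    · rw [hqp] at hyR
      have hyP : y ∈ P := by
        obtain ⟨x, hx, hle⟩ := hP.exists_conj_le (isPGroup_primePart D hDc p)
          ((primePart_le D hDc p).trans (hDC₀.trans hC₀E))
        rw [smul_eq_of_mem_normalizer ((hEA.trans (hNR p)) hx)] at hle
        exact hle hyR
      rw [Subgroup.mem_centralizer_iff]
      intro u hu
      exact hPc u hu y hyP
    · have hqy : q ∣ orderOf y := by
        have h1 : orderOf y ∣ q ^ k := orderOf_dvd_of_pow_eq_one hyk
        obtain ⟨i, -, hi⟩ := (Nat.dvd_prime_pow hq).mp h1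
        rcases Nat.eq_zero_or_pos i with h0 | h0
        · rw [h0, pow_zero] at hi
          exact absurd (orderOf_eq_one_iff.mp hi) hy1
        · rw [hi]; exact dvd_pow_self q h0.ne'
      have hqE : q ∣ Nat.card E := hqy.trans (Subgroup.orderOf_dvd_natCard E hyE)
      have hqσ : q ∉ sigma M := not_mem_sigma_of_dvd' hσ hE hq hqE
      have hRM : primePart D hDc q ≤ M :=
        (primePart_le D hDc q).trans (hDC₀.trans (hC₀E.trans hE.1))
      have hrk : PRankLE q 2 ↥(primePart D hDc q) :=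
        pRankLE_mono hRM (Cfsg.Agent.Helper55.BGB.prankLE_two_of_not_mem_sigma hq hα hασ hqσ)
      have hq2 : q ≠ 2 := prime_ne_two hG E hqE
      have hPR : P ≤ centralizer ((primePart D hDc q : Subgroup G) : Set G) := by
        intro u hu
        obtain ⟨j, hj⟩ := exists_pow_mem_centralizer hq2 (isPGroup_primePart D hDc q) hrk
          (hHA.trans (hNR q)) hHodd hHsolv (hPHH hu)
        obtain ⟨i, hi⟩ := hP.2.1 ⟨u, hu⟩
        have hi' : u ^ (p ^ i) = 1 := by
          have := congrArg Subtype.val hi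
          simpa using this
        have hcop : (q ^ j).Coprime (p ^ i) :=
          Nat.Coprime.pow _ _ ((Nat.coprime_primes hq hpp).mpr hqp)
        exact mem_of_coprime_pow_mem hcop hj (by rw [hi']; exact Subgroup.one_mem _)
      rw [Subgroup.mem_centralizer_iff]
      intro u hu
      exact ((Subgroup.mem_centralizer_iff.mp (hPR hu)) y hyR).symm
  -- `P ⊴ P ⊔ D ⊴ C₀ ⊴ E`
  have hX₁E : P ⊔ D ≤ E := sup_le hP.1 (hDC₀.trans hC₀E)
  have hX₁C₀ : P ⊔ D ≤ C₀ := sup_le hPC₀ hDC₀
  have hX₁P : P ⊔ D ≤ normalizer (P : Set G) :=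
    sup_le Subgroup.le_normalizer (hDP.trans (Subgroup.centralizer_le_normalizer _))
  have hC₀X₁ : C₀ ≤ normalizer ((P ⊔ D : Subgroup G) : Set G) :=
    le_normalizer_of_commutator_le hX₁C₀ le_sup_right
  have hC₀P : C₀ ≤ normalizer (P : Set G) := fun c hc =>
    mem_normalizer_of_sylow_normal (hP.of_le le_sup_left hX₁E) hX₁P (hC₀X₁ hc)
  have hPsylC₀ : IsSylIn p P C₀ := hP.of_le hPC₀ hC₀E
  have hNP : normalizer (A : Set G) ≤ normalizer (P : Set G) := fun g hg =>
    mem_normalizer_of_sylow_normal hPsylC₀ hC₀P (hNC hg)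
  have hEP : E ≤ normalizer (P : Set G) := hEA.trans hNP
  -- `N/C₀` is abelian
  set N := normalizer (A : Set G) with hN
  have hNtop : N ≠ ⊤ := normalizer_ne_top hG hA0 hAtop
  have hNsolv : Group.IsSolvable N := solvable_of_ne_top hG hNtop
  have hNodd : Odd (Nat.card N) := odd_card_subgroup hG N
  have hC₀N : C₀ ≤ N := Subgroup.centralizer_le_normalizer _
  have hAp : IsPGroup p A := isElementaryAbelian_isPGroup hA
  have hArk : PRankLE p 2 ↥A := by
    intro B _ _
    rw [← hAc]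
    exact Subgroup.card_le_card_group B
  have hp2 : p ≠ 2 := by
    apply prime_ne_two hG A
    rw [hAc]; exact dvd_pow_self p (by norm_num)
  have hrel : ¬ p ∣ C₀.relIndex N := fun h =>
    hidx ((h.trans (Subgroup.relIndex_dvd_index_of_le hC₀N)).trans
      (Subgroup.index_dvd_of_le hPC₀))
  have hNN : ⁅N, N⁆ ≤ C₀ := by
    intro x hx
    have hxN : x ∈ N := commutator_self_le N hx
    obtain ⟨k, hk⟩ := exists_pow_mem_centralizer hp2 hAp hArk (le_refl N) hNodd hNsolv hx
    haveI : (C₀.subgroupOf N).Normal :=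
      (Subgroup.normal_subgroupOf_iff_le_normalizer hC₀N).mpr hNC
    have h1 : (⟨x, hxN⟩ : ↥N) ^ (C₀.relIndex N) ∈ C₀.subgroupOf N :=
      Subgroup.pow_index_mem (C₀.subgroupOf N) (⟨x, hxN⟩ : ↥N)
    rw [Subgroup.mem_subgroupOf] at h1
    have h2 : x ^ (C₀.relIndex N) ∈ C₀ := by simpa using h1
    have hcop : (p ^ k).Coprime (C₀.relIndex N) :=
      Nat.Coprime.pow_left _ ((Nat.Prime.coprime_iff_not_dvd hpp).mpr hrel)
    exact mem_of_coprime_pow_mem hcop hk h2
  have hNE : N ≤ normalizer (E : Set G) :=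
    le_normalizer_of_commutator_le hEA (hNN.trans hC₀E)
  exact ⟨hEP, hidx, hPc, le_antisymm hHA hNP, hNN, hNE⟩

/-- bad line ↦ good line: if `X ≤ A` of order `p` has `C_{M_σ}(X) ≠ 1` and `n ∈ N_G(A) ∖ M`, then
`C_{M_σ}(Xⁿ) = 1`. -/
theorem good_conj (hG : IsMinSimpleOddOrder G) {M E : Subgroup G} (hM : IsCoatom M) {p : ℕ}
    {A : Subgroup G} (h18A : C1418 M E p A) {X : Subgroup G} (hXA : X ≤ A) (hX : Nat.card X = p)
    (hbad : sigmaCore M ⊓ centralizer (X : Set G) ≠ ⊥) {n : G}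
    (hn : n ∈ normalizer (A : Set G)) (hnM : n ∉ M) :
    sigmaCore M ⊓ centralizer ((MulAut.conj n • X : Subgroup G) : Set G) = ⊥ := by
  by_contra hbad'
  have hX'A : MulAut.conj n • X ≤ A := by
    rw [← smul_eq_of_mem_normalizer hn]
    exact Cfsg.Agent.Helper33.conj_smul_le_conj_smul hXA
  have hX' : Nat.card (MulAut.conj n • X : Subgroup G) = p := by rw [card_conj_smul]; exact hX
  obtain ⟨h1, h2⟩ := h18A.2.2 X hXA hX hbad
  obtain ⟨h3, -⟩ := h18A.2.2 _ hX'A hX' hbad'
  rw [Cfsg.Agent.Helper33.centralizer_conj_smul] at h3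
  have h4 : centralizer (X : Set G) ≤ MulAut.conj n⁻¹ • M := by
    intro x hx
    rw [mem_conj_smul]
    have := h3 (conj_mem_conj_smul (g := n) hx)
    simpa using this
  have h5 : MulAut.conj n⁻¹ • M = M := h2 _ (isCoatom_conj hM _) h4
  have h6 : n⁻¹ ∈ normalizer (M : Set G) := mem_normalizer_iff_smul_eq.mpr h5
  rw [normalizer_coatom hG hM] at h6
  exact hnM (by simpa using M.inv_mem h6)

/-- (GL') a line of `A` normalized by some `n ∈ N_G(A) ∖ M` (e.g. by all of `N_G(A)`) is good. -/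
theorem good_of_mem_normalizer (hG : IsMinSimpleOddOrder G) {M E : Subgroup G} (hM : IsCoatom M)
    {p : ℕ} {A : Subgroup G} (h18A : C1418 M E p A) {X : Subgroup G} (hXA : X ≤ A)
    (hX : Nat.card X = p) {n : G} (hn : n ∈ normalizer (A : Set G)) (hnM : n ∉ M)
    (hnX : n ∈ normalizer (X : Set G)) :
    sigmaCore M ⊓ centralizer (X : Set G) = ⊥ := by
  by_contra hbad
  have := good_conj hG hM h18A hXA hX hbad hn hnM
  rw [smul_eq_of_mem_normalizer hnX] at this
  exact hbad this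

/-- (GL') a line of `A` normalized by `N_G(A)` is good. -/
theorem good_of_normalizer_le (hG : IsMinSimpleOddOrder G) {M E : Subgroup G} (hM : IsCoatom M)
    {p : ℕ} {A : Subgroup G} (h18A : C1418 M E p A) {X : Subgroup G} (hXA : X ≤ A)
    (hX : Nat.card X = p) (hN : normalizer (A : Set G) ≤ normalizer (X : Set G)) :
    sigmaCore M ⊓ centralizer (X : Set G) = ⊥ := by
  obtain ⟨n, hn, hnM⟩ := SetLike.not_le_iff_exists.mp h18A.2.1.2.2
  exact good_of_mem_normalizer hG hM h18A hXA hX hn hnM (hN hn)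

/-- (GL, glue) if `E` normalizes some line of `A` and `E ⊴ N_G(A)`, then `E` normalizes a GOOD
line of `A`. -/
theorem exists_invariant_good_line_of_invariant_line (hG : IsMinSimpleOddOrder G)
    {M E : Subgroup G} (hM : IsCoatom M) {p : ℕ} {A : Subgroup G} (h18A : C1418 M E p A)
    (hNE : normalizer (A : Set G) ≤ normalizer (E : Set G))
    (hline : ∃ X : Subgroup G, X ≤ A ∧ Nat.card X = p ∧ E ≤ normalizer (X : Set G)) :
    ∃ L : Subgroup G, L ≤ A ∧ Nat.card L = p ∧ E ≤ normalizer (L : Set G) ∧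
      sigmaCore M ⊓ centralizer (L : Set G) = ⊥ := by
  obtain ⟨X, hXA, hX, hEX⟩ := hline
  by_cases hbad : sigmaCore M ⊓ centralizer (X : Set G) = ⊥
  · exact ⟨X, hXA, hX, hEX, hbad⟩
  obtain ⟨n, hn, hnM⟩ := SetLike.not_le_iff_exists.mp h18A.2.1.2.2
  refine ⟨MulAut.conj n • X, ?_, ?_, ?_, good_conj hG hM h18A hXA hX hbad hn hnM⟩
  · rw [← smul_eq_of_mem_normalizer hn]
    exact Cfsg.Agent.Helper33.conj_smul_le_conj_smul hXA
  · rw [card_conj_smul]; exact hX
  · rw [Cfsg.Agent.Helper33.normalizer_conj_smul, ← smul_eq_of_mem_normalizer (hNE hn)]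
    exact Cfsg.Agent.Helper33.conj_smul_le_conj_smul hEX

end Cfsg.Agent.Helper38.BG1213
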