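import Cfsg.Agent.Lib.Helper38.BG1213b

/-!
# Bender–Glauberman 12.13 (statement S1421), Case II: the hypotheses needed by the "invariant line"
argument (`E' ≤ C_G(A)`, the `τ₂`-Sylow subgroups of `E` centralize `A`).
-/

set_option autoImplicit false
set_option linter.style.haveILetI false
set_option linter.unusedSectionVars false
open Pointwise

namespace Cfsg.Agent.Helper38.BG1213

open Subgroup Cfsg
open scoped commutatorElement
open Cfsg.Agent.Helper33 (card_conj_smul IsSylIn exists_isSylIn_ge exists_isSylIn mem_conj_smul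
  conj_mem_conj_smul smul_eq_of_mem_normalizer mem_normalizer_iff_smul_eq)
open Cfsg.Agent.Helper34.BG
open Cfsg.Agent.Helper38.BG128

variable {G : Type*} [Group G] [Finite G]

/-- Case II: for `A ≤ E` elementary abelian of order `p²`, `p ∈ τ₂(M)`: `E ≤ N_G(A)`,
`E' ≤ C_G(A)`, `C_{M_σ}(A) = 1`, and every `τ₂(M)`-Sylow subgroup of `E` centralizes `A`. -/
theorem caseII_line_hyps (hG : IsMinSimpleOddOrder G) {M E : Subgroup G} (hM : IsCoatom M)
    (hE : IsComplIn E (sigmaCore M) M)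
    (hσ : IsPiHallOf (sigma M) (sigmaCore M) M)
    (hα : IsPiHallOf (alpha M) (alphaCore M) M) (hασ : alphaCore M ≤ sigmaCore M)
    (h11 : H11 G) (h17 : H17 M) (h18 : H18 M E)
    (h20 : IsMulCommutative ↥⁅E, E⁆)
    (habAll : ∀ r : ℕ, r ∈ tau2 M → ∀ S : Sylow r G, IsMulCommutative (S : Subgroup G))
    {p : ℕ} [Fact p.Prime] (hp : p ∈ tau2 M)
    {A : Subgroup G} (hAE : A ≤ E) (hA : IsElementaryAbelian p A) (hAc : Nat.card A = p ^ 2) :
    E ≤ normalizer (A : Set G) ∧ ⁅E, E⁆ ≤ centralizer (A : Set G) ∧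
      sigmaCore M ⊓ centralizer (A : Set G) = ⊥ ∧
      ∀ r : ℕ, r ∈ tau2 M → ∀ Q : Subgroup G, IsSylIn r Q E → Q ≤ centralizer (A : Set G) := by
  classical
  have hAp : IsPGroup p A := isElementaryAbelian_isPGroup hA
  obtain ⟨P, hP, hAP⟩ := exists_isSylIn_ge (p := p) hAp hAE
  obtain ⟨hEP, -, hPc, -, hNN, -⟩ :=
    caseII_structure hG hM hE hσ hα hασ h11 h17 h18 h20 hp (habAll p hp) hP hAP hA hAc
  have h17A := h17 p hp A ⟨hAE.trans hE.1, hA, hAc⟩
  have h18A := h18 p hp A ⟨hAE, hA, hAc⟩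
  have hEA : E ≤ normalizer (A : Set G) := h18A.1.1
  refine ⟨hEA, (Subgroup.commutator_mono hEA hEA).trans hNN, h17A.2.2.2.1, ?_⟩
  intro r hr Q hQ
  haveI : Fact r.Prime := ⟨hr.1⟩
  obtain ⟨B, hBQ, hB, hBc⟩ := exists_elemAb_le hσ hE hr hQ
  obtain ⟨hEQ, -, hQc, -, -, -⟩ :=
    caseII_structure hG hM hE hσ hα hασ h11 h17 h18 h20 hr (habAll r hr) hQ hBQ hB hBc
  by_cases hrp : r = p
  · subst hrp
    obtain ⟨x, hx, hle⟩ := hQ.exists_conj_le hAp hAE
    have hAQ : A ≤ Q := by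
      rw [Cfsg.Agent.Helper33.conj_smul_le_iff_le_inv,
        smul_eq_of_mem_normalizer (hEQ (E.inv_mem hx))] at hle
      exact hle
    intro q hq
    rw [Subgroup.mem_centralizer_iff]
    intro a ha
    exact hQc a (hAQ ha) q hq
  · have hdisj : Q ⊓ P = ⊥ :=
      (IsPGroup.disjoint_of_ne r p hrp Q P hQ.2.1 hP.2.1).eq_bot
    intro q hq
    rw [Subgroup.mem_centralizer_iff]
    intro a ha
    have haE : a ∈ E := hAE ha
    have hqE : q ∈ E := hQ.1 hq
    have h1 : a * q * a⁻¹ * q⁻¹ ∈ Q :=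
      Q.mul_mem ((Subgroup.mem_normalizer_iff.mp (hEQ haE) q).mp hq) (Q.inv_mem hq)
    have h2 : a * q * a⁻¹ * q⁻¹ ∈ P := by
      have h3 : q * a⁻¹ * q⁻¹ ∈ P :=
        (Subgroup.mem_normalizer_iff.mp (hEP hqE) a⁻¹).mp (P.inv_mem (hAP ha))
      have h4 : a * q * a⁻¹ * q⁻¹ = a * (q * a⁻¹ * q⁻¹) := by group
      rw [h4]
      exact P.mul_mem (hAP ha) h3
    have h5 : a * q * a⁻¹ * q⁻¹ ∈ Q ⊓ P := ⟨h1, h2⟩
    rw [hdisj, Subgroup.mem_bot] at h5
    have h6 : a * q = q * a := by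
      have := congrArg (fun t => t * q * a) h5
      simpa [mul_assoc] using this
    exact h6

end Cfsg.Agent.Helper38.BG1213
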