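import Mathlib

/-!
# Pure exponent lemmas for Bender–Glauberman 12.13 (statement S1421)
-/

set_option autoImplicit false

namespace Cfsg.Agent.Helper38.BG1213

variable {G : Type*} [Group G]

/-- (EXP2) an element conjugate into `E₀` has order dividing the exponent of `E₀`. -/
theorem orderOf_dvd_exponent_of_conj_mem {E₀ : Subgroup G} {y g : G} (h : g * y * g⁻¹ ∈ E₀) :
    orderOf y ∣ Monoid.exponent ↥E₀ := by
  have h2 : orderOf (g * y * g⁻¹) = orderOf y := by
    rw [← MulAut.conj_apply, MulEquiv.orderOf_eq]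
  rw [← h2, ← Subgroup.orderOf_mk _ h]
  exact Monoid.order_dvd_exponent _

/-- (EXP3) the order of a cyclic subgroup of `E₀` divides the exponent of `E₀`. -/
theorem card_dvd_exponent_of_isCyclic {C E₀ : Subgroup G} (hC : IsCyclic C) (hCE : C ≤ E₀) :
    Nat.card C ∣ Monoid.exponent ↥E₀ := by
  obtain ⟨g, hg⟩ := hC.exists_generator
  have h1 : Nat.card C = orderOf g := by
    rw [← Nat.card_zpowers g]
    have : Subgroup.zpowers g = ⊤ := (Subgroup.eq_top_iff' _).mpr hg
    rw [this]
    exact (Nat.card_congr (Subgroup.topEquiv (G := ↥C)).toEquiv).symm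
  rw [h1, ← Subgroup.orderOf_coe, ← Subgroup.orderOf_mk (g : G) (hCE g.2)]
  exact Monoid.order_dvd_exponent _

/-- (EXP1) if every prime-power order of an element of `E` divides the exponent of `E₀ ≤ E`, the
exponents agree. -/
theorem exponent_eq_of_forall_prime_pow [Finite G] {E₀ E : Subgroup G} (h : E₀ ≤ E)
    (hpp : ∀ y ∈ E, ∀ q k : ℕ, q.Prime → orderOf y = q ^ k → q ^ k ∣ Monoid.exponent ↥E₀) :
    Monoid.exponent ↥E₀ = Monoid.exponent ↥E := by
  apply Nat.dvd_antisymm
  · apply Monoid.exponent_dvd_of_forall_pow_eq_one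
    intro g
    have h1 := Monoid.pow_exponent_eq_one (⟨(g : G), h g.2⟩ : ↥E)
    apply Subtype.ext
    have := congrArg Subtype.val h1
    simpa using this
  · apply Monoid.exponent_dvd_of_forall_pow_eq_one
    intro g
    apply Subtype.ext
    rw [Subgroup.coe_pow, Subgroup.coe_one]
    apply orderOf_dvd_iff_pow_eq_one.mp
    rw [Nat.dvd_iff_prime_pow_dvd_dvd]
    intro q k hq hqk
    have hpos : 0 < orderOf (g : G) := orderOf_pos _
    have hqk0 : q ^ k ≠ 0 := pow_ne_zero _ hq.ne_zero
    obtain ⟨m, hm⟩ := hqk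
    have hm0 : m ≠ 0 := by
      rintro rfl
      rw [mul_zero] at hm
      exact hpos.ne' hm
    have hord : orderOf ((g : G) ^ m) = q ^ k := by
      rw [orderOf_pow_of_dvd hm0 (Dvd.intro_left _ hm.symm), hm,
        Nat.mul_div_cancel _ (Nat.pos_of_ne_zero hm0)]
    exact hpp _ (E.pow_mem g.2 m) q k hq hord

end Cfsg.Agent.Helper38.BG1213
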