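import Cfsg.Agent.Lib.Helper38.BG1213a
import Cfsg.Agent.Lib.Helper38.BG1213x
import Cfsg.Agent.Lib.Helper52.CoprimeHall
import Cfsg.Agent.Lib.Helper25.BGHallConj

/-!
# Bender–Glauberman 12.13 (statement S1421), Case II: assembling `E₀` from the good cyclic subgroups.
-/

set_option autoImplicit false
set_option linter.style.haveILetI false
set_option linter.unusedSectionVars false
open Pointwise

namespace Cfsg.Agent.Helper38.BG1213

open Subgroup Cfsg
open Cfsg.Agent.Helper34.BG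
open Cfsg.Agent.Helper38.BG128

variable {G : Type*} [Group G] [Finite G]

omit [Finite G] in
/-- Two subgroups normalizing each other and meeting trivially commute elementwise. -/
theorem commute_of_normalize_inf_bot {A B : Subgroup G} (hAB : A ≤ normalizer (B : Set G))
    (hBA : B ≤ normalizer (A : Set G)) (h : A ⊓ B = ⊥) : ∀ a ∈ A, ∀ b ∈ B, a * b = b * a := by
  intro a ha b hb
  have h1 : a * b * a⁻¹ * b⁻¹ ∈ B :=
    B.mul_mem ((Subgroup.mem_normalizer_iff.mp (hAB ha) b).mp hb) (B.inv_mem hb)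
  have h2 : a * b * a⁻¹ * b⁻¹ ∈ A := by
    have h3 : b * a⁻¹ * b⁻¹ ∈ A := (Subgroup.mem_normalizer_iff.mp (hBA hb) a⁻¹).mp (A.inv_mem ha)
    have h4 : a * b * a⁻¹ * b⁻¹ = a * (b * a⁻¹ * b⁻¹) := by group
    rw [h4]
    exact A.mul_mem ha h3
  have h5 : a * b * a⁻¹ * b⁻¹ ∈ A ⊓ B := ⟨h2, h1⟩
  rw [h, Subgroup.mem_bot] at h5
  have := congrArg (fun t => t * b * a) h5
  simpa [mul_assoc] using this

/-- Hall subgroups of solvable subgroups exist. -/
theorem exists_isPiHallOf_of_solvable (π : Set ℕ) (E : Subgroup G) (hE : Group.IsSolvable E) :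
    ∃ Q : Subgroup G, IsPiHallOf π Q E := by
  have hne : Nat.card E ≠ 0 := Nat.card_pos.ne'
  obtain ⟨Q, hQE, hQc⟩ := Cfsg.Agent.Helper52.hall_exists_internal E hE
    (Cfsg.Agent.Helper52.piPart π (Nat.card E)) (Cfsg.Agent.Helper52.piPrimePart π (Nat.card E))
    (Cfsg.Agent.Helper52.piPart_mul_piPrimePart π hne).symm
    (Cfsg.Agent.Helper52.piPart_coprime π _)
  exact ⟨Q, (Cfsg.Agent.Helper52.isPiHallOf_iff_card π Q E).mpr ⟨hQE, hQc⟩⟩

omit [Finite G] in
/-- Powers of `c * f` when `f` normalizes the subgroup containing `c`. -/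
theorem exists_mul_pow {C : Subgroup G} {c f : G} (hc : c ∈ C)
    (hf : f ∈ normalizer (C : Set G)) (n : ℕ) : ∃ c' ∈ C, (c * f) ^ n = c' * f ^ n := by
  induction n with
  | zero => exact ⟨1, C.one_mem, by simp⟩
  | succ n ih =>
    obtain ⟨c', hc', h⟩ := ih
    have hfn : f ^ n ∈ normalizer (C : Set G) := Subgroup.pow_mem _ hf n
    refine ⟨c' * (f ^ n * c * (f ^ n)⁻¹),
      C.mul_mem hc' ((Subgroup.mem_normalizer_iff.mp hfn c).mp hc), ?_⟩
    rw [pow_succ, h, pow_succ]
    group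

/-- The inductive construction of `E₀`. -/
theorem exists_F (E Q : Subgroup G) (T : Set ℕ) (C : ℕ → Subgroup G)
    (hQE : Q ≤ E) (hQT : ∀ r : ℕ, r.Prime → r ∣ Nat.card Q → r ∉ T)
    (hCE : ∀ p, C p ≤ E) (hCn : ∀ p, E ≤ normalizer (C p : Set G))
    (hCp : ∀ p, p ∈ T → p.Prime → IsPGroup p (C p))
    (s : Finset ℕ) (hs : ∀ p ∈ s, p ∈ T ∧ p.Prime) :
    ∃ F : Subgroup G, Q ≤ F ∧ (∀ p ∈ s, C p ≤ F) ∧ F ≤ E ∧
      (∀ r : ℕ, r.Prime → r ∣ Nat.card F → r ∈ s ∨ r ∉ T) ∧
      (∀ r ∈ s, ∀ x ∈ F, x ^ r = 1 → x ∈ C r) := by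
  classical
  induction s using Finset.induction_on with
  | empty =>
    exact ⟨Q, le_rfl, fun p hp => absurd hp (Finset.notMem_empty p), hQE,
      fun r hr hd => Or.inr (hQT r hr hd), fun r hr => absurd hr (Finset.notMem_empty r)⟩
  | insert p s hps ih =>
    have hp : p ∈ T ∧ p.Prime := hs p (Finset.mem_insert_self p s)
    have hpp := hp.2
    haveI : Fact p.Prime := ⟨hpp⟩
    obtain ⟨F, hQF, hCF, hFE, hFr, hFx⟩ := ih (fun q hq => hs q (Finset.mem_insert_of_mem hq))
    have hCpp : IsPGroup p (C p) := hCp p hp.1 hpp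
    have hpF : ¬ p ∣ Nat.card F := by
      intro hd
      rcases hFr p hpp hd with h | h
      · exact hps h
      · exact h hp.1
    have hord1 : ∀ x : G, (∃ k : ℕ, x ^ (p ^ k) = 1) → x ∈ F → x = 1 := by
      rintro x ⟨k, hk⟩ hxF
      have h1 : orderOf x ∣ p ^ k := orderOf_dvd_of_pow_eq_one hk
      have h2 : orderOf x ∣ Nat.card F := Subgroup.orderOf_dvd_natCard F hxF
      have hcop : (p ^ k).Coprime (Nat.card F) :=
        Nat.Coprime.pow_left _ ((Nat.Prime.coprime_iff_not_dvd hpp).mpr hpF)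
      exact orderOf_eq_one_iff.mp (Nat.eq_one_of_dvd_coprimes hcop h1 h2)
    have hpow : ∀ x ∈ C p, ∃ k : ℕ, x ^ (p ^ k) = 1 := by
      intro x hx
      obtain ⟨k, hk⟩ := hCpp ⟨x, hx⟩
      exact ⟨k, by simpa using congrArg Subtype.val hk⟩
    have hinf : C p ⊓ F = ⊥ := by
      rw [eq_bot_iff]
      intro x hx
      exact Subgroup.mem_bot.mpr (hord1 x (hpow x hx.1) hx.2)
    have hFn : F ≤ normalizer (C p : Set G) := hFE.trans (hCn p)
    have hdec : ∀ x ∈ C p ⊔ F, ∃ c ∈ C p, ∃ f ∈ F, x = c * f := by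
      intro x hx
      have hset := Subgroup.coe_mul_of_right_le_normalizer_left (C p) F hFn
      have h2 : x ∈ ((C p ⊔ F : Subgroup G) : Set G) := hx
      rw [hset] at h2
      obtain ⟨c, hc, f, hf, hcf⟩ := Set.mem_mul.mp h2
      exact ⟨c, hc, f, hf, hcf.symm⟩
    -- if `(c f)^r = 1` then `f^r = 1`
    have hfr : ∀ c ∈ C p, ∀ f ∈ F, ∀ r : ℕ, (c * f) ^ r = 1 → f ^ r = 1 := by
      intro c hc f hf r hr
      obtain ⟨c', hc', h⟩ := exists_mul_pow hc (hFn hf) r
      rw [hr] at h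
      have h1 : f ^ r = c'⁻¹ := by
        have := congrArg (fun t => c'⁻¹ * t) h
        simpa using this.symm
      have h2 : f ^ r ∈ C p ⊓ F := ⟨h1 ▸ (C p).inv_mem hc', F.pow_mem hf r⟩
      rw [hinf, Subgroup.mem_bot] at h2
      exact h2
    refine ⟨C p ⊔ F, hQF.trans le_sup_right, ?_, sup_le (hCE p) hFE, ?_, ?_⟩
    · intro q hq
      rcases Finset.mem_insert.mp hq with rfl | hq
      · exact le_sup_left
      · exact (hCF q hq).trans le_sup_right
    · intro r hr hd
      haveI : Fact r.Prime := ⟨hr⟩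
      obtain ⟨x, hx⟩ := exists_prime_orderOf_dvd_card' r hd
      have hxo : orderOf (x : G) = r := by rw [Subgroup.orderOf_coe]; exact hx
      obtain ⟨c, hc, f, hf, hxcf⟩ := hdec x x.2
      have hxr : (c * f) ^ r = 1 := by rw [← hxcf, ← hxo, pow_orderOf_eq_one]
      have hf1 := hfr c hc f hf r hxr
      by_cases hf0 : f = 1
      · rw [hf0, mul_one] at hxcf
        obtain ⟨k, hk⟩ := hpow c hc
        have h1 : r ∣ p ^ k := by rw [← hxo, hxcf]; exact orderOf_dvd_of_pow_eq_one hk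
        have h2 : r = p := (Nat.prime_dvd_prime_iff_eq hr hpp).mp (hr.dvd_of_dvd_pow h1)
        exact Or.inl (h2 ▸ Finset.mem_insert_self p s)
      · have hfo : orderOf f = r := orderOf_eq_prime hf1 hf0
        have h1 : r ∣ Nat.card F := hfo ▸ Subgroup.orderOf_dvd_natCard F hf
        rcases hFr r hr h1 with h | h
        · exact Or.inl (Finset.mem_insert_of_mem h)
        · exact Or.inr h
    · intro r hr x hx hxr
      obtain ⟨c, hc, f, hf, hxcf⟩ := hdec x hx
      have hf1 := hfr c hc f hf r (hxcf ▸ hxr)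
      rcases Finset.mem_insert.mp hr with rfl | hrs
      · have hf0 : f = 1 := hord1 f ⟨1, by rw [pow_one]; exact hf1⟩ hf
        rw [hf0, mul_one] at hxcf
        rw [hxcf]; exact hc
      · have hrT := hs r (Finset.mem_insert_of_mem hrs)
        have hrp : r ≠ p := fun h => hps (h ▸ hrs)
        haveI : Fact r.Prime := ⟨hrT.2⟩
        have hfC : f ∈ C r := hFx r hrs f hf hf1
        have hdisj : C p ⊓ C r = ⊥ :=
          (IsPGroup.disjoint_of_ne p r (Ne.symm hrp) (C p) (C r) hCpp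
            (hCp r hrT.1 hrT.2)).eq_bot
        have hcomm : c * f = f * c :=
          commute_of_normalize_inf_bot ((hCE p).trans (hCn r)) ((hCE r).trans (hCn p)) hdisj
            c hc f hfC
        have hcr : c ^ r = 1 := by
          have h1 : (c * f) ^ r = c ^ r * f ^ r := Commute.mul_pow hcomm r
          rw [← hxcf, hxr, hf1, mul_one] at h1
          exact h1.symm
        obtain ⟨k, hk⟩ := hpow c hc
        have h1 : orderOf c ∣ r := orderOf_dvd_of_pow_eq_one hcr
        have h2 : orderOf c ∣ p ^ k := orderOf_dvd_of_pow_eq_one hk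
        have hcop : r.Coprime (p ^ k) :=
          Nat.Coprime.pow_right _ ((Nat.coprime_primes hrT.2 hpp).mpr hrp)
        have hc1 : c = 1 := orderOf_eq_one_iff.mp (Nat.eq_one_of_dvd_coprimes hcop h1 h2)
        rw [hxcf, hc1, one_mul]
        exact hfC

omit [Finite G] in
theorem centralizer_singleton_le_pow (e : G) (m : ℕ) :
    centralizer ({e} : Set G) ≤ centralizer ({e ^ m} : Set G) := by
  intro x hx
  rw [Subgroup.mem_centralizer_iff] at hx ⊢
  intro y hy
  rw [Set.mem_singleton_iff] at hy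
  have hc : Commute e x := hx e rfl
  rw [hy]
  exact (hc.pow_left m).eq

/-- **`E₀` from the good cyclic subgroups** (Case II of B-G 12.13). -/
theorem exists_E0_of_cyclic (hG : IsMinSimpleOddOrder G) {M E : Subgroup G} (hM : IsCoatom M)
    (hE : IsComplIn E (sigmaCore M) M)
    (hσ : IsPiHallOf (sigma M) (sigmaCore M) M)
    (hα : IsPiHallOf (alpha M) (alphaCore M) M) (hασ : alphaCore M ≤ sigmaCore M)
    (hreg : Hreg M E)
    (hC : ∀ p ∈ tau2 M, p.Prime → ∃ C : Subgroup G, C ≤ E ∧ IsCyclic C ∧ IsPGroup p C ∧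
      E ≤ normalizer (C : Set G) ∧
      (∀ x ∈ E, IsPGroup p (Subgroup.zpowers x) → orderOf x ∣ Nat.card C) ∧
      ∀ c ∈ C, c ≠ 1 → sigmaCore M ⊓ centralizer ({c} : Set G) = ⊥) :
    ∃ E₀ : Subgroup G, E₀ ≤ E ∧ Monoid.exponent ↥E₀ = Monoid.exponent ↥E ∧
      ∀ e ∈ E₀, e ≠ 1 → sigmaCore M ⊓ centralizer ({e} : Set G) = ⊥ := by
  classical
  -- the chosen cyclic subgroups
  let C : ℕ → Subgroup G := fun p =>
    if h : p ∈ tau2 M ∧ p.Prime then Classical.choose (hC p h.1 h.2) else ⊥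
  have hCspec : ∀ p (hp : p ∈ tau2 M) (hpp : p.Prime), C p ≤ E ∧ IsCyclic (C p) ∧
      IsPGroup p (C p) ∧ E ≤ normalizer (C p : Set G) ∧
      (∀ x ∈ E, IsPGroup p (Subgroup.zpowers x) → orderOf x ∣ Nat.card (C p)) ∧
      ∀ c ∈ C p, c ≠ 1 → sigmaCore M ⊓ centralizer ({c} : Set G) = ⊥ := by
    intro p hp hpp
    have h : p ∈ tau2 M ∧ p.Prime := ⟨hp, hpp⟩
    have : C p = Classical.choose (hC p h.1 h.2) := dif_pos h
    rw [this]
    exact Classical.choose_spec (hC p h.1 h.2)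
  have hCbot : ∀ p, ¬ (p ∈ tau2 M ∧ p.Prime) → C p = ⊥ := fun p h => dif_neg h
  have hCE : ∀ p, C p ≤ E := by
    intro p
    by_cases h : p ∈ tau2 M ∧ p.Prime
    · exact (hCspec p h.1 h.2).1
    · rw [hCbot p h]; exact bot_le
  have hCn : ∀ p, E ≤ normalizer (C p : Set G) := by
    intro p
    by_cases h : p ∈ tau2 M ∧ p.Prime
    · exact (hCspec p h.1 h.2).2.2.2.1
    · rw [hCbot p h]
      intro e _
      rw [Subgroup.mem_normalizer_iff]
      intro g
      simp [Subgroup.mem_bot]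
  -- `E` is solvable
  have hEtop : E ≠ ⊤ := fun h => hM.1 (top_le_iff.mp (h ▸ hE.1))
  have hsolv : Group.IsSolvable E := solvable_of_ne_top hG hEtop
  obtain ⟨Q, hQ⟩ := exists_isPiHallOf_of_solvable (tau2 M)ᶜ E hsolv
  set s : Finset ℕ := (Nat.card E).primeFactors.filter (· ∈ tau2 M) with hs
  have hsmem : ∀ p ∈ s, p ∈ tau2 M ∧ p.Prime := by
    intro p hp
    rw [hs, Finset.mem_filter] at hp
    exact ⟨hp.2, Nat.prime_of_mem_primeFactors hp.1⟩
  obtain ⟨F, hQF, hCF, hFE, -, hFx⟩ := exists_F E Q (tau2 M) C hQ.1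
    (fun r hr hd => hQ.2.1 r hr hd) hCE hCn (fun p hp hpp => (hCspec p hp hpp).2.2.1) s hsmem
  have hmem_s : ∀ q : ℕ, q.Prime → q ∣ Nat.card E → q ∈ tau2 M → q ∈ s := by
    intro q hq hd hqT
    rw [hs, Finset.mem_filter]
    exact ⟨Nat.mem_primeFactors.mpr ⟨hq, hd, Nat.card_pos.ne'⟩, hqT⟩
  refine ⟨F, hFE, ?_, ?_⟩
  · -- exponent
    apply exponent_eq_of_forall_prime_pow hFE
    intro y hy q k hq hord
    rcases Nat.eq_zero_or_pos k with rfl | hk
    · rw [pow_zero]; exact one_dvd _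
    have hqy : q ∣ orderOf y := by rw [hord]; exact dvd_pow_self q hk.ne'
    have hqE : q ∣ Nat.card E := hqy.trans (Subgroup.orderOf_dvd_natCard E hy)
    rw [← hord]
    by_cases hqT : q ∈ tau2 M
    · have hsp := hCspec q hqT hq
      have hyq : IsPGroup q (Subgroup.zpowers y) :=
        isPGroup_zpowers_of_pow (k := k) (by rw [← hord, pow_orderOf_eq_one])
      exact (hsp.2.2.2.2.1 y hy hyq).trans
        (card_dvd_exponent_of_isCyclic hsp.2.1 (hCF q (hmem_s q hq hqE hqT)))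
    · obtain ⟨m, -, hm⟩ := Cfsg.Agent.Helper25.BGHallConj.exists_conj_mem_of_isPiHallOf hQ hsolv y hy
        (fun q' hq' hd => by
          have h1 : q' ∣ q ^ k := hord ▸ hd
          have h2 : q' = q := (Nat.prime_dvd_prime_iff_eq hq' hq).mp (hq'.dvd_of_dvd_pow h1)
          rw [h2]; exact hqT)
      exact orderOf_dvd_exponent_of_conj_mem (hQF hm)
  · -- regularity
    intro e heF he1
    by_contra hbad
    have hn1 : orderOf e ≠ 1 := fun h => he1 (orderOf_eq_one_iff.mp h)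
    set r := (orderOf e).minFac with hr
    have hrp : r.Prime := Nat.minFac_prime hn1
    have hrd : r ∣ orderOf e := Nat.minFac_dvd _
    obtain ⟨m, hm⟩ := hrd
    have hm0 : m ≠ 0 := by
      rintro rfl
      rw [mul_zero] at hm
      exact (orderOf_pos e).ne' hm
    set e' := e ^ m with he'
    have he'o : orderOf e' = r := by
      rw [he', orderOf_pow_of_dvd hm0 (Dvd.intro_left _ hm.symm), hm,
        Nat.mul_div_cancel _ (Nat.pos_of_ne_zero hm0)]
    have he'1 : e' ≠ 1 := by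
      intro h
      rw [h, orderOf_one] at he'o
      exact hrp.one_lt.ne he'o
    have he'F : e' ∈ F := F.pow_mem heF m
    have he'E : e' ∈ E := hFE he'F
    have hrE : r ∣ Nat.card E := he'o ▸ Subgroup.orderOf_dvd_natCard E he'E
    have hrσ : r ∉ sigma M := not_mem_sigma_of_dvd' hσ hE hrp hrE
    have hr2 : PRankLE r 2 M :=
      Cfsg.Agent.Helper55.BGB.prankLE_two_of_not_mem_sigma hrp hα hασ hrσ
    have hle : sigmaCore M ⊓ centralizer ({e} : Set G) ≤
        sigmaCore M ⊓ centralizer ({e'} : Set G) :=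
      inf_le_inf_left _ (centralizer_singleton_le_pow e m)
    have hgood : sigmaCore M ⊓ centralizer ({e'} : Set G) = ⊥ := by
      by_cases hr1 : PRankLE r 1 M
      · apply hreg e' he'E he'1
        intro q hq hqd
        rw [he'o] at hqd
        have hqr : q = r := (Nat.prime_dvd_prime_iff_eq hq hrp).mp hqd
        rw [hqr]
        by_cases hd : r ∣ Nat.card ↥⁅M, M⁆
        · exact Or.inr ⟨hrp, hrσ, hd, hr1⟩
        · exact Or.inl ⟨hrp, hrσ, hrE.trans (Subgroup.card_dvd_of_le hE.1), hd, hr1⟩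
      · have hrT : r ∈ tau2 M := ⟨hrp, hrσ, hr2, hr1⟩
        have hrs : r ∈ s := hmem_s r hrp hrE hrT
        have he'C : e' ∈ C r := hFx r hrs e' he'F (by rw [← he'o, pow_orderOf_eq_one])
        exact (hCspec r hrT hrp).2.2.2.2.2 e' he'C he'1
    rw [hgood] at hle
    exact hbad (le_bot_iff.mp hle)

end Cfsg.Agent.Helper38.BG1213
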