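import Mathlib

/-!
# General group-theoretic lemmas used for Bender–Glauberman 12.8–12.12 (statement S1420)
-/

set_option autoImplicit false

namespace Cfsg.Agent.Helper38.BG128

open Subgroup

/-- A finite nilpotent group all of whose Sylow subgroups are commutative is commutative. -/
theorem comm_of_nilpotent_of_sylow_comm {N : Type*} [Group N] [Finite N] (hN : Group.IsNilpotent N)
    (h : ∀ (p : ℕ) [Fact p.Prime] (P : Sylow p N), ∀ a ∈ (P : Subgroup N), ∀ b ∈ (P : Subgroup N),
      a * b = b * a) :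
    ∀ a b : N, a * b = b * a := by
  have h04 := (Group.isNilpotent_of_finite_tfae (G := N)).out 0 4
  obtain ⟨e⟩ := h04.mp hN
  intro a b
  apply e.symm.injective
  rw [map_mul, map_mul]
  funext p
  funext P
  apply Subtype.ext
  have : Fact (p : ℕ).Prime := ⟨Nat.prime_of_mem_primeFactors p.2⟩
  simp only [Pi.mul_apply, Subgroup.coe_mul]
  exact h p P _ (e.symm a p P).2 _ (e.symm b p P).2

/-- conjugation by a power. -/
theorem conj_pow_eq_pow_of_conj_eq_pow {G : Type*} [Group G] (x b : G) (i : ℕ)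
    (h : x * b * x⁻¹ = b ^ i) (t : ℕ) : x ^ t * b * (x ^ t)⁻¹ = b ^ (i ^ t) := by
  induction t with
  | zero => simp
  | succ t ih =>
    have h1 : x ^ (t + 1) * b * (x ^ (t + 1))⁻¹ = x * (x ^ t * b * (x ^ t)⁻¹) * x⁻¹ := by
      rw [pow_succ']; group
    rw [h1, ih]
    have h2 : x * b ^ (i ^ t) * x⁻¹ = (x * b * x⁻¹) ^ (i ^ t) := by
      rw [conj_pow]
    rw [h2, h, ← pow_mul, pow_succ, mul_comm]

/-- if `x a x⁻¹ = b a` with `x` commuting with `b`, then `x^t a x^{-t} = b^t a`. -/
theorem conj_pow_eq_pow_mul {G : Type*} [Group G] (x a b : G) (h : x * a * x⁻¹ = b * a)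
    (hb : x * b = b * x) (t : ℕ) : x ^ t * a * (x ^ t)⁻¹ = b ^ t * a := by
  induction t with
  | zero => simp
  | succ t ih =>
    have h1 : x ^ (t + 1) * a * (x ^ (t + 1))⁻¹ = x * (x ^ t * a * (x ^ t)⁻¹) * x⁻¹ := by
      rw [pow_succ']; group
    have hbt : x * b ^ t = b ^ t * x := (Commute.pow_right (show Commute x b from hb) t).eq
    rw [h1, ih]
    calc x * (b ^ t * a) * x⁻¹ = (x * b ^ t) * (a * x⁻¹) := by group
      _ = (b ^ t * x) * (a * x⁻¹) := by rw [hbt]
      _ = b ^ t * (x * a * x⁻¹) := by group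
      _ = b ^ t * (b * a) := by rw [h]
      _ = b ^ (t + 1) * a := by rw [pow_succ]; group


/-- The "flag" lemma: an element `x` normalizing an elementary abelian group `A` of order `p²`,
fixing a non-identity element `z` of `A`, whose order is prime to `p - 1` and some power `x ^ m`
(`m` prime to `p`) of which centralizes `A`, centralizes `A`. -/
theorem centralizes_of_flag {G : Type*} [Group G] {p : ℕ} [hp : Fact p.Prime] (A : Subgroup G)
    (hAc : ∀ a ∈ A, ∀ b ∈ A, a * b = b * a) (hAe : ∀ a ∈ A, a ^ p = 1)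
    (hcard : Nat.card A = p ^ 2)
    (z : G) (hzA : z ∈ A) (hz1 : z ≠ 1)
    (x : G) (hxN : ∀ a ∈ A, x * a * x⁻¹ ∈ A) (hxz : x * z = z * x)
    (hcop : (p - 1).Coprime (orderOf x))
    (m : ℕ) (hm : m.Coprime p) (hxm : ∀ a ∈ A, x ^ m * a = a * x ^ m) :
    ∀ a ∈ A, x * a = a * x := by
  classical
  have : Finite A :=
    Nat.finite_of_card_ne_zero (by rw [hcard]; exact pow_ne_zero _ hp.out.ne_zero)
  -- the commutator map
  let ψ : A →* A :=
    { toFun := fun a => ⟨x * a * x⁻¹ * (a : G)⁻¹, A.mul_mem (hxN a a.2) (A.inv_mem a.2)⟩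
      map_one' := by
        apply Subtype.ext
        simp
      map_mul' := by
        intro a b
        apply Subtype.ext
        simp only [Subgroup.coe_mul]
        have h1 := hAc _ (A.mul_mem (hxN b b.2) (A.inv_mem b.2)) _ (A.inv_mem a.2)
        calc x * ((a : G) * b) * x⁻¹ * ((a : G) * b)⁻¹
            = x * a * x⁻¹ * ((x * b * x⁻¹ * (b : G)⁻¹) * (a : G)⁻¹) := by group
          _ = x * a * x⁻¹ * ((a : G)⁻¹ * (x * b * x⁻¹ * (b : G)⁻¹)) := by rw [h1]
          _ = x * a * x⁻¹ * (a : G)⁻¹ * (x * b * x⁻¹ * (b : G)⁻¹) := by group }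
  have hψ : ∀ a : A, ((ψ a : A) : G) = x * a * x⁻¹ * (a : G)⁻¹ := fun a => rfl
  have hψ1 : ∀ a : A, ψ a = 1 ↔ x * (a : G) = a * x := by
    intro a
    rw [← Subtype.coe_inj, hψ, Subgroup.coe_one]
    constructor
    · intro h
      have : x * a * x⁻¹ = a := by
        rw [mul_inv_eq_one] at h; exact h
      calc x * (a : G) = x * a * x⁻¹ * x := by group
        _ = a * x := by rw [this]
    · intro h
      rw [h]; group
  -- `z` lies in the kernel
  have hzker : (⟨z, hzA⟩ : A) ∈ ψ.ker := by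
    rw [MonoidHom.mem_ker, hψ1]; exact hxz
  have hker_ne : ψ.ker ≠ ⊥ := by
    intro h
    rw [h, Subgroup.mem_bot] at hzker
    exact hz1 (congrArg Subtype.val hzker)
  -- cardinalities
  have hkr : Nat.card ψ.ker * Nat.card ψ.range = p ^ 2 := by
    rw [← Subgroup.index_ker, Subgroup.card_mul_index, hcard]
  have hker_card : p ∣ Nat.card ψ.ker := by
    have hd : Nat.card ψ.ker ∣ p ^ 2 := Dvd.intro _ hkr
    obtain ⟨j, hj, hjc⟩ := (Nat.dvd_prime_pow hp.out).mp hd
    rcases Nat.eq_zero_or_pos j with h0 | h0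
    · exfalso
      rw [h0, pow_zero] at hjc
      exact hker_ne (Subgroup.card_eq_one.mp hjc)
    · rw [hjc]; exact dvd_pow_self p (by omega)
  have hrange_card : Nat.card ψ.range ∣ p := by
    obtain ⟨c, hc⟩ := hker_card
    rw [hc, sq, mul_assoc] at hkr
    have := Nat.eq_of_mul_eq_mul_left hp.out.pos hkr
    exact Dvd.intro_left _ this
  -- the range is invariant under conjugation by `x`
  have hrange_inv : ∀ b : A, b ∈ ψ.range → ∃ b' : A, b' ∈ ψ.range ∧ (b' : G) = x * b * x⁻¹ := by
    rintro b ⟨a, rfl⟩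
    refine ⟨ψ ⟨x * a * x⁻¹, hxN a a.2⟩, ⟨_, rfl⟩, ?_⟩
    rw [hψ, hψ]
    simp only
    group
  -- every element of the range commutes with `x`
  have hrange_comm : ∀ b : A, b ∈ ψ.range → x * (b : G) = b * x := by
    intro b hb
    by_cases hb1 : b = 1
    · rw [hb1]; simp
    -- the range has order p and is generated by b
    have hcp : Nat.card ψ.range = p := by
      rcases (Nat.dvd_prime hp.out).mp hrange_card with h | h
      · exfalso
        have hbot := Subgroup.card_eq_one.mp h
        rw [hbot, Subgroup.mem_bot] at hb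
        exact hb1 hb
      · exact h
    have hzp : Subgroup.zpowers b = ψ.range := by
      apply Subgroup.eq_of_le_of_card_ge (Subgroup.zpowers_le.mpr hb)
      rw [hcp, Nat.card_zpowers]
      have hob : orderOf b ∣ p := by
        apply orderOf_dvd_of_pow_eq_one
        apply Subtype.ext
        rw [Subgroup.coe_pow, Subgroup.coe_one]
        exact hAe b b.2
      rcases (Nat.dvd_prime hp.out).mp hob with h | h
      · exact absurd (orderOf_eq_one_iff.mp h) hb1
      · exact h.ge
    have hob : orderOf (b : G) = p := by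
      rw [Subgroup.orderOf_coe, ← Nat.card_zpowers, hzp, hcp]
    obtain ⟨b', hb', hb'x⟩ := hrange_inv b hb
    rw [← hzp] at hb'
    obtain ⟨k, hk⟩ := Subgroup.mem_zpowers_iff.mp hb'
    -- turn the integer exponent into a natural one
    obtain ⟨i, hi⟩ : ∃ i : ℕ, x * (b : G) * x⁻¹ = (b : G) ^ i := by
      refine ⟨(k % (p : ℤ)).toNat, ?_⟩
      rw [← hb'x, ← hk, Subgroup.coe_zpow]
      have hpz : (0 : ℤ) < p := by exact_mod_cast hp.out.pos
      have h1 : ((k % (p : ℤ)).toNat : ℤ) = k % p := Int.toNat_of_nonneg (Int.emod_nonneg _ hpz.ne')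
      rw [← zpow_natCast, h1, ← hob, zpow_mod_orderOf]
    -- p does not divide i
    have hpi : ¬ p ∣ i := by
      intro hdvd
      obtain ⟨c, rfl⟩ := hdvd
      rw [pow_mul, hAe b b.2, one_pow] at hi
      have : (b : G) = 1 := by
        have h2 : x * (b : G) * x⁻¹ = 1 := hi
        have h3 : (b : G) = x⁻¹ * (x * (b : G) * x⁻¹) * x := by group
        rw [h3, h2]; group
      exact hb1 (Subtype.ext this)
    have hpow := conj_pow_eq_pow_of_conj_eq_pow x (b : G) i hi (p - 1)
    have hfermat : i ^ (p - 1) ≡ 1 [MOD p] := by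
      have hcop' : Nat.Coprime i p := (Nat.Coprime.symm ((Nat.Prime.coprime_iff_not_dvd hp.out).mpr hpi))
      have := Nat.ModEq.pow_totient hcop'
      rwa [Nat.totient_prime hp.out] at this
    have hb_pow : (b : G) ^ (i ^ (p - 1)) = (b : G) ^ 1 := by
      rw [pow_eq_pow_iff_modEq, hob]; exact hfermat
    rw [hb_pow, pow_one] at hpow
    -- x^(p-1) commutes with b
    have hc1 : x ^ (p - 1) * (b : G) = b * x ^ (p - 1) := by
      calc x ^ (p - 1) * (b : G) = x ^ (p - 1) * b * (x ^ (p - 1))⁻¹ * x ^ (p - 1) := by group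
        _ = b * x ^ (p - 1) := by rw [hpow]
    obtain ⟨s, hs⟩ := exists_pow_eq_self_of_coprime hcop
    have hc2 : Commute ((x ^ (p - 1)) ^ s) (b : G) := Commute.pow_left (show Commute _ _ from hc1) s
    rw [hs] at hc2
    exact hc2.eq
  -- conclusion
  intro a ha
  set b : A := ψ ⟨a, ha⟩ with hbdef
  have hbr : b ∈ ψ.range := ⟨_, rfl⟩
  have hbx := hrange_comm b hbr
  have hab : x * a * x⁻¹ = (b : G) * a := by
    rw [hbdef, hψ]; simp
  have hpowm := conj_pow_eq_pow_mul x a (b : G) hab hbx m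
  have hxma : x ^ m * a * (x ^ m)⁻¹ = a := by
    rw [hxm a ha]; group
  rw [hxma] at hpowm
  have hbm : (b : G) ^ m = 1 := by
    have : (b : G) ^ m * a = 1 * a := by rw [one_mul]; exact hpowm.symm
    exact mul_right_cancel this
  have hbp : (b : G) ^ p = 1 := hAe b b.2
  have hb1 : (b : G) = 1 := by
    have h1 : orderOf (b : G) ∣ m := orderOf_dvd_of_pow_eq_one hbm
    have h2 : orderOf (b : G) ∣ p := orderOf_dvd_of_pow_eq_one hbp
    have h3 : orderOf (b : G) ∣ Nat.gcd m p := Nat.dvd_gcd h1 h2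
    rw [hm.gcd_eq_one, Nat.dvd_one] at h3
    exact orderOf_eq_one_iff.mp h3
  rw [hb1, one_mul] at hab
  calc x * a = x * a * x⁻¹ * x := by group
    _ = a * x := by rw [hab]


end Cfsg.Agent.Helper38.BG128
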