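import Cfsg.Agent.Lib.Helper30.BG144cDefs
import Cfsg.Agent.Lib.Helper38.BG1213a
import Cfsg.Agent.Lib.Helper29.CoprimeGen

/-!
# B-G Theorem 14.4(c) (row S1376), piece (D1) `setupD` of helper30's lemma server.
-/

set_option autoImplicit false
set_option linter.unusedVariables false
set_option linter.style.haveILetI false
set_option linter.unusedSectionVars false
open Pointwise

namespace Cfsg.Agent.Helper38.BG144c

open Cfsg Subgroup
open Cfsg.Agent.Helper30.BG144c
open Cfsg.Agent.Helper33 (IsSylIn exists_isSylIn exists_isSylIn_ge)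
open Cfsg.Agent.Helper34.BG
open Cfsg.Agent.Helper38.BG128
open Cfsg.Agent.Helper38.BG1213

universe u

variable {G : Type u} [Group G] [Finite G]

omit [Finite G] in
theorem centralizer_zpowers_eq (a : G) :
    centralizer ((Subgroup.zpowers a : Subgroup G) : Set G) = centralizer ({a} : Set G) := by
  apply le_antisymm
  · apply Subgroup.centralizer_le
    intro x hx
    rw [Set.mem_singleton_iff] at hx
    rw [hx]
    exact Subgroup.mem_zpowers a
  · intro z hz
    rw [Subgroup.mem_centralizer_iff] at hz ⊢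
    intro h hh
    obtain ⟨k, rfl⟩ := Subgroup.mem_zpowers_iff.mp hh
    have hc : Commute a z := hz a rfl
    exact (hc.zpow_left k).eq

/-- If one Sylow `s`-subgroup is abelian, all are. -/
theorem sylow_comm_of_exists {s : ℕ} [Fact s.Prime]
    (h : ∃ S : Sylow s G, IsMulCommutative (S : Subgroup G)) :
    ∀ S : Sylow s G, IsMulCommutative (S : Subgroup G) := by
  obtain ⟨S₀, hS₀⟩ := h
  intro S
  obtain ⟨g, hg⟩ := MulAction.exists_smul_eq G S₀ S
  refine ⟨⟨fun x y => ?_⟩⟩
  have hx : (x : G) ∈ ((g • S₀ : Sylow s G) : Subgroup G) := by rw [hg]; exact x.2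
  have hy : (y : G) ∈ ((g • S₀ : Sylow s G) : Subgroup G) := by rw [hg]; exact y.2
  rw [Sylow.coe_subgroup_smul, Cfsg.Agent.Helper33.mem_conj_smul] at hx hy
  have hc := hS₀.is_comm.comm ⟨_, hx⟩ ⟨_, hy⟩
  have hc' : g⁻¹ * (x : G) * g * (g⁻¹ * (y : G) * g) = g⁻¹ * (y : G) * g * (g⁻¹ * (x : G) * g) :=
    congrArg Subtype.val hc
  apply Subtype.ext
  show (x : G) * y = y * x
  have h1 : g⁻¹ * ((x : G) * y) * g = g⁻¹ * ((y : G) * x) * g := by
    calc g⁻¹ * ((x : G) * y) * g = g⁻¹ * (x : G) * g * (g⁻¹ * (y : G) * g) := by group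
      _ = g⁻¹ * (y : G) * g * (g⁻¹ * (x : G) * g) := hc'
      _ = g⁻¹ * ((y : G) * x) * g := by group
  exact mul_left_cancel (mul_right_cancel h1)

/-- (D1) setupD. -/
theorem setupD (hG : IsMinSimpleOddOrder G) (r1350 : R1350 G) (r1417 : R1417 G)
    (r1418 : R1418 G) (r1419 : R1419 G)
    {M N Nst : Subgroup G} (hM : IsCoatom M) {x0 : G} {q p : ℕ} {K U : Subgroup G}
    (A : SetupA M N x0 q K U) (B : SetupB M N Nst x0 K U p)
    (hcomm : ∀ a ∈ M ⊓ Nst, ∀ b ∈ M ⊓ Nst, a * b = b * a)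
    {s : ℕ} (hs : s ∈ tau2 M) :
    ∃ (A' S : Subgroup G) (a : G), SetupD M Nst s A' S a := by
  classical
  haveI : Fact s.Prime := ⟨hs.1⟩
  have hsp : s.Prime := hs.1
  have hσ := (r1350 M hM).1
  have hE := B.hE
  obtain ⟨P, hP⟩ := exists_isSylIn (p := s) (M ⊓ Nst)
  obtain ⟨A', hA'P, hA', hA'c⟩ := exists_elemAb_le hσ hE hs hP
  have hA'E : A' ≤ M ⊓ Nst := hA'P.trans hP.1
  have hA'M : A' ≤ M := hA'E.trans hE.1
  have h17 : C1417 M s A' := r1417 M hM s hs A' ⟨hA'M, hA', hA'c⟩
  have h18 := r1418 M hM (M ⊓ Nst) hE s hs A' ⟨hA'E, hA', hA'c⟩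
  have hCA : centralizer (A' : Set G) ≤ M ⊓ Nst := by
    have := h18.2.1.1
    rw [h18.2.1.2.1] at this
    exact this
  -- `x0 ≠ 1`, `M_σ ≠ ⊥`
  have hx01 : x0 ≠ 1 := by
    intro h
    have := A.hx0o
    rw [h, orderOf_one] at this
    exact A.hq.one_lt.ne this
  -- a bad element
  have hA'comm : ∀ x ∈ A', ∀ y ∈ A', x * y = y * x := fun x hx y hy =>
    commute_of_isElementaryAbelian hA' hx hy
  obtain ⟨a, haA, ha1, hbad⟩ : ∃ a ∈ A', a ≠ 1 ∧
      sigmaCore M ⊓ centralizer ({a} : Set G) ≠ ⊥ := by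
    by_contra hcon
    push Not at hcon
    -- generators `b`, `a` of `A'`
    obtain ⟨b, hb, hb1⟩ : ∃ b ∈ A', b ≠ 1 := by
      by_contra h
      push Not at h
      have : A' = ⊥ := (Subgroup.eq_bot_iff_forall A').mpr h
      rw [this, Subgroup.card_bot] at hA'c
      exact (Nat.one_lt_pow (by norm_num) hsp.one_lt).ne hA'c
    have hbo : orderOf b = s := orderOf_eq_prime (hA'.2 b hb) hb1
    obtain ⟨a, ha, haz⟩ : ∃ a ∈ A', a ∉ Subgroup.zpowers b := by
      by_contra h
      push Not at h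
      have hle : A' ≤ Subgroup.zpowers b := h
      have := Subgroup.card_le_of_le hle
      rw [hA'c, Nat.card_zpowers, hbo] at this
      have : s < s ^ 2 := by
        rw [sq]; exact lt_mul_of_one_lt_left hsp.pos hsp.one_lt
      omega
    set S : Set G := {c | c ∈ A' ∧ c ≠ 1} with hS
    have hle := Cfsg.Agent.Helper29.le_genS (p := s) A' (sigmaCore M) hA'comm hA'.2 S
      (fun c hc => hc.1) ha hb
      (fun j => ⟨A'.mul_mem ha (A'.pow_mem hb j), fun h => haz (by
        have : a = (b ^ j)⁻¹ := eq_inv_of_mul_eq_one_left h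
        rw [this]
        exact Subgroup.inv_mem _ (Subgroup.pow_mem _ (Subgroup.mem_zpowers b) j))⟩)
      (fun i hi0 his => ⟨A'.pow_mem hb i, fun h => by
        have := orderOf_dvd_of_pow_eq_one h
        rw [hbo] at this
        exact absurd (Nat.le_of_dvd hi0 this) (by omega)⟩)
      (hA'M.trans (Cfsg.Agent.Helper55.BGB.le_normalizer_sigmaCore M))
      (by
        apply Nat.Coprime.symm
        rw [Nat.Prime.coprime_iff_not_dvd hsp]
        intro hd
        exact hs.2.1 (hσ.2.1 s hsp hd))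
    have hbot : Cfsg.Agent.Helper29.genS S (sigmaCore M) = ⊥ := by
      unfold Cfsg.Agent.Helper29.genS
      rw [iSup_eq_bot]
      rintro ⟨c, hc⟩
      exact hcon c hc.1 hc.2
    rw [hbot] at hle
    have : x0 ∈ (⊥ : Subgroup G) := hle A.hx0
    exact hx01 (Subgroup.mem_bot.mp this)
  -- uniqueness for `C(a)`
  have hao : orderOf a = s := orderOf_eq_prime (hA'.2 a haA) ha1
  have hXA : Subgroup.zpowers a ≤ A' := Subgroup.zpowers_le.mpr haA
  have hXc : Nat.card (Subgroup.zpowers a) = s := by rw [Nat.card_zpowers, hao]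
  have hbadX : sigmaCore M ⊓ centralizer ((Subgroup.zpowers a : Subgroup G) : Set G) ≠ ⊥ := by
    rw [centralizer_zpowers_eq]; exact hbad
  obtain ⟨haM, hauniq⟩ := h18.2.2 _ hXA hXc hbadX
  rw [centralizer_zpowers_eq] at haM hauniq
  -- Sylow `s`-subgroups of `G` are abelian
  have hab : ∀ S : Sylow s G, IsMulCommutative (S : Subgroup G) := by
    by_contra hcon
    have hall : ∀ S : Sylow s G, ¬ IsMulCommutative (S : Subgroup G) := by
      intro S hS
      exact hcon (sylow_comm_of_exists ⟨S, hS⟩)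
    have h19 := r1419 M hM (M ⊓ Nst) hE s hs hall A' ⟨hA'E, hA', hA'c⟩
    have hcard := h19.2.1.1
    have hne : (A' ⊓ centralizer (sigmaCore M : Set G) : Subgroup G) ≠ ⊥ := by
      intro h
      rw [h, Subgroup.card_bot] at hcard
      exact hsp.one_lt.ne hcard
    obtain ⟨a0, ha0, ha01⟩ : ∃ a0 ∈ (A' ⊓ centralizer (sigmaCore M : Set G) : Subgroup G),
        a0 ≠ 1 := by
      by_contra h
      push Not at h
      exact hne ((Subgroup.eq_bot_iff_forall _).mpr h)
    have h1 : a0 * x0 = x0 * a0 := ((Subgroup.mem_centralizer_iff.mp ha0.2) x0 A.hx0).symm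
    exact ha01 (B.hF1 a0 (hA'E ha0.1) h1)
  -- the Sylow subgroup `S`
  obtain ⟨S, hA'S⟩ := (isElementaryAbelian_isPGroup hA').exists_le_sylow
  have hSc := hab S
  have hSC : (S : Subgroup G) ≤ centralizer (A' : Set G) := by
    intro t ht
    rw [Subgroup.mem_centralizer_iff]
    intro a' ha'
    have := hSc.is_comm.comm ⟨a', hA'S ha'⟩ ⟨t, ht⟩
    exact congrArg Subtype.val this
  have hSE : (S : Subgroup G) ≤ M ⊓ Nst := hSC.trans hCA
  have hSM : IsSylIn s (S : Subgroup G) M := by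
    refine ⟨hSE.trans hE.1, S.isPGroup', fun hd => S.not_dvd_index ?_⟩
    exact hd.trans (Subgroup.relIndex_dvd_index_of_le (hSE.trans hE.1))
  have hΩ := sylIn_omega h17 hSM hA'S
  exact ⟨A', S, a,
    { hs := hsp
      hsτ := hs
      hAE := hA'E
      hA := hA'
      hAc := hA'c
      hCA := hCA
      haA := haA
      ha1 := ha1
      hbad := hbad
      haM := haM
      hauniq := hauniq
      hAS := hA'S
      hSE := hSE
      hSp := S.isPGroup'
      hSsyl := S.not_dvd_index
      hSΩ := fun x hx hxs => (hΩ x hx).mp hxs }⟩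

end Cfsg.Agent.Helper38.BG144c
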