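import Mathlib
import Cfsg.Agent.Lib.Helper32.C3Defs

/-!
# C3 server (helper32, S4415): piece (O1) `triv_on_of_small`
-/

set_option autoImplicit false

namespace Cfsg.Agent.Helper38.C3

open Cfsg.Agent.Helper32.C3

universe u v

/-- in a `ZMod 3`-module `w + w + w = 0` -/
theorem o1_three {V : Type v} [AddCommGroup V] [Module (ZMod 3) V] (w : V) : w + w + w = 0 := by
  have h : ((1 : ZMod 3) + 1 + 1) • w = 0 := by
    rw [show ((1 : ZMod 3) + 1 + 1) = 0 from by decide, zero_smul]
  simpa [add_smul] using h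

/-- the unit group of the endomorphism ring of an `F_3`-space of dimension `≤ 2` has order
dividing `48` -/
theorem o1_card_units {U : Type v} [AddCommGroup U] [Module (ZMod 3) U] [Finite U]
    (hd : Module.finrank (ZMod 3) U ≤ 2) : Nat.card (Module.End (ZMod 3) U)ˣ ∣ 48 := by
  classical
  have bas := Module.finBasis (ZMod 3) U
  have e : (Module.End (ZMod 3) U)ˣ ≃* GL (Fin (Module.finrank (ZMod 3) U)) (ZMod 3) :=
    Units.mapEquiv (algEquivMatrix bas).toMulEquiv
  rw [Nat.card_congr e.toEquiv, Matrix.card_GL_field]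
  generalize Module.finrank (ZMod 3) U = d at hd
  have h3 : Fintype.card (ZMod 3) = 3 := ZMod.card 3
  rw [h3]
  interval_cases d
  · simp
  · simp
  · rw [Fin.prod_univ_two]
    norm_num

/-- **O1.** A `{2,3}'`-element `g` with `dim (g-1)W ≤ 2` on a `g`-invariant `W` is trivial on `W`. -/
theorem triv_on_of_small {G : Type u} [Group G] [Finite G] {V : Type v} [AddCommGroup V]
    [Module (ZMod 3) V] [Finite V] (ρ : Representation (ZMod 3) G V) (g : G)
    (hg : (orderOf g).Coprime 6) (W : Submodule (ZMod 3) V) (hW : ∀ v ∈ W, ρ g v ∈ W)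
    (hsm : Module.finrank (ZMod 3) ↥(W.map (dl ρ g)) ≤ 2) : ∀ v ∈ W, ρ g v = v := by
  classical
  have hm0 : 0 < orderOf g := orderOf_pos g
  have hc2 : (orderOf g).Coprime 2 := Nat.Coprime.coprime_dvd_right (by norm_num) hg
  have hc3 : (orderOf g).Coprime 3 := Nat.Coprime.coprime_dvd_right (by norm_num) hg
  have hc48 : (orderOf g).Coprime 48 := by
    have : (48 : ℕ) = 2 ^ 4 * 3 := by norm_num
    rw [this]
    exact Nat.Coprime.mul_right (Nat.Coprime.pow_right 4 hc2) hc3
  -- the subspace `U = (g - 1) W`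
  have hU : ∀ u ∈ W.map (dl ρ g), ρ g u ∈ W.map (dl ρ g) := by
    rintro _ ⟨v, hv, rfl⟩
    refine ⟨ρ g v, hW v hv, ?_⟩
    rw [dl_apply, dl_apply, map_sub]
  have hpow : (ρ g) ^ orderOf g = 1 := by
    rw [← map_pow, pow_orderOf_eq_one, map_one]
  -- `g` is trivial on `U`
  have hA : ∀ u ∈ W.map (dl ρ g), ρ g u = u := by
    have hhm : ((ρ g).restrict hU) ^ orderOf g = 1 := by
      rw [Module.End.pow_restrict]
      ext u
      rw [LinearMap.coe_restrict_apply, hpow]
      rfl
    obtain ⟨uu, huu⟩ := IsUnit.of_pow_eq_one hhm hm0.ne'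
    have h1 : uu ^ orderOf g = 1 := by
      apply Units.ext
      rw [Units.val_pow_eq_pow_val, huu, hhm]
      rfl
    have h2 : uu ^ Nat.card (Module.End (ZMod 3) ↥(W.map (dl ρ g)))ˣ = 1 := pow_card_eq_one'
    have h3 : orderOf uu ∣ Nat.gcd (orderOf g) 48 :=
      Nat.dvd_gcd (orderOf_dvd_of_pow_eq_one h1)
        ((orderOf_dvd_of_pow_eq_one h2).trans (o1_card_units hsm))
    rw [Nat.Coprime.gcd_eq_one hc48, Nat.dvd_one, orderOf_eq_one_iff] at h3
    intro u hu
    have h4 : ((ρ g).restrict hU) ⟨u, hu⟩ = ⟨u, hu⟩ := by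
      rw [← huu, h3]
      rfl
    have h5 := congrArg Subtype.val h4
    rw [LinearMap.coe_restrict_apply] at h5
    exact h5
  -- `g ^ 3` is trivial on `W`
  have hB : ∀ v ∈ W, ρ (g ^ 3) v = v := by
    intro v hv
    have h1 : ρ g (ρ g v - v) = ρ g v - v := by
      have := hA (dl ρ g v) ⟨v, hv, rfl⟩
      rw [dl_apply] at this
      exact this
    rw [map_sub] at h1
    have h2 : ρ g (ρ g v) = ρ g v + ρ g v - v := by
      have : ρ g (ρ g v) = (ρ g (ρ g v) - ρ g v) + ρ g v := by abel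
      rw [this, h1]; abel
    have h3 : ρ (g ^ 3) v = ρ g (ρ g (ρ g v)) := by
      rw [pow_succ, pow_two, map_mul, map_mul]
      rfl
    rw [h3, h2, map_sub, map_add, h2]
    have h4 := o1_three (ρ g v)
    have h5 := o1_three v
    have : ρ g v + ρ g v - v + (ρ g v + ρ g v - v) - ρ g v =
        (ρ g v + ρ g v + ρ g v) - (v + v + v) + v := by abel
    rw [this, h4, h5]; abel
  -- `g` is a power of `g ^ 3`
  obtain ⟨k, hk⟩ := exists_pow_eq_self_of_coprime (x := g) (n := 3) hc3.symm
  have hC : ∀ j : ℕ, ∀ v ∈ W, ρ ((g ^ 3) ^ j) v = v := by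
    intro j
    induction j with
    | zero => intro v _; simp
    | succ j ih =>
      intro v hv
      rw [pow_succ, map_mul]
      show ρ ((g ^ 3) ^ j) (ρ (g ^ 3) v) = v
      rw [hB v hv, ih v hv]
  intro v hv
  have := hC k v hv
  rw [hk] at this
  exact this

end Cfsg.Agent.Helper38.C3
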