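import Mathlib
import Cfsg.Agent.Lib.Helper32.C3Defs

/-!
# C3 server (helper32, S4415): piece (O5) `comm_b_of_odd`
-/

set_option autoImplicit false

namespace Cfsg.Agent.Helper38.C3

open Cfsg.Agent.Helper32.C3

universe u v

/-- in a `ZMod 3`-module `w + w + w = 0` -/
theorem o5_three {V : Type v} [AddCommGroup V] [Module (ZMod 3) V] (w : V) : w + w + w = 0 := by
  have h : ((1 : ZMod 3) + 1 + 1) • w = 0 := by
    rw [show ((1 : ZMod 3) + 1 + 1) = 0 from by decide, zero_smul]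
  simpa [add_smul] using h

/-- if `(g - 1)^2 v = 0` then `g^3 v = v` (characteristic 3) -/
theorem o5_cube {G : Type u} [Group G] {V : Type v} [AddCommGroup V] [Module (ZMod 3) V]
    (ρ : Representation (ZMod 3) G V) (g : G) (v : V)
    (h1 : ρ g (ρ g v - v) = ρ g v - v) : ρ (g ^ 3) v = v := by
  rw [map_sub] at h1
  have h2 : ρ g (ρ g v) = ρ g v + ρ g v - v := by
    have : ρ g (ρ g v) = (ρ g (ρ g v) - ρ g v) + ρ g v := by abel
    rw [this, h1]; abel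
  have h3 : ρ (g ^ 3) v = ρ g (ρ g (ρ g v)) := by
    rw [pow_succ, pow_two, map_mul, map_mul]
    rfl
  rw [h3, h2, map_sub, map_add, h2]
  have h4 := o5_three (ρ g v)
  have h5 := o5_three v
  have : ρ g v + ρ g v - v + (ρ g v + ρ g v - v) - ρ g v =
      (ρ g v + ρ g v + ρ g v) - (v + v + v) + v := by abel
  rw [this, h4, h5]; abel

theorem o5_mul_apply {G : Type u} [Group G] {V : Type v} [AddCommGroup V] [Module (ZMod 3) V]
    (ρ : Representation (ZMod 3) G V) (g h : G) (v : V) : ρ (g * h) v = ρ g (ρ h v) := by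
  rw [map_mul]; rfl

theorem o5_inv_apply {G : Type u} [Group G] {V : Type v} [AddCommGroup V] [Module (ZMod 3) V]
    (ρ : Representation (ZMod 3) G V) (g : G) (v : V) : ρ g⁻¹ (ρ g v) = v := by
  rw [← o5_mul_apply, inv_mul_cancel, map_one]; rfl

/-- **O5.** `[Y,b] = 1` if `Y` (a `{2,3}'`-group normalised by `b`) centralises `Q`. -/
theorem comm_b_of_odd {G : Type u} [Group G] [Finite G] {V : Type v} [AddCommGroup V]
    [Module (ZMod 3) V] [Finite V] (ρ : Representation (ZMod 3) G V) (hf : Function.Injective ρ)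
    (Q : Subgroup G) (b q₁ q₂ q₃ : G) (v₁ v₂ v₃ : V) (hw : QWeights ρ Q b q₁ q₂ q₃ v₁ v₂ v₃)
    (Y : Subgroup G) (hY : (Nat.card ↥Y).Coprime 6)
    (hbY : b ∈ Subgroup.normalizer (Y : Set G))
    (hYQ : ∀ y ∈ Y, ∀ q ∈ Q, y * q = q * y) : ∀ y ∈ Y, y * b = b * y := by
  classical
  have hc2 : (Nat.card ↥Y).Coprime 2 := Nat.Coprime.coprime_dvd_right (by norm_num) hY
  have hc3 : (Nat.card ↥Y).Coprime 3 := Nat.Coprime.coprime_dvd_right (by norm_num) hY
  have hv1 : v₁ ≠ 0 := hw.li.ne_zero 0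
  -- conjugation by `b⁻¹` preserves `Y`
  have hconj : ∀ y ∈ Y, b⁻¹ * y * b ∈ Y := by
    intro y hy
    rw [Subgroup.mem_normalizer_iff] at hbY
    rw [hbY (b⁻¹ * y * b)]
    have : b * (b⁻¹ * y * b) * b⁻¹ = y := by group
    rw [this]; exact hy
  -- step 1: `ρ y v₁ ∈ span {v₁}`
  have key : ∀ y ∈ Y, ∃ a : ZMod 3, ρ y v₁ = a • v₁ := by
    intro y hy
    obtain ⟨x, hx⟩ : ∃ x, x = ρ y v₁ := ⟨_, rfl⟩
    have hq1 : ρ q₁ x = x := by
      rw [hx, ← o5_mul_apply, ← hYQ y hy q₁ hw.mem.1, o5_mul_apply, hw.act₁.1]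
    have hq2 : ρ q₂ x = -x := by
      rw [hx, ← o5_mul_apply, ← hYQ y hy q₂ hw.mem.2.1, o5_mul_apply, hw.act₂.1, map_neg]
    have hq3 : ρ q₃ x = -x := by
      rw [hx, ← o5_mul_apply, ← hYQ y hy q₃ hw.mem.2.2, o5_mul_apply, hw.act₃.1, map_neg]
    have hxtop : x ∈ fixS ρ Q ⊔ comS ρ Q := by rw [hw.dec.2]; trivial
    obtain ⟨f, hf', w, hw', hfw⟩ := Submodule.mem_sup.1 hxtop
    rw [hw.com, Submodule.mem_span_triple] at hw'
    obtain ⟨a, b', c, rfl⟩ := hw'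
    refine ⟨a, ?_⟩
    have hf1 : ρ q₁ f = f := hf' q₁ hw.mem.1
    have hf2 : ρ q₂ f = f := hf' q₂ hw.mem.2.1
    have hf3 : ρ q₃ f = f := hf' q₃ hw.mem.2.2
    have hS1 : x + ρ q₁ x - ρ q₂ x - ρ q₃ x = x + (x + x + x) := by
      rw [hq1, hq2, hq3]; abel
    have hS2 : x + ρ q₁ x - ρ q₂ x - ρ q₃ x = a • v₁ + (a • v₁ + a • v₁ + a • v₁) := by
      rw [← hfw]
      simp only [map_add, map_smul, hf1, hf2, hf3, hw.act₁.1, hw.act₁.2.1, hw.act₁.2.2,
        hw.act₂.1, hw.act₂.2.1, hw.act₂.2.2, hw.act₃.1, hw.act₃.2.1, hw.act₃.2.2, smul_neg]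
      abel
    rw [o5_three, add_zero] at hS1 hS2
    rw [← hx, ← hS1, hS2]
  -- step 2: `ρ y v₁ = v₁`
  have h1 : ∀ y ∈ Y, ρ y v₁ = v₁ := by
    intro y hy
    obtain ⟨a, ha⟩ := key y hy
    have hcases : a = 0 ∨ a = 1 ∨ a = -1 := by
      have hall : ∀ a : ZMod 3, a = 0 ∨ a = 1 ∨ a = -1 := by decide
      exact hall a
    rcases hcases with rfl | rfl | rfl
    · exfalso
      rw [zero_smul] at ha
      have := o5_inv_apply ρ y v₁
      rw [ha, map_zero] at this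
      exact hv1 this.symm
    · rw [ha, one_smul]
    · exfalso
      have hpow : ∀ k : ℕ, ρ (y ^ k) v₁ = ((-1 : ZMod 3) ^ k) • v₁ := by
        intro k
        induction k with
        | zero => simp
        | succ k ih =>
          rw [pow_succ, o5_mul_apply, ha, map_smul, ih, smul_smul, pow_succ]
          congr 1
          ring
      have hodd : Odd (orderOf y) := by
        have hdvd : orderOf y ∣ Nat.card ↥Y := Subgroup.orderOf_dvd_natCard Y hy
        have : (orderOf y).Coprime 2 := Nat.Coprime.coprime_dvd_left hdvd hc2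
        exact Nat.odd_iff.2 (Nat.two_dvd_ne_zero.1 (fun h2 => by
          have := Nat.Coprime.eq_one_of_dvd this.symm h2
          omega))
      have h2 := hpow (orderOf y)
      rw [pow_orderOf_eq_one, map_one, hodd.neg_one_pow] at h2
      have h3 : v₁ = -v₁ := by simpa using h2
      have h4 : v₁ + v₁ = 0 := by
        nth_rewrite 1 [h3]; abel
      have h5 := o5_three v₁
      rw [h4, zero_add] at h5
      exact hv1 h5
  have h2 : ∀ y ∈ Y, ρ y v₂ = v₂ := by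
    intro y hy
    have e : y * b = b * (b⁻¹ * y * b) := by group
    rw [← hw.bv.1, ← o5_mul_apply, e, o5_mul_apply, h1 _ (hconj y hy)]
  have h3 : ∀ y ∈ Y, ρ y v₃ = v₃ := by
    intro y hy
    have e : y * b = b * (b⁻¹ * y * b) := by group
    rw [← hw.bv.2.1, ← o5_mul_apply, e, o5_mul_apply, h2 _ (hconj y hy)]
  -- (F1) `Y` is trivial on `W = comS ρ Q`
  have hF1 : ∀ y ∈ Y, ∀ w ∈ comS ρ Q, ρ y w = w := by
    intro y hy w hw'
    rw [hw.com, Submodule.mem_span_triple] at hw'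
    obtain ⟨a, b', c, rfl⟩ := hw'
    simp only [map_add, map_smul, h1 y hy, h2 y hy, h3 y hy]
  -- (F2) `b` is trivial on `V / W`
  have hF2 : ∀ v : V, ρ b v - v ∈ comS ρ Q := by
    intro v
    have hvtop : v ∈ fixS ρ Q ⊔ comS ρ Q := by rw [hw.dec.2]; trivial
    obtain ⟨f, hf', w, hw', rfl⟩ := Submodule.mem_sup.1 hvtop
    have hbw : ρ b w ∈ comS ρ Q := by
      rw [hw.com, Submodule.mem_span_triple] at hw' ⊢
      obtain ⟨a, b', c, rfl⟩ := hw'
      refine ⟨c, a, b', ?_⟩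
      simp only [map_add, map_smul, hw.bv.1, hw.bv.2.1, hw.bv.2.2]
      abel
    have : ρ b (f + w) - (f + w) = ρ b w - w := by
      rw [map_add, hw.fixb f hf']; abel
    rw [this]
    exact Submodule.sub_mem _ hbw hw'
  have hF2' : ∀ v : V, ρ b⁻¹ v - v ∈ comS ρ Q := by
    intro v
    have := hF2 (ρ b⁻¹ v)
    have e : ρ b (ρ b⁻¹ v) = v := by
      rw [← o5_mul_apply, mul_inv_cancel, map_one]; rfl
    rw [e] at this
    have h := Submodule.neg_mem _ this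
    rwa [neg_sub] at h
  -- the commutator
  intro y hy
  have hyi : y⁻¹ ∈ Y := Y.inv_mem hy
  have hcY : y⁻¹ * (b⁻¹ * y * b) ∈ Y := Y.mul_mem hyi (hconj y hy)
  have hcW : ∀ v : V, ρ (y⁻¹ * (b⁻¹ * y * b)) v - v ∈ comS ρ Q := by
    intro v
    have e1 : ρ (y⁻¹ * (b⁻¹ * y * b)) v = ρ y⁻¹ (ρ b⁻¹ (ρ y (ρ b v))) := by
      rw [o5_mul_apply, o5_mul_apply, o5_mul_apply]
    have hu : ρ b v - v ∈ comS ρ Q := hF2 v
    have e2 : ρ y (ρ b v) = ρ y v + (ρ b v - v) := by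
      have : ρ b v = v + (ρ b v - v) := by abel
      nth_rewrite 1 [this]
      rw [map_add, hF1 y hy _ hu]
    have hu2 : ρ b⁻¹ (ρ y (ρ b v)) - ρ y (ρ b v) ∈ comS ρ Q := hF2' _
    have e3 : ρ b⁻¹ (ρ y (ρ b v)) =
        ρ y v + ((ρ b v - v) + (ρ b⁻¹ (ρ y (ρ b v)) - ρ y (ρ b v))) := by
      have : ρ b⁻¹ (ρ y (ρ b v)) =
          ρ y (ρ b v) + (ρ b⁻¹ (ρ y (ρ b v)) - ρ y (ρ b v)) := by abel
      rw [this, e2]; abel
    have hsum : (ρ b v - v) + (ρ b⁻¹ (ρ y (ρ b v)) - ρ y (ρ b v)) ∈ comS ρ Q :=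
      Submodule.add_mem _ hu hu2
    rw [e1, e3, map_add, o5_inv_apply, hF1 y⁻¹ hyi _ hsum]
    have : v + ((ρ b v - v) + (ρ b⁻¹ (ρ y (ρ b v)) - ρ y (ρ b v))) - v =
        (ρ b v - v) + (ρ b⁻¹ (ρ y (ρ b v)) - ρ y (ρ b v)) := by abel
    rw [this]
    exact hsum
  have hc3' : (y⁻¹ * (b⁻¹ * y * b)) ^ 3 = 1 := by
    apply hf
    apply LinearMap.ext
    intro v
    rw [map_one]
    show ρ ((y⁻¹ * (b⁻¹ * y * b)) ^ 3) v = v
    apply o5_cube
    exact hF1 _ hcY _ (hcW v)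
  have hc1 : y⁻¹ * (b⁻¹ * y * b) = 1 := by
    have hd1 : orderOf (y⁻¹ * (b⁻¹ * y * b)) ∣ 3 := orderOf_dvd_of_pow_eq_one hc3'
    have hd2 : orderOf (y⁻¹ * (b⁻¹ * y * b)) ∣ Nat.card ↥Y := Subgroup.orderOf_dvd_natCard Y hcY
    have hd3 : orderOf (y⁻¹ * (b⁻¹ * y * b)) ∣ Nat.gcd (Nat.card ↥Y) 3 := Nat.dvd_gcd hd2 hd1
    rw [Nat.Coprime.gcd_eq_one hc3, Nat.dvd_one, orderOf_eq_one_iff] at hd3
    exact hd3
  have : b * y = y * b := by
    have e : y * b = b * y * (y⁻¹ * (b⁻¹ * y * b)) := by group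
    rw [e, hc1, mul_one]
  exact this.symm

end Cfsg.Agent.Helper38.C3
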