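import Mathlib
import Cfsg.Agent.Lib.Helper82.GenChar
import Cfsg.Agent.Lib.Helper3.CharArtin
import Cfsg.Agent.Lib.Helper81.CharRam

set_option autoImplicit false
set_option linter.unusedSectionVars false

/-! Characters of a finite abelian group with a central involution which are "almost" half of
the regular character: the missing linear character. -/

namespace Cfsg.Agent.Helper38

open Cfsg
open Cfsg.Agent.Helper81 Cfsg.Agent.Helper82
open scoped ComplexConjugate

universe u

variable {A : Type u} [Group A] [Fintype A] [DecidableEq A]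

/-- half of the regular character, on the side of the sign `s` -/
noncomputable def halfReg (z : A) (m : ℕ) (s : ℂ) : A → ℂ := fun a =>
  (m : ℂ) * ((if a = 1 then 1 else 0) + s * (if a = z then 1 else 0))

lemma sum_halfReg_mul (z : A) (m : ℕ) (s : ℂ) (f : A → ℂ) :
    ∑ a : A, halfReg z m s a * f a = (m : ℂ) * (f 1 + s * f z) := by
  have : ∀ a : A, halfReg z m s a * f a =
      (if a = 1 then (m : ℂ) * f a else 0) + (if a = z then (m : ℂ) * s * f a else 0) := by
    intro a
    unfold halfReg
    split_ifs <;> ring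
  rw [Finset.sum_congr rfl (fun a _ => this a), Finset.sum_add_distrib, Finset.sum_ite_eq',
    Finset.sum_ite_eq', if_pos (Finset.mem_univ _), if_pos (Finset.mem_univ _)]
  ring

lemma hom_sq_cases (lam : A →* ℂˣ) (z : A) (hz2 : z * z = 1) :
    ((lam z : ℂˣ) : ℂ) = 1 ∨ ((lam z : ℂˣ) : ℂ) = -1 := by
  have h : ((lam z : ℂˣ) : ℂ) * ((lam z : ℂˣ) : ℂ) = 1 := by
    rw [← Units.val_mul, ← map_mul, hz2, map_one, Units.val_one]
  have h' : (((lam z : ℂˣ) : ℂ) - 1) * (((lam z : ℂˣ) : ℂ) + 1) = 0 := by linear_combination h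
  rcases mul_eq_zero.mp h' with h1 | h1
  · left; linear_combination h1
  · right; linear_combination h1

/-- `halfReg` is a character -/
theorem isCharacter_halfReg (hcomm : ∀ a b : A, a * b = b * a) (z : A) (hz2 : z * z = 1)
    (m : ℕ) (hm : 0 < m) (hcard : Nat.card A = 2 * m) (s : ℂ) (hs : s = 1 ∨ s = -1) :
    IsCharacter A (halfReg z m s) := by
  apply isCharacter_of_nat_classInner
  · intro g h
    have : h * g * h⁻¹ = g := by rw [hcomm h g, mul_assoc, mul_inv_cancel, mul_one]
    rw [this]
  · intro φ hφ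
    obtain ⟨lam, rfl⟩ := Cfsg.Agent.Helper3.irr_abelian_hom hcomm φ hφ
    unfold classInner
    rw [sum_halfReg_mul, hcard]
    have hm0 : (m : ℂ) ≠ 0 := by exact_mod_cast hm.ne'
    have h1 : ((lam 1 : ℂˣ) : ℂ) = 1 := by rw [map_one, Units.val_one]
    simp only [map_one]
    push_cast
    rcases hom_sq_cases lam z hz2 with h2 | h2 <;> rcases hs with h3 | h3
    · refine ⟨1, ?_⟩
      rw [h2, h3]
      simp
      field_simp
      norm_num
    · refine ⟨0, ?_⟩
      rw [h2, h3]
      simp
    · refine ⟨0, ?_⟩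
      rw [h2, h3]
      simp
    · refine ⟨1, ?_⟩
      rw [h2, h3]
      simp
      field_simp
      norm_num

/-- a character of degree `k` of an abelian group of order `2 (k + 1)` on which the involution
`z` acts by the sign `s`, and whose norm is as small as possible, is `halfReg` minus a linear
character -/
theorem abel_sign (hcomm : ∀ a b : A, a * b = b * a) (z : A) (hz1 : z ≠ 1) (hz2 : z * z = 1)
    (k : ℕ) (hcard : Nat.card A = 2 * (k + 1)) (Ψ : A → ℂ) (hΨ : IsCharacter A Ψ)
    (s : ℂ) (hs : s = 1 ∨ s = -1) (hΨ1 : Ψ 1 = (k : ℂ)) (hΨz : Ψ z = s * (k : ℂ))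
    (hS : ∑ a : A, (if a ≠ 1 ∧ a ≠ z then Ψ a * conj (Ψ a) else 0) = 2 * (k : ℂ)) :
    ∃ lam : A →* ℂˣ, ((lam z : ℂˣ) : ℂ) = s ∧
      ∀ a : A, a ≠ 1 → a ≠ z → Ψ a = -((lam a : ℂˣ) : ℂ) := by
  have hρ := isCharacter_halfReg hcomm z hz2 (k + 1) (Nat.succ_pos k) hcard s hs
  set D : A → ℂ := halfReg z (k + 1) s - Ψ with hD
  have hgen : IsGeneralizedCharacter A D := ⟨_, _, hρ, hΨ, rfl⟩
  have hss : s * conj s = 1 := by
    rcases hs with h | h <;> rw [h] <;> simp
  have hD1 : D 1 = 1 := by
    have : D 1 = halfReg z (k + 1) s 1 - Ψ 1 := rfl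
    rw [this]
    unfold halfReg
    rw [if_pos rfl, if_neg (Ne.symm hz1), hΨ1]
    push_cast
    ring
  have hDz : D z = s := by
    have : D z = halfReg z (k + 1) s z - Ψ z := rfl
    rw [this]
    unfold halfReg
    rw [if_neg hz1, if_pos rfl, hΨz]
    push_cast
    ring
  have hDa : ∀ a : A, a ≠ 1 → a ≠ z → D a = -Ψ a := by
    intro a h1 h2
    have : D a = halfReg z (k + 1) s a - Ψ a := rfl
    rw [this]
    unfold halfReg
    rw [if_neg h1, if_neg h2]
    ring
  have hnorm : classInner D D = 1 := by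
    unfold classInner
    have hpt : ∀ a : A, D a * conj (D a) = (if a = 1 then 1 else 0) + (if a = z then 1 else 0) +
        (if a ≠ 1 ∧ a ≠ z then Ψ a * conj (Ψ a) else 0) := by
      intro a
      by_cases h1 : a = 1
      · subst h1
        rw [hD1, if_pos rfl, if_neg (Ne.symm hz1), if_neg (by simp)]
        simp
      · by_cases h2 : a = z
        · subst h2
          rw [hDz, if_neg h1, if_pos rfl, if_neg (by simp), hss]
          simp
        · rw [hDa a h1 h2, if_neg h1, if_neg h2, if_pos ⟨h1, h2⟩]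
          simp
    rw [Finset.sum_congr rfl (fun a _ => hpt a), Finset.sum_add_distrib, Finset.sum_add_distrib,
      Finset.sum_ite_eq', Finset.sum_ite_eq', if_pos (Finset.mem_univ _),
      if_pos (Finset.mem_univ _), hS, hcard]
    have : ((k : ℂ) + 1) ≠ 0 := by exact_mod_cast (Nat.succ_pos k).ne'
    push_cast
    field_simp
    ring
  rcases genChar_norm_one hgen hnorm with hirr | hirr
  · obtain ⟨lam, hlam⟩ := Cfsg.Agent.Helper3.irr_abelian_hom hcomm D hirr
    refine ⟨lam, ?_, ?_⟩
    · rw [← hDz, hlam]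
    · intro a h1 h2
      have := hDa a h1 h2
      rw [hlam] at this
      simp only at this
      linear_combination this
  · exfalso
    obtain ⟨d, hd, hd1⟩ := irr_one_pos hirr
    rw [Pi.neg_apply, hD1] at hd1
    have : (-1 : ℝ) = (d : ℝ) := by
      have := congrArg Complex.re hd1
      simpa using this
    have hd' : (0 : ℝ) < d := by exact_mod_cast hd
    linarith

end Cfsg.Agent.Helper38
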