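import Mathlib
import Cfsg.Agent.Lib.Helper38.AbelSign

set_option autoImplicit false
set_option linter.unusedSectionVars false

/-! Characters of degree `2 k` of a finite abelian (cyclic) group of order `2 (k + 1)` with a
central involution which are "almost" the regular character on one side: the two missing linear
characters. -/

namespace Cfsg.Agent.Helper38

open Cfsg
open Cfsg.Agent.Helper81 Cfsg.Agent.Helper82
open scoped ComplexConjugate

universe u

variable {A : Type u} [Group A] [Fintype A] [DecidableEq A]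

/-- a sum over the elements different from `1` and `z` -/
lemma sum_off (z : A) (hz1 : z ≠ 1) (f : A → ℂ) :
    ∑ a : A, (if a ≠ 1 ∧ a ≠ z then f a else 0) = ∑ a : A, f a - f 1 - f z := by
  have e : ∀ a : A, (if a ≠ 1 ∧ a ≠ z then f a else 0) =
      f a - (if a = 1 then f a else 0) - (if a = z then f a else 0) := by
    intro a
    by_cases h1 : a = 1
    · subst h1
      rw [if_neg (by simp), if_pos rfl, if_neg (Ne.symm hz1)]
      ring
    · by_cases h2 : a = z
      · subst h2
        rw [if_neg (by simp), if_neg h1, if_pos rfl]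
        ring
      · rw [if_pos ⟨h1, h2⟩, if_neg h1, if_neg h2]
        ring
  rw [Finset.sum_congr rfl (fun a _ => e a), Finset.sum_sub_distrib, Finset.sum_sub_distrib,
    Finset.sum_ite_eq', Finset.sum_ite_eq', if_pos (Finset.mem_univ _), if_pos (Finset.mem_univ _)]

open Classical in
/-- the sum of the values of a homomorphism to `ℂˣ` -/
lemma sum_hom_val (μ : A →* ℂˣ) :
    ∑ a : A, ((μ a : ℂˣ) : ℂ) = if μ = 1 then (Nat.card A : ℂ) else 0 := by
  have h := sum_hom_units ((Units.coeHom ℂ).comp μ)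
  have e : ((Units.coeHom ℂ).comp μ = 1) ↔ μ = 1 := by
    constructor
    · intro h1
      ext a
      have := DFunLike.congr_fun h1 a
      simpa using this
    · intro h1
      rw [h1]
      ext a
      simp
  simp only [MonoidHom.coe_comp, Function.comp_apply, Units.coeHom_apply] at h
  rw [h, Nat.card_eq_fintype_card]
  by_cases h1 : μ = 1
  · rw [if_pos h1, if_pos (e.mpr h1)]
  · rw [if_neg h1, if_neg (fun h2 => h1 (e.mp h2))]
    simp

/-- a character of degree `2 k` of an abelian group of order `2 (k + 1)` on which the involution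
`z` acts by the sign `s`, and whose norm is as small as possible, is twice `halfReg` minus two
distinct linear characters -/
theorem abel_two (hcomm : ∀ a b : A, a * b = b * a) (z : A) (hz1 : z ≠ 1) (hz2 : z * z = 1)
    (k : ℕ) (hcard : Nat.card A = 2 * (k + 1)) (Ψ : A → ℂ) (hΨ : IsCharacter A Ψ)
    (s : ℂ) (hs : s = 1 ∨ s = -1) (hΨ1 : Ψ 1 = 2 * (k : ℂ)) (hΨz : Ψ z = s * (2 * (k : ℂ)))
    (hS : ∑ a : A, (if a ≠ 1 ∧ a ≠ z then Ψ a * conj (Ψ a) else 0) = 4 * (k : ℂ) - 4) :
    ∃ lam₁ lam₂ : A →* ℂˣ, lam₁ ≠ lam₂ ∧ ((lam₁ z : ℂˣ) : ℂ) = s ∧ ((lam₂ z : ℂˣ) : ℂ) = s ∧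
      ∀ a : A, a ≠ 1 → a ≠ z → Ψ a = -(((lam₁ a : ℂˣ) : ℂ) + ((lam₂ a : ℂˣ) : ℂ)) := by
  have hρ := isCharacter_halfReg hcomm z hz2 (k + 1) (Nat.succ_pos k) hcard s hs
  set D : A → ℂ := halfReg z (k + 1) s + halfReg z (k + 1) s - Ψ with hD
  have hgen : IsGeneralizedCharacter A D := ⟨_, _, isCharacter_add hρ hρ, hΨ, rfl⟩
  have hss : s * conj s = 1 := by
    rcases hs with h | h <;> rw [h] <;> simp
  have hD1 : D 1 = 2 := by
    have : D 1 = halfReg z (k + 1) s 1 + halfReg z (k + 1) s 1 - Ψ 1 := rfl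
    rw [this]
    unfold halfReg
    rw [if_pos rfl, if_neg (Ne.symm hz1), hΨ1]
    push_cast
    ring
  have hDz : D z = 2 * s := by
    have : D z = halfReg z (k + 1) s z + halfReg z (k + 1) s z - Ψ z := rfl
    rw [this]
    unfold halfReg
    rw [if_neg hz1, if_pos rfl, hΨz]
    push_cast
    ring
  have hDa : ∀ a : A, a ≠ 1 → a ≠ z → D a = -Ψ a := by
    intro a h1 h2
    have : D a = halfReg z (k + 1) s a + halfReg z (k + 1) s a - Ψ a := rfl
    rw [this]
    unfold halfReg
    rw [if_neg h1, if_neg h2]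
    ring
  have hnorm : classInner D D = 2 := by
    unfold classInner
    have hpt : ∀ a : A, D a * conj (D a) = (if a = 1 then 4 else 0) + (if a = z then 4 else 0) +
        (if a ≠ 1 ∧ a ≠ z then Ψ a * conj (Ψ a) else 0) := by
      intro a
      by_cases h1 : a = 1
      · subst h1
        rw [hD1, if_pos rfl, if_neg (Ne.symm hz1), if_neg (by simp)]
        simp only [map_ofNat]
        norm_num
      · by_cases h2 : a = z
        · subst h2
          rw [hDz, if_neg h1, if_pos rfl, if_neg (by simp)]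
          simp only [map_mul, map_ofNat]
          linear_combination 4 * hss
        · rw [hDa a h1 h2, if_neg h1, if_neg h2, if_pos ⟨h1, h2⟩]
          simp
    rw [Finset.sum_congr rfl (fun a _ => hpt a), Finset.sum_add_distrib, Finset.sum_add_distrib,
      Finset.sum_ite_eq', Finset.sum_ite_eq', if_pos (Finset.mem_univ _),
      if_pos (Finset.mem_univ _), hS, hcard]
    have : ((k : ℂ) + 1) ≠ 0 := by exact_mod_cast (Nat.succ_pos k).ne'
    push_cast
    field_simp
    ring
  classical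
  have : Fintype (IrrCharacter A) := @Fintype.ofFinite _ irr_finite
  obtain ⟨zc, hzc⟩ := genChar_int_decomp hgen
  have hnorm' := hnorm
  rw [hzc, classInner_int_comb] at hnorm'
  have h3 : ∑ χ : IrrCharacter A, zc χ ^ 2 = 2 := by
    have : ((∑ χ : IrrCharacter A, zc χ * zc χ : ℤ) : ℂ) = ((2 : ℤ) : ℂ) := by simpa using hnorm'
    have h3 := Int.cast_injective this
    rw [← h3]
    exact Finset.sum_congr rfl (fun χ _ => sq (zc χ))
  obtain ⟨a, _, b, _, hab, hza, hzb, hz0⟩ := int_sq_sum_two zc Finset.univ h3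
  have hsum : D = (zc a : ℂ) • (a : A → ℂ) + (zc b : ℂ) • (b : A → ℂ) := by
    rw [hzc, ← Finset.add_sum_erase _ _ (Finset.mem_univ a)]
    congr 1
    rw [Finset.sum_eq_single b]
    · intro c hc hcb
      rw [hz0 c (Finset.mem_univ _) (Finset.mem_erase.1 hc).1 hcb]; simp
    · intro h; exact absurd (Finset.mem_erase.2 ⟨hab.symm, Finset.mem_univ _⟩) h
  obtain ⟨la, hla⟩ := Cfsg.Agent.Helper3.irr_abelian_hom hcomm a a.2
  obtain ⟨lb, hlb⟩ := Cfsg.Agent.Helper3.irr_abelian_hom hcomm b b.2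
  have hval : ∀ x : A, D x = (zc a : ℂ) * ((la x : ℂˣ) : ℂ) + (zc b : ℂ) * ((lb x : ℂˣ) : ℂ) := by
    intro x
    rw [hsum]
    simp only [Pi.add_apply, Pi.smul_apply, smul_eq_mul]
    rw [hla, hlb]
  have h1 := hval 1
  rw [hD1, map_one, map_one, Units.val_one, mul_one, mul_one] at h1
  have h1' : zc a + zc b = 2 := by
    have : ((zc a + zc b : ℤ) : ℂ) = ((2 : ℤ) : ℂ) := by push_cast; exact h1.symm
    exact Int.cast_injective this
  have ha1 : zc a = 1 := by rcases hza with h | h <;> rcases hzb with h' | h' <;> omega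
  have hb1 : zc b = 1 := by omega
  have hval' : ∀ x : A, D x = ((la x : ℂˣ) : ℂ) + ((lb x : ℂˣ) : ℂ) := by
    intro x
    rw [hval x, ha1, hb1]
    push_cast
    ring
  have hne : la ≠ lb := by
    intro h
    apply hab
    apply Subtype.ext
    rw [hla, hlb, h]
  have hz' := hval' z
  rw [hDz] at hz'
  refine ⟨la, lb, hne, ?_, ?_, ?_⟩
  · rcases hom_sq_cases la z hz2 with e1 | e1 <;> rcases hom_sq_cases lb z hz2 with e2 | e2 <;>
      rcases hs with e3 | e3 <;> rw [e1, e2, e3] at hz' <;> rw [e1, e3] <;> norm_num at hz'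
  · rcases hom_sq_cases la z hz2 with e1 | e1 <;> rcases hom_sq_cases lb z hz2 with e2 | e2 <;>
      rcases hs with e3 | e3 <;> rw [e1, e2, e3] at hz' <;> rw [e2, e3] <;> norm_num at hz'
  · intro x hx1 hxz
    have := hDa x hx1 hxz
    rw [hval' x] at this
    linear_combination this

/-- two homomorphisms of a cyclic group agreeing at a generator are equal -/
lemma hom_ext_gen {g : A} (hg : ∀ x : A, x ∈ Subgroup.zpowers g) (lam mu : A →* ℂˣ)
    (h : lam g = mu g) : lam = mu := by
  ext x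
  obtain ⟨j, rfl⟩ := hg x
  rw [map_zpow, map_zpow, h]

/-- a unit of `ℂ` whose square is one -/
lemma unit_sq_cases (u : ℂˣ) (h : u * u = 1) : u = 1 ∨ u = -1 := by
  have h' : ((u : ℂ) - 1) * ((u : ℂ) + 1) = 0 := by
    have := congrArg Units.val h
    rw [Units.val_mul, Units.val_one] at this
    linear_combination this
  rcases mul_eq_zero.mp h' with h1 | h1
  · left
    apply Units.ext
    rw [Units.val_one]
    linear_combination h1
  · right
    apply Units.ext
    rw [Units.val_neg, Units.val_one]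
    linear_combination h1

/-- in a cyclic group there is at most one nontrivial homomorphism to `ℂˣ` of square one -/
lemma hom_sq_unique [IsCyclic A] (lam mu : A →* ℂˣ) (hl : ∀ a, lam a * lam a = 1)
    (hm : ∀ a, mu a * mu a = 1) (hl1 : lam ≠ 1) (hm1 : mu ≠ 1) : lam = mu := by
  obtain ⟨g, hg⟩ := IsCyclic.exists_generator (α := A)
  apply hom_ext_gen hg
  have e1 : lam g = -1 := by
    rcases unit_sq_cases _ (hl g) with h | h
    · exfalso
      apply hl1
      apply hom_ext_gen hg
      rw [h, MonoidHom.one_apply]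
    · exact h
  have e2 : mu g = -1 := by
    rcases unit_sq_cases _ (hm g) with h | h
    · exfalso
      apply hm1
      apply hom_ext_gen hg
      rw [h, MonoidHom.one_apply]
    · exact h
  rw [e1, e2]

/-- the real valued case in a cyclic group: the two missing characters are inverse to each other
and not of order two -/
theorem abel_two_real [IsCyclic A] (hcomm : ∀ a b : A, a * b = b * a) (z : A) (hz1 : z ≠ 1)
    (hz2 : z * z = 1)
    (k : ℕ) (hcard : Nat.card A = 2 * (k + 1)) (Ψ : A → ℂ) (hΨ : IsCharacter A Ψ)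
    (s : ℂ) (hs : s = 1 ∨ s = -1) (hΨ1 : Ψ 1 = 2 * (k : ℂ)) (hΨz : Ψ z = s * (2 * (k : ℂ)))
    (hS : ∑ a : A, (if a ≠ 1 ∧ a ≠ z then Ψ a * conj (Ψ a) else 0) = 4 * (k : ℂ) - 4)
    (hreal : ∀ a : A, a ≠ 1 → a ≠ z → conj (Ψ a) = Ψ a)
    (hlin : ∑ a : A, (if a ≠ 1 ∧ a ≠ z then Ψ a else 0) = 2 * (1 + s)) :
    ∃ θ : A →* ℂˣ, ((θ z : ℂˣ) : ℂ) = s ∧ (∃ c : A, θ c ^ 2 ≠ 1) ∧
      ∀ a : A, a ≠ 1 → a ≠ z → Ψ a = -(((θ a : ℂˣ) : ℂ) + (((θ a)⁻¹ : ℂˣ) : ℂ)) := by
  classical
  obtain ⟨l₁, l₂, hne, hl₁z, hl₂z, hval⟩ :=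
    abel_two hcomm z hz1 hz2 k hcard Ψ hΨ s hs hΨ1 hΨz hS
  have hss : s * s = 1 := by
    rcases hs with h | h <;> rw [h] <;> norm_num
  have hk1 : ((k : ℂ) + 1) ≠ 0 := by exact_mod_cast (Nat.succ_pos k).ne'
  have hA : (Nat.card A : ℂ) = 2 * ((k : ℂ) + 1) := by rw [hcard]; push_cast; ring
  -- the sum of a homomorphism off `1` and `z`
  have hoff : ∀ μ : A →* ℂˣ, ∑ a : A, (if a ≠ 1 ∧ a ≠ z then ((μ a : ℂˣ) : ℂ) else 0) =
      (if μ = 1 then 2 * ((k : ℂ) + 1) else 0) - 1 - ((μ z : ℂˣ) : ℂ) := by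
    intro μ
    rw [sum_off z hz1 (fun a => ((μ a : ℂˣ) : ℂ)), sum_hom_val, map_one, Units.val_one, hA]
  -- the linear sum
  have hlin' : (if l₁ = 1 then 2 * ((k : ℂ) + 1) else 0) + (if l₂ = 1 then 2 * ((k : ℂ) + 1) else 0) = 0 := by
    have e : ∀ a : A, (if a ≠ 1 ∧ a ≠ z then Ψ a else 0) =
        -((if a ≠ 1 ∧ a ≠ z then ((l₁ a : ℂˣ) : ℂ) else 0) +
          (if a ≠ 1 ∧ a ≠ z then ((l₂ a : ℂˣ) : ℂ) else 0)) := by
      intro a
      by_cases h : a ≠ 1 ∧ a ≠ z
      · rw [if_pos h, if_pos h, if_pos h, hval a h.1 h.2]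
      · rw [if_neg h, if_neg h, if_neg h]; ring
    rw [Finset.sum_congr rfl (fun a _ => e a), Finset.sum_neg_distrib, Finset.sum_add_distrib,
      hoff l₁, hoff l₂, hl₁z, hl₂z] at hlin
    linear_combination -hlin
  have hl₁ : l₁ ≠ 1 := by
    intro h
    rw [if_pos h] at hlin'
    by_cases h2 : l₂ = 1
    · rw [if_pos h2] at hlin'
      apply hk1
      linear_combination (1 / 4 : ℂ) * hlin'
    · rw [if_neg h2] at hlin'
      apply hk1
      linear_combination (1 / 2 : ℂ) * hlin'
  have hl₂ : l₂ ≠ 1 := by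
    intro h
    rw [if_pos h, if_neg hl₁] at hlin'
    apply hk1
    linear_combination (1 / 2 : ℂ) * hlin'
  -- the quadratic sum
  have hquad : (if l₁ * l₁ = 1 then 2 * ((k : ℂ) + 1) else 0) +
      2 * (if l₁ * l₂ = 1 then 2 * ((k : ℂ) + 1) else 0) +
      (if l₂ * l₂ = 1 then 2 * ((k : ℂ) + 1) else 0) = 4 * ((k : ℂ) + 1) := by
    have e : ∀ a : A, (if a ≠ 1 ∧ a ≠ z then Ψ a * conj (Ψ a) else 0) =
        (if a ≠ 1 ∧ a ≠ z then (((l₁ * l₁) a : ℂˣ) : ℂ) else 0) +
          2 * (if a ≠ 1 ∧ a ≠ z then (((l₁ * l₂) a : ℂˣ) : ℂ) else 0) +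
          (if a ≠ 1 ∧ a ≠ z then (((l₂ * l₂) a : ℂˣ) : ℂ) else 0) := by
      intro a
      by_cases h : a ≠ 1 ∧ a ≠ z
      · rw [if_pos h, if_pos h, if_pos h, if_pos h, hreal a h.1 h.2, hval a h.1 h.2]
        simp only [MonoidHom.mul_apply, Units.val_mul]
        ring
      · rw [if_neg h, if_neg h, if_neg h, if_neg h]; ring
    rw [Finset.sum_congr rfl (fun a _ => e a), Finset.sum_add_distrib, Finset.sum_add_distrib,
      ← Finset.mul_sum, hoff, hoff, hoff] at hS
    simp only [MonoidHom.mul_apply, Units.val_mul] at hS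
    rw [hl₁z, hl₂z, hss] at hS
    linear_combination hS
  by_cases h12 : l₁ * l₂ = 1
  · refine ⟨l₁, hl₁z, ?_, ?_⟩
    · rw [if_pos h12] at hquad
      by_contra hall
      push Not at hall
      have h11 : l₁ * l₁ = 1 := by
        ext a
        have := hall a
        rw [pow_two] at this
        rw [MonoidHom.mul_apply, this]
        rfl
      rw [if_pos h11] at hquad
      by_cases h22 : l₂ * l₂ = 1
      · rw [if_pos h22] at hquad
        apply hk1
        linear_combination (1 / 4 : ℂ) * hquad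
      · rw [if_neg h22] at hquad
        apply hk1
        linear_combination (1 / 2 : ℂ) * hquad
    · intro a h1 h2
      rw [hval a h1 h2]
      have : l₂ a = (l₁ a)⁻¹ := by
        have := DFunLike.congr_fun h12 a
        rw [MonoidHom.mul_apply, MonoidHom.one_apply] at this
        exact (inv_eq_of_mul_eq_one_right this).symm
      rw [this]
  · exfalso
    rw [if_neg h12] at hquad
    by_cases h11 : l₁ * l₁ = 1
    · by_cases h22 : l₂ * l₂ = 1
      · apply hne
        apply hom_sq_unique l₁ l₂ _ _ hl₁ hl₂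
        · intro a
          have := DFunLike.congr_fun h11 a
          rwa [MonoidHom.mul_apply, MonoidHom.one_apply] at this
        · intro a
          have := DFunLike.congr_fun h22 a
          rwa [MonoidHom.mul_apply, MonoidHom.one_apply] at this
      · rw [if_pos h11, if_neg h22] at hquad
        apply hk1
        linear_combination -(1 / 2 : ℂ) * hquad
    · by_cases h22 : l₂ * l₂ = 1
      · rw [if_neg h11, if_pos h22] at hquad
        apply hk1
        linear_combination -(1 / 2 : ℂ) * hquad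
      · rw [if_neg h11, if_neg h22] at hquad
        apply hk1
        linear_combination -(1 / 4 : ℂ) * hquad

/-- the homomorphisms from a finite cyclic group to `ℂˣ` -/
lemma exists_hom_equiv {B : Type*} [Group B] [Finite B] [IsCyclic B] :
    Nonempty ((B →* ℂˣ) ≃* B) := by
  let _ : CommGroup B := IsCyclic.commGroup
  have : NeZero ((Nat.card B : ℕ) : ℂ) := ⟨by exact_mod_cast Nat.card_pos.ne'⟩
  exact IsCyclic.monoidHom_equiv_self B ℂ

/-- the homomorphisms from a finite cyclic group to `ℂˣ` are finitely many -/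
lemma finite_hom_cyclic {B : Type*} [Group B] [Finite B] [IsCyclic B] : Finite (B →* ℂˣ) := by
  obtain ⟨e⟩ := exists_hom_equiv (B := B)
  exact Finite.of_equiv B e.symm.toEquiv

/-- in a cyclic group with an involution, the homomorphisms to `ℂˣ` not of square one form a
finite set with at most `|B| - 2` elements -/
lemma exists_finset_hom {B : Type*} [Group B] [Finite B] [IsCyclic B] (z : B)
    (hz1 : z ≠ 1) (hz2 : z * z = 1) :
    ∃ t : Finset (B →* ℂˣ), (∀ θ : B →* ℂˣ, θ ∈ t ↔ ∃ c : B, θ c ^ 2 ≠ 1) ∧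
      t.card + 2 ≤ Nat.card B := by
  classical
  obtain ⟨e⟩ := exists_hom_equiv (B := B)
  have := finite_hom_cyclic (B := B)
  have : Fintype (B →* ℂˣ) := Fintype.ofFinite _
  have hcard : Fintype.card (B →* ℂˣ) = Nat.card B := by
    rw [← Nat.card_eq_fintype_card]; exact Nat.card_congr e.toEquiv
  refine ⟨Finset.univ.filter (fun θ : B →* ℂˣ => ∃ c : B, θ c ^ 2 ≠ 1), ?_, ?_⟩
  · intro θ
    rw [Finset.mem_filter]
    exact ⟨fun h => h.2, fun h => ⟨Finset.mem_univ _, h⟩⟩
  have hsplit := Finset.card_filter_add_card_filter_not (s := Finset.univ)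
    (fun θ : B →* ℂˣ => ∃ c : B, θ c ^ 2 ≠ 1)
  have h2 : 2 ≤ (Finset.univ.filter (fun θ : B →* ℂˣ => ¬ ∃ c : B, θ c ^ 2 ≠ 1)).card := by
    have hsub : ({1, e.symm z} : Finset (B →* ℂˣ)) ⊆
        Finset.univ.filter (fun θ : B →* ℂˣ => ¬ ∃ c : B, θ c ^ 2 ≠ 1) := by
      intro θ hθ
      rw [Finset.mem_insert, Finset.mem_singleton] at hθ
      rw [Finset.mem_filter]
      refine ⟨Finset.mem_univ _, ?_⟩
      push Not
      intro c
      rcases hθ with rfl | rfl
      · simp
      · have : e.symm z * e.symm z = 1 := by rw [← map_mul, hz2, map_one]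
        have := DFunLike.congr_fun this c
        rw [MonoidHom.mul_apply, MonoidHom.one_apply] at this
        rw [pow_two, this]
    have hne : (1 : B →* ℂˣ) ≠ e.symm z := by
      intro h
      apply hz1
      have := congrArg e h
      rw [map_one, MulEquiv.apply_symm_apply] at this
      exact this.symm
    calc 2 = ({1, e.symm z} : Finset (B →* ℂˣ)).card := (Finset.card_pair hne).symm
      _ ≤ _ := Finset.card_le_card hsub
  rw [Finset.card_univ, hcard] at hsplit
  omega

/-- a double counting argument: if every `a` is related to at least two `b`, every `b` to at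
most `n` of the `a`, and there are `n² / 2` of the `a` and at most `n` of the `b`, then every
`b` is related to some `a` -/
lemma double_count {α β : Type*} (s : Finset α) (t : Finset β) (r : α → β → Prop) (n : ℕ)
    (hn : 0 < n) (hs : 2 * s.card = n * n) (ht : t.card ≤ n)
    (hlow : ∀ a ∈ s, ∃ b₁ ∈ t, ∃ b₂ ∈ t, b₁ ≠ b₂ ∧ r a b₁ ∧ r a b₂)
    (hup : ∀ b ∈ t, ∀ u : Finset α, u ⊆ s → (∀ a ∈ u, r a b) → u.card ≤ n) :
    ∀ b ∈ t, ∃ a ∈ s, r a b := by
  classical
  intro b₀ hb₀
  by_contra hcon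
  push Not at hcon
  have hdc : ∑ a ∈ s, (t.filter (fun b => r a b)).card =
      ∑ b ∈ t, (s.filter (fun a => r a b)).card := by
    simp only [Finset.card_filter]
    exact Finset.sum_comm
  have hlow' : 2 * s.card ≤ ∑ a ∈ s, (t.filter (fun b => r a b)).card := by
    rw [mul_comm, ← smul_eq_mul, ← Finset.sum_const]
    apply Finset.sum_le_sum
    intro a ha
    obtain ⟨b₁, hb₁, b₂, hb₂, hne, hr₁, hr₂⟩ := hlow a ha
    have : 1 < (t.filter (fun b => r a b)).card := by
      rw [Finset.one_lt_card]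
      exact ⟨b₁, Finset.mem_filter.mpr ⟨hb₁, hr₁⟩, b₂, Finset.mem_filter.mpr ⟨hb₂, hr₂⟩, hne⟩
    omega
  have hzero : (s.filter (fun a => r a b₀)).card = 0 := by
    rw [Finset.card_eq_zero, Finset.filter_eq_empty_iff]
    exact hcon
  have hup' : ∑ b ∈ t, (s.filter (fun a => r a b)).card ≤ n * (t.card - 1) := by
    rw [← Finset.add_sum_erase t _ hb₀, hzero, zero_add]
    calc ∑ b ∈ t.erase b₀, (s.filter (fun a => r a b)).card
        ≤ ∑ b ∈ t.erase b₀, n := Finset.sum_le_sum (fun b hb =>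
          hup b (Finset.mem_of_mem_erase hb) _ (Finset.filter_subset _ _)
            (fun a ha => (Finset.mem_filter.mp ha).2))
      _ = n * (t.card - 1) := by
          rw [Finset.sum_const, smul_eq_mul, Finset.card_erase_of_mem hb₀, mul_comm]
  have h1 : n * n ≤ n * (t.card - 1) := by
    rw [← hs]
    exact le_trans hlow' (hdc ▸ hup')
  have h2 := Nat.le_of_mul_le_mul_left h1 hn
  omega

end Cfsg.Agent.Helper38
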