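import Mathlib

set_option autoImplicit false
set_option linter.unusedSectionVars false

/-!
# The split extension `V ⋊ A` of an abelian group `V` (written additively) by a group `A` acting on it

Used to compute element orders in split extensions.
-/

namespace Cfsg.Agent.Helper38

/-- pairs `(v, a)`: the affine map `x ↦ a • x + v` -/
structure Aff (A V : Type*) where
  /-- translation part -/
  v : V
  /-- group part -/
  a : A

namespace Aff

variable {A V : Type*} [Group A] [AddCommGroup V] [DistribMulAction A V]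

@[ext] theorem ext {x y : Aff A V} (hv : x.v = y.v) (ha : x.a = y.a) : x = y := by
  cases x; cases y; cases hv; cases ha; rfl

instance : Mul (Aff A V) := ⟨fun x y => ⟨x.v + x.a • y.v, x.a * y.a⟩⟩
instance : One (Aff A V) := ⟨⟨0, 1⟩⟩
instance : Inv (Aff A V) := ⟨fun x => ⟨-(x.a⁻¹ • x.v), x.a⁻¹⟩⟩

@[simp] theorem mul_v (x y : Aff A V) : (x * y).v = x.v + x.a • y.v := rfl
@[simp] theorem mul_a (x y : Aff A V) : (x * y).a = x.a * y.a := rfl
@[simp] theorem one_v : (1 : Aff A V).v = 0 := rfl
@[simp] theorem one_a : (1 : Aff A V).a = 1 := rfl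
@[simp] theorem inv_v (x : Aff A V) : (x⁻¹).v = -(x.a⁻¹ • x.v) := rfl
@[simp] theorem inv_a (x : Aff A V) : (x⁻¹).a = x.a⁻¹ := rfl

instance : Group (Aff A V) where
  mul_assoc x y z := by
    apply ext
    · simp only [mul_v, mul_a, smul_add, mul_smul, add_assoc]
    · simp only [mul_a, mul_assoc]
  one_mul x := by
    apply ext
    · simp
    · simp
  mul_one x := by
    apply ext
    · simp
    · simp
  inv_mul_cancel x := by
    apply ext
    · simp
    · simp

/-- the projection to the group part -/
def proj : Aff A V →* A where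
  toFun x := x.a
  map_one' := rfl
  map_mul' _ _ := rfl

@[simp] theorem proj_apply (x : Aff A V) : proj x = x.a := rfl

theorem pow_a (x : Aff A V) (n : ℕ) : (x ^ n).a = x.a ^ n := map_pow proj x n

/-- the complement -/
def inr : A →* Aff A V where
  toFun a := ⟨0, a⟩
  map_one' := rfl
  map_mul' a b := by
    apply ext
    · simp
    · simp

theorem inr_injective : Function.Injective (inr : A →* Aff A V) := by
  intro a b h
  exact congrArg Aff.a h

theorem orderOf_inr (a : A) : orderOf (inr a : Aff A V) = orderOf a :=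
  orderOf_injective inr inr_injective a

/-- powers of a translation -/
theorem trans_pow (w : V) (n : ℕ) : (⟨w, 1⟩ : Aff A V) ^ n = ⟨n • w, 1⟩ := by
  induction n with
  | zero =>
    apply ext
    · simp
    · simp
  | succ n ih =>
    rw [pow_succ, ih]
    apply ext
    · simp [add_smul]
    · simp

theorem eq_trans_of_a_eq_one {y : Aff A V} (h : y.a = 1) : y = ⟨y.v, 1⟩ := by
  apply ext
  · rfl
  · exact h

/-- if `a ^ m = 1` and `V` has exponent `3`, then `x ^ (m * 3) = 1` -/
theorem pow_mul_three_eq_one (h3 : ∀ w : V, 3 • w = 0) (x : Aff A V) (m : ℕ) (ha : x.a ^ m = 1) :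
    x ^ (m * 3) = 1 := by
  have h1 : (x ^ m).a = 1 := by rw [pow_a, ha]
  rw [pow_mul, eq_trans_of_a_eq_one h1, trans_pow, h3]
  rfl

/-- if the group part has no fixed points other than `0`, the order is that of the
group part -/
theorem pow_eq_one_of_fpf (x : Aff A V) (hfix : ∀ w : V, x.a • w = w → w = 0) (m : ℕ)
    (ha : x.a ^ m = 1) : x ^ m = 1 := by
  have h1 : (x ^ m).a = 1 := by rw [pow_a, ha]
  have hcomm : x * x ^ m = x ^ m * x := by rw [← pow_succ', ← pow_succ]
  have hv := congrArg Aff.v hcomm
  simp only [mul_v, h1, one_smul] at hv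
  have h0 : (x ^ m).v = 0 := by
    apply hfix
    have : x.v + x.a • (x ^ m).v = x.v + (x ^ m).v := by rw [hv, add_comm]
    exact add_left_cancel this
  apply ext
  · exact h0
  · exact h1

/-- if `a ^ 3` acts as negation and squares to one then `x ^ 6 = 1` -/
theorem pow_six_eq_one (x : Aff A V) (ha : ∀ w : V, (x.a ^ 3) • w = -w) (ha2 : x.a ^ 6 = 1) :
    x ^ 6 = 1 := by
  have h1 : ∀ w : V, (x ^ 3).a • w = -w := by
    intro w
    rw [pow_a]
    exact ha w
  have : x ^ 6 = x ^ 3 * x ^ 3 := by rw [← pow_add]
  rw [this]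
  apply ext
  · simp [h1]
  · rw [mul_a, pow_a, ← pow_add]
    exact ha2

end Aff

end Cfsg.Agent.Helper38
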