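import Mathlib

set_option autoImplicit false

/-!
# Generic lemmas on sets of element orders
-/

namespace Cfsg.Agent.Helper38.SpecBasic

/-- the order of a suitable power -/
theorem exists_orderOf_of_dvd {G : Type*} [Group G] (x : G) (a n : ℕ) (ha : 0 < a)
    (hx : orderOf x = a) (hn : n ∣ a) : ∃ y : G, orderOf y = n := by
  obtain ⟨k, hk⟩ := hn
  have hk0 : k ≠ 0 := by
    rintro rfl
    rw [mul_zero] at hk
    omega
  have hn0 : 0 < n := by
    rcases Nat.eq_zero_or_pos n with h | h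
    · rw [h, zero_mul] at hk
      omega
    · exact h
  refine ⟨x ^ k, ?_⟩
  rw [orderOf_pow' x hk0, hx, hk, Nat.gcd_mul_left_left, Nat.mul_div_cancel _ (Nat.pos_of_ne_zero hk0)]

/-- the set of element orders of a group all of whose elements have order dividing one of three
numbers, each of which is attained -/
theorem range_orderOf_eq {G : Type*} [Group G] (a b c : ℕ) (ha : 0 < a) (hb : 0 < b) (hc : 0 < c)
    (h1 : ∀ x : G, x ^ a = 1 ∨ x ^ b = 1 ∨ x ^ c = 1)
    (h2 : ∃ x : G, orderOf x = a) (h3 : ∃ x : G, orderOf x = b) (h4 : ∃ x : G, orderOf x = c) :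
    Set.range (orderOf : G → ℕ) = {n | n ∣ a ∨ n ∣ b ∨ n ∣ c} := by
  ext n
  constructor
  · rintro ⟨x, rfl⟩
    rcases h1 x with h | h | h
    · exact Or.inl (orderOf_dvd_of_pow_eq_one h)
    · exact Or.inr (Or.inl (orderOf_dvd_of_pow_eq_one h))
    · exact Or.inr (Or.inr (orderOf_dvd_of_pow_eq_one h))
  · rintro (h | h | h)
    · obtain ⟨x, hx⟩ := h2
      exact exists_orderOf_of_dvd x a n ha hx h
    · obtain ⟨x, hx⟩ := h3
      exact exists_orderOf_of_dvd x b n hb hx h
    · obtain ⟨x, hx⟩ := h4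
      exact exists_orderOf_of_dvd x c n hc hx h

/-- an element whose `m`-th power is a nontrivial involution, `m` minimal, has order `2 m` -/
theorem orderOf_eq_two_mul {G : Type*} [Group G] (x : G) (m : ℕ) (hm : 0 < m) (h1 : x ^ m ≠ 1)
    (h2 : x ^ (2 * m) = 1) (h3 : ∀ n : ℕ, x ^ n = 1 → m ∣ n) : orderOf x = 2 * m := by
  have hd : orderOf x ∣ 2 * m := orderOf_dvd_of_pow_eq_one h2
  obtain ⟨k, hk⟩ := h3 _ (pow_orderOf_eq_one x)
  rw [hk, mul_comm 2 m] at hd
  have hk2 : k ∣ 2 := Nat.dvd_of_mul_dvd_mul_left hm hd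
  rcases (Nat.dvd_prime Nat.prime_two).mp hk2 with h | h
  · exfalso
    apply h1
    rw [h, mul_one] at hk
    rw [← hk]
    exact pow_orderOf_eq_one x
  · rw [hk, h, mul_comm]

end Cfsg.Agent.Helper38.SpecBasic
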