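import Mathlib
import Cfsg.Agent.Lib.Helper38.AffGroup
import Cfsg.Agent.Lib.Helper38.SpecBasic

set_option autoImplicit false
set_option linter.unusedSectionVars false

/-!
# More on the split extension `V ⋊ A`: exponent two, power sums, the translation subgroup
-/

namespace Cfsg.Agent.Helper38.Aff

variable {A V : Type*} [Group A] [AddCommGroup V] [DistribMulAction A V]

/-- the translation part of a power -/
theorem pow_v (x : Aff A V) (n : ℕ) : (x ^ n).v = ∑ j ∈ Finset.range n, x.a ^ j • x.v := by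
  induction n with
  | zero => simp
  | succ n ih =>
    rw [pow_succ, mul_v, ih, pow_a, Finset.sum_range_succ]

/-- if `a ^ m = 1` and `V` has exponent `2`, then `x ^ (m * 2) = 1` -/
theorem pow_mul_two_eq_one (h2 : ∀ w : V, 2 • w = 0) (x : Aff A V) (m : ℕ) (ha : x.a ^ m = 1) :
    x ^ (m * 2) = 1 := by
  have h1 : (x ^ m).a = 1 := by rw [pow_a, ha]
  rw [pow_mul, eq_trans_of_a_eq_one h1, trans_pow, h2]
  rfl

/-- an element with group part of order `m` and nonzero `m`-th power sum has order `2 m` -/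
theorem orderOf_eq_two_mul_of_sum (h2 : ∀ w : V, 2 • w = 0) (x : Aff A V) (m : ℕ) (hm : 0 < m)
    (ha : x.a ^ m = 1) (hmin : ∀ n : ℕ, x.a ^ n = 1 → m ∣ n)
    (hs : ∑ j ∈ Finset.range m, x.a ^ j • x.v ≠ 0) : orderOf x = 2 * m := by
  apply SpecBasic.orderOf_eq_two_mul x m hm
  · intro h
    apply hs
    rw [← pow_v, h]
    rfl
  · rw [mul_comm]
    exact pow_mul_two_eq_one h2 x m ha
  · intro n hn
    apply hmin
    rw [← pow_a, hn]
    rfl

/-- the translation subgroup is abelian -/
theorem ker_proj_comm (x y : Aff A V) (hx : x ∈ (proj : Aff A V →* A).ker)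
    (hy : y ∈ (proj : Aff A V →* A).ker) : x * y = y * x := by
  have hx1 : x.a = 1 := hx
  have hy1 : y.a = 1 := hy
  apply ext
  · simp only [mul_v, hx1, hy1, one_smul]
    exact add_comm _ _
  · simp only [mul_a, hx1, hy1]

theorem ker_proj_ne_bot (w : V) (hw : w ≠ 0) : (proj : Aff A V →* A).ker ≠ ⊥ := by
  intro h
  have hmem : (⟨w, 1⟩ : Aff A V) ∈ (proj : Aff A V →* A).ker := by
    rw [MonoidHom.mem_ker]
    rfl
  rw [h, Subgroup.mem_bot] at hmem
  exact hw (congrArg Aff.v hmem)

theorem ker_proj_solvable : Group.IsSolvable (proj : Aff A V →* A).ker := by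
  apply Group.isSolvable_of_comm
  intro x y
  apply Subtype.ext
  rw [Subgroup.coe_mul, Subgroup.coe_mul]
  exact ker_proj_comm (x : Aff A V) (y : Aff A V) x.2 y.2

theorem finite_of_finite [Finite A] [Finite V] : Finite (Aff A V) :=
  Finite.of_injective (fun x : Aff A V => (x.v, x.a)) (by
    intro x y h
    have h1 := congrArg Prod.fst h
    have h2 := congrArg Prod.snd h
    exact ext h1 h2)

end Cfsg.Agent.Helper38.Aff
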