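import Cfsg.Agent.Lib.Helper38.BG1213a
import Cfsg.Agent.Lib.Helper69.CyclicLift

/-!
# Bender–Glauberman 12.13 (statement S1421), Case II: an `E`-invariant cyclic subgroup of full
exponent all of whose nonidentity elements act regularly on `M_σ`, from an `E`-invariant line.
-/

set_option autoImplicit false
set_option linter.style.haveILetI false
set_option linter.unusedSectionVars false
open Pointwise

namespace Cfsg.Agent.Helper38.BG1213

open Subgroup Cfsg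
open scoped commutatorElement
open Cfsg.Agent.Helper33 (card_conj_smul IsSylIn exists_isSylIn_ge exists_isSylIn mem_conj_smul
  conj_mem_conj_smul smul_eq_of_mem_normalizer mem_normalizer_iff_smul_eq)
open Cfsg.Agent.Helper34.BG
open Cfsg.Agent.Helper38.BG128

variable {G : Type*} [Group G] [Finite G]

omit [Finite G] in
/-- The image of the `n`-th power map on an abelian subgroup. -/
def powImage (P : Subgroup G) (hPc : ∀ a ∈ P, ∀ b ∈ P, a * b = b * a) (n : ℕ) : Subgroup G where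
  carrier := {x | ∃ u ∈ P, u ^ n = x}
  one_mem' := ⟨1, P.one_mem, one_pow n⟩
  mul_mem' := by
    rintro _ _ ⟨u, hu, rfl⟩ ⟨v, hv, rfl⟩
    exact ⟨u * v, P.mul_mem hu hv, Commute.mul_pow (hPc u hu v hv) n⟩
  inv_mem' := by
    rintro _ ⟨u, hu, rfl⟩
    exact ⟨u⁻¹, P.inv_mem hu, inv_pow u n⟩

omit [Finite G] in
theorem mem_powImage {P : Subgroup G} {hPc : ∀ a ∈ P, ∀ b ∈ P, a * b = b * a} {n : ℕ} {x : G} :
    x ∈ powImage P hPc n ↔ ∃ u ∈ P, u ^ n = x := Iff.rfl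

omit [Finite G] in
theorem normalizer_le_normalizer_powImage (P : Subgroup G)
    (hPc : ∀ a ∈ P, ∀ b ∈ P, a * b = b * a) (n : ℕ) :
    normalizer (P : Set G) ≤ normalizer ((powImage P hPc n : Subgroup G) : Set G) := by
  apply le_normalizer_of_conj_mem
  rintro g hg _ ⟨u, hu, rfl⟩
  exact ⟨g * u * g⁻¹, (Subgroup.mem_normalizer_iff.mp hg u).mp hu, by rw [conj_pow]⟩

/-- Schur–Zassenhaus: a normal Sylow `p`-subgroup of `E` has a complement (a `p'`-group). -/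
theorem exists_compl_of_normal_sylow {p : ℕ} [Fact p.Prime] {P E : Subgroup G}
    (hP : IsSylIn p P E) (hEP : E ≤ normalizer (P : Set G)) :
    ∃ Q : Subgroup G, Cfsg.IsComplIn P Q E ∧ (Nat.card Q).Coprime p := by
  classical
  have hPE : P ≤ E := hP.1
  haveI hnorm : (P.subgroupOf E).Normal :=
    (Subgroup.normal_subgroupOf_iff_le_normalizer hPE).mpr hEP
  have hcard : Nat.card (P.subgroupOf E) = Nat.card P :=
    Nat.card_congr (Subgroup.subgroupOfEquivOfLe hPE).toEquiv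
  have hidx : ¬ p ∣ (P.subgroupOf E).index := hP.2.2
  have hcop : Nat.Coprime (Nat.card (P.subgroupOf E)) (P.subgroupOf E).index := by
    rw [hcard]
    obtain ⟨n, hn⟩ := (IsPGroup.iff_card.mp hP.2.1)
    rw [hn]
    apply Nat.Coprime.pow_left
    exact (Nat.Prime.coprime_iff_not_dvd Fact.out).2 hidx
  obtain ⟨H, hH⟩ := Subgroup.exists_right_complement'_of_coprime hcop
  refine ⟨H.map E.subtype, ⟨hPE, Subgroup.map_subtype_le _, ?_, ?_⟩, ?_⟩
  · rw [eq_bot_iff]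
    rintro x ⟨hxP, ⟨h, hh, rfl⟩⟩
    have h1 : h ∈ P.subgroupOf E ⊓ H := ⟨hxP, hh⟩
    rw [hH.disjoint.eq_bot, Subgroup.mem_bot] at h1
    rw [h1]; exact Subgroup.one_mem _
  · intro m hm
    obtain ⟨⟨a, b⟩, hab, -⟩ := (Subgroup.isComplement'_def.1 hH).existsUnique ⟨m, hm⟩
    refine ⟨(a : E), a.2, (b : E), ⟨b, b.2, rfl⟩, ?_⟩
    have := congrArg Subtype.val hab
    simpa using this.symm
  · have h1 : Nat.card (H.map E.subtype) = Nat.card H :=
      (Nat.card_congr (H.equivMapOfInjective _ E.subtype_injective).toEquiv).symm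
    rw [h1, ← hH.symm.index_eq_card]
    exact ((Nat.Prime.coprime_iff_not_dvd Fact.out).2 hidx).symm

/-- **Case II, the good cyclic subgroup.**  If `E` normalizes a line of every `E_{p²}` of `P`, then
`P` contains an `E`-invariant cyclic subgroup `U` of order `exp P` all of whose nonidentity elements
have trivial centralizer in `M_σ`. -/
theorem exists_good_cyclic (hG : IsMinSimpleOddOrder G) {M E : Subgroup G} (hM : IsCoatom M)
    (hE : IsComplIn E (sigmaCore M) M)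
    (hσ : IsPiHallOf (sigma M) (sigmaCore M) M)
    (hα : IsPiHallOf (alpha M) (alphaCore M) M) (hασ : alphaCore M ≤ sigmaCore M)
    (h11 : H11 G) (h17 : H17 M) (h18 : H18 M E)
    (h20 : IsMulCommutative ↥⁅E, E⁆)
    {p : ℕ} [Fact p.Prime] (hp : p ∈ tau2 M)
    (hab : ∀ S : Sylow p G, IsMulCommutative (S : Subgroup G))
    {P : Subgroup G} (hP : IsSylIn p P E)
    (hline : ∀ A : Subgroup G, A ≤ P → IsElementaryAbelian p A → Nat.card A = p ^ 2 →
      ∃ X : Subgroup G, X ≤ A ∧ Nat.card X = p ∧ E ≤ normalizer (X : Set G)) :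
    ∃ U : Subgroup G, U ≤ P ∧ IsCyclic U ∧ Nat.card U = Monoid.exponent ↥P ∧
      E ≤ normalizer (U : Set G) ∧
      ∀ u ∈ U, u ≠ 1 → sigmaCore M ⊓ centralizer ({u} : Set G) = ⊥ := by
  classical
  have hpp : p.Prime := Fact.out
  obtain ⟨A, hAP, hA, hAc⟩ := exists_elemAb_le hσ hE hp hP
  obtain ⟨hEP, hidx, hPc, hNPA, hNN, hNE⟩ :=
    caseII_structure hG hM hE hσ hα hασ h11 h17 h18 h20 hp hab hP hAP hA hAc
  have hPM := isSylIn_of_compl hσ hE hp.2.1 hP
  have hAE : A ≤ E := hAP.trans hP.1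
  have h17A := h17 p hp A ⟨hAE.trans hE.1, hA, hAc⟩
  have h18A := h18 p hp A ⟨hAE, hA, hAc⟩
  have hΩ : ∀ g ∈ P, g ^ p = 1 ↔ g ∈ A := sylIn_omega h17A hPM hAP
  -- the exponent of `P`
  have hexpdvd : Monoid.exponent ↥P ∣ Nat.card ↥P := Group.exponent_dvd_nat_card
  obtain ⟨m, hm⟩ := IsPGroup.iff_card.mp hP.2.1
  rw [hm] at hexpdvd
  obtain ⟨k, -, hk⟩ := (Nat.dvd_prime_pow hpp).mp hexpdvd
  have hA1 : Nat.card A ≠ 1 := by
    rw [hAc]
    exact (Nat.one_lt_pow (by norm_num) hpp.one_lt).ne'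
  have hk0 : k ≠ 0 := by
    rintro rfl
    rw [pow_zero, Monoid.exp_eq_one_iff] at hk
    apply hA1
    have h1 : Nat.card ↥P = 1 := Nat.card_eq_one_iff_unique.mpr ⟨hk, ⟨1⟩⟩
    exact Nat.eq_one_of_dvd_one (h1 ▸ Subgroup.card_dvd_of_le hAP)
  have hk1 : 1 ≤ k := Nat.one_le_iff_ne_zero.mpr hk0
  have hexp : ∀ x ∈ P, x ^ (p ^ k) = 1 := by
    intro x hx
    have h1 := Monoid.pow_exponent_eq_one (⟨x, hx⟩ : ↥P)
    rw [hk] at h1
    have := congrArg Subtype.val h1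
    simpa using this
  set n := p ^ (k - 1) with hn
  have hnp : n * p = p ^ k := by
    rw [hn, ← pow_succ, Nat.sub_add_cancel hk1]
  obtain ⟨u₀, hu₀P, hu₀⟩ : ∃ u ∈ P, u ^ n ≠ 1 := by
    by_contra hcon
    push Not at hcon
    have h1 : Monoid.exponent ↥P ∣ n := by
      apply Monoid.exponent_dvd_of_forall_pow_eq_one
      intro g
      apply Subtype.ext
      simpa using hcon g.1 g.2
    rw [hk, hn, Nat.pow_dvd_pow_iff_le_right hpp.one_lt] at h1
    omega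
  -- the deep part
  set Dp := powImage P hPc n with hDp
  have hDpA : Dp ≤ A := by
    rintro _ ⟨u, hu, rfl⟩
    rw [← hΩ _ (P.pow_mem hu n), ← pow_mul, hnp]
    exact hexp u hu
  have hNDp : normalizer (P : Set G) ≤ normalizer (Dp : Set G) :=
    normalizer_le_normalizer_powImage P hPc n
  -- a good `E`-invariant line inside the deep part
  obtain ⟨L, hLA, hLc, hEL, hLgood, y₀, hy₀P, hy₀L, hy₀1⟩ :
      ∃ L : Subgroup G, L ≤ A ∧ Nat.card L = p ∧ E ≤ normalizer (L : Set G) ∧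
        sigmaCore M ⊓ centralizer (L : Set G) = ⊥ ∧ ∃ y₀ ∈ P, y₀ ^ n ∈ L ∧ y₀ ^ n ≠ 1 := by
    have hdvd : Nat.card Dp ∣ p ^ 2 := hAc ▸ Subgroup.card_dvd_of_le hDpA
    obtain ⟨i, hi2, hi⟩ := (Nat.dvd_prime_pow hpp).mp hdvd
    have hu₀D : u₀ ^ n ∈ Dp := ⟨u₀, hu₀P, rfl⟩
    have hi0 : i ≠ 0 := by
      rintro rfl
      rw [pow_zero] at hi
      have h1 : Dp = ⊥ := Subgroup.eq_bot_of_card_eq _ hi
      rw [h1, Subgroup.mem_bot] at hu₀D
      exact hu₀ hu₀D
    have hi12 : i = 1 ∨ i = 2 := by omega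
    rcases hi12 with rfl | rfl
    · rw [pow_one] at hi
      refine ⟨Dp, hDpA, hi, hEP.trans hNDp, ?_, u₀, hu₀P, hu₀D, hu₀⟩
      apply good_of_normalizer_le hG hM h18A hDpA hi
      rw [← hNPA]
      exact hNDp
    · have hDA : Dp = A := Subgroup.eq_of_le_of_card_ge hDpA (by rw [hi, hAc])
      obtain ⟨L, hLA, hLc, hEL, hLgood⟩ :=
        exists_invariant_good_line_of_invariant_line hG hM h18A hNE (hline A hAP hA hAc)
      have hLne : L ≠ ⊥ := by
        rintro rfl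
        rw [Subgroup.card_bot] at hLc
        exact hpp.one_lt.ne hLc
      obtain ⟨l, hl, hl1⟩ := (Subgroup.ne_bot_iff_exists_ne_one).mp hLne |>.imp
        (fun l h => h) |> fun ⟨l, h⟩ => (⟨l.1, l.2, fun h1 => h (Subtype.ext h1)⟩ :
          ∃ l : G, l ∈ L ∧ l ≠ 1)
      have hlD : l ∈ Dp := by rw [hDA]; exact hLA hl
      obtain ⟨y₀, hy₀P, hy₀⟩ := hlD
      exact ⟨L, hLA, hLc, hEL, hLgood, y₀, hy₀P, hy₀ ▸ hl, hy₀ ▸ hl1⟩
  -- a `p`-complement of `E`
  obtain ⟨Q, hQ, hQcop⟩ := exists_compl_of_normal_sylow hP hEP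
  have hQE : Q ≤ E := hQ.2.1
  obtain ⟨U, hUP, hQU, hUcyc, hUcard, hLU⟩ :=
    Cfsg.Agent.Helper69.CyclicLift.cyclic_lift P Q L hPc (hQE.trans hEP) hQcop k hk1 hexp
      (hLA.trans hAP) hLc (hQE.trans hEL) y₀ hy₀P hy₀L hy₀1
  have hPU : P ≤ normalizer (U : Set G) := by
    apply le_normalizer_of_conj_mem
    intro c hc x hx
    have : c * x * c⁻¹ = x := by
      rw [hPc c hc x (hUP hx), mul_assoc, mul_inv_cancel, mul_one]
    rw [this]; exact hx
  have hEU : E ≤ normalizer (U : Set G) := by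
    intro e he
    obtain ⟨a, ha, b, hb, rfl⟩ := hQ.2.2.2 e he
    exact Subgroup.mul_mem _ (hPU ha) (hQU hb)
  refine ⟨U, hUP, hUcyc, by rw [hUcard, hk], hEU, ?_⟩
  -- regularity
  intro u hu hu1
  have huP : u ∈ P := hUP hu
  have hord : orderOf u ∣ p ^ k := orderOf_dvd_of_pow_eq_one (hexp u huP)
  obtain ⟨j, -, hj⟩ := (Nat.dvd_prime_pow hpp).mp hord
  have hj0 : j ≠ 0 := by
    rintro rfl
    rw [pow_zero] at hj
    exact hu1 (orderOf_eq_one_iff.mp hj)
  set u' := u ^ (p ^ (j - 1)) with hu'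
  have hu'p : u' ^ p = 1 := by
    rw [hu', ← pow_mul, ← pow_succ, Nat.sub_add_cancel (Nat.one_le_iff_ne_zero.mpr hj0), ← hj,
      pow_orderOf_eq_one]
  have hu'1 : u' ≠ 1 := by
    intro h1
    have h2 : orderOf u ∣ p ^ (j - 1) := orderOf_dvd_of_pow_eq_one h1
    rw [hj, Nat.pow_dvd_pow_iff_le_right hpp.one_lt] at h2
    omega
  have hu'L : u' ∈ L :=
    Cfsg.Agent.Helper69.CyclicLift.mem_of_pow_eq_one hpp.pos hUcyc hLU hLc (U.pow_mem hu _) hu'p
  have hLz : Subgroup.zpowers u' = L := by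
    apply Subgroup.eq_of_le_of_card_ge (Subgroup.zpowers_le.mpr hu'L)
    rw [hLc, Nat.card_zpowers, orderOf_eq_prime hu'p hu'1]
  rw [eq_bot_iff, ← hLgood]
  intro x hx
  refine ⟨hx.1, ?_⟩
  have hcomm : Commute u x := (Subgroup.mem_centralizer_iff.mp hx.2) u rfl
  show x ∈ centralizer (L : Set G)
  rw [Subgroup.mem_centralizer_iff]
  intro l hl
  rw [SetLike.mem_coe, ← hLz] at hl
  obtain ⟨z, rfl⟩ := Subgroup.mem_zpowers_iff.mp hl
  exact ((hcomm.pow_left _).zpow_left z).eq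

/-- The same in the shape `helper29`/`helper78` asked for (`exists_cyclic_AB` modulo the invariant
line). -/
theorem exists_cyclic_AB_of_line (hG : IsMinSimpleOddOrder G) {M E : Subgroup G} (hM : IsCoatom M)
    (hE : IsComplIn E (sigmaCore M) M)
    (hσ : IsPiHallOf (sigma M) (sigmaCore M) M)
    (hα : IsPiHallOf (alpha M) (alphaCore M) M) (hασ : alphaCore M ≤ sigmaCore M)
    (h11 : H11 G) (h17 : H17 M) (h18 : H18 M E)
    (h20 : IsMulCommutative ↥⁅E, E⁆)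
    {p : ℕ} [Fact p.Prime] (hp : p ∈ tau2 M)
    (hab : ∀ S : Sylow p G, IsMulCommutative (S : Subgroup G))
    (hline : ∀ A : Subgroup G, A ≤ E → IsElementaryAbelian p A → Nat.card A = p ^ 2 →
      ∃ X : Subgroup G, X ≤ A ∧ Nat.card X = p ∧ E ≤ normalizer (X : Set G)) :
    ∃ C : Subgroup G, C ≤ E ∧ IsCyclic C ∧ IsPGroup p C ∧ E ≤ normalizer (C : Set G) ∧
      (∀ x ∈ E, IsPGroup p (Subgroup.zpowers x) → orderOf x ∣ Nat.card C) ∧
      ∀ c ∈ C, c ≠ 1 → sigmaCore M ⊓ centralizer ({c} : Set G) = ⊥ := by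
  obtain ⟨P, hP⟩ := exists_isSylIn (p := p) E
  obtain ⟨U, hUP, hUc, hUcard, hEU, hreg⟩ :=
    exists_good_cyclic hG hM hE hσ hα hασ h11 h17 h18 h20 hp hab hP
      (fun A hAP hA hAc => hline A (hAP.trans hP.1) hA hAc)
  refine ⟨U, hUP.trans hP.1, hUc, hP.2.1.to_le hUP, hEU, ?_, hreg⟩
  intro x hxE hx
  obtain ⟨e, -, hle⟩ := hP.exists_conj_le hx (Subgroup.zpowers_le.mpr hxE)
  have h1 : e * x * e⁻¹ ∈ P := hle (conj_mem_conj_smul (Subgroup.mem_zpowers x))
  have h2 : orderOf (e * x * e⁻¹) = orderOf x := by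
    rw [← MulAut.conj_apply, MulEquiv.orderOf_eq]
  rw [hUcard, ← h2, ← Subgroup.orderOf_mk _ h1]
  exact Monoid.order_dvd_exponent _

end Cfsg.Agent.Helper38.BG1213
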