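import Cfsg.Agent.Lib.Helper38.BG1213a

/-!
# A pure lemma for Bender–Glauberman 12.13 (statement S1421)

If a group `E` of odd order acts on `A ≅ E_{p²}` with `E'` acting trivially and normalizes no line
(subgroup of order `p`) of `A`, then some Sylow subgroup of `E` normalizes no line of `A`.
-/

set_option autoImplicit false
set_option linter.style.haveILetI false
set_option linter.unusedSectionVars false
open Pointwise

namespace Cfsg.Agent.Helper38.BG1213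

open Subgroup Cfsg
open scoped commutatorElement
open Cfsg.Agent.Helper33 (card_conj_smul IsSylIn exists_isSylIn_ge exists_isSylIn mem_conj_smul
  conj_mem_conj_smul smul_eq_of_mem_normalizer mem_normalizer_iff_smul_eq conj_mul_smul
  conj_smul_le_iff)
open Cfsg.Agent.Helper34.BG
open Cfsg.Agent.Helper38.BG128

variable {G : Type*} [Group G] [Finite G]

/-- Distinct subgroups of prime order meet trivially. -/
theorem inf_eq_bot_of_card_prime {p : ℕ} [Fact p.Prime] {L₁ L₂ : Subgroup G}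
    (c₁ : Nat.card L₁ = p) (c₂ : Nat.card L₂ = p) (hne : L₁ ≠ L₂) : L₁ ⊓ L₂ = ⊥ := by
  have hpp : p.Prime := Fact.out
  by_contra h
  have hd : Nat.card (L₁ ⊓ L₂ : Subgroup G) ∣ p := c₁ ▸ Subgroup.card_dvd_of_le inf_le_left
  rcases (Nat.dvd_prime hpp).mp hd with h1 | h1
  · exact h (Subgroup.eq_bot_of_card_eq _ h1)
  · have e1 : L₁ ⊓ L₂ = L₁ := Subgroup.eq_of_le_of_card_ge inf_le_left (by rw [h1, c₁])
    have e2 : L₁ ⊓ L₂ = L₂ := Subgroup.eq_of_le_of_card_ge inf_le_right (by rw [h1, c₂])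
    exact hne (e1.symm.trans e2)

/-- A subgroup of prime order is generated by any of its nonidentity elements. -/
theorem zpowers_eq_of_card_prime {p : ℕ} [Fact p.Prime] {L : Subgroup G} (c : Nat.card L = p)
    {a : G} (ha : a ∈ L) (ha1 : a ≠ 1) : Subgroup.zpowers a = L := by
  have hpp : p.Prime := Fact.out
  apply Subgroup.eq_of_le_of_card_ge (Subgroup.zpowers_le.mpr ha)
  rw [Nat.card_zpowers, c]
  have h1 : orderOf a ∣ p := c ▸ Subgroup.orderOf_dvd_natCard L ha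
  rcases (Nat.dvd_prime hpp).mp h1 with h | h
  · exact absurd (orderOf_eq_one_iff.mp h) ha1
  · exact h.ge

theorem exists_ne_one_of_card_prime {p : ℕ} [Fact p.Prime] {L : Subgroup G}
    (c : Nat.card L = p) : ∃ a ∈ L, a ≠ 1 := by
  have hpp : p.Prime := Fact.out
  by_contra hcon
  push Not at hcon
  have : L = ⊥ := (Subgroup.eq_bot_iff_forall L).mpr hcon
  rw [this, Subgroup.card_bot] at c
  exact hpp.one_lt.ne c

/-- (LA) An element normalizing three distinct lines of `A ≅ E_{p²}` acts on `A` as a power map. -/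
theorem conj_eq_pow_of_three_lines {p : ℕ} [Fact p.Prime] {A : Subgroup G}
    (hA : IsElementaryAbelian p A) (hAc : Nat.card A = p ^ 2) {y : G}
    {L₁ L₂ L₃ : Subgroup G} (h₁ : L₁ ≤ A) (h₂ : L₂ ≤ A) (h₃ : L₃ ≤ A)
    (c₁ : Nat.card L₁ = p) (c₂ : Nat.card L₂ = p) (c₃ : Nat.card L₃ = p)
    (h12 : L₁ ≠ L₂) (h13 : L₁ ≠ L₃) (h23 : L₂ ≠ L₃)
    (n₁ : y ∈ normalizer (L₁ : Set G)) (n₂ : y ∈ normalizer (L₂ : Set G))
    (n₃ : y ∈ normalizer (L₃ : Set G)) :
    ∃ u : ℕ, ∀ x ∈ A, y * x * y⁻¹ = x ^ u := by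
  have hpp : p.Prime := Fact.out
  have hd12 := inf_eq_bot_of_card_prime c₁ c₂ h12
  have hd13 := inf_eq_bot_of_card_prime c₁ c₃ h13
  have hd23 := inf_eq_bot_of_card_prime c₂ c₃ h23
  have hcompl : IsComplIn L₁ L₂ A :=
    Cfsg.Agent.Helper55.BGB.isComplIn_of_card h₁ h₂ hd12 (by rw [c₁, c₂, hAc, sq])
  obtain ⟨c, hc, hc1⟩ := exists_ne_one_of_card_prime c₃
  obtain ⟨a, ha, b, hb, hcab⟩ := hcompl.2.2.2 c (h₃ hc)
  have ha1 : a ≠ 1 := by
    rintro rfl
    rw [one_mul] at hcab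
    have : c ∈ L₂ ⊓ L₃ := ⟨hcab ▸ hb, hc⟩
    rw [hd23, Subgroup.mem_bot] at this
    exact hc1 this
  have hb1 : b ≠ 1 := by
    rintro rfl
    rw [mul_one] at hcab
    have : c ∈ L₁ ⊓ L₃ := ⟨hcab ▸ ha, hc⟩
    rw [hd13, Subgroup.mem_bot] at this
    exact hc1 this
  -- `y c y⁻¹ = c ^ u`
  have hyc : y * c * y⁻¹ ∈ Subgroup.zpowers c := by
    rw [zpowers_eq_of_card_prime c₃ hc hc1]
    exact (Subgroup.mem_normalizer_iff.mp n₃ c).mp hc
  rw [← mem_powers_iff_mem_zpowers] at hyc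
  obtain ⟨u, hu⟩ := (Submonoid.mem_powers_iff _ _).mp hyc
  refine ⟨u, ?_⟩
  have hab : Commute a b := commute_of_isElementaryAbelian hA (h₁ ha) (h₂ hb)
  have hya : y * a * y⁻¹ ∈ L₁ := (Subgroup.mem_normalizer_iff.mp n₁ a).mp ha
  have hyb : y * b * y⁻¹ ∈ L₂ := (Subgroup.mem_normalizer_iff.mp n₂ b).mp hb
  have hprod : (y * a * y⁻¹) * (y * b * y⁻¹) = a ^ u * b ^ u := by
    rw [← hab.mul_pow, ← hcab, hu, hcab]
    group
  have hkey : (a ^ u)⁻¹ * (y * a * y⁻¹) = b ^ u * (y * b * y⁻¹)⁻¹ := by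
    have := congrArg (fun t => (a ^ u)⁻¹ * t * (y * b * y⁻¹)⁻¹) hprod
    simpa [mul_assoc] using this
  have hmem : (a ^ u)⁻¹ * (y * a * y⁻¹) ∈ L₁ ⊓ L₂ :=
    ⟨L₁.mul_mem (L₁.inv_mem (L₁.pow_mem ha u)) hya,
      hkey ▸ L₂.mul_mem (L₂.pow_mem hb u) (L₂.inv_mem hyb)⟩
  rw [hd12, Subgroup.mem_bot] at hmem
  have hyau : y * a * y⁻¹ = a ^ u := by
    rw [inv_mul_eq_one] at hmem
    exact hmem.symm
  have hybu : y * b * y⁻¹ = b ^ u := by
    rw [hyau] at hprod
    exact mul_left_cancel hprod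
  -- on the two lines
  have hL : ∀ (L : Subgroup G) (g : G), Nat.card L = p → g ∈ L → g ≠ 1 → y * g * y⁻¹ = g ^ u →
      ∀ x ∈ L, y * x * y⁻¹ = x ^ u := by
    intro L g cL hg hg1 hgu x hx
    rw [← zpowers_eq_of_card_prime cL hg hg1] at hx
    obtain ⟨k, rfl⟩ := Subgroup.mem_zpowers_iff.mp hx
    rw [← conj_zpow, hgu, ← zpow_natCast, ← zpow_natCast, ← zpow_mul, ← zpow_mul, mul_comm]
  intro x hx
  obtain ⟨x₁, hx₁, x₂, hx₂, rfl⟩ := hcompl.2.2.2 x hx
  have h12c : Commute x₁ x₂ := commute_of_isElementaryAbelian hA (h₁ hx₁) (h₂ hx₂)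
  rw [h12c.mul_pow, ← hL L₁ a c₁ ha ha1 hyau x₁ hx₁, ← hL L₂ b c₂ hb hb1 hybu x₂ hx₂]
  group

/-- An element acting on `A` as a power map normalizes every subgroup of `A`. -/
theorem mem_normalizer_of_conj_eq_pow {A X : Subgroup G} (hXA : X ≤ A) {y : G} {u : ℕ}
    (hy : ∀ x ∈ A, y * x * y⁻¹ = x ^ u) : y ∈ normalizer (X : Set G) := by
  rw [mem_normalizer_iff_smul_eq]
  apply Subgroup.eq_of_le_of_card_ge
  · rw [conj_smul_le_iff]
    intro x hx
    rw [hy x (hXA hx)]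
    exact X.pow_mem hx u
  · rw [card_conj_smul]

/-- **Some Sylow subgroup normalizes no line.** -/
theorem exists_sylow_no_line {p : ℕ} [Fact p.Prime] {A E : Subgroup G}
    (hA : IsElementaryAbelian p A) (hAc : Nat.card A = p ^ 2)
    (hEA : E ≤ normalizer (A : Set G)) (hcomm : ⁅E, E⁆ ≤ centralizer (A : Set G))
    (hodd : Odd (Nat.card E))
    (hno : ∀ L : Subgroup G, L ≤ A → Nat.card L = p → ¬ E ≤ normalizer (L : Set G)) :
    ∃ (r : ℕ) (Q : Subgroup G), r.Prime ∧ IsSylIn r Q E ∧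
      ∀ L : Subgroup G, L ≤ A → Nat.card L = p → ¬ Q ≤ normalizer (L : Set G) := by
  classical
  have hpp : p.Prime := Fact.out
  by_contra hcon
  push Not at hcon
  -- a line exists
  obtain ⟨L₀, hL₀A, hL₀c⟩ : ∃ L : Subgroup G, L ≤ A ∧ Nat.card L = p := by
    have hA1 : A ≠ ⊥ := by
      rintro rfl
      rw [Subgroup.card_bot] at hAc
      exact (Nat.one_lt_pow (by norm_num) hpp.one_lt).ne hAc
    obtain ⟨a, ha, ha1⟩ : ∃ a ∈ A, a ≠ 1 := by
      by_contra h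
      push Not at h
      exact hA1 ((Subgroup.eq_bot_iff_forall A).mpr h)
    refine ⟨Subgroup.zpowers a, Subgroup.zpowers_le.mpr ha, ?_⟩
    rw [Nat.card_zpowers]
    exact orderOf_eq_prime (hA.2 a ha) ha1
  by_cases hsc : ∀ y ∈ E, (∃ q k : ℕ, q.Prime ∧ y ^ (q ^ k) = 1) →
      ∀ L : Subgroup G, L ≤ A → Nat.card L = p → y ∈ normalizer (L : Set G)
  · apply hno L₀ hL₀A hL₀c
    intro e he
    apply mem_of_prime_pow_parts e
    intro y hy q k hq hyk
    exact hsc y (Subgroup.zpowers_le.mpr he hy) ⟨q, k, hq, hyk⟩ L₀ hL₀A hL₀c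
  · push Not at hsc
    obtain ⟨y₀, hy₀E, ⟨q, k, hq, hy₀k⟩, L', hL'A, hL'c, hy₀L'⟩ := hsc
    haveI : Fact q.Prime := ⟨hq⟩
    obtain ⟨Q, hQ, hyQ⟩ := exists_isSylIn_ge (p := q) (isPGroup_zpowers_of_pow hy₀k)
      (Subgroup.zpowers_le.mpr hy₀E)
    have hy₀Q : y₀ ∈ Q := hyQ (Subgroup.mem_zpowers y₀)
    obtain ⟨L₁, hL₁A, hL₁c, hQL₁⟩ := hcon q Q hq hQ
    -- at most two `Q`-invariant lines
    have hthree : ∀ L₂ L₃ : Subgroup G, L₂ ≤ A → Nat.card L₂ = p → Q ≤ normalizer (L₂ : Set G) →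
        L₃ ≤ A → Nat.card L₃ = p → Q ≤ normalizer (L₃ : Set G) →
        L₁ ≠ L₂ → L₁ ≠ L₃ → L₂ ≠ L₃ → False := by
      intro L₂ L₃ h₂ c₂ n₂ h₃ c₃ n₃ h12 h13 h23
      obtain ⟨u, hu⟩ := conj_eq_pow_of_three_lines hA hAc hL₁A h₂ h₃ hL₁c c₂ c₃ h12 h13 h23
        (hQL₁ hy₀Q) (n₂ hy₀Q) (n₃ hy₀Q)
      exact hy₀L' (mem_normalizer_of_conj_eq_pow hL'A hu)
    -- `E` permutes the `Q`-invariant lines
    have hperm : ∀ e ∈ E, ∀ L : Subgroup G, L ≤ A → Q ≤ normalizer (L : Set G) →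
        Q ≤ normalizer ((MulAut.conj e • L : Subgroup G) : Set G) := by
      intro e he L hLA hQL x hx
      have hxE : x ∈ E := hQ.1 hx
      set c := x⁻¹ * e⁻¹ * x * e with hc
      have hcE : c ∈ ⁅E, E⁆ := by
        have : c = ⁅x⁻¹, e⁻¹⁆ := by rw [commutatorElement_def, hc]; group
        rw [this]
        exact Subgroup.commutator_mem_commutator (E.inv_mem hxE) (E.inv_mem he)
      have hcL : c ∈ normalizer (L : Set G) :=
        (Subgroup.centralizer_le_normalizer _) ((Subgroup.centralizer_le hLA) (hcomm hcE))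
      rw [mem_normalizer_iff_smul_eq, ← conj_mul_smul]
      have h1 : x * e = e * (x * c) := by rw [hc]; group
      rw [h1, conj_mul_smul, conj_mul_smul, smul_eq_of_mem_normalizer hcL,
        smul_eq_of_mem_normalizer (hQL hx)]
    have hcardconj : ∀ (e : G) (L : Subgroup G), Nat.card L = p →
        Nat.card (MulAut.conj e • L : Subgroup G) = p := fun e L h => by rw [card_conj_smul, h]
    have hleconj : ∀ e ∈ E, ∀ L : Subgroup G, L ≤ A → MulAut.conj e • L ≤ A := by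
      intro e he L hLA
      rw [← smul_eq_of_mem_normalizer (hEA he)]
      exact Cfsg.Agent.Helper33.conj_smul_le_conj_smul hLA
    apply hno L₁ hL₁A hL₁c
    intro e he
    by_contra hne
    rw [mem_normalizer_iff_smul_eq] at hne
    -- `L₂ := e • L₁` is a second invariant line
    set L₂ := MulAut.conj e • L₁ with hL₂
    have hL₂A : L₂ ≤ A := hleconj e he L₁ hL₁A
    have hL₂c : Nat.card L₂ = p := hcardconj e L₁ hL₁c
    have hQL₂ : Q ≤ normalizer (L₂ : Set G) := hperm e he L₁ hL₁A hQL₁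
    -- `e • L₂ = L₁`
    set L₃ := MulAut.conj e • L₂ with hL₃
    have hL₃A : L₃ ≤ A := hleconj e he L₂ hL₂A
    have hL₃c : Nat.card L₃ = p := hcardconj e L₂ hL₂c
    have hQL₃ : Q ≤ normalizer (L₃ : Set G) := hperm e he L₂ hL₂A hQL₂
    have h23 : L₂ ≠ L₃ := by
      intro h
      apply hne
      rw [hL₂, hL₃] at h
      exact (smul_left_cancel _ h).symm
    have h13 : L₃ = L₁ := by
      by_contra h13
      exact hthree L₂ L₃ hL₂A hL₂c hQL₂ hL₃A hL₃c hQL₃ (Ne.symm hne) (Ne.symm h13) h23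
    -- `e²` normalizes `L₁`, and `e` has odd order
    have he2 : e ^ 2 ∈ normalizer (L₁ : Set G) := by
      rw [mem_normalizer_iff_smul_eq, pow_two, conj_mul_smul]
      exact h13
    have hoe : Odd (orderOf e) := Odd.of_dvd_nat hodd (Subgroup.orderOf_dvd_natCard E he)
    have hcop : (2 : ℕ).Coprime (orderOf e) := Nat.coprime_two_left.mpr hoe
    have : e ∈ normalizer (L₁ : Set G) :=
      mem_of_coprime_pow_mem hcop he2 (by rw [pow_orderOf_eq_one]; exact Subgroup.one_mem _)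
    exact hne (mem_normalizer_iff_smul_eq.mp this)

end Cfsg.Agent.Helper38.BG1213
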