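import Mathlib
import Cfsg.Prelude.Def_OddOrderLocal
import Cfsg.Agent.Lib.Helper10.TypeIIb
import Cfsg.Agent.Lib.Helper25.BGTypeIIP
import Cfsg.Agent.Lib.Helper25.BGTypeIIB2
import Cfsg.Agent.Lib.Helper68.BGTypeIIB1
import Cfsg.Agent.Lib.Helper34.BG144cA
import Cfsg.Agent.Lib.Helper25.BGHallConj
import Cfsg.Agent.Lib.Helper34.BG10a
import Cfsg.Agent.Lib.Helper52.CoprimeHall
import Cfsg.Agent.Lib.Helper23.FittingHall

/-!
# B-G Theorem II for the complement `U` (row S1390): conversion lemmas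

`M` of Type I with `U` a complement of `M_F` in `M`, or of Type II with `U` a complement of `M_F`
in `M'`: then `(K, U)` is a standard factorisation of `M` for a suitable `K`, `M_F = M_σ`, and
`A(M) \ A₁(M)` is the set `sigmaA M U \ M_σ`.  The rows are explicit hypotheses.
-/

set_option autoImplicit false
set_option linter.unusedVariables false
set_option linter.unusedSectionVars false
set_option linter.style.haveILetI false

namespace Cfsg.Agent.Helper38.BG16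

open Cfsg Subgroup

variable {G : Type*} [Group G] [Finite G]

theorem isComplIn_symm' {A B M : Subgroup G} (h : IsComplIn A B M) : IsComplIn B A M := by
  obtain ⟨hA, hB, hAB, hprod⟩ := h
  refine ⟨hB, hA, by rw [inf_comm]; exact hAB, ?_⟩
  intro m hm
  obtain ⟨a, ha, b, hb, e⟩ := hprod m⁻¹ (M.inv_mem hm)
  refine ⟨b⁻¹, B.inv_mem hb, a⁻¹, A.inv_mem ha, ?_⟩
  have : m = (m⁻¹)⁻¹ := by group
  rw [this, e]; group

/-- Lean-Type I forces `K = ⊥` in every standard factorisation (after helper86's `K_eq_bot_of_typeI`,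
with only the three rows actually used as hypotheses). -/
theorem K_eq_bot_of_typeI' (hG : IsMinSimpleOddOrder G)
    {M K U : Subgroup G} (hM : IsCoatom M) (hKU : IsSigmaDecomposition M K U)
    (hσ : IsPiHallOf (sigma M) (sigmaCore M) M)
    (hFσ : fittingHallOf M ≤ sigmaCore M)
    (h64 : K ≠ ⊥ → (sigmaCore M ⊓ centralizer (K : Set G)) ≠ ⊥ ∧
      (sigmaCore M ⊓ centralizer (K : Set G)) ≤ fittingHallOf M)
    (h : IsOfTypeI M) : K = ⊥ := by
  by_contra hK1
  obtain ⟨hF, -⟩ := h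
  obtain ⟨-, -, -, -, U₁, -, hcompl, -, U₀, -, hexp, hfpf⟩ := hF
  have hcK : Nat.card K ≠ 1 := fun h1 => hK1 (Subgroup.card_eq_one.mp h1)
  obtain ⟨p, hp, hpK⟩ := Nat.exists_prime_and_dvd hcK
  have : Fact p.Prime := ⟨hp⟩
  have hpκ : p ∈ kappa M := hKU.hall.2.1 p hp hpK
  have hpσ : p ∉ sigma M := hpκ.2.2.1
  have hpM : p ∣ Nat.card M := hpκ.2.1
  have hpH : ¬ p ∣ Nat.card (fittingHall ↥M) := by
    intro hd
    have h1 : Nat.card (fittingHallOf M) = Nat.card (fittingHall ↥M) := by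
      unfold fittingHallOf
      exact Subgroup.card_map_of_injective M.subtype_injective
    rw [← h1] at hd
    exact hpσ (hσ.2.1 p hp (hd.trans (Subgroup.card_dvd_of_le hFσ)))
  have hpU₁ : p ∣ Nat.card U₁ := by
    have hmul := hcompl.card_mul_card
    rw [← hmul] at hpM
    rcases (Nat.Prime.dvd_mul hp).1 hpM with h | h
    · exact absurd h hpH
    · exact h
  obtain ⟨u₁, hu₁⟩ := exists_prime_orderOf_dvd_card' p hpU₁
  have hpe : p ∣ Monoid.exponent ↥U₀ := by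
    rw [hexp, ← hu₁]
    exact Monoid.order_dvd_exponent u₁
  have hpU₀ : p ∣ Nat.card ↥U₀ :=
    hpe.trans (Monoid.exponent_dvd.mpr (fun g => orderOf_dvd_natCard g))
  obtain ⟨u, hu⟩ := exists_prime_orderOf_dvd_card' p hpU₀
  set y : G := ((u : ↥M) : G) with hy
  have hyo : orderOf y = p := by
    rw [hy, Subgroup.orderOf_coe, Subgroup.orderOf_coe, hu]
  have hyM : y ∈ M := (u : ↥M).2
  have hsolv : Group.IsSolvable M := Cfsg.Agent.Helper34.BG.solvable_of_ne_top hG hM.1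
  obtain ⟨m, hmM, hmy⟩ := Cfsg.Agent.Helper25.BGHallConj.exists_conj_mem_of_isPiHallOf hKU.hall
    hsolv y hyM (by
      intro q hq hqy
      rw [hyo] at hqy
      rw [(Nat.prime_dvd_prime_iff_eq hq hp).1 hqy]
      exact hpκ)
  obtain ⟨hKs1, hKsF⟩ := h64 hK1
  obtain ⟨z, hz1⟩ := (Subgroup.ne_bot_iff_exists_ne_one).1 hKs1
  have hzK : (z : G) ∈ sigmaCore M ⊓ centralizer (K : Set G) := z.2
  have hzF : (z : G) ∈ fittingHallOf M := hKsF z.2
  unfold fittingHallOf at hzF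
  obtain ⟨z', hz'H, hz'z⟩ := hzF
  have hcomm : (m * y * m⁻¹) * (z : G) = (z : G) * (m * y * m⁻¹) :=
    (Subgroup.mem_centralizer_iff.1 hzK.2) _ hmy
  let Mm : ↥M := ⟨m, hmM⟩
  have hxH : Mm⁻¹ * z' * Mm ∈ fittingHall ↥M := by
    have := (fittingHall_normal ↥M).conj_mem z' hz'H Mm⁻¹
    simpa using this
  have hcx : (u : ↥M) * (Mm⁻¹ * z' * Mm) = (Mm⁻¹ * z' * Mm) * (u : ↥M) := by
    apply Subtype.ext
    show y * (m⁻¹ * (z' : G) * m) = (m⁻¹ * (z' : G) * m) * y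
    have hz'' : ((z' : ↥M) : G) = (z : G) := hz'z
    rw [hz'']
    have e1 : y * (m⁻¹ * (z : G) * m) = m⁻¹ * ((m * y * m⁻¹) * (z : G)) * m := by group
    have e2 : (m⁻¹ * (z : G) * m) * y = m⁻¹ * ((z : G) * (m * y * m⁻¹)) * m := by group
    rw [e1, e2, hcomm]
  have hu1 : (u : ↥M) ≠ 1 := by
    intro h1
    have : orderOf y = 1 := by
      rw [hy, h1]; simp
    rw [hyo] at this
    exact hp.one_lt.ne' this
  have hx1 := hfpf (u : ↥M) u.2 hu1 (Mm⁻¹ * z' * Mm) hxH hcx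
  have hz'1 : z' = 1 := by
    have : z' = Mm * (Mm⁻¹ * z' * Mm) * Mm⁻¹ := by group
    rw [this, hx1]; group
  apply hz1
  apply Subtype.ext
  rw [← hz'z, hz'1]
  rfl


theorem sup_eq_of_isComplIn {A B M : Subgroup G} (h : IsComplIn A B M) : A ⊔ B = M := by
  obtain ⟨hA, hB, -, hprod⟩ := h
  apply le_antisymm (sup_le hA hB)
  intro m hm
  obtain ⟨a, ha, b, hb, e⟩ := hprod m hm
  rw [e]
  exact mul_mem (le_sup_left (b := B) ha) (le_sup_right (a := A) hb)

/-- The conversion: in the situation of S1390, `(K, U)` is a standard factorisation for some `K`,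
`M_F = M_σ`, and `A(M) \ A₁(M) = sigmaA M U \ M_σ`. -/
theorem exists_decomp (hG : IsMinSimpleOddOrder G) {M : Subgroup G} (hM : IsCoatom M)
    (hσ : IsPiHallOf (sigma M) (sigmaCore M) M)
    (hFσ : fittingHallOf M ≤ sigmaCore M) (hσD : sigmaCore M ≤ ⁅M, M⁆)
    (h5152 : ∃ K U : Subgroup G, IsSigmaDecomposition M K U)
    (h64 : ∀ K U : Subgroup G, IsSigmaDecomposition M K U → K ≠ ⊥ →
      (sigmaCore M ⊓ centralizer (K : Set G)) ≠ ⊥ ∧
        (sigmaCore M ⊓ centralizer (K : Set G)) ≤ fittingHallOf M)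
    (h65 : ∀ K U : Subgroup G, IsSigmaDecomposition M K U → K ≠ ⊥ → ⁅M, M⁆ = U ⊔ sigmaCore M)
    (h37 : ∀ K U : Subgroup G, IsSigmaDecomposition M K U → fittingHallOf M ≠ sigmaCore M →
      U = ⊥ ∧ (Nat.card K).Prime)
    (U : Subgroup G)
    (hU : (IsOfTypeI M ∧ IsComplIn (fittingHallOf M) U M) ∨
      (IsOfTypeII M ∧ IsComplIn (fittingHallOf M) U ⁅M, M⁆)) :
    ∃ K : Subgroup G, IsSigmaDecomposition M K U ∧ fittingHallOf M = sigmaCore M ∧
      typeA M \ typeA1 M = sigmaA M U \ (sigmaCore M : Set G) := by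
  classical
  obtain ⟨K₀, U₀, hKU⟩ := h5152
  have hσM : sigmaCore M ≤ M := hσ.1
  rcases hU with ⟨hI, hc⟩ | ⟨hII, hc⟩
  · -- Type I
    have hK : K₀ = ⊥ := K_eq_bot_of_typeI' hG hM hKU hσ hFσ (h64 K₀ U₀ hKU) hI
    have hFeq : fittingHallOf M = sigmaCore M := by
      by_contra hne
      obtain ⟨-, hpr⟩ := h37 K₀ U₀ hKU hne
      rw [hK, Subgroup.card_bot] at hpr
      exact Nat.not_prime_one hpr
    have hnot34 : ¬ (IsOfTypeIII M ∨ IsOfTypeIV M) := by
      rintro (⟨W₁', U', W₂', h', _, hq', _⟩ | ⟨W₁', U', W₂', h', _, hq', _⟩)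
      · exact Cfsg.Agent.Helper10.TypeII.not_typeI hG hM h' hq' hI
      · exact Cfsg.Agent.Helper10.TypeII.not_typeI hG hM h' hq' hI
    have hcore : typeCore M = fittingHallOf M := by unfold typeCore; rw [if_neg hnot34]
    have hsup : U ⊔ sigmaCore M = M := by
      rw [← hFeq, sup_comm]; exact sup_eq_of_isComplIn hc
    refine ⟨⊥, ⟨?_, ?_, ?_, bot_le⟩, hFeq, ?_⟩
    · exact isCyclic_of_subsingleton
    · rw [← hK]; exact hKU.hall
    · rw [bot_sup_eq, ← hFeq]; exact isComplIn_symm' hc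
    · ext a
      unfold typeA typeA1 sigmaA sigmaHat
      rw [if_pos hI, hcore, hsup, hFeq]
      simp only [Set.mem_sdiff, Set.mem_ofPred_eq, Set.mem_inter_iff, SetLike.mem_coe,
        Set.mem_singleton_iff]
      constructor
      · rintro ⟨⟨haM, ha1, x, hx, hx1, hax⟩, hn⟩
        refine ⟨⟨⟨haM, x, hx, hx1, hax⟩, haM⟩, fun haσ => hn ⟨haσ, ha1⟩⟩
      · rintro ⟨⟨⟨haM, x, hx, hx1, hax⟩, -⟩, hn⟩
        refine ⟨⟨haM, ?_, x, hx, hx1, hax⟩, fun h => hn h.1⟩
        rintro rfl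
        exact hn (one_mem _)
  · -- Type II
    obtain ⟨W₁, U', W₂, hP, hU'1, hq, hFTI, hUab, hNU, hDF, hDH⟩ := hII
    have hκ : Nat.card W₁ ∈ kappa M :=
      Cfsg.Agent.Helper68.BGTypeII.card_mem_kappa_of_typeP hP hq hσ hσD hFσ
    have hK1 : K₀ ≠ ⊥ := by
      intro h
      have h1 := hKU.hall.2.2 (Nat.card W₁) hq hκ
      rw [h, Subgroup.relIndex_bot_left] at h1
      exact h1 hκ.2.1
    have hU₀1 : U₀ ≠ ⊥ := fun h =>
      hNU (Cfsg.Agent.Helper25.BGTypeII.normalizer_le_of_U_eq_bot hKU h hP hU'1 hσ hσD)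
    have hFeq : fittingHallOf M = sigmaCore M := by
      by_contra hne
      exact hU₀1 (h37 K₀ U₀ hKU hne).1
    have h65a := h65 K₀ U₀ hKU hK1
    have hc₀ : IsComplIn (sigmaCore M) U₀ ⁅M, M⁆ :=
      Cfsg.Agent.Helper25.BGTypeII.isComplIn_sigmaCore_U hKU h65a
    have hDM : ⁅M, M⁆ ≤ M := Cfsg.Agent.Helper10.TypeII.commutator_le hP
    have hnotI : ¬ IsOfTypeI M := Cfsg.Agent.Helper10.TypeII.not_typeI hG hM hP hq
    have hnot34 : ¬ (IsOfTypeIII M ∨ IsOfTypeIV M) := by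
      rintro (⟨W₁', U'', W₂', h', _, _, _, _, hN⟩ | ⟨W₁', U'', W₂', h', _, _, _, _, hN⟩)
      · exact Cfsg.Agent.Helper10.TypeII.false_of_normalizer_le hG hM hP hNU h' hN
      · exact Cfsg.Agent.Helper10.TypeII.false_of_normalizer_le hG hM hP hNU h' hN
    have hcore : typeCore M = fittingHallOf M := by unfold typeCore; rw [if_neg hnot34]
    -- conjugacy of the two complements
    have hc1 := Cfsg.Agent.Helper23.card_of_isComplIn hc
    have hc2 := Cfsg.Agent.Helper23.card_of_isComplIn hc₀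
    rw [← hFeq] at hc2
    have hHpos : 0 < Nat.card (fittingHallOf M) := Nat.card_pos
    have hUU : Nat.card U = Nat.card U₀ := by
      apply Nat.eq_of_mul_eq_mul_left hHpos
      rw [← hc1, ← hc2]
    have hcop : (Nat.card U₀).Coprime (Nat.card (fittingHallOf M)) := by
      have h0 := Cfsg.Agent.Helper23.fittingHall_coprime ↥M
      rw [← Cfsg.Agent.Helper23.card_fittingHallOf M] at h0
      have h1 : Nat.card (fittingHall ↥M) * (fittingHall ↥M).index = Nat.card M :=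
        Subgroup.card_mul_index _
      rw [← Cfsg.Agent.Helper23.card_fittingHallOf M] at h1
      have h2 : Nat.card ↥(⁅M, M⁆ : Subgroup G) ∣ Nat.card M := Subgroup.card_dvd_of_le hDM
      rw [hc2, ← h1] at h2
      have h3 : Nat.card U₀ ∣ (fittingHall ↥M).index := Nat.dvd_of_mul_dvd_mul_left hHpos h2
      exact (Nat.Coprime.coprime_dvd_right h3 h0).symm
    have hDtop : ⁅M, M⁆ ≠ ⊤ := by
      intro ht
      apply hM.1
      rw [eq_top_iff, ← ht]
      exact hDM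
    have hsolv : Group.IsSolvable ↥(⁅M, M⁆ : Subgroup G) := hG.2.2.2 _ hDtop
    have hmn : Nat.card ↥(⁅M, M⁆ : Subgroup G) = Nat.card U₀ * Nat.card (fittingHallOf M) := by
      rw [hc2, mul_comm]
    obtain ⟨k, hk, hkeq⟩ := Cfsg.Agent.Helper52.hall_conj_internal ⁅M, M⁆ hsolv (Nat.card U₀)
      (Nat.card (fittingHallOf M)) hmn hcop U₀ U hc₀.2.1 hc.2.1 rfl hUU
    have hkM : k ∈ M := hDM hk
    have hdec := Cfsg.Agent.Helper34.BG144c.isSigmaDecomposition_cj_of_mem hKU hkM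
    have hcj : Cfsg.Agent.Helper79.BG10.cj k U₀ = U := hkeq.symm
    rw [hcj] at hdec
    have hsup : U ⊔ sigmaCore M = ⁅M, M⁆ := by
      rw [← hFeq, sup_comm]; exact sup_eq_of_isComplIn hc
    refine ⟨_, hdec, hFeq, ?_⟩
    ext a
    unfold typeA typeA1 sigmaA sigmaHat
    rw [if_neg hnotI, hcore, hsup, hFeq]
    simp only [Set.mem_sdiff, Set.mem_ofPred_eq, Set.mem_inter_iff, SetLike.mem_coe,
      Set.mem_singleton_iff]
    constructor
    · rintro ⟨⟨haD, ha1, x, hx, hx1, hax⟩, hn⟩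
      refine ⟨⟨⟨hDM haD, x, hx, hx1, hax⟩, haD⟩, fun haσ => hn ⟨haσ, ha1⟩⟩
    · rintro ⟨⟨⟨haM, x, hx, hx1, hax⟩, haD⟩, hn⟩
      refine ⟨⟨haD, ?_, x, hx, hx1, hax⟩, fun h => hn h.1⟩
      rintro rfl
      exact hn (one_mem _)

end Cfsg.Agent.Helper38.BG16
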