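import Mathlib
import Cfsg.Prelude.Def_Characters
import Cfsg.Agent.Lib.Helper81.CharRam
import Cfsg.Agent.Lib.Helper15.NormOne
import Cfsg.Agent.Lib.Helper3.CharOrtho
import Cfsg.Agent.S4566

set_option autoImplicit false
set_option linter.unusedSectionVars false

/-! Characters of `G = Z × N` with `Z` central: restriction to `N` is a `|Z|`-to-one surjection
`Irr G → Irr N` preserving degrees. -/

namespace Cfsg.Agent.Helper38

open Cfsg Cfsg.Agent.Helper81
open Cfsg.Agent.Helper3 (fintypeIrr)
open scoped ComplexConjugate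

universe u

section

variable {G : Type u} [Group G] [Fintype G] (N : Subgroup G) [Fintype N]
  {Z₀ : Type*} [Fintype Z₀] (zc : Z₀ → G)

lemma card_eq_of_central_prod
    (hΨ : Function.Bijective (fun p : Z₀ × N => zc p.1 * (p.2 : G))) :
    Nat.card G = Fintype.card Z₀ * Nat.card N := by
  rw [← Nat.card_congr (Equiv.ofBijective _ hΨ), Nat.card_prod, Nat.card_eq_fintype_card]

/-- restriction of an irreducible character to the complement of a central factor is irreducible -/
theorem restrict_irr_of_central_prod (hzc : ∀ z, zc z ∈ Subgroup.center G)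
    (hΨ : Function.Bijective (fun p : Z₀ × N => zc p.1 * (p.2 : G)))
    {χ : G → ℂ} (hχ : IsIrrCharacter G χ) : IsIrrCharacter N (fun n : N => χ n) := by
  have hch := IsIrrCharacter.isCharacter hχ
  apply Cfsg.Agent.Helper15.isIrrCharacter_of_classInner_eq_one (isCharacter_restrict N hch)
  have h1 : classInner χ χ = 1 := by rw [irr_orthonormal hχ hχ, if_pos rfl]
  obtain ⟨k, ρ, hρ, rfl⟩ := hχ
  haveI := hρ
  obtain ⟨a, -, -, -, hnorm, hchar, -⟩ := Cfsg.Agent.S4566.exists_central_scalar ρ
  unfold classInner at h1 ⊢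
  rw [← Function.Bijective.sum_comp hΨ, Fintype.sum_prod_type] at h1
  have h2 : ∀ (z : Z₀) (n : N), ρ.character (zc z * (n : G)) * conj (ρ.character (zc z * (n : G))) =
      ρ.character (n : G) * conj (ρ.character (n : G)) := by
    intro z n
    have hc : zc z * (n : G) = (n : G) * zc z := (Subgroup.mem_center_iff.mp (hzc z) n).symm
    rw [hc, hchar _ (hzc z), map_mul]
    have : a (zc z) * conj (a (zc z)) = 1 := by
      rw [Complex.mul_conj, Complex.normSq_eq_norm_sq, hnorm _ (hzc z)]
      simp
    calc a (zc z) * ρ.character (n : G) * (conj (a (zc z)) * conj (ρ.character (n : G)))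
        = (a (zc z) * conj (a (zc z))) * (ρ.character (n : G) * conj (ρ.character (n : G))) := by ring
      _ = _ := by rw [this, one_mul]
  simp_rw [h2] at h1
  rw [Finset.sum_const, Finset.card_univ, nsmul_eq_mul, card_eq_of_central_prod N zc hΨ] at h1
  have hZ : (Fintype.card Z₀ : ℂ) ≠ 0 := by
    have : Nonempty Z₀ := ⟨(hΨ.2 1).choose.1⟩
    have : Fintype.card Z₀ ≠ 0 := Fintype.card_pos.ne'
    exact_mod_cast this
  push_cast at h1
  rw [← h1]
  field_simp

/-- the fibres of restriction have `|Z|` elements -/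
theorem card_fiber_of_central_prod (hzc : ∀ z, zc z ∈ Subgroup.center G)
    (hΨ : Function.Bijective (fun p : Z₀ × N => zc p.1 * (p.2 : G)))
    {ψ : N → ℂ} (hψ : IsIrrCharacter N ψ) :
    (Finset.univ.filter (fun χ : IrrCharacter G => (fun n : N => (χ : G → ℂ) n) = ψ)).card =
      Fintype.card Z₀ := by
  classical
  have hexp := class_function_expansion (indFun_isClassFunction N ψ)
  have hcoef : ∀ χ : IrrCharacter G, classInner (indFun N ψ) (χ : G → ℂ) =
      if (fun n : N => (χ : G → ℂ) n) = ψ then 1 else 0 := by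
    intro χ
    rw [frobenius_reciprocity N ψ (isClassFunction_of_isCharacter (IsIrrCharacter.isCharacter χ.2)),
      irr_orthonormal hψ (restrict_irr_of_central_prod N zc hzc hΨ χ.2)]
    by_cases h : (fun n : N => (χ : G → ℂ) n) = ψ
    · rw [if_pos h, if_pos h.symm]
    · rw [if_neg h, if_neg (fun h' => h h'.symm)]
  have h1 := congrFun hexp 1
  rw [indFun_one, Finset.sum_apply] at h1
  simp only [Pi.smul_apply, smul_eq_mul, hcoef, ite_mul, one_mul, zero_mul] at h1
  rw [← Finset.sum_filter] at h1
  have h2 : ∀ χ ∈ Finset.univ.filter (fun χ : IrrCharacter G => (fun n : N => (χ : G → ℂ) n) = ψ),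
      (χ : G → ℂ) 1 = ψ 1 := by
    intro χ hχ
    have := (Finset.mem_filter.mp hχ).2
    rw [← this]
    rfl
  rw [Finset.sum_congr rfl h2, Finset.sum_const, nsmul_eq_mul] at h1
  obtain ⟨d, hd, hd1⟩ := irr_one_pos hψ
  have hψ1 : ψ 1 ≠ 0 := by
    rw [hd1]; exact_mod_cast hd.ne'
  have h3 := mul_right_cancel₀ hψ1 h1
  have hidx : N.index = Fintype.card Z₀ := by
    have h4 := Subgroup.index_mul_card N
    rw [card_eq_of_central_prod N zc hΨ] at h4
    exact Nat.eq_of_mul_eq_mul_right Nat.card_pos h4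
  rw [hidx] at h3
  exact_mod_cast h3.symm

/-- counting irreducible characters by degree -/
theorem card_degree_of_central_prod (hzc : ∀ z, zc z ∈ Subgroup.center G)
    (hΨ : Function.Bijective (fun p : Z₀ × N => zc p.1 * (p.2 : G))) (k : ℂ) :
    Nat.card {χ : IrrCharacter G // (χ : G → ℂ) 1 = k} =
      Fintype.card Z₀ * Nat.card {ψ : IrrCharacter N // (ψ : N → ℂ) 1 = k} := by
  classical
  rw [Nat.card_eq_fintype_card, Nat.card_eq_fintype_card, Fintype.card_subtype, Fintype.card_subtype]
  let res : IrrCharacter G → IrrCharacter N := fun χ =>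
    ⟨fun n : N => (χ : G → ℂ) n, restrict_irr_of_central_prod N zc hzc hΨ χ.2⟩
  have h1 := Finset.card_eq_sum_card_fiberwise
    (s := Finset.univ.filter (fun χ : IrrCharacter G => (χ : G → ℂ) 1 = k))
    (t := Finset.univ.filter (fun ψ : IrrCharacter N => (ψ : N → ℂ) 1 = k)) (f := res)
    (by
      intro χ hχ
      have := (Finset.mem_filter.mp hχ).2
      exact Finset.mem_filter.mpr ⟨Finset.mem_univ _, this⟩)
  rw [h1]
  have h2 : ∀ ψ ∈ Finset.univ.filter (fun ψ : IrrCharacter N => (ψ : N → ℂ) 1 = k),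
      ((Finset.univ.filter (fun χ : IrrCharacter G => (χ : G → ℂ) 1 = k)).filter
        (fun χ => res χ = ψ)).card = Fintype.card Z₀ := by
    intro ψ hψ
    rw [← card_fiber_of_central_prod N zc hzc hΨ ψ.2]
    congr 1
    ext χ
    simp only [Finset.mem_filter, Finset.mem_univ, true_and]
    constructor
    · rintro ⟨-, h⟩
      exact congrArg Subtype.val h
    · intro h
      have hr : res χ = ψ := Subtype.ext h
      refine ⟨?_, hr⟩
      have := (Finset.mem_filter.mp hψ).2
      rw [← this, ← hr]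
      rfl
  rw [Finset.sum_congr rfl h2, Finset.sum_const, smul_eq_mul, mul_comm]

/-- every irreducible character of `N` is a restriction -/
theorem exists_restrict_of_central_prod (hzc : ∀ z, zc z ∈ Subgroup.center G)
    (hΨ : Function.Bijective (fun p : Z₀ × N => zc p.1 * (p.2 : G)))
    {ψ : N → ℂ} (hψ : IsIrrCharacter N ψ) :
    ∃ χ : G → ℂ, IsIrrCharacter G χ ∧ (fun n : N => χ n) = ψ := by
  classical
  have h := card_fiber_of_central_prod N zc hzc hΨ hψ
  have hZ : 0 < Fintype.card Z₀ := by
    have : Nonempty Z₀ := ⟨(hΨ.2 1).choose.1⟩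
    exact Fintype.card_pos
  rw [← h] at hZ
  obtain ⟨χ, hχ⟩ := Finset.card_pos.mp hZ
  exact ⟨χ, χ.2, (Finset.mem_filter.mp hχ).2⟩

end

end Cfsg.Agent.Helper38
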