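import Mathlib
import Cfsg.Agent.Lib.Helper4.FCP.Defs

set_option autoImplicit false

/-! Shared definitions of helper38's sub-server FCP-GE8a (piece (GE8a) of helper4's FCP server). -/

namespace Cfsg.Agent.Helper38.FCP
open Cfsg.Agent.Helper4.FCP

/-- the induction hypothesis (copy of helper4's `IH`) -/
def IH (H : Type*) [Group H] : Prop :=
  ∀ K : Subgroup H, K ≠ ⊤ → K ≠ ⊥ → commutator K = ⊤ →
    Nonempty (K ≃* Matrix.SpecialLinearGroup (Fin 2) (ZMod 5))

/-- Context of (GE8a): `W` = the odd-order elements of `C_H(t)`, it centralizes `Y = ⟨t,s,a⟩`, and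
`N_H(R) = W Y` for `R = ⟨t,s⟩`. -/
structure Ctx8 {H : Type*} [Group H] (t s a : H) (W : Subgroup H) : Prop where
  T : Trip t s a
  card8 : ∀ Q : Sylow 2 H, Nat.card Q = 8
  memW : ∀ x : H, x ∈ W ↔ (Odd (orderOf x) ∧ x * t = t * x)
  Ws : ∀ x ∈ W, x * s = s * x
  Wa : ∀ x ∈ W, x * a = a * x
  normR : ∀ n : H, (∀ r ∈ Subgroup.closure ({t, s} : Set H),
      n⁻¹ * r * n ∈ Subgroup.closure ({t, s} : Set H)) →
    ∃ v ∈ W, ∃ y ∈ Subgroup.closure ({t, s, a} : Set H), n = v * y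

end Cfsg.Agent.Helper38.FCP
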