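import Mathlib

set_option autoImplicit false
set_option linter.unusedSectionVars false

/-!
# The metacyclic group `5 : 8` generated by `A`, `B` with `A⁵ = 1`, `B A = A³ B`, `B⁴ = Z` central
of order two: every element is a power of `A` or has a power equal to `Z`
-/

namespace Cfsg.Agent.Helper38.FrobForty

open Finset

variable {Γ : Type*} [Group Γ] (A B Z : Γ)

theorem B_mul_A_pow (hBA : B * A = A ^ 3 * B) (i : ℕ) : B * A ^ i = A ^ (3 * i) * B := by
  induction i with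
  | zero => simp
  | succ i ih =>
    rw [pow_succ, ← mul_assoc, ih, mul_assoc, hBA, ← mul_assoc, ← pow_add]
    congr 2

theorem B_pow_mul_A_pow (hBA : B * A = A ^ 3 * B) (j i : ℕ) :
    B ^ j * A ^ i = A ^ (3 ^ j * i) * B ^ j := by
  induction j generalizing i with
  | zero => simp
  | succ j ih =>
    rw [pow_succ, mul_assoc, B_mul_A_pow A B hBA, ← mul_assoc, ih, mul_assoc]
    congr 2
    ring

theorem norm_pow (hBA : B * A = A ^ 3 * B) (i j n : ℕ) :
    (A ^ i * B ^ j) ^ n = A ^ (i * ∑ m ∈ Finset.range n, 3 ^ (j * m)) * B ^ (j * n) := by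
  induction n with
  | zero => simp
  | succ n ih =>
    rw [pow_succ, ih, Finset.sum_range_succ]
    have h1 : A ^ (i * ∑ m ∈ Finset.range n, 3 ^ (j * m)) * B ^ (j * n) * (A ^ i * B ^ j) =
        A ^ (i * ∑ m ∈ Finset.range n, 3 ^ (j * m)) * (B ^ (j * n) * A ^ i) * B ^ j := by group
    rw [h1, B_pow_mul_A_pow A B hBA, ← mul_assoc, ← pow_add, mul_assoc, ← pow_add]
    congr 2
    ring

theorem A_pow_five_mul (hA : A ^ 5 = 1) (k : ℕ) : A ^ (5 * k) = 1 := by
  rw [pow_mul, hA, one_pow]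

theorem B_pow_four_mul (hB : B ^ 4 = Z) (k : ℕ) : B ^ (4 * k) = Z ^ k := by
  rw [pow_mul, hB]

theorem Z_pow_odd (hZ2 : Z ^ 2 = 1) (k : ℕ) : Z ^ (2 * k + 1) = Z := by
  rw [pow_succ, pow_mul, hZ2, one_pow, one_mul]

theorem B_pow_eight (hB : B ^ 4 = Z) (hZ2 : Z ^ 2 = 1) : B ^ 8 = 1 := by
  have : B ^ 8 = (B ^ 4) ^ 2 := by rw [← pow_mul]
  rw [this, hB, hZ2]

/-- normal form of the elements of the group generated by `A` and `B` -/
theorem exists_normal_form (hA : A ^ 5 = 1) (hBA : B * A = A ^ 3 * B) (hB : B ^ 4 = Z)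
    (hZ2 : Z ^ 2 = 1) (c : Γ) (hc : c ∈ Subgroup.closure ({A, B} : Set Γ)) :
    ∃ i j : ℕ, c = A ^ i * B ^ j := by
  have hB8 := B_pow_eight B Z hB hZ2
  have hmul : ∀ x y : Γ, (∃ i j : ℕ, x = A ^ i * B ^ j) → (∃ i j : ℕ, y = A ^ i * B ^ j) →
      ∃ i j : ℕ, x * y = A ^ i * B ^ j := by
    rintro x y ⟨i, j, rfl⟩ ⟨k, l, rfl⟩
    refine ⟨i + 3 ^ j * k, j + l, ?_⟩
    have h1 : A ^ i * B ^ j * (A ^ k * B ^ l) = A ^ i * (B ^ j * A ^ k) * B ^ l := by group
    rw [h1, B_pow_mul_A_pow A B hBA, ← mul_assoc, ← pow_add, mul_assoc, ← pow_add]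
  induction hc using Subgroup.closure_induction with
  | mem x hx =>
    rcases hx with rfl | rfl
    · exact ⟨1, 0, by simp⟩
    · exact ⟨0, 1, by simp⟩
  | one => exact ⟨0, 0, by simp⟩
  | mul x y _ _ hx hy => exact hmul x y hx hy
  | inv x _ hx =>
    obtain ⟨i, j, rfl⟩ := hx
    have hAinv : (A ^ i)⁻¹ = A ^ (4 * i) := by
      rw [inv_eq_iff_mul_eq_one, ← pow_add]
      have : i + 4 * i = 5 * i := by ring
      rw [this]
      exact A_pow_five_mul A hA i
    have hBinv : (B ^ j)⁻¹ = B ^ (7 * j) := by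
      rw [inv_eq_iff_mul_eq_one, ← pow_add]
      have : j + 7 * j = 8 * j := by ring
      rw [this, pow_mul, hB8, one_pow]
    rw [mul_inv_rev, hAinv, hBinv]
    exact hmul _ _ ⟨0, 7 * j, by simp⟩ ⟨4 * i, 0, by simp⟩

/-- every element is a power of `A` or has its square, fourth or fifth power equal to `Z` -/
theorem elem_cases (hA : A ^ 5 = 1) (hBA : B * A = A ^ 3 * B) (hB : B ^ 4 = Z)
    (hZ2 : Z ^ 2 = 1) (c : Γ) (hc : c ∈ Subgroup.closure ({A, B} : Set Γ)) :
    (∃ i : ℕ, c = A ^ i) ∨ c ^ 2 = Z ∨ c ^ 4 = Z ∨ c ^ 5 = Z := by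
  have hB8 := B_pow_eight B Z hB hZ2
  obtain ⟨i, j0, rfl⟩ := exists_normal_form A B Z hA hBA hB hZ2 c hc
  have hj : B ^ j0 = B ^ (j0 % 8) := by
    conv_lhs => rw [← Nat.div_add_mod j0 8]
    rw [pow_add, pow_mul, hB8, one_pow, one_mul]
  rw [hj]
  have hlt : j0 % 8 < 8 := Nat.mod_lt _ (by norm_num)
  set j := j0 % 8 with hjdef
  clear_value j
  clear hj hjdef
  interval_cases j
  · left
    exact ⟨i, by simp⟩
  · -- j = 1, n = 4
    right; right; left
    rw [norm_pow A B hBA]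
    have hS : ∑ m ∈ Finset.range 4, 3 ^ (1 * m) = 5 * 8 := by norm_num [Finset.sum_range_succ]
    rw [hS, ← mul_assoc, mul_comm i 5, mul_assoc, A_pow_five_mul A hA, one_mul]
    exact hB
  · -- j = 2, n = 2
    right; left
    rw [norm_pow A B hBA]
    have hS : ∑ m ∈ Finset.range 2, 3 ^ (2 * m) = 5 * 2 := by norm_num [Finset.sum_range_succ]
    rw [hS, ← mul_assoc, mul_comm i 5, mul_assoc, A_pow_five_mul A hA, one_mul]
    exact hB
  · -- j = 3, n = 4
    right; right; left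
    rw [norm_pow A B hBA]
    have hS : ∑ m ∈ Finset.range 4, 3 ^ (3 * m) = 5 * 4088 := by
      norm_num [Finset.sum_range_succ]
    rw [hS, ← mul_assoc, mul_comm i 5, mul_assoc, A_pow_five_mul A hA, one_mul]
    have : 3 * 4 = 4 * (2 * 1 + 1) := by norm_num
    rw [this, B_pow_four_mul B Z hB, Z_pow_odd Z hZ2]
  · -- j = 4, n = 5
    right; right; right
    rw [norm_pow A B hBA]
    have hS : ∑ m ∈ Finset.range 5, 3 ^ (4 * m) = 5 * 8716961 := by
      norm_num [Finset.sum_range_succ]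
    rw [hS, ← mul_assoc, mul_comm i 5, mul_assoc, A_pow_five_mul A hA, one_mul]
    have : 4 * 5 = 4 * (2 * 2 + 1) := by norm_num
    rw [this, B_pow_four_mul B Z hB, Z_pow_odd Z hZ2]
  · -- j = 5, n = 4
    right; right; left
    rw [norm_pow A B hBA]
    have hS : ∑ m ∈ Finset.range 4, 3 ^ (5 * m) = 5 * 2881640 := by
      norm_num [Finset.sum_range_succ]
    rw [hS, ← mul_assoc, mul_comm i 5, mul_assoc, A_pow_five_mul A hA, one_mul]
    have : 5 * 4 = 4 * (2 * 2 + 1) := by norm_num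
    rw [this, B_pow_four_mul B Z hB, Z_pow_odd Z hZ2]
  · -- j = 6, n = 2
    right; left
    rw [norm_pow A B hBA]
    have hS : ∑ m ∈ Finset.range 2, 3 ^ (6 * m) = 5 * 146 := by
      norm_num [Finset.sum_range_succ]
    rw [hS, ← mul_assoc, mul_comm i 5, mul_assoc, A_pow_five_mul A hA, one_mul]
    have : 6 * 2 = 4 * (2 * 1 + 1) := by norm_num
    rw [this, B_pow_four_mul B Z hB, Z_pow_odd Z hZ2]
  · -- j = 7, n = 4
    right; right; left
    rw [norm_pow A B hBA]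
    have hS : ∑ m ∈ Finset.range 4, 3 ^ (7 * m) = 5 * 2093027672 := by
      norm_num [Finset.sum_range_succ]
    rw [hS, ← mul_assoc, mul_comm i 5, mul_assoc, A_pow_five_mul A hA, one_mul]
    have : 7 * 4 = 4 * (2 * 3 + 1) := by norm_num
    rw [this, B_pow_four_mul B Z hB, Z_pow_odd Z hZ2]

end Cfsg.Agent.Helper38.FrobForty
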