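import Mathlib
import Cfsg.Agent.S2305
import Cfsg.Agent.S2308
import Cfsg.Agent.Lib.Helper81.CharInd
import Cfsg.Agent.Lib.Helper79.Linear

set_option autoImplicit false

namespace Cfsg.Agent.Helper38

open Matrix Cfsg
open Cfsg.Agent.S2305 (e ind_eq conj_entries' coe_mk det_ne dg sum_diag sum_scalar)

variable {F : Type*} [Field F]

/-- upper triangular matrices `[[a, c], [0, d]]` -/
noncomputable def bmat (a d : Fˣ) (c : F) : GL (Fin 2) F :=
  Matrix.GeneralLinearGroup.mkOfDetNeZero !![(a : F), c; 0, (d : F)] (by simp [Matrix.det_fin_two])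

@[simp] lemma bmat00 (a d : Fˣ) (c : F) : ((bmat a d c : GL (Fin 2) F) : Matrix (Fin 2) (Fin 2) F) 0 0 = a := by
  simp [bmat]
@[simp] lemma bmat01 (a d : Fˣ) (c : F) : ((bmat a d c : GL (Fin 2) F) : Matrix (Fin 2) (Fin 2) F) 0 1 = c := by
  simp [bmat]
@[simp] lemma bmat10 (a d : Fˣ) (c : F) : ((bmat a d c : GL (Fin 2) F) : Matrix (Fin 2) (Fin 2) F) 1 0 = 0 := by
  simp [bmat]
@[simp] lemma bmat11 (a d : Fˣ) (c : F) : ((bmat a d c : GL (Fin 2) F) : Matrix (Fin 2) (Fin 2) F) 1 1 = d := by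
  simp [bmat]

lemma bmat_mem (a d : Fˣ) (c : F) : bmat a d c ∈ upperTriangularGL 2 F :=
  (Cfsg.Agent.S2305.mem_B_iff _).mpr (bmat10 a d c)

/-- parametrisation of the Borel subgroup -/
noncomputable def toB (p : Fˣ × Fˣ × F) : upperTriangularGL 2 F :=
  ⟨bmat p.1 p.2.1 p.2.2, bmat_mem _ _ _⟩

lemma toB_bijective : Function.Bijective (toB : Fˣ × Fˣ × F → upperTriangularGL 2 F) := by
  constructor
  · rintro ⟨a, d, c⟩ ⟨a', d', c'⟩ h
    have h1 := congrArg (fun x : upperTriangularGL 2 F => ((x : GL (Fin 2) F) : Matrix (Fin 2) (Fin 2) F)) h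
    have e00 := congrFun (congrFun h1 0) 0
    have e01 := congrFun (congrFun h1 0) 1
    have e11 := congrFun (congrFun h1 1) 1
    simp only [toB, bmat00, bmat01, bmat11] at e00 e01 e11
    rw [Units.ext e00, Units.ext e11, e01]
  · rintro ⟨b, hb⟩
    have h10 := (Cfsg.Agent.S2305.mem_B_iff b).mp hb
    have hdet := det_ne b
    rw [Matrix.det_fin_two, h10] at hdet
    simp only [mul_zero, sub_zero] at hdet
    refine ⟨(Units.mk0 _ (left_ne_zero_of_mul hdet), Units.mk0 _ (right_ne_zero_of_mul hdet),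
      (b : Matrix (Fin 2) (Fin 2) F) 0 1), ?_⟩
    apply Subtype.ext
    apply Matrix.GeneralLinearGroup.ext
    intro i j
    fin_cases i <;> fin_cases j <;> simp [toB, h10]

lemma card_B_eq' [Fintype F] [DecidableEq F] :
    Nat.card (upperTriangularGL 2 F) = Fintype.card Fˣ * (Fintype.card Fˣ * Fintype.card F) := by
  rw [← Nat.card_congr (Equiv.ofBijective toB toB_bijective), Nat.card_eq_fintype_card,
    Fintype.card_prod, Fintype.card_prod]

lemma card_B_eq [Fintype F] [DecidableEq F] :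
    Nat.card (upperTriangularGL 2 F) = (Fintype.card F - 1) * ((Fintype.card F - 1) * Fintype.card F) := by
  rw [card_B_eq', Fintype.card_units]

lemma card_G_eq [Fintype F] [DecidableEq F] :
    (Fintype.card (GL (Fin 2) F) : ℂ) = ((Fintype.card F : ℂ) + 1) * (Nat.card (upperTriangularGL 2 F) : ℂ) := by
  have h := Subgroup.card_eq_card_quotient_mul_card_subgroup (upperTriangularGL 2 F)
  rw [Cfsg.Agent.S2308.card_quot, Nat.card_eq_fintype_card] at h
  rw [h]
  push_cast
  ring


/-- the linear character `(α, β)` of the Borel subgroup -/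
noncomputable def θ (α β : MulChar F ℂ) : upperTriangularGL 2 F → ℂ :=
  fun b => α (((b : GL (Fin 2) F) : Matrix (Fin 2) (Fin 2) F) 0 0) *
    β (((b : GL (Fin 2) F) : Matrix (Fin 2) (Fin 2) F) 1 1)

lemma bmat_scalar (a : Fˣ) : bmat a a 0 = Matrix.GeneralLinearGroup.scalar (Fin 2) a := by
  apply Matrix.GeneralLinearGroup.ext
  intro i j
  fin_cases i <;> fin_cases j <;> simp [Matrix.GeneralLinearGroup.coe_scalar]

lemma I_scalar [Fintype F] [DecidableEq F] (α β : MulChar F ℂ) (a : Fˣ) :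
    indFun (upperTriangularGL 2 F) (θ α β) (bmat a a 0) = ((Fintype.card F : ℂ) + 1) * (α a * β a) := by
  have hB : (Nat.card (upperTriangularGL 2 F) : ℂ) ≠ 0 := by
    have : Nat.card (upperTriangularGL 2 F) ≠ 0 := Nat.card_pos.ne'
    exact_mod_cast this
  unfold θ
  rw [ind_eq, bmat_scalar, sum_scalar, card_G_eq]
  field_simp

lemma I_diag [Fintype F] [DecidableEq F] (α β : MulChar F ℂ) (a d : Fˣ) (had : a ≠ d) :
    indFun (upperTriangularGL 2 F) (θ α β) (dg a d) = α a * β d + α d * β a := by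
  have hB : (Nat.card (upperTriangularGL 2 F) : ℂ) ≠ 0 := by
    have : Nat.card (upperTriangularGL 2 F) ≠ 0 := Nat.card_pos.ne'
    exact_mod_cast this
  unfold θ
  rw [ind_eq, sum_diag α β a d had]
  field_simp

lemma indFun_conj [Fintype F] [DecidableEq F] (α β : MulChar F ℂ) (g y : GL (Fin 2) F) :
    indFun (upperTriangularGL 2 F) (θ α β) (y * g * y⁻¹) =
      indFun (upperTriangularGL 2 F) (θ α β) g :=
  Cfsg.Agent.Helper81.indFun_isClassFunction _ _ g y

lemma I_split [Fintype F] [DecidableEq F] (α β : MulChar F ℂ) (a d : Fˣ) (c : F) (had : a ≠ d) :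
    indFun (upperTriangularGL 2 F) (θ α β) (bmat a d c) = α a * β d + α d * β a := by
  have had' : (d : F) - a ≠ 0 := fun h => had (Units.ext (sub_eq_zero.mp h).symm)
  let y : GL (Fin 2) F := Matrix.GeneralLinearGroup.mkOfDetNeZero !![1, c / ((d : F) - a); 0, 1]
    (by simp [Matrix.det_fin_two])
  have hy : bmat a d c = y * dg a d * y⁻¹ := by
    rw [eq_mul_inv_iff_mul_eq]
    apply Matrix.GeneralLinearGroup.ext
    intro i j
    rw [Units.val_mul, Units.val_mul]
    simp only [y, coe_mk]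
    fin_cases i <;> fin_cases j <;> simp [Matrix.mul_apply, Fin.sum_univ_two, dg]
    field_simp
    ring
  rw [hy, indFun_conj, I_diag α β a d had]


lemma e_conj_unip [DecidableEq F] (α β : MulChar F ℂ) (a : Fˣ) (c : F) (hc : c ≠ 0) (x : GL (Fin 2) F) :
    e α β (x⁻¹ * bmat a a c * x) =
      if (x : Matrix (Fin 2) (Fin 2) F) 1 0 = 0 then α a * β a else 0 := by
  have hD := det_ne x
  rw [Matrix.det_fin_two] at hD
  obtain ⟨h00, h10, h11⟩ := conj_entries' x (bmat a a c)
  simp only [bmat00, bmat01, bmat10, bmat11, zero_mul, zero_add] at h00 h10 h11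
  rw [Matrix.det_fin_two] at h00 h10 h11
  by_cases hs : (x : Matrix (Fin 2) (Fin 2) F) 1 0 = 0
  · rw [if_pos hs]
    rw [hs] at hD h00 h10 h11
    simp only [mul_zero, sub_zero, zero_mul, add_zero, sub_self] at hD h00 h10 h11
    have n00 : (x : Matrix (Fin 2) (Fin 2) F) 0 0 ≠ 0 := left_ne_zero_of_mul hD
    have n11 : (x : Matrix (Fin 2) (Fin 2) F) 1 1 ≠ 0 := right_ne_zero_of_mul hD
    have z00 : ((x⁻¹ * bmat a a c * x : GL (Fin 2) F) : Matrix (Fin 2) (Fin 2) F) 0 0 = a := by
      rw [h00]; field_simp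
    have z11 : ((x⁻¹ * bmat a a c * x : GL (Fin 2) F) : Matrix (Fin 2) (Fin 2) F) 1 1 = a := by
      rw [h11]; field_simp
    unfold e
    rw [if_pos h10, z00, z11]
  · rw [if_neg hs]
    unfold e
    rw [if_neg]
    rw [h10]
    intro h
    rcases mul_eq_zero.mp h with h | h
    · exact (inv_ne_zero hD) h
    · have : c * ((x : Matrix (Fin 2) (Fin 2) F) 1 0 * (x : Matrix (Fin 2) (Fin 2) F) 1 0) = 0 := by
        linear_combination -h
      rcases mul_eq_zero.mp this with h | h
      · exact hc h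
      · rcases mul_eq_zero.mp h with h | h <;> exact hs h

lemma I_unip [Fintype F] [DecidableEq F] (α β : MulChar F ℂ) (a : Fˣ) (c : F) (hc : c ≠ 0) :
    indFun (upperTriangularGL 2 F) (θ α β) (bmat a a c) = α a * β a := by
  have hB : (Nat.card (upperTriangularGL 2 F) : ℂ) ≠ 0 := by
    have : Nat.card (upperTriangularGL 2 F) ≠ 0 := Nat.card_pos.ne'
    exact_mod_cast this
  unfold θ
  rw [ind_eq]
  simp_rw [e_conj_unip α β a c hc]
  rw [← Finset.sum_filter, Finset.sum_const, ← Cfsg.Agent.S2305.card_B, nsmul_eq_mul]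
  field_simp


/-- `θ α β` as a monoid hom -/
noncomputable def θhom (α β : MulChar F ℂ) : upperTriangularGL 2 F →* ℂ where
  toFun := θ α β
  map_one' := by simp [θ]
  map_mul' := by
    intro b b'
    have h10 : ((b' : GL (Fin 2) F) : Matrix (Fin 2) (Fin 2) F) 1 0 = 0 :=
      (Cfsg.Agent.S2305.mem_B_iff _).mp b'.2
    have h10' : ((b : GL (Fin 2) F) : Matrix (Fin 2) (Fin 2) F) 1 0 = 0 :=
      (Cfsg.Agent.S2305.mem_B_iff _).mp b.2
    simp only [θ, Subgroup.coe_mul, Units.val_mul, Matrix.mul_apply, Fin.sum_univ_two, h10, h10',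
      mul_zero, zero_mul, add_zero, zero_add, map_mul]
    ring

lemma θ_isIrr (α β : MulChar F ℂ) : IsIrrCharacter (upperTriangularGL 2 F) (θ α β) := by
  have h := (Cfsg.Agent.Helper79.linChar (θhom α β).toHomUnits).2
  convert h using 1
  funext b
  rw [Cfsg.Agent.Helper79.linChar_apply, MonoidHom.coe_toHomUnits]
  rfl

lemma θ_isCharacter (α β : MulChar F ℂ) : IsCharacter (upperTriangularGL 2 F) (θ α β) := by
  obtain ⟨n, ρ, -, h⟩ := θ_isIrr α β
  exact ⟨n, ρ, h⟩


open scoped ComplexConjugate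

lemma conj_mulChar [Finite F] (χ : MulChar F ℂ) (a : F) : conj (χ a) = χ⁻¹ a :=
  MulChar.star_apply' χ a

lemma mulChar_mul_inv_unit (χ : MulChar F ℂ) (a : Fˣ) : χ a * χ⁻¹ a = 1 := by
  rw [← MulChar.mul_apply, mul_inv_cancel, MulChar.one_apply_coe]

lemma sum_units_mulChar [Fintype F] [DecidableEq F] (χ : MulChar F ℂ) (h : χ ≠ 1) :
    ∑ a : Fˣ, χ (a : F) = 0 := by
  let f : Fˣ →* ℂ := (Units.coeHom ℂ).comp χ.toUnitHom
  have hf : f ≠ 1 := by
    intro hf
    apply h
    ext a
    have := congrArg (fun g : Fˣ →* ℂ => g a) hf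
    simpa [f] using this
  have := sum_hom_units_eq_zero f hf
  simpa [f] using this

/-- values of the induced function on the Borel subgroup, uniformly -/
lemma I_bmat_eq [Fintype F] [DecidableEq F] (α β : MulChar F ℂ) (a : Fˣ) (c : F) :
    indFun (upperTriangularGL 2 F) (θ α β) (bmat a a c) =
      (1 + if c = 0 then (Fintype.card F : ℂ) else 0) * (α a * β a) := by
  by_cases hc : c = 0
  · subst hc
    rw [I_scalar, if_pos rfl]
    ring
  · rw [I_unip α β a c hc, if_neg hc]
    ring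

end Cfsg.Agent.Helper38
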