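import Mathlib
import Cfsg.Prelude.Def_Characters
import Cfsg.Agent.Lib.Helper81.CharInd

set_option autoImplicit false

namespace Cfsg.Agent.Helper38

open Cfsg Cfsg.Agent.Helper81
open scoped ComplexConjugate

universe u

/-- A character of norm two is the sum of two distinct irreducible characters. -/
theorem exists_two_irr_of_classInner_eq_two {G : Type u} [Group G] [Fintype G] {ψ : G → ℂ}
    (hψ : IsCharacter G ψ) (h2 : classInner ψ ψ = 2) :
    ∃ χ₁ χ₂ : G → ℂ, IsIrrCharacter G χ₁ ∧ IsIrrCharacter G χ₂ ∧ χ₁ ≠ χ₂ ∧ ψ = χ₁ + χ₂ := by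
  classical
  have : Fintype (IrrCharacter G) := @Fintype.ofFinite _ irr_finite
  obtain ⟨m, hm⟩ := exists_nat_decomp hψ
  have hnorm : classInner ψ ψ = ((∑ χ, m χ * m χ : ℕ) : ℂ) := by
    conv_lhs => rw [hm]
    rw [classInner_sum_right]
    push_cast
    apply Finset.sum_congr rfl
    intro χ _
    rw [classInner_smul_right, classInner_nat_decomp (fun χ' => (m χ' : ℂ)) χ, Complex.conj_natCast]
  rw [hnorm] at h2
  have h3 : ∑ χ, m χ * m χ = 2 := by exact_mod_cast h2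
  have hex : ∃ χ₀, m χ₀ ≠ 0 := by
    by_contra hcon
    push Not at hcon
    simp [hcon] at h3
  obtain ⟨χ₀, hχ₀⟩ := hex
  have hsplit := Finset.add_sum_erase Finset.univ (fun χ => m χ * m χ) (Finset.mem_univ χ₀)
  rw [h3] at hsplit
  have hm0 : m χ₀ = 1 := by
    have hle : m χ₀ * m χ₀ ≤ 2 := by omega
    have hlt : m χ₀ < 2 := by
      by_contra hge
      push Not at hge
      have : 2 * 2 ≤ m χ₀ * m χ₀ := Nat.mul_le_mul hge hge
      omega
    omega
  rw [hm0] at hsplit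
  have hrest : ∑ χ ∈ Finset.univ.erase χ₀, m χ * m χ = 1 := by omega
  have hex1 : ∃ χ₁ ∈ Finset.univ.erase χ₀, m χ₁ ≠ 0 := by
    by_contra hcon
    push Not at hcon
    rw [Finset.sum_eq_zero (fun χ hχ => by rw [hcon χ hχ]; rfl)] at hrest
    omega
  obtain ⟨χ₁, hχ₁mem, hχ₁⟩ := hex1
  have hsplit1 := Finset.add_sum_erase (Finset.univ.erase χ₀) (fun χ => m χ * m χ) hχ₁mem
  rw [hrest] at hsplit1
  have hpos1 : 1 ≤ m χ₁ * m χ₁ := Nat.mul_pos (Nat.pos_of_ne_zero hχ₁) (Nat.pos_of_ne_zero hχ₁)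
  have hm1 : m χ₁ * m χ₁ = 1 := by omega
  have hm1' : m χ₁ = 1 := Nat.eq_one_of_mul_eq_one_right hm1
  have hrest1 : ∑ χ ∈ (Finset.univ.erase χ₀).erase χ₁, m χ * m χ = 0 := by omega
  have hne : χ₁ ≠ χ₀ := (Finset.mem_erase.mp hχ₁mem).1
  have hzero : ∀ χ, χ ≠ χ₀ → χ ≠ χ₁ → m χ = 0 := by
    intro χ h0 h1
    have := (Finset.sum_eq_zero_iff.mp hrest1) χ
      (Finset.mem_erase.mpr ⟨h1, Finset.mem_erase.mpr ⟨h0, Finset.mem_univ _⟩⟩)
    exact (Nat.mul_eq_zero.mp this).elim id id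
  refine ⟨χ₀, χ₁, χ₀.2, χ₁.2, fun h => hne (Subtype.ext h.symm), ?_⟩
  rw [hm]
  rw [← Finset.add_sum_erase Finset.univ _ (Finset.mem_univ χ₀),
    ← Finset.add_sum_erase (Finset.univ.erase χ₀) _ hχ₁mem]
  rw [Finset.sum_eq_zero, add_zero, hm0, hm1']
  · simp
  · intro χ hχ
    have h1 := (Finset.mem_erase.mp hχ).1
    have h0 := (Finset.mem_erase.mp (Finset.mem_erase.mp hχ).2).1
    rw [hzero χ h0 h1]
    simp

end Cfsg.Agent.Helper38
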