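import Mathlib
import Cfsg.Agent.Lib.Helper38.GL2Borel
import Cfsg.Agent.Lib.Helper38.NormTwo
import Cfsg.Agent.Lib.Helper15.NormOne
import Cfsg.Agent.S2304
import Cfsg.Agent.S2305

set_option autoImplicit false
set_option linter.unusedSectionVars false

/-! The non-cuspidal irreducible characters of `GL₂(F)`. -/

namespace Cfsg.Agent.Helper38

open Matrix Cfsg
open Cfsg.Agent.Helper81
open scoped ComplexConjugate

variable {F : Type*} [Field F] [Fintype F] [DecidableEq F]

local notation "B" => upperTriangularGL 2 F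

/-- general inner sum over the unipotent parameter -/
lemma T_gen (α β α' β' : MulChar F ℂ) (a d : Fˣ) :
    ∑ c : F, θ α' β' (toB (a, d, c)) *
        conj (indFun (upperTriangularGL 2 F) (θ α β) (toB (a, d, c) : GL (Fin 2) F)) =
      (Fintype.card F : ℂ) * ((α' * α⁻¹) a * (β' * β⁻¹) d + (α' * β⁻¹) a * (β' * α⁻¹) d) := by
  have hθ : ∀ c : F, θ α' β' (toB (a, d, c)) = α' a * β' d := by
    intro c
    simp [θ, toB]
  simp_rw [hθ]
  have hcoe : ∀ c : F, ((toB (a, d, c) : upperTriangularGL 2 F) : GL (Fin 2) F) = bmat a d c := fun c => rfl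
  simp_rw [hcoe]
  by_cases had : a = d
  · subst had
    simp_rw [I_bmat_eq]
    have h1 : ∀ c : F, α' a * β' a * conj ((1 + if c = 0 then (Fintype.card F : ℂ) else 0) * (α a * β a))
        = (1 + if c = 0 then (Fintype.card F : ℂ) else 0) * (α' a * β' a * (α⁻¹ a * β⁻¹ a)) := by
      intro c
      rw [map_mul, map_mul, conj_mulChar, conj_mulChar]
      have e3 : conj (1 + if c = 0 then (Fintype.card F : ℂ) else 0) =
          1 + if c = 0 then (Fintype.card F : ℂ) else 0 := by
        split_ifs <;> simp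
      rw [e3]
      ring
    simp_rw [h1]
    rw [← Finset.sum_mul, Finset.sum_add_distrib, Finset.sum_const, Finset.sum_ite_eq', Finset.card_univ,
      nsmul_eq_mul]
    simp only [Finset.mem_univ, if_true, MulChar.mul_apply]
    ring
  · simp_rw [I_split α β a d _ had]
    rw [Finset.sum_const, Finset.card_univ, nsmul_eq_mul]
    congr 1
    rw [map_add, map_mul, map_mul, conj_mulChar, conj_mulChar, conj_mulChar, conj_mulChar]
    simp only [MulChar.mul_apply]
    ring

/-- sum of a multiplicative character over the units -/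
lemma sum_units_mulChar' (χ : MulChar F ℂ) :
    ∑ a : Fˣ, χ (a : F) = if χ = 1 then (Fintype.card Fˣ : ℂ) else 0 := by
  by_cases h : χ = 1
  · subst h
    simp
  · rw [if_neg h, sum_units_mulChar χ h]

/-- Mackey's formula for the principal series of `GL₂` -/
theorem inner_ind (α β α' β' : MulChar F ℂ) :
    classInner (indFun (upperTriangularGL 2 F) (θ α' β')) (indFun (upperTriangularGL 2 F) (θ α β)) =
      (if α' = α ∧ β' = β then 1 else 0) + (if α' = β ∧ β' = α then 1 else 0) := by
  have : Fintype (upperTriangularGL 2 F) := Fintype.ofFinite _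
  rw [frobenius_reciprocity _ _ (indFun_isClassFunction _ _)]
  unfold classInner
  rw [← Function.Bijective.sum_comp toB_bijective, Fintype.sum_prod_type]
  simp_rw [Fintype.sum_prod_type, T_gen]
  simp_rw [← Finset.mul_sum, Finset.sum_add_distrib, ← Finset.sum_mul_sum, sum_units_mulChar']
  rw [card_B_eq']
  have hn : (Fintype.card Fˣ : ℂ) ≠ 0 := by
    have : Fintype.card Fˣ ≠ 0 := Fintype.card_pos.ne'
    exact_mod_cast this
  have hq : (Fintype.card F : ℂ) ≠ 0 := by
    have : Fintype.card F ≠ 0 := Fintype.card_pos.ne'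
    exact_mod_cast this
  have e1 : ∀ γ δ : MulChar F ℂ, γ * δ⁻¹ = 1 ↔ γ = δ := fun γ δ => mul_inv_eq_one
  simp only [e1]
  have e2 : ∀ p : Prop, ∀ [Decidable p], (if p then (Fintype.card Fˣ : ℂ) else 0) =
      (Fintype.card Fˣ : ℂ) * (if p then 1 else 0) := by
    intro p _
    split_ifs <;> simp
  have e3 : ∀ p r : Prop, ∀ [Decidable p] [Decidable r], (if p ∧ r then (1 : ℂ) else 0) =
      (if p then 1 else 0) * (if r then 1 else 0) := by
    intro p r _ _
    by_cases hp : p <;> by_cases hr : r <;> simp [hp, hr]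
  rw [e2 (α' = α), e2 (β' = β), e2 (α' = β), e2 (β' = α), e3, e3]
  generalize (if α' = α then (1 : ℂ) else 0) = x1
  generalize (if β' = β then (1 : ℂ) else 0) = x2
  generalize (if α' = β then (1 : ℂ) else 0) = x3
  generalize (if β' = α then (1 : ℂ) else 0) = x4
  push_cast
  field_simp

/-- the linear character `α ∘ det` -/
noncomputable def lin (α : MulChar F ℂ) : GL (Fin 2) F → ℂ :=
  fun g => α ((Matrix.GeneralLinearGroup.det g : Fˣ) : F)

noncomputable def linHom (α : MulChar F ℂ) : GL (Fin 2) F →* ℂ where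
  toFun := lin α
  map_one' := by simp [lin]
  map_mul' := by
    intro x y
    simp [lin]

lemma lin_isIrr (α : MulChar F ℂ) : IsIrrCharacter (GL (Fin 2) F) (lin α) := by
  have h := (Cfsg.Agent.Helper79.linChar (linHom α).toHomUnits).2
  convert h using 1
  funext b
  rw [Cfsg.Agent.Helper79.linChar_apply, MonoidHom.coe_toHomUnits]
  rfl

lemma lin_one (α : MulChar F ℂ) : lin α 1 = 1 := by simp [lin]

lemma lin_dg (α : MulChar F ℂ) (a d : Fˣ) : lin α (Cfsg.Agent.S2305.dg a d) = α a * α d := by
  unfold lin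
  rw [Matrix.GeneralLinearGroup.val_det_apply]
  simp [Cfsg.Agent.S2305.dg, Matrix.det_fin_two]

lemma lin_injective : Function.Injective (lin : MulChar F ℂ → GL (Fin 2) F → ℂ) := by
  intro α α' h
  ext a
  have := congrFun h (Cfsg.Agent.S2305.dg a 1)
  rw [lin_dg, lin_dg] at this
  simpa using this

lemma lin_restrict (α : MulChar F ℂ) : (fun b : upperTriangularGL 2 F => lin α b) = θ α α := by
  funext b
  have h10 : ((b : GL (Fin 2) F) : Matrix (Fin 2) (Fin 2) F) 1 0 = 0 :=
    (Cfsg.Agent.S2305.mem_B_iff _).mp b.2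
  unfold lin θ
  rw [Matrix.GeneralLinearGroup.val_det_apply, Matrix.det_fin_two, h10, mul_zero, sub_zero, map_mul]

/-- inner product of linear characters of `B` -/
lemma inner_θ [Fintype (upperTriangularGL 2 F)] (α β α' β' : MulChar F ℂ) :
    classInner (θ α' β') (θ α β) = if α' = α ∧ β' = β then 1 else 0 := by
  rw [irr_orthonormal (θ_isIrr α' β') (θ_isIrr α β)]
  by_cases h : α' = α ∧ β' = β
  · rw [if_pos h, if_pos (by rw [h.1, h.2])]
  · rw [if_neg h, if_neg]
    intro hθ
    apply h
    constructor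
    · ext a
      have := congrFun hθ ⟨bmat a 1 0, bmat_mem _ _ _⟩
      simpa [θ] using this
    · ext d
      have := congrFun hθ ⟨bmat 1 d 0, bmat_mem _ _ _⟩
      simpa [θ] using this

/-- multiplicity of `γ ∘ det` in the principal series -/
theorem inner_ind_lin (α β γ : MulChar F ℂ) :
    classInner (indFun (upperTriangularGL 2 F) (θ α β)) (lin γ) = if α = γ ∧ β = γ then 1 else 0 := by
  have : Fintype (upperTriangularGL 2 F) := Fintype.ofFinite _
  rw [frobenius_reciprocity _ _ (isClassFunction_of_isCharacter (IsIrrCharacter.isCharacter (lin_isIrr γ))), lin_restrict]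
  exact inner_θ γ γ α β

/-- the Steinberg-type constituent -/
theorem exists_steinberg (α : MulChar F ℂ) :
    ∃ σ : GL (Fin 2) F → ℂ, IsIrrCharacter (GL (Fin 2) F) σ ∧ σ ≠ lin α ∧
      indFun (upperTriangularGL 2 F) (θ α α) = lin α + σ := by
  have hψ : IsCharacter _ (indFun (upperTriangularGL 2 F) (θ α α)) :=
    isCharacter_indFun _ (θ_isCharacter α α)
  have hnorm : classInner (indFun (upperTriangularGL 2 F) (θ α α))
      (indFun (upperTriangularGL 2 F) (θ α α)) = 2 := by
    rw [inner_ind]; norm_num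
  obtain ⟨χ₁, χ₂, h₁, h₂, hne, hsum⟩ := exists_two_irr_of_classInner_eq_two hψ hnorm
  have hl := inner_ind_lin α α α
  rw [if_pos ⟨rfl, rfl⟩, hsum, classInner_add_left, irr_orthonormal h₁ (lin_isIrr α),
    irr_orthonormal h₂ (lin_isIrr α)] at hl
  by_cases h1 : χ₁ = lin α
  · refine ⟨χ₂, h₂, ?_, ?_⟩
    · rw [← h1]; exact hne.symm
    · rw [hsum, h1]
  · by_cases h2 : χ₂ = lin α
    · refine ⟨χ₁, h₁, h1, ?_⟩
      rw [hsum, h2, add_comm]
    · rw [if_neg h1, if_neg h2] at hl
      norm_num at hl

end Cfsg.Agent.Helper38
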