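import Mathlib

set_option autoImplicit false

/-! Conjugacy classes of `GL₂(F)`: there are `q² - 1` of them. -/

namespace Cfsg.Agent.Helper38

open Matrix

variable {F : Type*} [Field F]

/-- companion matrix with trace `t` and determinant `d` -/
noncomputable def cmp (t : F) (d : Fˣ) : GL (Fin 2) F :=
  Matrix.GeneralLinearGroup.mkOfDetNeZero !![0, -(d : F); 1, t] (by simp [Matrix.det_fin_two])

lemma cmp_coe (t : F) (d : Fˣ) :
    ((cmp t d : GL (Fin 2) F) : Matrix (Fin 2) (Fin 2) F) = !![0, -(d : F); 1, t] := rfl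

/-- scalar matrix -/
noncomputable def sc (a : Fˣ) : GL (Fin 2) F :=
  Matrix.GeneralLinearGroup.mkOfDetNeZero !![(a : F), 0; 0, (a : F)] (by simp [Matrix.det_fin_two])

lemma sc_coe (a : Fˣ) :
    ((sc a : GL (Fin 2) F) : Matrix (Fin 2) (Fin 2) F) = !![(a : F), 0; 0, (a : F)] := rfl

lemma sc_comm (a : Fˣ) (x : GL (Fin 2) F) : x * sc a = sc a * x := by
  apply Matrix.GeneralLinearGroup.ext
  intro i j
  rw [Matrix.GeneralLinearGroup.coe_mul, Matrix.GeneralLinearGroup.coe_mul, sc_coe]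
  fin_cases i <;> fin_cases j <;> simp [Matrix.mul_apply, Fin.sum_univ_two, mul_comm]

lemma gl_eta (g : GL (Fin 2) F) :
    (g : Matrix (Fin 2) (Fin 2) F) = !![(g : Matrix (Fin 2) (Fin 2) F) 0 0, (g : Matrix (Fin 2) (Fin 2) F) 0 1;
      (g : Matrix (Fin 2) (Fin 2) F) 1 0, (g : Matrix (Fin 2) (Fin 2) F) 1 1] :=
  Matrix.eta_fin_two _

lemma det_coe (g : GL (Fin 2) F) :
    ((Matrix.GeneralLinearGroup.det g : Fˣ) : F) =
      (g : Matrix (Fin 2) (Fin 2) F) 0 0 * (g : Matrix (Fin 2) (Fin 2) F) 1 1 -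
        (g : Matrix (Fin 2) (Fin 2) F) 0 1 * (g : Matrix (Fin 2) (Fin 2) F) 1 0 := by
  rw [Matrix.GeneralLinearGroup.val_det_apply, Matrix.det_fin_two]

/-- trace of a `GL₂` element -/
def tr2 (g : GL (Fin 2) F) : F :=
  (g : Matrix (Fin 2) (Fin 2) F) 0 0 + (g : Matrix (Fin 2) (Fin 2) F) 1 1

lemma tr2_eq_trace (g : GL (Fin 2) F) : tr2 g = Matrix.trace (g : Matrix (Fin 2) (Fin 2) F) := by
  rw [Matrix.trace_fin_two]; rfl

lemma tr2_conj (c g : GL (Fin 2) F) : tr2 (c * g * c⁻¹) = tr2 g := by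
  rw [tr2_eq_trace, tr2_eq_trace, Matrix.GeneralLinearGroup.coe_mul, Matrix.trace_mul_comm,
    ← Matrix.GeneralLinearGroup.coe_mul, ← mul_assoc, inv_mul_cancel, one_mul]

lemma det_conj (c g : GL (Fin 2) F) :
    Matrix.GeneralLinearGroup.det (c * g * c⁻¹) = Matrix.GeneralLinearGroup.det g := by
  rw [map_mul, map_mul, map_inv, mul_comm, ← mul_assoc, inv_mul_cancel, one_mul]

/-- the cyclic-vector lemma: if `v, g v` are independent, `g` is conjugate to a companion matrix -/
lemma conj_cmp_of_vec (g : GL (Fin 2) F) (v0 v1 : F)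
    (hv : v0 * ((g : Matrix (Fin 2) (Fin 2) F) 1 0 * v0 + (g : Matrix (Fin 2) (Fin 2) F) 1 1 * v1) -
      v1 * ((g : Matrix (Fin 2) (Fin 2) F) 0 0 * v0 + (g : Matrix (Fin 2) (Fin 2) F) 0 1 * v1) ≠ 0) :
    IsConj (cmp (tr2 g) (Matrix.GeneralLinearGroup.det g)) g := by
  rw [isConj_iff]
  let P : GL (Fin 2) F := Matrix.GeneralLinearGroup.mkOfDetNeZero
    !![v0, (g : Matrix (Fin 2) (Fin 2) F) 0 0 * v0 + (g : Matrix (Fin 2) (Fin 2) F) 0 1 * v1;
       v1, (g : Matrix (Fin 2) (Fin 2) F) 1 0 * v0 + (g : Matrix (Fin 2) (Fin 2) F) 1 1 * v1]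
    (by rw [Matrix.det_fin_two_of]; intro h; apply hv; linear_combination h)
  refine ⟨P, ?_⟩
  rw [mul_inv_eq_iff_eq_mul]
  apply Matrix.GeneralLinearGroup.ext
  intro i j
  rw [Matrix.GeneralLinearGroup.coe_mul, Matrix.GeneralLinearGroup.coe_mul, cmp_coe, det_coe]
  have hP : (P : Matrix (Fin 2) (Fin 2) F) = !![v0, (g : Matrix (Fin 2) (Fin 2) F) 0 0 * v0 + (g : Matrix (Fin 2) (Fin 2) F) 0 1 * v1;
       v1, (g : Matrix (Fin 2) (Fin 2) F) 1 0 * v0 + (g : Matrix (Fin 2) (Fin 2) F) 1 1 * v1] := rfl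
  rw [hP]
  conv_rhs => rw [gl_eta g]
  unfold tr2
  fin_cases i <;> fin_cases j <;> simp [Matrix.mul_apply, Fin.sum_univ_two] <;> ring

/-- every element of `GL₂` is scalar or conjugate to a companion matrix -/
lemma scalar_or_conj_cmp (g : GL (Fin 2) F) :
    (∃ a : Fˣ, g = sc a) ∨ IsConj (cmp (tr2 g) (Matrix.GeneralLinearGroup.det g)) g := by
  by_cases h10 : (g : Matrix (Fin 2) (Fin 2) F) 1 0 = 0
  · by_cases h01 : (g : Matrix (Fin 2) (Fin 2) F) 0 1 = 0
    · by_cases heq : (g : Matrix (Fin 2) (Fin 2) F) 0 0 = (g : Matrix (Fin 2) (Fin 2) F) 1 1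
      · left
        have hne : (g : Matrix (Fin 2) (Fin 2) F) 0 0 ≠ 0 := by
          intro h0
          have hd := (Matrix.GeneralLinearGroup.det g).ne_zero
          rw [det_coe, h0, h01] at hd
          simp at hd
        refine ⟨Units.mk0 _ hne, ?_⟩
        apply Matrix.GeneralLinearGroup.ext
        intro i j
        rw [sc_coe]
        fin_cases i <;> fin_cases j <;> simp [h10, h01, heq]
      · right
        apply conj_cmp_of_vec g 1 1
        rw [h10, h01]
        intro h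
        apply heq
        have : (g : Matrix (Fin 2) (Fin 2) F) 1 1 - (g : Matrix (Fin 2) (Fin 2) F) 0 0 = 0 := by
          linear_combination h
        exact (sub_eq_zero.mp this).symm
    · right
      apply conj_cmp_of_vec g 0 1
      simpa using h01
  · right
    apply conj_cmp_of_vec g 1 0
    simpa using h10

/-- the parametrisation of conjugacy classes -/
noncomputable def clsMap : Fˣ ⊕ (F × Fˣ) → ConjClasses (GL (Fin 2) F)
  | Sum.inl a => ConjClasses.mk (sc a)
  | Sum.inr p => ConjClasses.mk (cmp p.1 p.2)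

lemma tr2_cmp (t : F) (d : Fˣ) : tr2 (cmp t d) = t := by
  simp [tr2, cmp_coe]

lemma det_cmp (t : F) (d : Fˣ) : Matrix.GeneralLinearGroup.det (cmp t d) = d := by
  apply Units.ext
  rw [det_coe, cmp_coe]
  simp

lemma clsMap_bijective : Function.Bijective (clsMap : Fˣ ⊕ (F × Fˣ) → ConjClasses (GL (Fin 2) F)) := by
  constructor
  · rintro (a | ⟨t, d⟩) (a' | ⟨t', d'⟩) h
    · simp only [clsMap, ConjClasses.mk_eq_mk_iff_isConj, isConj_iff] at h
      obtain ⟨c, hc⟩ := h
      rw [sc_comm, mul_inv_cancel_right] at hc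
      have := congrArg (fun x : GL (Fin 2) F => (x : Matrix (Fin 2) (Fin 2) F) 0 0) hc
      simp only [sc_coe] at this
      congr 1
      apply Units.ext
      simpa using this
    · exfalso
      simp only [clsMap, ConjClasses.mk_eq_mk_iff_isConj, isConj_iff] at h
      obtain ⟨c, hc⟩ := h
      rw [sc_comm, mul_inv_cancel_right] at hc
      have := congrArg (fun x : GL (Fin 2) F => (x : Matrix (Fin 2) (Fin 2) F) 1 0) hc
      simp [sc_coe, cmp_coe] at this
    · exfalso
      simp only [clsMap, ConjClasses.mk_eq_mk_iff_isConj] at h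
      have h' := h.symm
      rw [isConj_iff] at h'
      obtain ⟨c, hc⟩ := h'
      rw [sc_comm, mul_inv_cancel_right] at hc
      have := congrArg (fun x : GL (Fin 2) F => (x : Matrix (Fin 2) (Fin 2) F) 1 0) hc
      simp [sc_coe, cmp_coe] at this
    · simp only [clsMap, ConjClasses.mk_eq_mk_iff_isConj, isConj_iff] at h
      obtain ⟨c, hc⟩ := h
      have h1 := congrArg tr2 hc
      have h2 := congrArg Matrix.GeneralLinearGroup.det hc
      rw [tr2_conj, tr2_cmp, tr2_cmp] at h1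
      rw [det_conj, det_cmp, det_cmp] at h2
      rw [h1, h2]
  · intro C
    obtain ⟨g, rfl⟩ := ConjClasses.mk_surjective C
    · rcases scalar_or_conj_cmp g with ⟨a, rfl⟩ | h
      · exact ⟨Sum.inl a, rfl⟩
      · exact ⟨Sum.inr (tr2 g, Matrix.GeneralLinearGroup.det g), ConjClasses.mk_eq_mk_iff_isConj.mpr h⟩

theorem card_conjClasses_GL2 [Fintype F] [DecidableEq F] :
    Nat.card (ConjClasses (GL (Fin 2) F)) = Fintype.card Fˣ + Fintype.card F * Fintype.card Fˣ := by
  classical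
  rw [← Nat.card_congr (Equiv.ofBijective clsMap clsMap_bijective), Nat.card_eq_fintype_card,
    Fintype.card_sum, Fintype.card_prod]

end Cfsg.Agent.Helper38
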