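import Mathlib
import Cfsg.Agent.Lib.Helper38.GL2Chars
import Cfsg.Agent.Lib.Helper81.CharCorr
import Cfsg.Agent.Lib.Helper81.CharRam

set_option autoImplicit false
set_option linter.unusedSectionVars false

/-! Cuspidal characters of `GL₂(F)`: restriction to the unipotent subgroup. -/

namespace Cfsg.Agent.Helper38

open Matrix Cfsg
open Cfsg.Agent.Helper81
open scoped ComplexConjugate

variable {F : Type*} [Field F] [Fintype F] [DecidableEq F]

/-- unipotent upper triangular elements -/
noncomputable def un (c : F) : GL (Fin 2) F := bmat 1 1 c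

lemma un_coe (c : F) : ((un c : GL (Fin 2) F) : Matrix (Fin 2) (Fin 2) F) = !![1, c; 0, 1] := by
  unfold un bmat
  simp

lemma un_zero : un (0 : F) = 1 := by
  apply Matrix.GeneralLinearGroup.ext
  intro i j
  rw [un_coe]
  fin_cases i <;> fin_cases j <;> simp

lemma un_add (c c' : F) : un (c + c') = un c * un c' := by
  apply Matrix.GeneralLinearGroup.ext
  intro i j
  rw [Matrix.GeneralLinearGroup.coe_mul, un_coe, un_coe, un_coe]
  fin_cases i <;> fin_cases j <;> simp [Matrix.mul_apply, Fin.sum_univ_two, add_comm]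

/-- `c ↦ un c` as a homomorphism -/
noncomputable def unHom : Multiplicative F →* GL (Fin 2) F where
  toFun x := un (Multiplicative.toAdd x)
  map_one' := by simp [un_zero]
  map_mul' := by intro x y; simp [un_add]

lemma un_conj (c : F) (hc : c ≠ 0) :
    un c = Cfsg.Agent.S2305.dg (Units.mk0 c hc) 1 * un 1 * (Cfsg.Agent.S2305.dg (Units.mk0 c hc) 1)⁻¹ := by
  rw [eq_mul_inv_iff_mul_eq]
  apply Matrix.GeneralLinearGroup.ext
  intro i j
  rw [Matrix.GeneralLinearGroup.coe_mul, Matrix.GeneralLinearGroup.coe_mul, un_coe, un_coe]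
  fin_cases i <;> fin_cases j <;> simp [Matrix.mul_apply, Fin.sum_univ_two]

lemma classFun_un {χ : GL (Fin 2) F → ℂ} (hχ : IsClassFunction (GL (Fin 2) F) χ) (c : F) (hc : c ≠ 0) :
    χ (un c) = χ (un 1) := by
  rw [un_conj c hc]
  exact hχ _ _

noncomputable instance mulCharFintype : Fintype (MulChar F ℂ) := Fintype.ofFinite _

lemma card_mulChar : Fintype.card (MulChar F ℂ) = Fintype.card Fˣ := by
  rw [← Nat.card_eq_fintype_card, ← Nat.card_eq_fintype_card]
  exact MulChar.card_eq_card_units_of_hasEnoughRootsOfUnity F ℂ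

/-- sum over all multiplicative characters -/
lemma sum_mulChar_apply (a : Fˣ) :
    ∑ χ : MulChar F ℂ, χ (a : F) = if a = 1 then (Fintype.card Fˣ : ℂ) else 0 := by
  by_cases ha : a = 1
  · subst ha
    rw [if_pos rfl]
    simp [card_mulChar]
  · rw [if_neg ha]
    have ha' : (a : F) ≠ 1 := fun h => ha (Units.ext h)
    obtain ⟨χ, hχ⟩ := MulChar.exists_apply_ne_one_of_hasEnoughRootsOfUnity F ℂ ha'
    refine eq_zero_of_mul_eq_self_left hχ ?_
    simp only [Finset.mul_sum, ← MulChar.mul_apply]
    exact Fintype.sum_bijective _ (Group.mulLeft_bijective χ) _ _ fun χ' ↦ rfl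

/-- the sum of all multiplicities in the principal series detects the `U`-fixed vectors -/
theorem sum_inner_ind {χ : GL (Fin 2) F → ℂ} (hχ : IsClassFunction (GL (Fin 2) F) χ) :
    ∑ α : MulChar F ℂ, ∑ β : MulChar F ℂ, classInner (indFun (upperTriangularGL 2 F) (θ α β)) χ =
      (Fintype.card F : ℂ)⁻¹ * ∑ c : F, conj (χ (un c)) := by
  have : Fintype (upperTriangularGL 2 F) := Fintype.ofFinite _
  have h1 : ∀ α β : MulChar F ℂ, classInner (indFun (upperTriangularGL 2 F) (θ α β)) χ =
      (Nat.card (upperTriangularGL 2 F) : ℂ)⁻¹ * ∑ a : Fˣ, ∑ d : Fˣ, ∑ c : F,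
        α a * β d * conj (χ (bmat a d c)) := by
    intro α β
    rw [frobenius_reciprocity _ _ hχ]
    unfold classInner
    rw [← Function.Bijective.sum_comp toB_bijective, Fintype.sum_prod_type]
    simp_rw [Fintype.sum_prod_type]
    congr 1
  have h1' : ∑ α : MulChar F ℂ, ∑ β : MulChar F ℂ, classInner (indFun (upperTriangularGL 2 F) (θ α β)) χ =
      (Nat.card (upperTriangularGL 2 F) : ℂ)⁻¹ * ∑ α : MulChar F ℂ, ∑ β : MulChar F ℂ,
        ∑ a : Fˣ, ∑ d : Fˣ, ∑ c : F, α a * β d * conj (χ (bmat a d c)) := by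
    rw [Finset.mul_sum]
    apply Finset.sum_congr rfl; intro α _
    rw [Finset.mul_sum]
    apply Finset.sum_congr rfl; intro β _
    exact h1 α β
  rw [h1']
  have h2 : ∑ α : MulChar F ℂ, ∑ β : MulChar F ℂ, ∑ a : Fˣ, ∑ d : Fˣ, ∑ c : F,
        α a * β d * conj (χ (bmat a d c)) =
      ∑ a : Fˣ, ∑ d : Fˣ, ∑ c : F, (∑ α : MulChar F ℂ, α a) * (∑ β : MulChar F ℂ, β d) *
        conj (χ (bmat a d c)) := by
    have e1 : ∀ α : MulChar F ℂ, ∑ β : MulChar F ℂ, ∑ a : Fˣ, ∑ d : Fˣ, ∑ c : F,
        α a * β d * conj (χ (bmat a d c)) = ∑ a : Fˣ, ∑ d : Fˣ, ∑ c : F,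
        α a * (∑ β : MulChar F ℂ, β d) * conj (χ (bmat a d c)) := by
      intro α
      rw [Finset.sum_comm]
      apply Finset.sum_congr rfl; intro a _
      rw [Finset.sum_comm]
      apply Finset.sum_congr rfl; intro d _
      rw [Finset.sum_comm]
      apply Finset.sum_congr rfl; intro c _
      rw [Finset.mul_sum, Finset.sum_mul]
    simp_rw [e1]
    rw [Finset.sum_comm]
    apply Finset.sum_congr rfl; intro a _
    rw [Finset.sum_comm]
    apply Finset.sum_congr rfl; intro d _
    rw [Finset.sum_comm]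
    apply Finset.sum_congr rfl; intro c _
    rw [Finset.sum_mul, Finset.sum_mul]
  rw [h2]
  simp_rw [sum_mulChar_apply]
  have h3 : ∀ a : Fˣ, ∑ d : Fˣ, ∑ c : F,
      (if a = 1 then (Fintype.card Fˣ : ℂ) else 0) * (if d = 1 then (Fintype.card Fˣ : ℂ) else 0) *
        conj (χ (bmat a d c)) =
      (if a = 1 then (Fintype.card Fˣ : ℂ) else 0) * ((Fintype.card Fˣ : ℂ) * ∑ c : F, conj (χ (bmat a 1 c))) := by
    intro a
    rw [Finset.sum_eq_single (1 : Fˣ)]
    · rw [if_pos rfl, Finset.mul_sum, Finset.mul_sum]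
      apply Finset.sum_congr rfl; intro c _
      ring
    · intro d _ hd
      simp [hd]
    · intro h; exact absurd (Finset.mem_univ _) h
  simp_rw [h3]
  rw [Finset.sum_eq_single (1 : Fˣ)]
  · rw [if_pos rfl, card_B_eq']
    have hn : (Fintype.card Fˣ : ℂ) ≠ 0 := by
      have : Fintype.card Fˣ ≠ 0 := Fintype.card_pos.ne'
      exact_mod_cast this
    have hq : (Fintype.card F : ℂ) ≠ 0 := by
      have : Fintype.card F ≠ 0 := Fintype.card_pos.ne'
      exact_mod_cast this
    unfold un
    push_cast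
    field_simp
  · intro a _ ha
    simp [ha]
  · intro h; exact absurd (Finset.mem_univ _) h

/-- restriction of a character to the unipotent subgroup, when there is no fixed vector -/
theorem cusp_values {χ : GL (Fin 2) F → ℂ} (hχ : IsCharacter (GL (Fin 2) F) χ)
    (hsum : ∑ c : F, χ (un c) = 0) :
    ∃ m : ℕ, χ 1 = (m : ℂ) * ((Fintype.card F : ℂ) - 1) ∧ χ (un 1) = -(m : ℂ) := by
  have hcl := isClassFunction_of_isCharacter hχ
  have hq : (Fintype.card F : ℂ) ≠ 0 := by
    have : Fintype.card F ≠ 0 := Fintype.card_pos.ne'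
    exact_mod_cast this
  -- first relation
  have hrel1 : χ 1 + ((Fintype.card F : ℂ) - 1) * χ (un 1) = 0 := by
    rw [← hsum, ← Finset.add_sum_erase Finset.univ _ (Finset.mem_univ (0 : F)), un_zero]
    congr 1
    rw [Finset.sum_congr rfl (fun c hc => classFun_un hcl c (Finset.ne_of_mem_erase hc)),
      Finset.sum_const, Finset.card_erase_of_mem (Finset.mem_univ _), Finset.card_univ, nsmul_eq_mul,
      Nat.cast_sub Fintype.card_pos]
    simp
  -- a nontrivial additive character
  obtain ⟨ψ, hψ⟩ := (AddChar.exists_apply_ne_zero (α := F) (a := 1)).mpr one_ne_zero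
  have hψ1 : ψ ≠ 1 := by
    intro h
    apply hψ
    rw [h]; simp
  have hψsum : ∑ c : F, ψ c = 0 := AddChar.sum_eq_zero_of_ne_one hψ1
  let l : Multiplicative F → ℂ := fun x => ψ (Multiplicative.toAdd x)
  have hl : IsIrrCharacter (Multiplicative F) l := by
    have h := (Cfsg.Agent.Helper79.linChar (ψ.toMonoidHom.toHomUnits)).2
    convert h using 1
    funext x
    rw [Cfsg.Agent.Helper79.linChar_apply, MonoidHom.coe_toHomUnits]
    rfl
  have hf : IsCharacter (Multiplicative F) (fun x => χ (unHom x)) := isCharacter_comp_hom unHom hχ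
  obtain ⟨k, hk⟩ := exists_nat_classInner_char hf (IsIrrCharacter.isCharacter hl)
  have hk' : (Fintype.card F : ℂ)⁻¹ * ∑ c : F, χ (un c) * conj (ψ c) = k := by
    rw [← hk]
    unfold classInner
    rw [Nat.card_eq_fintype_card, Fintype.card_multiplicative]
    congr 1
    exact Equiv.sum_comp (Multiplicative.ofAdd : F ≃ Multiplicative F)
      (fun x => χ (unHom x) * conj (l x))
  have hrel2 : χ 1 - χ (un 1) = (k : ℂ) * (Fintype.card F : ℂ) := by
    have hcs : ∑ c : F, conj (ψ c) = 0 := by rw [← map_sum, hψsum, map_zero]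
    have e1 : ∑ c : F, χ (un c) * conj (ψ c) = χ 1 - χ (un 1) := by
      rw [← Finset.add_sum_erase Finset.univ _ (Finset.mem_univ (0 : F)), un_zero]
      have e2 : ∑ c ∈ Finset.univ.erase (0 : F), χ (un c) * conj (ψ c) =
          χ (un 1) * ∑ c ∈ Finset.univ.erase (0 : F), conj (ψ c) := by
        rw [Finset.mul_sum]
        apply Finset.sum_congr rfl
        intro c hc
        rw [classFun_un hcl c (Finset.ne_of_mem_erase hc)]
      have e3 : ∑ c ∈ Finset.univ.erase (0 : F), conj (ψ c) = -1 := by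
        have := Finset.add_sum_erase Finset.univ (fun c : F => conj (ψ c)) (Finset.mem_univ (0 : F))
        rw [hcs] at this
        simp only [AddChar.map_zero_eq_one, map_one] at this
        linear_combination this
      rw [e2, e3, AddChar.map_zero_eq_one, map_one]
      ring
    rw [e1] at hk'
    field_simp at hk'
    linear_combination hk'
  refine ⟨k, ?_, ?_⟩
  · have : (Fintype.card F : ℂ) * χ (un 1) = -(k : ℂ) * (Fintype.card F : ℂ) := by
      linear_combination hrel1 - hrel2
    have hv : χ (un 1) = -(k : ℂ) := by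
      apply mul_left_cancel₀ hq
      rw [this]; ring
    rw [hv] at hrel2
    linear_combination hrel2
  · have : (Fintype.card F : ℂ) * χ (un 1) = -(k : ℂ) * (Fintype.card F : ℂ) := by
      linear_combination hrel1 - hrel2
    apply mul_left_cancel₀ hq
    rw [this]; ring

end Cfsg.Agent.Helper38
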