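import Mathlib
import Cfsg.Agent.Lib.Helper38.GL2Cusp
import Cfsg.Agent.Lib.Helper38.GL2Classes
import Cfsg.Agent.Lib.Helper3.CharOrtho

set_option autoImplicit false
set_option linter.unusedSectionVars false

/-! Classification of the irreducible characters of `GL₂(F)`. -/

namespace Cfsg.Agent.Helper38

open Matrix Cfsg
open Cfsg.Agent.Helper81
open scoped ComplexConjugate

variable {F : Type*} [Field F] [Fintype F] [DecidableEq F]

/-- the Steinberg-type character `Ind θ(α,α) - α ∘ det` -/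
noncomputable def stein (α : MulChar F ℂ) : GL (Fin 2) F → ℂ :=
  indFun (upperTriangularGL 2 F) (θ α α) - lin α

lemma ind_eq_lin_add_stein (α : MulChar F ℂ) :
    indFun (upperTriangularGL 2 F) (θ α α) = lin α + stein α := by
  unfold stein; ring

lemma stein_isIrr (α : MulChar F ℂ) : IsIrrCharacter (GL (Fin 2) F) (stein α) := by
  obtain ⟨σ, hσ, -, h⟩ := exists_steinberg α
  have : stein α = σ := by
    unfold stein; rw [h]; ring
  rw [this]; exact hσ

lemma stein_ne_lin (α : MulChar F ℂ) : stein α ≠ lin α := by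
  obtain ⟨σ, -, hne, h⟩ := exists_steinberg α
  have : stein α = σ := by
    unfold stein; rw [h]; ring
  rw [this]; exact hne

lemma one_eq_bmat : (1 : GL (Fin 2) F) = bmat 1 1 0 := un_zero.symm

lemma ind_one (α β : MulChar F ℂ) :
    indFun (upperTriangularGL 2 F) (θ α β) 1 = (Fintype.card F : ℂ) + 1 := by
  rw [one_eq_bmat, I_scalar]; simp

lemma stein_one (α : MulChar F ℂ) : stein α 1 = (Fintype.card F : ℂ) := by
  unfold stein
  rw [Pi.sub_apply, ind_one, lin_one]; ring

lemma ind_un (α β : MulChar F ℂ) :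
    indFun (upperTriangularGL 2 F) (θ α β) (un 1) = 1 := by
  unfold un
  rw [I_unip α β 1 1 one_ne_zero]; simp

lemma lin_un (α : MulChar F ℂ) : lin α (un 1) = 1 := by
  unfold lin
  rw [Matrix.GeneralLinearGroup.val_det_apply, un_coe]
  simp [Matrix.det_fin_two]

lemma stein_un (α : MulChar F ℂ) : stein α (un 1) = 0 := by
  unfold stein
  rw [Pi.sub_apply, ind_un, lin_un]; ring

/-- multiplicity of the Steinberg-type characters in the principal series -/
lemma inner_ind_stein (α β γ : MulChar F ℂ) :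
    classInner (indFun (upperTriangularGL 2 F) (θ α β)) (stein γ) = if α = γ ∧ β = γ then 1 else 0 := by
  have h := inner_ind γ γ α β
  rw [ind_eq_lin_add_stein γ, classInner_add_right, inner_ind_lin] at h
  by_cases hc : α = γ ∧ β = γ
  · rw [if_pos hc] at h ⊢
    linear_combination h
  · rw [if_neg hc] at h ⊢
    linear_combination h

lemma stein_injective : Function.Injective (stein : MulChar F ℂ → GL (Fin 2) F → ℂ) := by
  intro α α' h
  have h1 : classInner (indFun (upperTriangularGL 2 F) (θ α α)) (stein α) = 1 := by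
    rw [inner_ind_stein, if_pos ⟨rfl, rfl⟩]
  rw [h, inner_ind_stein] at h1
  by_contra hne
  rw [if_neg (fun hc => hne hc.1)] at h1
  exact zero_ne_one h1

/-- a non-cuspidal irreducible character is one of the known ones -/
theorem noncusp_classify {χ : GL (Fin 2) F → ℂ} (hχ : IsIrrCharacter (GL (Fin 2) F) χ)
    (α β : MulChar F ℂ) (h : classInner (indFun (upperTriangularGL 2 F) (θ α β)) χ ≠ 0) :
    (α = β ∧ (χ = lin α ∨ χ = stein α)) ∨ (α ≠ β ∧ χ = indFun (upperTriangularGL 2 F) (θ α β)) := by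
  by_cases hαβ : α = β
  · subst hαβ
    left
    refine ⟨rfl, ?_⟩
    rw [ind_eq_lin_add_stein, classInner_add_left] at h
    by_cases h1 : classInner (lin α) χ = 0
    · right
      rw [h1, zero_add] at h
      exact (eq_of_classInner_ne_zero (stein_isIrr α) hχ h).symm
    · left
      exact (eq_of_classInner_ne_zero (lin_isIrr α) hχ h1).symm
  · right
    refine ⟨hαβ, ?_⟩
    exact (eq_of_classInner_ne_zero (Cfsg.Agent.S2304.result α β hαβ) hχ h).symm

/-- cuspidal characters: degree a positive multiple of `q - 1` -/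
theorem cusp_degree {χ : GL (Fin 2) F → ℂ} (hχ : IsIrrCharacter (GL (Fin 2) F) χ)
    (h : ∀ α β : MulChar F ℂ, classInner (indFun (upperTriangularGL 2 F) (θ α β)) χ = 0) :
    ∃ m : ℕ, 0 < m ∧ χ 1 = (m : ℂ) * ((Fintype.card F : ℂ) - 1) ∧ χ (un 1) = -(m : ℂ) := by
  have hch := IsIrrCharacter.isCharacter hχ
  have hcl := isClassFunction_of_isCharacter hch
  have h1 := sum_inner_ind hcl
  simp_rw [h] at h1
  simp only [Finset.sum_const_zero] at h1
  have hq : (Fintype.card F : ℂ) ≠ 0 := by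
    have : Fintype.card F ≠ 0 := Fintype.card_pos.ne'
    exact_mod_cast this
  have h2 : ∑ c : F, conj (χ (un c)) = 0 := by
    rcases mul_eq_zero.mp h1.symm with h3 | h3
    · exact absurd (inv_eq_zero.mp h3) hq
    · exact h3
  have h3 : ∑ c : F, χ (un c) = 0 := by
    have := congrArg conj h2
    rw [map_sum, map_zero] at this
    simpa using this
  obtain ⟨m, hm1, hm2⟩ := cusp_values hch h3
  refine ⟨m, ?_, hm1, hm2⟩
  obtain ⟨k, hk, hk1⟩ := irr_one_pos hχ
  rcases Nat.eq_zero_or_pos m with h0 | h0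
  · subst h0
    rw [hk1] at hm1
    simp at hm1
    omega
  · exact h0


section counting

open Cfsg.Agent.Helper3 (fintypeIrr)

local notation "Irr2" => IrrCharacter (GL (Fin 2) F)

/-- the linear characters as elements of `Irr` -/
noncomputable def irrLin (α : MulChar F ℂ) : Irr2 := ⟨lin α, lin_isIrr α⟩

lemma irrLin_injective : Function.Injective (irrLin : MulChar F ℂ → Irr2) := by
  intro α α' h
  exact lin_injective (congrArg Subtype.val h)

/-- the Steinberg-type characters as elements of `Irr` -/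
noncomputable def irrStein (α : MulChar F ℂ) : Irr2 := ⟨stein α, stein_isIrr α⟩

lemma irrStein_injective : Function.Injective (irrStein : MulChar F ℂ → Irr2) := by
  intro α α' h
  exact stein_injective (congrArg Subtype.val h)

/-- the principal series characters as elements of `Irr` (junk value on the diagonal) -/
noncomputable def irrPS (x : MulChar F ℂ × MulChar F ℂ) : Irr2 :=
  if h : x.1 ≠ x.2 then ⟨indFun (upperTriangularGL 2 F) (θ x.1 x.2), Cfsg.Agent.S2304.result x.1 x.2 h⟩
  else irrLin x.1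

lemma irrPS_val (x : MulChar F ℂ × MulChar F ℂ) (h : x.1 ≠ x.2) :
    (irrPS x : GL (Fin 2) F → ℂ) = indFun (upperTriangularGL 2 F) (θ x.1 x.2) := by
  unfold irrPS
  rw [dif_pos h]

lemma ind_eq_iff (α β α' β' : MulChar F ℂ) :
    indFun (upperTriangularGL 2 F) (θ α β) = indFun (upperTriangularGL 2 F) (θ α' β') ↔
      (α = α' ∧ β = β') ∨ (α = β' ∧ β = α') :=
  Cfsg.Agent.S2305.result α β α' β'

lemma irrPS_eq_iff (x y : MulChar F ℂ × MulChar F ℂ) (hx : x.1 ≠ x.2) (hy : y.1 ≠ y.2) :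
    irrPS y = irrPS x ↔ y = x ∨ y = x.swap := by
  rw [← Subtype.val_inj, irrPS_val x hx, irrPS_val y hy, ind_eq_iff]
  constructor
  · rintro (⟨h1, h2⟩ | ⟨h1, h2⟩)
    · left; exact Prod.ext h1 h2
    · right; exact Prod.ext h1 h2
  · rintro (h | h)
    · left; rw [h]; exact ⟨rfl, rfl⟩
    · right; rw [h]; exact ⟨rfl, rfl⟩

/-- the four families -/
noncomputable def SA (F : Type*) [Field F] [Fintype F] [DecidableEq F] : Finset (IrrCharacter (GL (Fin 2) F)) :=
  Finset.univ.image irrLin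
noncomputable def SS (F : Type*) [Field F] [Fintype F] [DecidableEq F] : Finset (IrrCharacter (GL (Fin 2) F)) :=
  Finset.univ.image irrStein
noncomputable def SP (F : Type*) [Field F] [Fintype F] [DecidableEq F] : Finset (IrrCharacter (GL (Fin 2) F)) :=
  (Finset.univ : Finset (MulChar F ℂ)).offDiag.image irrPS
noncomputable def SC (F : Type*) [Field F] [Fintype F] [DecidableEq F] : Finset (IrrCharacter (GL (Fin 2) F)) :=
  (SA F ∪ (SS F ∪ SP F))ᶜ

lemma card_SA : (SA F).card = Fintype.card Fˣ := by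
  unfold SA
  rw [Finset.card_image_of_injective _ irrLin_injective, Finset.card_univ, card_mulChar]

lemma card_SS : (SS F).card = Fintype.card Fˣ := by
  unfold SS
  rw [Finset.card_image_of_injective _ irrStein_injective, Finset.card_univ, card_mulChar]

lemma card_SP : 2 * (SP F).card + Fintype.card Fˣ = Fintype.card Fˣ * Fintype.card Fˣ := by
  have h1 : ((Finset.univ : Finset (MulChar F ℂ)).offDiag).card =
      ∑ b ∈ SP F, (((Finset.univ : Finset (MulChar F ℂ)).offDiag).filter (fun a => irrPS a = b)).card :=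
    Finset.card_eq_sum_card_fiberwise (fun x hx => Finset.mem_image_of_mem _ hx)
  have h2 : ∀ b ∈ SP F, (((Finset.univ : Finset (MulChar F ℂ)).offDiag).filter (fun a => irrPS a = b)).card = 2 := by
    intro b hb
    unfold SP at hb
    obtain ⟨x, hx, rfl⟩ := Finset.mem_image.mp hb
    have hx' : x.1 ≠ x.2 := (Finset.mem_offDiag.mp hx).2.2
    have : ((Finset.univ : Finset (MulChar F ℂ)).offDiag).filter (fun a => irrPS a = irrPS x) = {x, x.swap} := by
      ext y
      simp only [Finset.mem_filter, Finset.mem_offDiag, Finset.mem_univ, true_and, Finset.mem_insert,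
        Finset.mem_singleton]
      constructor
      · rintro ⟨hy, h⟩
        exact (irrPS_eq_iff x y hx' hy).mp h
      · rintro (h | h)
        · subst h; exact ⟨hx', rfl⟩
        · have hy : y.1 ≠ y.2 := by rw [h]; exact fun h' => hx' h'.symm
          exact ⟨hy, (irrPS_eq_iff x y hx' hy).mpr (Or.inr h)⟩
    rw [this, Finset.card_pair]
    intro h
    exact hx' (congrArg Prod.fst h)
  rw [Finset.sum_congr rfl h2, Finset.sum_const, smul_eq_mul, Finset.offDiag_card, Finset.card_univ,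
    card_mulChar] at h1
  have : Fintype.card Fˣ ≤ Fintype.card Fˣ * Fintype.card Fˣ := Nat.le_mul_self _
  omega


/-- natural-number degree of an irreducible character -/
noncomputable def deg (χ : Irr2) : ℕ := Classical.choose (irr_one_pos χ.2)

lemma deg_pos (χ : Irr2) : 0 < deg χ := (Classical.choose_spec (irr_one_pos χ.2)).1

lemma deg_spec (χ : Irr2) : (χ : GL (Fin 2) F → ℂ) 1 = (deg χ : ℂ) :=
  (Classical.choose_spec (irr_one_pos χ.2)).2

lemma card_F_eq : Fintype.card F = Fintype.card Fˣ + 1 := by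
  rw [Fintype.card_units]
  have := Fintype.card_pos (α := F)
  omega

lemma card_units_pos : 0 < Fintype.card Fˣ := Fintype.card_pos

lemma deg_SA : ∀ χ ∈ SA F, deg χ = 1 := by
  intro χ hχ
  unfold SA at hχ
  obtain ⟨α, -, rfl⟩ := Finset.mem_image.mp hχ
  have h := deg_spec (irrLin α)
  have h2 : ((irrLin α : Irr2) : GL (Fin 2) F → ℂ) 1 = 1 := lin_one α
  rw [h2] at h
  exact_mod_cast h.symm

lemma deg_SS : ∀ χ ∈ SS F, deg χ = Fintype.card Fˣ + 1 := by
  intro χ hχ
  unfold SS at hχ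
  obtain ⟨α, -, rfl⟩ := Finset.mem_image.mp hχ
  have h := deg_spec (irrStein α)
  have h2 : ((irrStein α : Irr2) : GL (Fin 2) F → ℂ) 1 = (Fintype.card F : ℂ) := stein_one α
  rw [h2, card_F_eq (F := F)] at h
  exact_mod_cast h.symm

lemma deg_SP : ∀ χ ∈ SP F, deg χ = Fintype.card Fˣ + 2 := by
  intro χ hχ
  unfold SP at hχ
  obtain ⟨x, hx, rfl⟩ := Finset.mem_image.mp hχ
  have hx' : x.1 ≠ x.2 := (Finset.mem_offDiag.mp hx).2.2
  have h := deg_spec (irrPS x)
  rw [irrPS_val x hx', ind_one, card_F_eq (F := F)] at h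
  have h' : ((Fintype.card Fˣ + 2 : ℕ) : ℂ) = (deg (irrPS x) : ℂ) := by
    rw [← h]; push_cast; ring
  exact_mod_cast h'.symm

lemma disj_SA_SS : Disjoint (SA F) (SS F) := by
  rw [Finset.disjoint_left]
  intro χ h1 h2
  have := deg_SA χ h1
  have := deg_SS χ h2
  have := card_units_pos (F := F)
  omega

lemma disj_SA_SP : Disjoint (SA F) (SP F) := by
  rw [Finset.disjoint_left]
  intro χ h1 h2
  have := deg_SA χ h1
  have := deg_SP χ h2
  omega

lemma disj_SS_SP : Disjoint (SS F) (SP F) := by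
  rw [Finset.disjoint_left]
  intro χ h1 h2
  have := deg_SS χ h1
  have := deg_SP χ h2
  omega

lemma sum_split (f : Irr2 → ℕ) :
    ∑ χ, f χ = ∑ χ ∈ SA F, f χ + ∑ χ ∈ SS F, f χ + ∑ χ ∈ SP F, f χ + ∑ χ ∈ SC F, f χ := by
  unfold SC
  rw [← Finset.sum_add_sum_compl (SA F ∪ (SS F ∪ SP F)), Finset.sum_union, Finset.sum_union disj_SS_SP]
  · ring
  · rw [Finset.disjoint_union_right]
    exact ⟨disj_SA_SS, disj_SA_SP⟩

lemma card_irr2 : Fintype.card Irr2 = Fintype.card Fˣ + (Fintype.card Fˣ + 1) * Fintype.card Fˣ := by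
  rw [← Nat.card_eq_fintype_card, Cfsg.Agent.Helper3.card_irr_eq_card_conjClasses, card_conjClasses_GL2,
    card_F_eq (F := F)]

lemma card_GL2 : Nat.card (GL (Fin 2) F) =
    (Fintype.card Fˣ + 2) * (Fintype.card Fˣ * (Fintype.card Fˣ * (Fintype.card Fˣ + 1))) := by
  have h := card_G_eq (F := F)
  rw [card_B_eq', card_F_eq (F := F)] at h
  rw [Nat.card_eq_fintype_card]
  have h' : (Fintype.card (GL (Fin 2) F) : ℂ) =
      (((Fintype.card Fˣ + 2) * (Fintype.card Fˣ * (Fintype.card Fˣ * (Fintype.card Fˣ + 1))) : ℕ) : ℂ) := by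
    rw [h]; push_cast; ring
  exact_mod_cast h'

lemma sum_deg_sq : ∑ χ : Irr2, deg χ ^ 2 = Nat.card (GL (Fin 2) F) := by
  have h := Cfsg.Agent.Helper3.sum_sq_degrees (G := GL (Fin 2) F)
  simp_rw [deg_spec] at h
  exact_mod_cast h

/-- the counting identities for the cuspidal family -/
lemma card_SC : 2 * (SC F).card = Fintype.card Fˣ * Fintype.card Fˣ + Fintype.card Fˣ := by
  have h1 := sum_split (F := F) (fun _ => 1)
  simp only [Finset.sum_const, smul_eq_mul, mul_one, Finset.card_univ] at h1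
  rw [card_irr2, card_SA, card_SS] at h1
  have h2 := card_SP (F := F)
  nlinarith

lemma sum_SC : ∑ χ ∈ SC F, deg χ ^ 2 = (SC F).card * (Fintype.card Fˣ) ^ 2 := by
  have h1 := sum_split (F := F) (fun χ => deg χ ^ 2)
  have e1 : ∑ χ ∈ SA F, deg χ ^ 2 = Fintype.card Fˣ * 1 ^ 2 := by
    rw [Finset.sum_congr rfl (fun χ hχ => by rw [deg_SA χ hχ]), Finset.sum_const, smul_eq_mul, card_SA]
  have e2 : ∑ χ ∈ SS F, deg χ ^ 2 = Fintype.card Fˣ * (Fintype.card Fˣ + 1) ^ 2 := by
    rw [Finset.sum_congr rfl (fun χ hχ => by rw [deg_SS χ hχ]), Finset.sum_const, smul_eq_mul, card_SS]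
  have e3 : ∑ χ ∈ SP F, deg χ ^ 2 = (SP F).card * (Fintype.card Fˣ + 2) ^ 2 := by
    rw [Finset.sum_congr rfl (fun χ hχ => by rw [deg_SP χ hχ]), Finset.sum_const, smul_eq_mul]
  rw [sum_deg_sq, card_GL2, e1, e2, e3] at h1
  have h2 := card_SP (F := F)
  have h3 := card_SC (F := F)
  set n := Fintype.card Fˣ
  set P := (SP F).card
  set C := (SC F).card
  set X := ∑ χ ∈ SC F, deg χ ^ 2
  zify at h1 h2 h3 ⊢
  have key : (2 : ℤ) * X = 2 * (C * n ^ 2) := by
    linear_combination (-2 : ℤ) * h1 - ((n : ℤ) + 2) ^ 2 * h2 - (n : ℤ) ^ 2 * h3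
  linarith


/-- characters in the fourth family are cuspidal -/
lemma cusp_of_mem_SC (χ : Irr2) (hχ : χ ∈ SC F) (α β : MulChar F ℂ) :
    classInner (indFun (upperTriangularGL 2 F) (θ α β)) (χ : GL (Fin 2) F → ℂ) = 0 := by
  by_contra h
  unfold SC at hχ
  rw [Finset.mem_compl] at hχ
  apply hχ
  rcases noncusp_classify χ.2 α β h with ⟨-, h1 | h1⟩ | ⟨hne, h1⟩
  · apply Finset.mem_union_left
    unfold SA
    exact Finset.mem_image.mpr ⟨α, Finset.mem_univ _, Subtype.ext h1.symm⟩
  · apply Finset.mem_union_right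
    apply Finset.mem_union_left
    unfold SS
    exact Finset.mem_image.mpr ⟨α, Finset.mem_univ _, Subtype.ext h1.symm⟩
  · apply Finset.mem_union_right
    apply Finset.mem_union_right
    unfold SP
    refine Finset.mem_image.mpr ⟨(α, β), ?_, ?_⟩
    · rw [Finset.mem_offDiag]
      exact ⟨Finset.mem_univ _, Finset.mem_univ _, hne⟩
    · apply Subtype.ext
      rw [irrPS_val (α, β) hne, h1]

lemma deg_SC_mul (χ : Irr2) (hχ : χ ∈ SC F) :
    ∃ m : ℕ, 0 < m ∧ deg χ = m * Fintype.card Fˣ ∧ (χ : GL (Fin 2) F → ℂ) (un 1) = -(m : ℂ) := by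
  obtain ⟨m, hm, h1, h2⟩ := cusp_degree χ.2 (cusp_of_mem_SC χ hχ)
  refine ⟨m, hm, ?_, h2⟩
  rw [deg_spec, card_F_eq (F := F)] at h1
  have h' : (deg χ : ℂ) = ((m * Fintype.card Fˣ : ℕ) : ℂ) := by
    rw [h1]; push_cast; ring
  exact_mod_cast h'

/-- cuspidal characters have degree `q - 1` -/
theorem deg_SC : ∀ χ ∈ SC F, deg χ = Fintype.card Fˣ := by
  have hle : ∀ χ ∈ SC F, (Fintype.card Fˣ) ^ 2 ≤ deg χ ^ 2 := by
    intro χ hχ
    obtain ⟨m, hm, h1, -⟩ := deg_SC_mul χ hχ
    rw [h1]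
    apply Nat.pow_le_pow_left
    exact Nat.le_mul_of_pos_left _ hm
  have hsum : ∑ χ ∈ SC F, (Fintype.card Fˣ) ^ 2 = ∑ χ ∈ SC F, deg χ ^ 2 := by
    rw [sum_SC, Finset.sum_const, smul_eq_mul]
  intro χ hχ
  have := (Finset.sum_eq_sum_iff_of_le hle).mp hsum χ hχ
  exact (Nat.pow_left_injective (n := 2) (by norm_num) this).symm

theorem un_SC (χ : Irr2) (hχ : χ ∈ SC F) : (χ : GL (Fin 2) F → ℂ) (un 1) = -1 := by
  obtain ⟨m, hm, h1, h2⟩ := deg_SC_mul χ hχ
  rw [deg_SC χ hχ] at h1
  have hn := card_units_pos (F := F)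
  have : m = 1 := by
    have h3 : 1 * Fintype.card Fˣ = m * Fintype.card Fˣ := by rw [one_mul]; exact h1
    exact (Nat.eq_of_mul_eq_mul_right hn h3).symm
  rw [h2, this]; simp

lemma mem_families (χ : Irr2) : χ ∈ SA F ∨ χ ∈ SS F ∨ χ ∈ SP F ∨ χ ∈ SC F := by
  by_cases h : χ ∈ SA F ∪ (SS F ∪ SP F)
  · rcases Finset.mem_union.mp h with h | h
    · exact Or.inl h
    · rcases Finset.mem_union.mp h with h | h
      · exact Or.inr (Or.inl h)
      · exact Or.inr (Or.inr (Or.inl h))
  · right; right; right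
    unfold SC
    exact Finset.mem_compl.mpr h

end counting

end Cfsg.Agent.Helper38
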