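import Mathlib
import Cfsg.Agent.Lib.Helper38.GL2Irr

set_option autoImplicit false
set_option linter.unusedSectionVars false

/-! Cuspidal characters of `GL₂(F)` vanish at regular split semisimple elements. -/

namespace Cfsg.Agent.Helper38

open Matrix Cfsg
open Cfsg.Agent.Helper81
open Cfsg.Agent.S2305 (dg dg00 dg01 dg10 dg11)
open Cfsg.Agent.Helper3 (fintypeIrr)
open scoped ComplexConjugate

variable {F : Type*} [Field F] [Fintype F] [DecidableEq F]

local notation "Irr2" => IrrCharacter (GL (Fin 2) F)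

lemma dg_coe (a d : Fˣ) :
    ((dg a d : GL (Fin 2) F) : Matrix (Fin 2) (Fin 2) F) = !![(a : F), 0; 0, (d : F)] := rfl

lemma mem_centralizer_dg (a d : Fˣ) (had : a ≠ d) (x : GL (Fin 2) F) :
    x ∈ Subgroup.centralizer ({dg a d} : Set (GL (Fin 2) F)) ↔
      (x : Matrix (Fin 2) (Fin 2) F) 0 1 = 0 ∧ (x : Matrix (Fin 2) (Fin 2) F) 1 0 = 0 := by
  have had' : (a : F) - d ≠ 0 := fun h => had (Units.ext (sub_eq_zero.mp h))
  rw [Subgroup.mem_centralizer_singleton_iff]
  constructor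
  · intro h
    have h1 := congrArg (fun y : GL (Fin 2) F => (y : Matrix (Fin 2) (Fin 2) F) 0 1) h
    have h2 := congrArg (fun y : GL (Fin 2) F => (y : Matrix (Fin 2) (Fin 2) F) 1 0) h
    simp only [Matrix.GeneralLinearGroup.coe_mul, dg_coe, Matrix.mul_apply, Fin.sum_univ_two] at h1 h2
    simp at h1 h2
    constructor
    · have : (x : Matrix (Fin 2) (Fin 2) F) 0 1 * ((a : F) - d) = 0 := by
        linear_combination -h1
      rcases mul_eq_zero.mp this with h | h
      · exact h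
      · exact absurd h had'
    · have : (x : Matrix (Fin 2) (Fin 2) F) 1 0 * ((a : F) - d) = 0 := by
        linear_combination h2
      rcases mul_eq_zero.mp this with h | h
      · exact h
      · exact absurd h had'
  · rintro ⟨h1, h2⟩
    apply Matrix.GeneralLinearGroup.ext
    intro i j
    rw [Matrix.GeneralLinearGroup.coe_mul, Matrix.GeneralLinearGroup.coe_mul, dg_coe]
    fin_cases i <;> fin_cases j <;> simp [Matrix.mul_apply, Fin.sum_univ_two, h1, h2, mul_comm]


/-- parametrisation of the centralizer of `dg a d` -/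
noncomputable def toCent (a d : Fˣ) (had : a ≠ d) (p : Fˣ × Fˣ) :
    Subgroup.centralizer ({dg a d} : Set (GL (Fin 2) F)) :=
  ⟨dg p.1 p.2, (mem_centralizer_dg a d had _).mpr ⟨dg01 _ _, dg10 _ _⟩⟩

lemma toCent_bijective (a d : Fˣ) (had : a ≠ d) : Function.Bijective (toCent (F := F) a d had) := by
  constructor
  · rintro ⟨s, t⟩ ⟨s', t'⟩ h
    have h1 := congrArg (fun y : Subgroup.centralizer ({dg a d} : Set (GL (Fin 2) F)) =>
      ((y : GL (Fin 2) F) : Matrix (Fin 2) (Fin 2) F)) h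
    simp only [toCent, dg_coe] at h1
    have e1 := congrFun (congrFun h1 0) 0
    have e2 := congrFun (congrFun h1 1) 1
    simp at e1 e2
    rw [Units.ext e1, Units.ext e2]
  · rintro ⟨x, hx⟩
    obtain ⟨h01, h10⟩ := (mem_centralizer_dg a d had x).mp hx
    have hdet := (Matrix.GeneralLinearGroup.det x).ne_zero
    rw [det_coe, h01, zero_mul, sub_zero] at hdet
    have h00 : (x : Matrix (Fin 2) (Fin 2) F) 0 0 ≠ 0 := left_ne_zero_of_mul hdet
    have h11 : (x : Matrix (Fin 2) (Fin 2) F) 1 1 ≠ 0 := right_ne_zero_of_mul hdet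
    refine ⟨(Units.mk0 _ h00, Units.mk0 _ h11), ?_⟩
    apply Subtype.ext
    apply Matrix.GeneralLinearGroup.ext
    intro i j
    simp only [toCent, dg_coe]
    fin_cases i <;> fin_cases j <;> simp [h01, h10]

lemma card_centralizer_dg (a d : Fˣ) (had : a ≠ d) :
    Nat.card (Subgroup.centralizer ({dg a d} : Set (GL (Fin 2) F))) =
      Fintype.card Fˣ * Fintype.card Fˣ := by
  rw [← Nat.card_congr (Equiv.ofBijective _ (toCent_bijective a d had)), Nat.card_eq_fintype_card,
    Fintype.card_prod]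

/-- splitting sums over the four families, any additive monoid -/
lemma sum_split' {M : Type*} [AddCommMonoid M] (f : Irr2 → M) :
    ∑ χ, f χ = ∑ χ ∈ SA F, f χ + ∑ χ ∈ SS F, f χ + ∑ χ ∈ SP F, f χ + ∑ χ ∈ SC F, f χ := by
  unfold SC
  rw [← Finset.sum_add_sum_compl (SA F ∪ (SS F ∪ SP F)), Finset.sum_union, Finset.sum_union disj_SS_SP]
  · simp only [add_assoc]
  · rw [Finset.disjoint_union_right]
    exact ⟨disj_SA_SS, disj_SA_SP⟩

lemma unit_norm (α : MulChar F ℂ) (a : Fˣ) : α a * conj (α a) = 1 := by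
  rw [conj_mulChar, mulChar_mul_inv_unit]

lemma stein_dg (α : MulChar F ℂ) (a d : Fˣ) (had : a ≠ d) : stein α (dg a d) = α a * α d := by
  unfold stein
  rw [Pi.sub_apply, I_diag α α a d had, lin_dg]
  ring

lemma sum_SA_dg (a d : Fˣ) :
    ∑ χ ∈ SA F, (χ : GL (Fin 2) F → ℂ) (dg a d) * conj ((χ : GL (Fin 2) F → ℂ) (dg a d)) =
      (Fintype.card Fˣ : ℂ) := by
  unfold SA
  rw [Finset.sum_image (fun x _ y _ h => irrLin_injective h)]
  have : ∀ α : MulChar F ℂ, ((irrLin α : Irr2) : GL (Fin 2) F → ℂ) (dg a d) *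
      conj (((irrLin α : Irr2) : GL (Fin 2) F → ℂ) (dg a d)) = 1 := by
    intro α
    change lin α (dg a d) * conj (lin α (dg a d)) = 1
    rw [lin_dg, map_mul]
    calc α a * α d * (conj (α a) * conj (α d)) = (α a * conj (α a)) * (α d * conj (α d)) := by ring
      _ = 1 := by rw [unit_norm, unit_norm, one_mul]
  simp_rw [this]
  rw [Finset.sum_const, Finset.card_univ, card_mulChar]
  simp

lemma sum_SS_dg (a d : Fˣ) (had : a ≠ d) :
    ∑ χ ∈ SS F, (χ : GL (Fin 2) F → ℂ) (dg a d) * conj ((χ : GL (Fin 2) F → ℂ) (dg a d)) =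
      (Fintype.card Fˣ : ℂ) := by
  unfold SS
  rw [Finset.sum_image (fun x _ y _ h => irrStein_injective h)]
  have : ∀ α : MulChar F ℂ, ((irrStein α : Irr2) : GL (Fin 2) F → ℂ) (dg a d) *
      conj (((irrStein α : Irr2) : GL (Fin 2) F → ℂ) (dg a d)) = 1 := by
    intro α
    change stein α (dg a d) * conj (stein α (dg a d)) = 1
    rw [stein_dg α a d had, map_mul]
    calc α a * α d * (conj (α a) * conj (α d)) = (α a * conj (α a)) * (α d * conj (α d)) := by ring
      _ = 1 := by rw [unit_norm, unit_norm, one_mul]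
  simp_rw [this]
  rw [Finset.sum_const, Finset.card_univ, card_mulChar]
  simp


lemma fiber_card_SP (x : MulChar F ℂ × MulChar F ℂ)
    (hx : x ∈ (Finset.univ : Finset (MulChar F ℂ)).offDiag) :
    (((Finset.univ : Finset (MulChar F ℂ)).offDiag).filter (fun y => irrPS y = irrPS x)).card = 2 := by
  have hx' : x.1 ≠ x.2 := (Finset.mem_offDiag.mp hx).2.2
  have : ((Finset.univ : Finset (MulChar F ℂ)).offDiag).filter (fun y => irrPS y = irrPS x) = {x, x.swap} := by
    ext y
    simp only [Finset.mem_filter, Finset.mem_offDiag, Finset.mem_univ, true_and, Finset.mem_insert,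
      Finset.mem_singleton]
    constructor
    · rintro ⟨hy, h⟩
      exact (irrPS_eq_iff x y hx' hy).mp h
    · rintro (h | h)
      · subst h; exact ⟨hx', rfl⟩
      · have hy : y.1 ≠ y.2 := by rw [h]; exact fun h' => hx' h'.symm
        exact ⟨hy, (irrPS_eq_iff x y hx' hy).mpr (Or.inr h)⟩
  rw [this, Finset.card_pair]
  intro h
  exact hx' (congrArg Prod.fst h)

/-- sums over the principal series family, via ordered pairs -/
lemma sum_SP_eq (f : Irr2 → ℂ) :
    ∑ x ∈ (Finset.univ : Finset (MulChar F ℂ)).offDiag, f (irrPS x) = 2 * ∑ χ ∈ SP F, f χ := by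
  have h := Finset.sum_fiberwise_of_maps_to (s := (Finset.univ : Finset (MulChar F ℂ)).offDiag)
    (t := SP F) (g := irrPS) (fun x hx => Finset.mem_image_of_mem _ hx) (fun x => f (irrPS x))
  rw [← h, Finset.mul_sum]
  apply Finset.sum_congr rfl
  intro χ hχ
  unfold SP at hχ
  obtain ⟨x, hx, rfl⟩ := Finset.mem_image.mp hχ
  rw [Finset.sum_congr rfl (fun y hy => by rw [(Finset.mem_filter.mp hy).2]), Finset.sum_const,
    fiber_card_SP x hx]
  simp

/-- `|α(a)β(d) + α(d)β(a)|²` -/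
noncomputable def Hval (a d : Fˣ) (x : MulChar F ℂ × MulChar F ℂ) : ℂ :=
  (x.1 a * x.2 d + x.1 d * x.2 a) * conj (x.1 a * x.2 d + x.1 d * x.2 a)

lemma Hval_eq (a d : Fˣ) (α β : MulChar F ℂ) :
    Hval a d (α, β) = 2 + (α a * α⁻¹ d) * (β d * β⁻¹ a) + (α d * α⁻¹ a) * (β a * β⁻¹ d) := by
  unfold Hval
  simp only
  rw [map_add, map_mul, map_mul, conj_mulChar, conj_mulChar, conj_mulChar, conj_mulChar]
  have hA := mulChar_mul_inv_unit α a
  have hD := mulChar_mul_inv_unit α d
  have hBa := mulChar_mul_inv_unit β a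
  have hBd := mulChar_mul_inv_unit β d
  linear_combination (β d * β⁻¹ d) * hA + hBd + (β a * β⁻¹ a) * hD + hBa

lemma mul_inv_apply (α : MulChar F ℂ) (a d : Fˣ) : α a * α⁻¹ d = α ((a * d⁻¹ : Fˣ) : F) := by
  rw [MulChar.inv_apply', Units.val_mul, map_mul, Units.val_inv_eq_inv_val]

lemma sum_mul_inv (a d : Fˣ) (had : a ≠ d) : ∑ α : MulChar F ℂ, α a * α⁻¹ d = 0 := by
  simp_rw [mul_inv_apply]
  rw [sum_mulChar_apply, if_neg]
  intro h
  exact had (mul_inv_eq_one.mp h)

lemma sum_all_H (a d : Fˣ) (had : a ≠ d) :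
    ∑ α : MulChar F ℂ, ∑ β : MulChar F ℂ, Hval a d (α, β) =
      2 * (Fintype.card Fˣ : ℂ) * (Fintype.card Fˣ : ℂ) := by
  simp_rw [Hval_eq, Finset.sum_add_distrib, ← Finset.sum_mul_sum, sum_mul_inv a d had,
    sum_mul_inv d a (Ne.symm had)]
  simp [Finset.sum_const, Finset.card_univ, card_mulChar]
  ring

lemma sum_diag_H (a d : Fˣ) :
    ∑ α : MulChar F ℂ, Hval a d (α, α) = 4 * (Fintype.card Fˣ : ℂ) := by
  have : ∀ α : MulChar F ℂ, Hval a d (α, α) = 4 := by
    intro α
    rw [Hval_eq]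
    have hA := mulChar_mul_inv_unit α a
    have hD := mulChar_mul_inv_unit α d
    linear_combination (2 * (α d * α⁻¹ d)) * hA + 2 * hD
  simp_rw [this]
  rw [Finset.sum_const, Finset.card_univ, card_mulChar]
  simp [mul_comm]

lemma sum_SP_dg (a d : Fˣ) (had : a ≠ d) :
    2 * ∑ χ ∈ SP F, (χ : GL (Fin 2) F → ℂ) (dg a d) * conj ((χ : GL (Fin 2) F → ℂ) (dg a d)) =
      2 * (Fintype.card Fˣ : ℂ) * (Fintype.card Fˣ : ℂ) - 4 * (Fintype.card Fˣ : ℂ) := by
  have h0 := sum_SP_eq (F := F)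
    (fun χ => (χ : GL (Fin 2) F → ℂ) (dg a d) * conj ((χ : GL (Fin 2) F → ℂ) (dg a d)))
  beta_reduce at h0
  rw [← h0]
  have h1 : ∀ x ∈ (Finset.univ : Finset (MulChar F ℂ)).offDiag,
      ((irrPS x : Irr2) : GL (Fin 2) F → ℂ) (dg a d) * conj (((irrPS x : Irr2) : GL (Fin 2) F → ℂ) (dg a d)) =
        Hval a d x := by
    intro x hx
    have hx' : x.1 ≠ x.2 := (Finset.mem_offDiag.mp hx).2.2
    rw [irrPS_val x hx', I_diag _ _ a d had]
    rfl
  rw [Finset.sum_congr rfl h1]
  have h2 := Finset.sum_union (Finset.disjoint_diag_offDiag (s := (Finset.univ : Finset (MulChar F ℂ))))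
    (f := Hval a d)
  rw [Finset.diag_union_offDiag, Finset.sum_product, Finset.sum_diag, sum_all_H a d had, sum_diag_H] at h2
  linear_combination -h2

/-- cuspidal characters vanish at regular split semisimple elements -/
theorem SC_dg (χ : Irr2) (hχ : χ ∈ SC F) (a d : Fˣ) (had : a ≠ d) :
    (χ : GL (Fin 2) F → ℂ) (dg a d) = 0 := by
  classical
  have h := Cfsg.Agent.Helper3.column_orthogonality (dg a d : GL (Fin 2) F) (dg a d)
  rw [if_pos (IsConj.refl _), card_centralizer_dg a d had, sum_split', sum_SA_dg, sum_SS_dg a d had] at h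
  have h2 := sum_SP_dg a d had
  have h3 : ∑ χ ∈ SC F, (χ : GL (Fin 2) F → ℂ) (dg a d) * conj ((χ : GL (Fin 2) F → ℂ) (dg a d)) = 0 := by
    push_cast at h
    linear_combination h - (1 / 2 : ℂ) * h2
  simp_rw [Complex.mul_conj] at h3
  rw [← Complex.ofReal_sum] at h3
  have h4 : ∑ χ ∈ SC F, Complex.normSq ((χ : GL (Fin 2) F → ℂ) (dg a d)) = 0 := by exact_mod_cast h3
  have h5 := (Finset.sum_eq_zero_iff_of_nonneg (fun χ _ => Complex.normSq_nonneg _)).mp h4 χ hχ
  exact Complex.normSq_eq_zero.mp h5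

end Cfsg.Agent.Helper38
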