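import Mathlib
import Cfsg.Prelude.Def_Characters
import Cfsg.Prelude.Def_ParabolicCharacters
import Cfsg.Agent.Lib.Helper81.CharInd
import Cfsg.Agent.Lib.Helper79.Linear

set_option autoImplicit false

namespace Cfsg.Agent.Helper38.SL2

open Matrix Cfsg

variable {F : Type*} [Field F]

local notation "SL2" => Matrix.SpecialLinearGroup (Fin 2) F

/-- the Borel subgroup of `SL₂` -/
abbrev B1 (F : Type*) [Field F] : Subgroup (Matrix.SpecialLinearGroup (Fin 2) F) :=
  (upperTriangularGL 2 F).comap Matrix.SpecialLinearGroup.toGL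

lemma mem_B1_iff (x : SL2) : x ∈ B1 F ↔ x.1 1 0 = 0 := by
  change (Matrix.SpecialLinearGroup.toGL x) ∈ upperTriangularGL 2 F ↔ _
  change ((Matrix.SpecialLinearGroup.toGL x : GL (Fin 2) F) : Matrix (Fin 2) (Fin 2) F).BlockTriangular id ↔ _
  rw [Matrix.SpecialLinearGroup.coe_GL_coe_matrix]
  constructor
  · intro h
    exact h (by decide : (id (0 : Fin 2)) < id 1)
  · intro h i j hij
    fin_cases i <;> fin_cases j <;> simp_all

lemma det_eq (g : SL2) : g.1 0 0 * g.1 1 1 - g.1 0 1 * g.1 1 0 = 1 := by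
  have := g.2
  rwa [Matrix.det_fin_two] at this

lemma adj_mul_mul (X G : Matrix (Fin 2) (Fin 2) F) :
    (X.adjugate * G * X) 0 0 = X 1 1 * (G 0 0 * X 0 0 + G 0 1 * X 1 0) - X 0 1 * (G 1 0 * X 0 0 + G 1 1 * X 1 0) ∧
    (X.adjugate * G * X) 0 1 = X 1 1 * (G 0 0 * X 0 1 + G 0 1 * X 1 1) - X 0 1 * (G 1 0 * X 0 1 + G 1 1 * X 1 1) ∧
    (X.adjugate * G * X) 1 0 = X 0 0 * (G 1 0 * X 0 0 + G 1 1 * X 1 0) - X 1 0 * (G 0 0 * X 0 0 + G 0 1 * X 1 0) ∧
    (X.adjugate * G * X) 1 1 = X 0 0 * (G 1 0 * X 0 1 + G 1 1 * X 1 1) - X 1 0 * (G 0 0 * X 0 1 + G 0 1 * X 1 1) := by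
  rw [Matrix.adjugate_fin_two]
  refine ⟨?_, ?_, ?_, ?_⟩ <;>
  · rw [Matrix.mul_apply, Fin.sum_univ_two, Matrix.mul_apply, Matrix.mul_apply, Fin.sum_univ_two,
      Fin.sum_univ_two]
    simp only [Matrix.of_apply, Matrix.cons_val', Matrix.cons_val_zero, Matrix.cons_val_one,
      Matrix.empty_val', Matrix.cons_val_fin_one]
    ring

/-- entries of `x⁻¹ g x` in `SL₂` -/
lemma conj_entries (x g : SL2) :
    (x⁻¹ * g * x).1 0 0 = x.1 1 1 * (g.1 0 0 * x.1 0 0 + g.1 0 1 * x.1 1 0) - x.1 0 1 * (g.1 1 0 * x.1 0 0 + g.1 1 1 * x.1 1 0) ∧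
    (x⁻¹ * g * x).1 1 0 = x.1 0 0 * (g.1 1 0 * x.1 0 0 + g.1 1 1 * x.1 1 0) - x.1 1 0 * (g.1 0 0 * x.1 0 0 + g.1 0 1 * x.1 1 0) ∧
    (x⁻¹ * g * x).1 1 1 = x.1 0 0 * (g.1 1 0 * x.1 0 1 + g.1 1 1 * x.1 1 1) - x.1 1 0 * (g.1 0 0 * x.1 0 1 + g.1 0 1 * x.1 1 1) := by
  obtain ⟨h00, -, h10, h11⟩ := adj_mul_mul x.1 g.1
  have : (x⁻¹ * g * x).1 = x.1.adjugate * g.1 * x.1 := by
    simp [Matrix.SpecialLinearGroup.coe_mul, Matrix.SpecialLinearGroup.coe_inv]
  rw [this]
  exact ⟨h00, h10, h11⟩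

/-- extension by zero of `b ↦ α (b 0 0)` -/
noncomputable def e1 [DecidableEq F] (α : MulChar F ℂ) (y : SL2) : ℂ :=
  if y.1 1 0 = 0 then α (y.1 0 0) else 0

/-- the linear character of `B1` -/
noncomputable def θ1 (α : MulChar F ℂ) : B1 F → ℂ := fun b => α ((b : SL2).1 0 0)

lemma ext_eq [DecidableEq F] (α : MulChar F ℂ) : extendByZero (B1 F) (θ1 α) = e1 α := by
  funext y
  unfold e1
  by_cases h : y.1 1 0 = 0
  · rw [if_pos h]
    have hy : y ∈ B1 F := (mem_B1_iff y).mpr h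
    rw [Cfsg.Agent.Helper81.extendByZero_apply_mem (B1 F) (θ1 α) hy]
    rfl
  · rw [if_neg h]
    apply Cfsg.Agent.Helper81.extendByZero_apply_not_mem
    intro hy
    exact h ((mem_B1_iff y).mp hy)

lemma ind_eq [Fintype F] [DecidableEq F] (α : MulChar F ℂ) (g : SL2) :
    indFun (B1 F) (θ1 α) g = (Nat.card (B1 F) : ℂ)⁻¹ * ∑ x : SL2, e1 α (x⁻¹ * g * x) := by
  unfold indFun
  rw [ext_eq]


/-- upper triangular elements of `SL₂` -/
noncomputable def bmat1 (a : Fˣ) (c : F) : SL2 :=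
  ⟨!![(a : F), c; 0, ((a⁻¹ : Fˣ) : F)], by simp [Matrix.det_fin_two]⟩

@[simp] lemma bmat1_00 (a : Fˣ) (c : F) : (bmat1 a c).1 0 0 = a := by simp [bmat1]
@[simp] lemma bmat1_01 (a : Fˣ) (c : F) : (bmat1 a c).1 0 1 = c := by simp [bmat1]
@[simp] lemma bmat1_10 (a : Fˣ) (c : F) : (bmat1 a c).1 1 0 = 0 := by simp [bmat1]
@[simp] lemma bmat1_11 (a : Fˣ) (c : F) : (bmat1 a c).1 1 1 = ((a⁻¹ : Fˣ) : F) := by simp [bmat1]

lemma bmat1_mem (a : Fˣ) (c : F) : bmat1 a c ∈ B1 F := (mem_B1_iff _).mpr (bmat1_10 a c)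

/-- parametrisation of `B1` -/
noncomputable def toB1 (p : Fˣ × F) : B1 F := ⟨bmat1 p.1 p.2, bmat1_mem _ _⟩

lemma toB1_bijective : Function.Bijective (toB1 : Fˣ × F → B1 F) := by
  constructor
  · rintro ⟨a, c⟩ ⟨a', c'⟩ h
    have h1 := congrArg (fun x : B1 F => (x : SL2).1) h
    have e00 := congrFun (congrFun h1 0) 0
    have e01 := congrFun (congrFun h1 0) 1
    simp only [toB1, bmat1_00, bmat1_01] at e00 e01
    rw [Units.ext e00, e01]
  · rintro ⟨b, hb⟩
    have h10 := (mem_B1_iff b).mp hb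
    have hdet := det_eq b
    rw [h10] at hdet
    simp only [mul_zero, sub_zero] at hdet
    have n00 : b.1 0 0 ≠ 0 := by
      intro h; rw [h, zero_mul] at hdet; exact zero_ne_one hdet
    refine ⟨(Units.mk0 _ n00, b.1 0 1), ?_⟩
    apply Subtype.ext
    apply Matrix.SpecialLinearGroup.ext
    intro i j
    fin_cases i <;> fin_cases j
    · simp [toB1]
    · simp [toB1]
    · simp [toB1, h10]
    · simp only [toB1, Fin.mk_one, Fin.isValue]
      change (bmat1 _ _).1 1 1 = b.1 1 1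
      rw [bmat1_11]
      simp only [Units.val_inv_eq_inv_val, Units.val_mk0]
      field_simp
      linear_combination -hdet

lemma card_B1 [Fintype F] [DecidableEq F] :
    Nat.card (B1 F) = Fintype.card Fˣ * Fintype.card F := by
  rw [← Nat.card_congr (Equiv.ofBijective toB1 toB1_bijective), Nat.card_eq_fintype_card,
    Fintype.card_prod]


lemma inv_mul_10 (x y : SL2) : (x⁻¹ * y).1 1 0 = x.1 0 0 * y.1 1 0 - x.1 1 0 * y.1 0 0 := by
  have : (x⁻¹ * y).1 = x.1.adjugate * y.1 := by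
    simp [Matrix.SpecialLinearGroup.coe_mul, Matrix.SpecialLinearGroup.coe_inv]
  rw [this, Matrix.adjugate_fin_two, Matrix.mul_apply, Fin.sum_univ_two]
  simp only [Matrix.of_apply, Matrix.cons_val', Matrix.cons_val_zero, Matrix.cons_val_one,
    Matrix.empty_val', Matrix.cons_val_fin_one]
  ring

lemma mk_eq_iff (x y : SL2) :
    (QuotientGroup.mk x : SL2 ⧸ B1 F) = QuotientGroup.mk y ↔ x.1 0 0 * y.1 1 0 = x.1 1 0 * y.1 0 0 := by
  rw [QuotientGroup.eq, mem_B1_iff, inv_mul_10, sub_eq_zero]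

/-- coset representatives -/
noncomputable def m1 (t : F) : SL2 := ⟨!![t, -1; 1, 0], by simp [Matrix.det_fin_two]⟩

@[simp] lemma m1_00 (t : F) : (m1 t).1 0 0 = t := by simp [m1]
@[simp] lemma m1_10 (t : F) : (m1 t).1 1 0 = 1 := by simp [m1]

lemma one_00 : (1 : SL2).1 0 0 = 1 := by simp
lemma one_10 : (1 : SL2).1 1 0 = 0 := by simp

lemma mk_eq_one_iff (x : SL2) :
    (QuotientGroup.mk x : SL2 ⧸ B1 F) = QuotientGroup.mk 1 ↔ x.1 1 0 = 0 := by
  rw [eq_comm, mk_eq_iff, one_00, one_10]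
  simp

lemma mk_eq_m1_iff (x : SL2) (t : F) :
    (QuotientGroup.mk x : SL2 ⧸ B1 F) = QuotientGroup.mk (m1 t) ↔ x.1 0 0 = t * x.1 1 0 := by
  rw [mk_eq_iff, m1_00, m1_10]
  simp [mul_comm]

lemma card_quot [Fintype F] : Nat.card (SL2 ⧸ B1 F) = Fintype.card F + 1 := by
  classical
  let f : Option F → SL2 ⧸ B1 F := fun o =>
    match o with
    | none => QuotientGroup.mk 1
    | some t => QuotientGroup.mk (m1 t)
  have hinj : Function.Injective f := by
    intro o o' h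
    cases o with
    | none =>
      cases o' with
      | none => rfl
      | some t' =>
        exfalso
        simp only [f] at h
        have := (mk_eq_one_iff (m1 t')).mp h.symm
        rw [m1_10] at this
        exact one_ne_zero this
    | some t =>
      cases o' with
      | none =>
        exfalso
        simp only [f] at h
        have := (mk_eq_one_iff (m1 t)).mp h
        rw [m1_10] at this
        exact one_ne_zero this
      | some t' =>
        simp only [f] at h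
        have := (mk_eq_m1_iff (m1 t) t').mp h
        rw [m1_00, m1_10, mul_one] at this
        rw [this]
  have hsurj : Function.Surjective f := by
    intro y
    obtain ⟨x, rfl⟩ := QuotientGroup.mk_surjective y
    by_cases h : x.1 1 0 = 0
    · exact ⟨none, ((mk_eq_one_iff x).mpr h).symm⟩
    · refine ⟨some (x.1 0 0 / x.1 1 0), ?_⟩
      simp only [f]
      symm
      rw [mk_eq_m1_iff]
      field_simp
  rw [← Nat.card_congr (Equiv.ofBijective f ⟨hinj, hsurj⟩), Nat.card_eq_fintype_card,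
    Fintype.card_option]

lemma card_G_eq [Fintype F] [DecidableEq F] :
    (Fintype.card SL2 : ℂ) = ((Fintype.card F : ℂ) + 1) * (Nat.card (B1 F) : ℂ) := by
  have h := Subgroup.card_eq_card_quotient_mul_card_subgroup (B1 F)
  rw [card_quot, Nat.card_eq_fintype_card] at h
  rw [h]
  push_cast
  ring


lemma mul_entries (x y : SL2) :
    (x * y).1 0 0 = x.1 0 0 * y.1 0 0 + x.1 0 1 * y.1 1 0 ∧
    (x * y).1 0 1 = x.1 0 0 * y.1 0 1 + x.1 0 1 * y.1 1 1 ∧
    (x * y).1 1 0 = x.1 1 0 * y.1 0 0 + x.1 1 1 * y.1 1 0 ∧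
    (x * y).1 1 1 = x.1 1 0 * y.1 0 1 + x.1 1 1 * y.1 1 1 := by
  simp [Matrix.mul_apply, Fin.sum_univ_two]

lemma central_conj (a : Fˣ) (ha : a⁻¹ = a) (x : SL2) : x⁻¹ * bmat1 a 0 * x = bmat1 a 0 := by
  have hcomm : bmat1 a 0 * x = x * bmat1 a 0 := by
    obtain ⟨l00, l01, l10, l11⟩ := mul_entries (bmat1 a 0) x
    obtain ⟨r00, r01, r10, r11⟩ := mul_entries x (bmat1 a 0)
    apply Matrix.SpecialLinearGroup.ext
    intro i j
    fin_cases i <;> fin_cases j
    · change (bmat1 a 0 * x).1 0 0 = (x * bmat1 a 0).1 0 0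
      rw [l00, r00]; simp [mul_comm]
    · change (bmat1 a 0 * x).1 0 1 = (x * bmat1 a 0).1 0 1
      rw [l01, r01, bmat1_11, ha]; simp [mul_comm]
    · change (bmat1 a 0 * x).1 1 0 = (x * bmat1 a 0).1 1 0
      rw [l10, r10, bmat1_11, ha]; simp [mul_comm]
    · change (bmat1 a 0 * x).1 1 1 = (x * bmat1 a 0).1 1 1
      rw [l11, r11]; simp [mul_comm]
  rw [mul_assoc, hcomm, ← mul_assoc, inv_mul_cancel, one_mul]

lemma e1_conj_diag [DecidableEq F] (α : MulChar F ℂ) (a : Fˣ) (ha : a⁻¹ ≠ a) (x : SL2) :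
    e1 α (x⁻¹ * bmat1 a 0 * x) =
      if x.1 1 0 = 0 then α a else if x.1 0 0 = 0 then α ((a⁻¹ : Fˣ) : F) else 0 := by
  have hD := det_eq x
  have ha' : ((a⁻¹ : Fˣ) : F) - a ≠ 0 := fun h => ha (Units.ext (sub_eq_zero.mp h))
  obtain ⟨h00, h10, -⟩ := conj_entries x (bmat1 a 0)
  simp only [bmat1_00, bmat1_01, bmat1_10, bmat1_11, zero_mul, add_zero, zero_add] at h00 h10
  by_cases hs : x.1 1 0 = 0
  · rw [if_pos hs]
    rw [hs] at hD h00 h10
    simp only [mul_zero, sub_zero, zero_mul] at hD h00 h10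
    have z00 : (x⁻¹ * bmat1 a 0 * x).1 0 0 = a := by
      rw [h00]; linear_combination (a : F) * hD
    unfold e1
    rw [if_pos h10, z00]
  · rw [if_neg hs]
    by_cases hp : x.1 0 0 = 0
    · rw [if_pos hp]
      rw [hp] at hD h00 h10
      simp only [mul_zero, zero_mul, zero_sub, sub_self] at hD h00 h10
      have z00 : (x⁻¹ * bmat1 a 0 * x).1 0 0 = ((a⁻¹ : Fˣ) : F) := by
        rw [h00]; linear_combination ((a⁻¹ : Fˣ) : F) * hD
      unfold e1
      rw [if_pos h10, z00]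
    · rw [if_neg hp]
      unfold e1
      rw [if_neg]
      rw [h10]
      intro h
      have : (((a⁻¹ : Fˣ) : F) - a) * (x.1 0 0 * x.1 1 0) = 0 := by linear_combination h
      rcases mul_eq_zero.mp this with h | h
      · exact ha' h
      · rcases mul_eq_zero.mp h with h | h
        · exact hp h
        · exact hs h

lemma e1_conj_unip [DecidableEq F] (α : MulChar F ℂ) (a : Fˣ) (ha : a⁻¹ = a) (c : F) (hc : c ≠ 0)
    (x : SL2) :
    e1 α (x⁻¹ * bmat1 a c * x) = if x.1 1 0 = 0 then α a else 0 := by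
  have hD := det_eq x
  obtain ⟨h00, h10, -⟩ := conj_entries x (bmat1 a c)
  simp only [bmat1_00, bmat1_01, bmat1_10, bmat1_11, zero_mul, zero_add, ha] at h00 h10
  by_cases hs : x.1 1 0 = 0
  · rw [if_pos hs]
    rw [hs] at hD h00 h10
    simp only [mul_zero, sub_zero, zero_mul, add_zero, sub_self] at hD h00 h10
    have z00 : (x⁻¹ * bmat1 a c * x).1 0 0 = a := by
      rw [h00]; linear_combination (a : F) * hD
    unfold e1
    rw [if_pos h10, z00]
  · rw [if_neg hs]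
    unfold e1
    rw [if_neg]
    rw [h10]
    intro h
    have : c * (x.1 1 0 * x.1 1 0) = 0 := by linear_combination -h
    rcases mul_eq_zero.mp this with h | h
    · exact hc h
    · rcases mul_eq_zero.mp h with h | h <;> exact hs h

/-- the Weyl element of `SL₂` -/
noncomputable def w1 : SL2 := ⟨!![0, -1; 1, 0], by simp [Matrix.det_fin_two]⟩

lemma w1_mul (x : SL2) : (w1 * x).1 0 0 = -x.1 1 0 ∧ (w1 * x).1 1 0 = x.1 0 0 := by
  obtain ⟨l00, -, l10, -⟩ := mul_entries w1 x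
  rw [l00, l10]
  simp [w1]

lemma card_B1_filter [Fintype F] [DecidableEq F] :
    Nat.card (B1 F) = (Finset.univ.filter (fun x : SL2 => x.1 1 0 = 0)).card := by
  rw [← Fintype.card_subtype, ← Nat.card_eq_fintype_card]
  exact Nat.card_congr (Equiv.subtypeEquivRight (fun x => mem_B1_iff x))

lemma card_wB1 [Fintype F] [DecidableEq F] :
    (Finset.univ.filter (fun x : SL2 => x.1 0 0 = 0)).card =
      (Finset.univ.filter (fun x : SL2 => x.1 1 0 = 0)).card := by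
  apply Finset.card_equiv (Equiv.mulLeft (w1 : SL2))
  intro x
  simp only [Finset.mem_filter, Finset.mem_univ, true_and, Equiv.coe_mulLeft]
  rw [(w1_mul x).2]


lemma card_B1_ne [Fintype F] : (Nat.card (B1 F) : ℂ) ≠ 0 := by
  have : Nat.card (B1 F) ≠ 0 := Nat.card_pos.ne'
  exact_mod_cast this

lemma I1_central [Fintype F] [DecidableEq F] (α : MulChar F ℂ) (a : Fˣ) (ha : a⁻¹ = a) :
    indFun (B1 F) (θ1 α) (bmat1 a 0) = ((Fintype.card F : ℂ) + 1) * α a := by
  have hB := card_B1_ne (F := F)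
  rw [ind_eq]
  simp_rw [central_conj a ha]
  rw [Finset.sum_const, Finset.card_univ, nsmul_eq_mul, card_G_eq]
  have : e1 α (bmat1 a 0) = α a := by simp [e1]
  rw [this]
  field_simp

lemma I1_unip [Fintype F] [DecidableEq F] (α : MulChar F ℂ) (a : Fˣ) (ha : a⁻¹ = a) (c : F)
    (hc : c ≠ 0) : indFun (B1 F) (θ1 α) (bmat1 a c) = α a := by
  have hB := card_B1_ne (F := F)
  rw [ind_eq]
  simp_rw [e1_conj_unip α a ha c hc]
  rw [← Finset.sum_filter, Finset.sum_const, ← card_B1_filter, nsmul_eq_mul]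
  field_simp

lemma I1_diag [Fintype F] [DecidableEq F] (α : MulChar F ℂ) (a : Fˣ) (ha : a⁻¹ ≠ a) :
    indFun (B1 F) (θ1 α) (bmat1 a 0) = α a + α ((a⁻¹ : Fˣ) : F) := by
  have hB := card_B1_ne (F := F)
  rw [ind_eq]
  have h1 : ∀ x : SL2, e1 α (x⁻¹ * bmat1 a 0 * x) =
      (if x.1 1 0 = 0 then α a else 0) + (if x.1 0 0 = 0 then α ((a⁻¹ : Fˣ) : F) else 0) := by
    intro x
    rw [e1_conj_diag α a ha x]
    by_cases hs : x.1 1 0 = 0
    · have hp : x.1 0 0 ≠ 0 := by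
        intro hp
        have := det_eq x
        rw [hs, hp] at this
        simp at this
      rw [if_pos hs, if_pos hs, if_neg hp, add_zero]
    · rw [if_neg hs, if_neg hs, zero_add]
  simp_rw [h1]
  rw [Finset.sum_add_distrib, ← Finset.sum_filter, ← Finset.sum_filter, Finset.sum_const,
    Finset.sum_const, card_wB1, ← card_B1_filter, nsmul_eq_mul, nsmul_eq_mul]
  field_simp

lemma I1_split [Fintype F] [DecidableEq F] (α : MulChar F ℂ) (a : Fˣ) (ha : a⁻¹ ≠ a) (c : F) :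
    indFun (B1 F) (θ1 α) (bmat1 a c) = α a + α ((a⁻¹ : Fˣ) : F) := by
  have ha' : ((a⁻¹ : Fˣ) : F) - a ≠ 0 := fun h => ha (Units.ext (sub_eq_zero.mp h))
  obtain ⟨d, hd⟩ : ∃ d : F, ((a⁻¹ : Fˣ) : F) = d := ⟨_, rfl⟩
  rw [hd] at ha'
  let y : SL2 := ⟨!![1, c / (d - a); 0, 1], by simp [Matrix.det_fin_two]⟩
  have y00 : y.1 0 0 = 1 := by simp [y]
  have y01 : y.1 0 1 = c / (d - a) := by simp [y]
  have y10 : y.1 1 0 = 0 := by simp [y]
  have y11 : y.1 1 1 = 1 := by simp [y]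
  have hy : bmat1 a c = y * bmat1 a 0 * y⁻¹ := by
    rw [eq_mul_inv_iff_mul_eq]
    obtain ⟨l00, l01, l10, l11⟩ := mul_entries (bmat1 a c) y
    obtain ⟨r00, r01, r10, r11⟩ := mul_entries y (bmat1 a 0)
    apply Matrix.SpecialLinearGroup.ext
    intro i j
    fin_cases i <;> fin_cases j
    · change (bmat1 a c * y).1 0 0 = (y * bmat1 a 0).1 0 0
      rw [l00, r00, y00, y10, y01, bmat1_00, bmat1_00, bmat1_10]; ring
    · change (bmat1 a c * y).1 0 1 = (y * bmat1 a 0).1 0 1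
      rw [l01, r01, y00, y01, y11, bmat1_00, bmat1_01, bmat1_01, bmat1_11, hd]
      field_simp
      ring
    · change (bmat1 a c * y).1 1 0 = (y * bmat1 a 0).1 1 0
      rw [l10, r10, y00, y10, y11, bmat1_10, bmat1_10, bmat1_00]; ring
    · change (bmat1 a c * y).1 1 1 = (y * bmat1 a 0).1 1 1
      rw [l11, r11, y01, y10, y11, bmat1_10, bmat1_11, bmat1_01, bmat1_11]; ring
  rw [hy, Cfsg.Agent.Helper81.indFun_isClassFunction _ _ (bmat1 a 0) y, I1_diag α a ha]

/-- `θ1 α` as a monoid hom -/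
noncomputable def θ1hom (α : MulChar F ℂ) : B1 F →* ℂ where
  toFun := θ1 α
  map_one' := by simp [θ1]
  map_mul' := by
    intro b b'
    have h10 : (b' : SL2).1 1 0 = 0 := (mem_B1_iff _).mp b'.2
    obtain ⟨l00, -, -, -⟩ := mul_entries (b : SL2) (b' : SL2)
    simp only [θ1, Subgroup.coe_mul]
    rw [l00, h10, mul_zero, add_zero, map_mul]

lemma θ1_isIrr (α : MulChar F ℂ) : IsIrrCharacter (B1 F) (θ1 α) := by
  have h := (Cfsg.Agent.Helper79.linChar (θ1hom α).toHomUnits).2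
  convert h using 1
  funext b
  rw [Cfsg.Agent.Helper79.linChar_apply, MonoidHom.coe_toHomUnits]
  rfl

lemma θ1_isCharacter (α : MulChar F ℂ) : IsCharacter (B1 F) (θ1 α) := by
  obtain ⟨n, ρ, -, h⟩ := θ1_isIrr α
  exact ⟨n, ρ, h⟩

end Cfsg.Agent.Helper38.SL2
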