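import Mathlib
import Cfsg.Agent.Lib.Helper38.SL2Borel
import Cfsg.Agent.Lib.Helper38.GL2Borel

set_option autoImplicit false

namespace Cfsg.Agent.Helper38

open Matrix Cfsg
open Cfsg.Agent.S2305 (e conj_entries' dg det_ne)
open Cfsg.Agent.Helper38.SL2 (B1 θ1 e1)

variable {F : Type*} [Field F]

local notation "SL2" => Matrix.SpecialLinearGroup (Fin 2) F

/-- `SL₂` as a normal subgroup of `GL₂` -/
abbrev N (F : Type*) [Field F] : Subgroup (GL (Fin 2) F) :=
  MonoidHom.ker (Matrix.GeneralLinearGroup.det : GL (Fin 2) F →* Fˣ)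

/-- the inclusion of `SL₂` into `N` -/
noncomputable def ι₀ : SL2 →* N F :=
  (Matrix.SpecialLinearGroup.toGL : SL2 →* GL (Fin 2) F).codRestrict (N F) (fun s => by
    rw [MonoidHom.mem_ker]
    exact Matrix.SpecialLinearGroup.coeToGL_det s)

lemma ι₀_bijective : Function.Bijective (ι₀ : SL2 → N F) := by
  constructor
  · intro s s' h
    have := congrArg (fun n : N F => (n : GL (Fin 2) F)) h
    exact Matrix.SpecialLinearGroup.toGL_injective this
  · rintro ⟨n, hn⟩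
    rw [MonoidHom.mem_ker] at hn
    have hdet : (n : Matrix (Fin 2) (Fin 2) F).det = 1 := by
      have := congrArg (fun u : Fˣ => (u : F)) hn
      simpa using this
    refine ⟨⟨(n : Matrix (Fin 2) (Fin 2) F), hdet⟩, ?_⟩
    apply Subtype.ext
    apply Units.ext
    rfl

/-- `SL₂ ≃* N` -/
noncomputable def ι : SL2 ≃* N F := MulEquiv.ofBijective ι₀ ι₀_bijective

lemma ι_coe (s : SL2) : ((ι s : N F) : GL (Fin 2) F) = Matrix.SpecialLinearGroup.toGL s := rfl


lemma det_dg (a d : Fˣ) : Matrix.GeneralLinearGroup.det (dg a d : GL (Fin 2) F) = a * d := by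
  apply Units.ext
  simp [dg, Matrix.det_fin_two]

/-- `GL₂ = SL₂ ⋊ diag(1, *)` -/
noncomputable def Φ (p : SL2 × Fˣ) : GL (Fin 2) F :=
  Matrix.SpecialLinearGroup.toGL p.1 * dg 1 p.2

lemma Φ_bijective : Function.Bijective (Φ : SL2 × Fˣ → GL (Fin 2) F) := by
  constructor
  · rintro ⟨s, δ⟩ ⟨s', δ'⟩ h
    simp only [Φ] at h
    have hd := congrArg Matrix.GeneralLinearGroup.det h
    rw [map_mul, map_mul, Matrix.SpecialLinearGroup.coeToGL_det, Matrix.SpecialLinearGroup.coeToGL_det,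
      det_dg, det_dg, one_mul, one_mul, one_mul, one_mul] at hd
    subst hd
    have := mul_right_cancel h
    rw [Matrix.SpecialLinearGroup.toGL_injective this]
  · intro x
    set δ := Matrix.GeneralLinearGroup.det x with hδ
    have hy : x * (dg 1 δ)⁻¹ ∈ N F := by
      rw [MonoidHom.mem_ker, map_mul, map_inv, det_dg, one_mul, ← hδ, mul_inv_cancel]
    obtain ⟨s, hs⟩ := ι.surjective ⟨x * (dg 1 δ)⁻¹, hy⟩
    refine ⟨(s, δ), ?_⟩
    simp only [Φ]
    have := congrArg (fun n : N F => (n : GL (Fin 2) F)) hs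
    simp only [ι_coe] at this
    rw [this, inv_mul_cancel_right]

lemma e_conj_dg [DecidableEq F] (α β : MulChar F ℂ) (δ : Fˣ) (y : GL (Fin 2) F) :
    e α β ((dg 1 δ)⁻¹ * y * dg 1 δ) = e α β y := by
  obtain ⟨h00, h10, h11⟩ := conj_entries' (dg 1 δ) y
  have hD : ((dg 1 δ : GL (Fin 2) F) : Matrix (Fin 2) (Fin 2) F).det = δ := by
    simp [dg, Matrix.det_fin_two]
  rw [hD] at h00 h10 h11
  simp only [Cfsg.Agent.S2305.dg00, Cfsg.Agent.S2305.dg01, Cfsg.Agent.S2305.dg10,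
    Cfsg.Agent.S2305.dg11, Units.val_one, mul_one, mul_zero, add_zero, zero_mul, sub_zero,
    one_mul, zero_add] at h00 h10 h11
  have hδ : (δ : F) ≠ 0 := δ.ne_zero
  have z00 : (((dg 1 δ)⁻¹ * y * dg 1 δ : GL (Fin 2) F) : Matrix (Fin 2) (Fin 2) F) 0 0 =
      (y : Matrix (Fin 2) (Fin 2) F) 0 0 := by rw [h00]; field_simp
  have z11 : (((dg 1 δ)⁻¹ * y * dg 1 δ : GL (Fin 2) F) : Matrix (Fin 2) (Fin 2) F) 1 1 =
      (y : Matrix (Fin 2) (Fin 2) F) 1 1 := by rw [h11]; field_simp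
  unfold e
  rw [z00, z11, h10]
  by_cases hy : (y : Matrix (Fin 2) (Fin 2) F) 1 0 = 0
  · rw [if_pos hy, if_pos (by rw [hy, mul_zero])]
  · rw [if_neg hy, if_neg]
    intro h
    rcases mul_eq_zero.mp h with h | h
    · exact (inv_ne_zero hδ) h
    · exact hy h

lemma e_toGL [DecidableEq F] (α : MulChar F ℂ) (z : SL2) :
    e α 1 (Matrix.SpecialLinearGroup.toGL z) = e1 α z := by
  unfold e e1
  rw [Matrix.SpecialLinearGroup.coe_GL_coe_matrix]
  by_cases h : z.1 1 0 = 0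
  · rw [if_pos h, if_pos h]
    have hdet := SL2.det_eq z
    rw [h, mul_zero, sub_zero] at hdet
    have hu : IsUnit (z.1 1 1) := IsUnit.of_mul_eq_one_right _ hdet
    rw [MulChar.one_apply hu, mul_one]
  · rw [if_neg h, if_neg h]

theorem ind_restrict [Fintype F] [DecidableEq F] (α : MulChar F ℂ) (s : SL2) :
    indFun (upperTriangularGL 2 F) (θ α 1) (Matrix.SpecialLinearGroup.toGL s) =
      indFun (B1 F) (θ1 α) s := by
  unfold θ
  rw [Cfsg.Agent.S2305.ind_eq, SL2.ind_eq, ← Function.Bijective.sum_comp Φ_bijective,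
    Fintype.sum_prod_type]
  have h1 : ∀ (x' : SL2) (δ : Fˣ),
      e α 1 ((Φ (x', δ))⁻¹ * Matrix.SpecialLinearGroup.toGL s * Φ (x', δ)) = e1 α (x'⁻¹ * s * x') := by
    intro x' δ
    have : (Φ (x', δ))⁻¹ * Matrix.SpecialLinearGroup.toGL s * Φ (x', δ) =
        (dg 1 δ)⁻¹ * Matrix.SpecialLinearGroup.toGL (x'⁻¹ * s * x') * dg 1 δ := by
      simp only [Φ, map_mul, map_inv, _root_.mul_inv_rev]
      group
    rw [this, e_conj_dg, e_toGL]
  simp_rw [h1]
  simp_rw [Finset.sum_const, Finset.card_univ, nsmul_eq_mul]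
  rw [← Finset.mul_sum, card_B_eq', SL2.card_B1]
  have hn : (Fintype.card Fˣ : ℂ) ≠ 0 := by
    have : Fintype.card Fˣ ≠ 0 := Fintype.card_pos.ne'
    exact_mod_cast this
  have hq : (Fintype.card F : ℂ) ≠ 0 := by
    have : Fintype.card F ≠ 0 := Fintype.card_pos.ne'
    exact_mod_cast this
  push_cast
  field_simp

end Cfsg.Agent.Helper38
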