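import Mathlib
import Cfsg.Agent.Lib.Helper38.GL2Split
import Cfsg.Agent.Lib.Helper38.SL2inGL2
import Cfsg.Agent.Lib.Helper81.CharAbel
import Cfsg.Agent.S4566

set_option autoImplicit false
set_option linter.unusedSectionVars false

/-! Twisting the irreducible characters of `GL₂(F)` by `α ∘ det`, and restriction to `SL₂`. -/

namespace Cfsg.Agent.Helper38

open Matrix Cfsg
open Cfsg.Agent.Helper81
open Cfsg.Agent.S2305 (dg)
open Cfsg.Agent.Helper3 (fintypeIrr)
open scoped ComplexConjugate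

variable {F : Type*} [Field F] [Fintype F] [DecidableEq F]

local notation "Irr2" => IrrCharacter (GL (Fin 2) F)

/-- the quadratic character, abstractly -/
theorem exists_quadratic (hodd : Odd (Fintype.card F)) :
    ∃ ε : MulChar F ℂ, ε ≠ 1 ∧ ε ^ 2 = 1 ∧ ∀ α : MulChar F ℂ, α ^ 2 = 1 → α = 1 ∨ α = ε := by
  classical
  obtain ⟨e⟩ := MulChar.mulEquiv_units F ℂ
  have : IsCyclic (MulChar F ℂ) := isCyclic_of_surjective e.symm e.symm.surjective
  have hcard : Fintype.card (MulChar F ℂ) = Fintype.card F - 1 := by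
    rw [card_mulChar, Fintype.card_units]
  have h2 : 2 ∣ Fintype.card (MulChar F ℂ) := by
    rw [hcard]
    obtain ⟨k, hk⟩ := hodd
    omega
  have : Fact (Nat.Prime 2) := ⟨Nat.prime_two⟩
  obtain ⟨ε, hε⟩ := exists_prime_orderOf_dvd_card 2 h2
  have hε2 : ε ^ 2 = 1 := by rw [← hε]; exact pow_orderOf_eq_one ε
  have hε1 : ε ≠ 1 := by
    intro h
    rw [h, orderOf_one] at hε
    norm_num at hε
  refine ⟨ε, hε1, hε2, ?_⟩
  intro α hα
  have hle := IsCyclic.card_pow_eq_one_le (α := MulChar F ℂ) (n := 2) (by norm_num)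
  have hsub : ({1, ε} : Finset (MulChar F ℂ)) ⊆ Finset.univ.filter (fun a : MulChar F ℂ => a ^ 2 = 1) := by
    intro x hx
    rw [Finset.mem_insert, Finset.mem_singleton] at hx
    rw [Finset.mem_filter]
    rcases hx with rfl | rfl
    · exact ⟨Finset.mem_univ _, one_pow 2⟩
    · exact ⟨Finset.mem_univ _, hε2⟩
  have hcard2 : ({1, ε} : Finset (MulChar F ℂ)).card = 2 := Finset.card_pair (Ne.symm hε1)
  have heq := Finset.eq_of_subset_of_card_le hsub (by rw [hcard2]; exact hle)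
  have hmem : α ∈ Finset.univ.filter (fun a : MulChar F ℂ => a ^ 2 = 1) :=
    Finset.mem_filter.mpr ⟨Finset.mem_univ _, hα⟩
  rw [← heq, Finset.mem_insert, Finset.mem_singleton] at hmem
  exact hmem

/-- `lin α` is multiplicative and unitary -/
lemma lin_mul (α : MulChar F ℂ) (g h : GL (Fin 2) F) : lin α (g * h) = lin α g * lin α h := by
  simp [lin]

lemma lin_norm (α : MulChar F ℂ) (g : GL (Fin 2) F) : lin α g * conj (lin α g) = 1 := by
  unfold lin
  exact unit_norm α _

lemma lin_mul_lin (α β : MulChar F ℂ) : lin α * lin β = lin (α * β) := by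
  funext g
  simp [lin, MulChar.mul_apply]

lemma θ_mul_θ (α β γ δ : MulChar F ℂ) : θ α β * θ γ δ = θ (α * γ) (β * δ) := by
  funext b
  simp only [θ, Pi.mul_apply, MulChar.mul_apply]
  ring

/-- twisting the principal series -/
lemma ind_mul_lin (α β γ : MulChar F ℂ) :
    indFun (upperTriangularGL 2 F) (θ α β) * lin γ = indFun (upperTriangularGL 2 F) (θ (α * γ) (β * γ)) := by
  rw [← indFun_mul_restrict _ _ (isClassFunction_of_isCharacter (IsIrrCharacter.isCharacter (lin_isIrr γ))),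
    lin_restrict, θ_mul_θ]

lemma stein_mul_lin (α γ : MulChar F ℂ) : stein α * lin γ = stein (α * γ) := by
  unfold stein
  rw [sub_mul, ind_mul_lin, lin_mul_lin]

/-- twisting an irreducible character -/
lemma twist_isIrr {χ : GL (Fin 2) F → ℂ} (hχ : IsIrrCharacter (GL (Fin 2) F) χ) (α : MulChar F ℂ) :
    IsIrrCharacter (GL (Fin 2) F) (χ * lin α) := by
  rw [mul_comm]
  exact isIrrCharacter_mul_linear (lin_one α) (lin_mul α) (lin_norm α) hχ

/-- scalar matrices are central and characters do not vanish there -/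
lemma irr_sc_ne_zero {χ : GL (Fin 2) F → ℂ} (hχ : IsIrrCharacter (GL (Fin 2) F) χ) (a : Fˣ) :
    χ (sc a) ≠ 0 := by
  obtain ⟨d, hd, hd1⟩ := irr_one_pos hχ
  obtain ⟨k, ρ, hρ, rfl⟩ := hχ
  have := hρ
  obtain ⟨f, -, -, -, hnorm, -, hchar1⟩ := Cfsg.Agent.S4566.exists_central_scalar ρ
  have hc : sc a ∈ Subgroup.center (GL (Fin 2) F) := by
    rw [Subgroup.mem_center_iff]
    intro g
    exact sc_comm a g
  rw [hchar1 _ hc, hd1]
  apply mul_ne_zero
  · intro h0
    have := hnorm _ hc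
    rw [h0, norm_zero] at this
    exact zero_ne_one this
  · exact_mod_cast hd.ne'

lemma lin_sc (α : MulChar F ℂ) (a : Fˣ) : lin α (sc a) = α a * α a := by
  unfold lin
  rw [det_coe, sc_coe]
  simp

/-- a character fixed by the twist `α` forces `α² = 1` -/
lemma sq_eq_one_of_twist_fixed {χ : GL (Fin 2) F → ℂ} (hχ : IsIrrCharacter (GL (Fin 2) F) χ)
    (α : MulChar F ℂ) (h : χ * lin α = χ) : α ^ 2 = 1 := by
  ext a
  have h1 := congrFun h (sc a)
  rw [Pi.mul_apply, lin_sc] at h1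
  have h2 := irr_sc_ne_zero hχ a
  have h3 : α a * α a = 1 := by
    have : χ (sc a) * (α a * α a) = χ (sc a) * 1 := by rw [h1, mul_one]
    exact mul_left_cancel₀ h2 this
  rw [pow_two, MulChar.mul_apply, h3, MulChar.one_apply_coe]


/-- the order of `GL₂` against the kernel of the determinant -/
lemma card_G_eq_mul_card_N :
    Nat.card (GL (Fin 2) F) = Fintype.card Fˣ * Nat.card (N F) := by
  rw [← Nat.card_congr (Equiv.ofBijective _ (Φ_bijective (F := F))), Nat.card_prod,
    Nat.card_congr (ι (F := F)).toEquiv, Nat.card_eq_fintype_card (α := Fˣ), mul_comm]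

lemma sum_mulChar_det (g : GL (Fin 2) F) :
    ∑ α : MulChar F ℂ, lin α g = if g ∈ N F then (Fintype.card Fˣ : ℂ) else 0 := by
  unfold lin
  rw [sum_mulChar_apply]
  by_cases h : g ∈ N F
  · rw [if_pos h, if_pos (MonoidHom.mem_ker.mp h)]
  · rw [if_neg h, if_neg (fun h' => h (MonoidHom.mem_ker.mpr h'))]

/-- inner products of restrictions to `SL₂` in terms of twists -/
theorem inner_res [Fintype (N F)] (χ χ' : GL (Fin 2) F → ℂ) :
    classInner (fun n : N F => χ n) (fun n : N F => χ' n) =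
      ∑ α : MulChar F ℂ, classInner (χ * lin α) χ' := by
  classical
  unfold classInner
  rw [← Finset.mul_sum, Finset.sum_comm]
  have h1 : ∀ g : GL (Fin 2) F, ∑ α : MulChar F ℂ, (χ * lin α) g * conj (χ' g) =
      if g ∈ N F then (Fintype.card Fˣ : ℂ) * (χ g * conj (χ' g)) else 0 := by
    intro g
    simp only [Pi.mul_apply]
    have : ∀ α : MulChar F ℂ, χ g * lin α g * conj (χ' g) = lin α g * (χ g * conj (χ' g)) := by
      intro α; ring
    simp_rw [this]
    rw [← Finset.sum_mul, sum_mulChar_det]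
    split_ifs <;> simp
  simp_rw [h1]
  rw [← Finset.sum_filter, ← Finset.mul_sum,
    Finset.sum_subtype (Finset.univ.filter (fun g : GL (Fin 2) F => g ∈ N F)) (p := fun g => g ∈ N F)
      (by intro x; simp) (fun g => χ g * conj (χ' g)), card_G_eq_mul_card_N]
  have hn : (Fintype.card Fˣ : ℂ) ≠ 0 := by
    have : Fintype.card Fˣ ≠ 0 := Fintype.card_pos.ne'
    exact_mod_cast this
  have hN : (Nat.card (N F) : ℂ) ≠ 0 := by
    have : Nat.card (N F) ≠ 0 := Nat.card_pos.ne'
    exact_mod_cast this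
  push_cast
  field_simp


lemma lin_one_char : lin (1 : MulChar F ℂ) = 1 := by
  funext g
  unfold lin
  rw [MulChar.one_apply_coe]
  rfl

/-- the norm of the restriction to `SL₂` of an irreducible character -/
theorem norm_res [Fintype (N F)] {ε : MulChar F ℂ} (hε1 : ε ≠ 1)
    (hε : ∀ α : MulChar F ℂ, α ^ 2 = 1 → α = 1 ∨ α = ε)
    {χ : GL (Fin 2) F → ℂ} (hχ : IsIrrCharacter (GL (Fin 2) F) χ) :
    classInner (fun n : N F => χ n) (fun n : N F => χ n) =
      1 + (if χ * lin ε = χ then 1 else 0) := by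
  classical
  rw [inner_res]
  have h1 : ∀ α : MulChar F ℂ, classInner (χ * lin α) χ = if χ * lin α = χ then 1 else 0 :=
    fun α => irr_orthonormal (twist_isIrr hχ α) hχ
  simp_rw [h1]
  rw [← Finset.sum_subset (Finset.subset_univ ({1, ε} : Finset (MulChar F ℂ)))]
  · rw [Finset.sum_pair (Ne.symm hε1), lin_one_char, mul_one, if_pos rfl]
  · intro α _ hα
    rw [if_neg]
    intro hfix
    apply hα
    rw [Finset.mem_insert, Finset.mem_singleton]
    exact hε α (sq_eq_one_of_twist_fixed hχ α hfix)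

/-- non-split characters restrict irreducibly -/
theorem res_irr_of_not_split [Fintype (N F)] {ε : MulChar F ℂ} (hε1 : ε ≠ 1)
    (hε : ∀ α : MulChar F ℂ, α ^ 2 = 1 → α = 1 ∨ α = ε)
    {χ : GL (Fin 2) F → ℂ} (hχ : IsIrrCharacter (GL (Fin 2) F) χ) (hs : ¬ χ * lin ε = χ) :
    IsIrrCharacter (N F) (fun n : N F => χ n) := by
  apply Cfsg.Agent.Helper15.isIrrCharacter_of_classInner_eq_one
    (isCharacter_restrict _ (IsIrrCharacter.isCharacter hχ))
  rw [norm_res hε1 hε hχ, if_neg hs, add_zero]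

/-- split characters restrict to a sum of two distinct irreducible characters of equal degree -/
theorem res_split [Fintype (N F)] {ε : MulChar F ℂ} (hε1 : ε ≠ 1)
    (hε : ∀ α : MulChar F ℂ, α ^ 2 = 1 → α = 1 ∨ α = ε)
    {χ : GL (Fin 2) F → ℂ} (hχ : IsIrrCharacter (GL (Fin 2) F) χ) (hs : χ * lin ε = χ) :
    ∃ ψ₁ ψ₂ : N F → ℂ, IsIrrCharacter (N F) ψ₁ ∧ IsIrrCharacter (N F) ψ₂ ∧ ψ₁ ≠ ψ₂ ∧
      (fun n : N F => χ n) = ψ₁ + ψ₂ ∧ ψ₁ 1 = ψ₂ 1 := by
  have hnorm : classInner (fun n : N F => χ n) (fun n : N F => χ n) = 2 := by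
    rw [norm_res hε1 hε hχ, if_pos hs]; norm_num
  obtain ⟨ψ₁, ψ₂, h₁, h₂, hne, hsum⟩ := exists_two_irr_of_classInner_eq_two
    (isCharacter_restrict _ (IsIrrCharacter.isCharacter hχ)) hnorm
  refine ⟨ψ₁, ψ₂, h₁, h₂, hne, hsum, ?_⟩
  have hN : (N F).Normal := MonoidHom.normal_ker _
  have hin1 : classInner (fun n : N F => χ n) ψ₁ ≠ 0 := by
    rw [hsum, classInner_add_left, irr_orthonormal h₁ h₁, irr_orthonormal h₂ h₁, if_pos rfl,
      if_neg (Ne.symm hne)]
    norm_num
  have hin2 : classInner (fun n : N F => χ n) ψ₂ ≠ 0 := by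
    rw [hsum, classInner_add_left, irr_orthonormal h₁ h₂, irr_orthonormal h₂ h₂, if_pos rfl,
      if_neg hne]
    norm_num
  have hconj : ∃ g : GL (Fin 2) F, ψ₂ = conjFun (N F) hN ψ₁ g := by
    by_contra hnc
    exact hin2 (clifford_not_conj (N F) hN hχ h₁ h₂ hin1 hnc)
  obtain ⟨g, hg⟩ := hconj
  rw [hg, conjFun_apply]
  congr 1
  apply Subtype.ext
  simp

end Cfsg.Agent.Helper38
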