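import Mathlib
import Cfsg.Agent.Lib.Helper38.GL2Twist

set_option autoImplicit false
set_option linter.unusedSectionVars false

/-! The number of irreducible characters of `GL₂(F)` fixed by the quadratic twist. -/

namespace Cfsg.Agent.Helper38

open Matrix Cfsg
open Cfsg.Agent.Helper81
open Cfsg.Agent.Helper3 (fintypeIrr)
open scoped ComplexConjugate

section generic
universe u
variable {G : Type u} [Group G] [Fintype G] {T : Type*} [Fintype T]

open scoped Classical in
/-- summing a class function class by class -/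
lemma sum_classFun_gen (r : T → G) (hr : ∀ x : G, ∃! t : T, IsConj (r t) x)
    (f : G → ℂ) (hf : IsClassFunction G f) :
    ∑ x : G, f x = ∑ t : T, (Nat.card {y : G // IsConj (r t) y} : ℂ) * f (r t) := by
  have h1 : ∀ x : G, f x = ∑ t : T, (if IsConj (r t) x then f x else 0) := by
    intro x
    obtain ⟨t₀, ht₀, huniq⟩ := hr x
    rw [Finset.sum_eq_single t₀, if_pos ht₀]
    · intro t _ hne
      rw [if_neg]
      intro hc
      exact hne (huniq t hc)
    · intro h; exact absurd (Finset.mem_univ _) h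
  calc ∑ x : G, f x
      = ∑ x : G, ∑ t : T, (if IsConj (r t) x then f x else 0) :=
        Finset.sum_congr rfl (fun x _ => h1 x)
    _ = ∑ t : T, ∑ x : G, (if IsConj (r t) x then f x else 0) :=
        Finset.sum_comm
    _ = _ := Finset.sum_congr rfl (fun t _ => Cfsg.Agent.Helper3.sum_ite_isConj f hf (r t))

lemma card_centralizer_conj_gen (g h : G) :
    Nat.card (Subgroup.centralizer ({h * g * h⁻¹} : Set G)) =
      Nat.card (Subgroup.centralizer ({g} : Set G)) := by
  have h1 := Cfsg.Agent.Helper3.card_conj_mul_card_centralizer (h * g * h⁻¹)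
  have h2 := Cfsg.Agent.Helper3.card_conj_mul_card_centralizer g
  have h3 : Nat.card {x : G // IsConj (h * g * h⁻¹) x} =
      Nat.card {x : G // IsConj g x} := by
    apply Nat.card_congr
    apply Equiv.subtypeEquivRight
    intro x
    have hc : IsConj g (h * g * h⁻¹) := isConj_iff.mpr ⟨h, rfl⟩
    exact ⟨fun hx => hc.trans hx, fun hx => hc.symm.trans hx⟩
  rw [h3, ← h2] at h1
  have hpos : 0 < Nat.card {x : G // IsConj g x} := by
    have : Nonempty {x : G // IsConj g x} := ⟨⟨g, IsConj.refl g⟩⟩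
    exact Nat.card_pos
  exact Nat.eq_of_mul_eq_mul_left hpos h1

/-- the number of irreducible characters fixed by a linear twist (Brauer's permutation lemma,
counting form) -/
theorem card_twist_fixed_gen (r : T → G) (hr : ∀ x : G, ∃! t : T, IsConj (r t) x)
    (l : G → ℂ) (h1 : l 1 = 1) (hmul : ∀ g h, l (g * h) = l g * l h)
    (hnorm : ∀ g, l g * conj (l g) = 1) :
    ((Finset.univ.filter (fun χ : IrrCharacter G => (χ : G → ℂ) * l = χ)).card : ℂ) =
      ∑ t : T, l (r t) := by
  classical
  rw [Finset.card_filter]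
  push_cast
  have hirr : ∀ χ : IrrCharacter G, IsIrrCharacter G ((χ : G → ℂ) * l) := by
    intro χ
    rw [mul_comm]
    exact isIrrCharacter_mul_linear h1 hmul hnorm χ.2
  have e1 : ∀ χ : IrrCharacter G, (if (χ : G → ℂ) * l = χ then (1 : ℂ) else 0) =
      classInner ((χ : G → ℂ) * l) (χ : G → ℂ) :=
    fun χ => (irr_orthonormal (hirr χ) χ.2).symm
  simp_rw [e1]
  unfold classInner
  rw [← Finset.mul_sum, Finset.sum_comm]
  have e2 : ∀ g : G, ∑ χ : IrrCharacter G, ((χ : G → ℂ) * l) g * conj ((χ : G → ℂ) g) =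
      l g * (Nat.card (Subgroup.centralizer ({g} : Set G)) : ℂ) := by
    intro g
    have := Cfsg.Agent.Helper3.column_orthogonality g g
    rw [if_pos (IsConj.refl g)] at this
    rw [← this, Finset.mul_sum]
    apply Finset.sum_congr rfl
    intro χ _
    simp only [Pi.mul_apply]
    ring
  simp_rw [e2]
  have hlconj : ∀ g h : G, l (h * g * h⁻¹) = l g := by
    intro g h
    rw [hmul, hmul, mul_comm (l h), mul_assoc, ← hmul, mul_inv_cancel, h1, mul_one]
  rw [sum_classFun_gen r hr _ (by
    intro g h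
    simp only
    rw [hlconj, card_centralizer_conj_gen])]
  have e3 : ∀ t : T, (Nat.card {y : G // IsConj (r t) y} : ℂ) *
      (l (r t) * (Nat.card (Subgroup.centralizer ({r t} : Set G)) : ℂ)) =
      (Nat.card G : ℂ) * l (r t) := by
    intro t
    have := Cfsg.Agent.Helper3.card_conj_mul_card_centralizer (r t)
    rw [← this]
    push_cast
    ring
  simp_rw [e3]
  rw [← Finset.mul_sum]
  have hG : (Nat.card G : ℂ) ≠ 0 := by
    have : Nat.card G ≠ 0 := Nat.card_pos.ne'
    exact_mod_cast this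
  field_simp

end generic

variable {F : Type*} [Field F] [Fintype F] [DecidableEq F]

local notation "Irr2" => IrrCharacter (GL (Fin 2) F)

/-- representative of a class parameter -/
noncomputable def rep : Fˣ ⊕ (F × Fˣ) → GL (Fin 2) F
  | Sum.inl a => sc a
  | Sum.inr p => cmp p.1 p.2

lemma clsMap_eq (t : Fˣ ⊕ (F × Fˣ)) : clsMap t = ConjClasses.mk (rep t) := by
  cases t <;> rfl

lemma exists_unique_rep (x : GL (Fin 2) F) : ∃! t : Fˣ ⊕ (F × Fˣ), IsConj (rep t) x := by
  obtain ⟨t, ht⟩ := clsMap_bijective.2 (ConjClasses.mk x)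
  refine ⟨t, ?_, ?_⟩
  · rw [clsMap_eq] at ht
    exact ConjClasses.mk_eq_mk_iff_isConj.mp ht
  · intro t' ht'
    apply clsMap_bijective.1
    rw [ht, clsMap_eq]
    exact ConjClasses.mk_eq_mk_iff_isConj.mpr ht'

/-- the number of irreducible characters of `GL₂` fixed by a nontrivial quadratic twist -/
theorem card_twist_fixed {ε : MulChar F ℂ} (hε1 : ε ≠ 1) (hε2 : ε ^ 2 = 1) :
    ((Finset.univ.filter (fun χ : Irr2 => (χ : GL (Fin 2) F → ℂ) * lin ε = χ)).card : ℂ) =
      (Fintype.card Fˣ : ℂ) := by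
  rw [card_twist_fixed_gen rep exists_unique_rep (lin ε) (lin_one ε) (lin_mul ε) (lin_norm ε),
    Fintype.sum_sum_type, Fintype.sum_prod_type]
  have h4 : ∀ a : Fˣ, lin ε (rep (Sum.inl a : Fˣ ⊕ (F × Fˣ))) = 1 := by
    intro a
    change lin ε (sc a) = 1
    rw [lin_sc, ← MulChar.mul_apply, ← pow_two, hε2, MulChar.one_apply_coe]
  have h5 : ∀ (t : F) (d : Fˣ), lin ε (rep (Sum.inr (t, d) : Fˣ ⊕ (F × Fˣ))) = ε d := by
    intro t d
    change lin ε (cmp t d) = ε d
    unfold lin
    rw [det_cmp]
  simp_rw [h4, h5, sum_units_mulChar ε hε1]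
  simp

end Cfsg.Agent.Helper38
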