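import Mathlib
import Cfsg.Agent.Lib.Helper38.GL2TwistCount

set_option autoImplicit false
set_option linter.unusedSectionVars false

/-! Counting the irreducible characters of `SL₂(F)`, `q` odd, via restriction from `GL₂(F)`. -/

namespace Cfsg.Agent.Helper38

open Matrix Cfsg
open Cfsg.Agent.Helper81
open Cfsg.Agent.Helper3 (fintypeIrr)
open scoped ComplexConjugate

variable {F : Type*} [Field F] [Fintype F] [DecidableEq F] [Fintype (N F)]

local notation "Irr2" => IrrCharacter (GL (Fin 2) F)
local notation "IrrN" => IrrCharacter (N F)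

/-- the data of a quadratic character -/
structure QuadData (ε : MulChar F ℂ) : Prop where
  ne_one : ε ≠ 1
  sq : ε ^ 2 = 1
  uniq : ∀ α : MulChar F ℂ, α ^ 2 = 1 → α = 1 ∨ α = ε

variable {ε : MulChar F ℂ}

/-- the restriction to `SL₂` -/
noncomputable def res (χ : GL (Fin 2) F → ℂ) : N F → ℂ := fun n => χ n

open scoped Classical in
/-- the constituents of the restriction -/
noncomputable def cons (χ : Irr2) : Finset IrrN :=
  Finset.univ.filter (fun ψ : IrrN => classInner (res (χ : GL (Fin 2) F → ℂ)) (ψ : N F → ℂ) ≠ 0)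

open scoped Classical in
/-- the number of constituents -/
noncomputable def cnum (ε : MulChar F ℂ) (χ : Irr2) : ℕ :=
  if (χ : GL (Fin 2) F → ℂ) * lin ε = χ then 2 else 1

open scoped Classical in
/-- the structure of the restriction of an irreducible character -/
theorem cons_spec (hε : QuadData ε) (χ : Irr2) :
    (∀ ψ : IrrN, classInner (res (χ : GL (Fin 2) F → ℂ)) (ψ : N F → ℂ) = if ψ ∈ cons χ then 1 else 0) ∧
    (cons χ).card = cnum ε χ ∧
    (∀ ψ ∈ cons χ, (cnum ε χ : ℂ) * (ψ : N F → ℂ) 1 = (χ : GL (Fin 2) F → ℂ) 1) := by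
  by_cases hs : (χ : GL (Fin 2) F → ℂ) * lin ε = χ
  · obtain ⟨ψ₁, ψ₂, h₁, h₂, hne, hsum, hdeg⟩ := res_split hε.ne_one hε.uniq χ.2 hs
    have hin : ∀ ψ : IrrN, classInner (res (χ : GL (Fin 2) F → ℂ)) (ψ : N F → ℂ) =
        (if ψ₁ = ψ then 1 else 0) + (if ψ₂ = ψ then 1 else 0) := by
      intro ψ
      change classInner (fun n : N F => (χ : GL (Fin 2) F → ℂ) n) _ = _
      rw [hsum, classInner_add_left, irr_orthonormal h₁ ψ.2, irr_orthonormal h₂ ψ.2]
    have hcons : cons χ = {⟨ψ₁, h₁⟩, ⟨ψ₂, h₂⟩} := by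
      ext ψ
      simp only [cons, Finset.mem_filter, Finset.mem_univ, true_and, Finset.mem_insert,
        Finset.mem_singleton]
      rw [hin]
      constructor
      · intro h
        by_cases e1 : ψ₁ = ψ
        · left; exact Subtype.ext e1.symm
        · by_cases e2 : ψ₂ = ψ
          · right; exact Subtype.ext e2.symm
          · rw [if_neg e1, if_neg e2] at h; simp at h
      · rintro (h | h)
        · have e1 : ψ₁ = ψ := (congrArg Subtype.val h).symm
          have e2 : ¬ ψ₂ = ψ := fun e => hne (e1.trans e.symm)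
          rw [if_pos e1, if_neg e2]; norm_num
        · have e2 : ψ₂ = ψ := (congrArg Subtype.val h).symm
          have e1 : ¬ ψ₁ = ψ := fun e => hne (e.trans e2.symm)
          rw [if_neg e1, if_pos e2]; norm_num
    have hne' : (⟨ψ₁, h₁⟩ : IrrN) ≠ ⟨ψ₂, h₂⟩ := fun h => hne (congrArg Subtype.val h)
    have hχ1 : (χ : GL (Fin 2) F → ℂ) 1 = ψ₁ 1 + ψ₂ 1 := by
      have := congrFun hsum 1
      simpa using this
    refine ⟨?_, ?_, ?_⟩
    · intro ψ
      rw [hin, hcons]
      by_cases e1 : ψ₁ = ψ
      · have e2 : ¬ ψ₂ = ψ := fun e => hne (e1.trans e.symm)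
        rw [if_pos e1, if_neg e2, if_pos]
        · norm_num
        · rw [Finset.mem_insert]; left; exact Subtype.ext e1.symm
      · by_cases e2 : ψ₂ = ψ
        · rw [if_neg e1, if_pos e2, if_pos]
          · norm_num
          · rw [Finset.mem_insert, Finset.mem_singleton]; right; exact Subtype.ext e2.symm
        · rw [if_neg e1, if_neg e2, if_neg]
          · norm_num
          · rw [Finset.mem_insert, Finset.mem_singleton]
            rintro (h | h)
            · exact e1 (congrArg Subtype.val h).symm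
            · exact e2 (congrArg Subtype.val h).symm
    · rw [hcons, Finset.card_pair hne']
      unfold cnum
      rw [if_pos hs]
    · intro ψ hψ
      unfold cnum
      rw [if_pos hs, hχ1]
      rw [hcons, Finset.mem_insert, Finset.mem_singleton] at hψ
      rcases hψ with rfl | rfl
      · simp only; rw [← hdeg]; push_cast; ring
      · simp only; rw [hdeg]; push_cast; ring
  · have h₀ := res_irr_of_not_split hε.ne_one hε.uniq χ.2 hs
    have hin : ∀ ψ : IrrN, classInner (res (χ : GL (Fin 2) F → ℂ)) (ψ : N F → ℂ) =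
        (if res (χ : GL (Fin 2) F → ℂ) = ψ then 1 else 0) := by
      intro ψ
      exact irr_orthonormal h₀ ψ.2
    have hcons : cons χ = {⟨res (χ : GL (Fin 2) F → ℂ), h₀⟩} := by
      ext ψ
      simp only [cons, Finset.mem_filter, Finset.mem_univ, true_and, Finset.mem_singleton]
      rw [hin]
      constructor
      · intro h
        by_cases e1 : res (χ : GL (Fin 2) F → ℂ) = ψ
        · exact Subtype.ext e1.symm
        · rw [if_neg e1] at h; simp at h
      · intro h
        have e1 : res (χ : GL (Fin 2) F → ℂ) = ψ := (congrArg Subtype.val h).symm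
        rw [if_pos e1]; norm_num
    refine ⟨?_, ?_, ?_⟩
    · intro ψ
      rw [hin, hcons]
      by_cases e1 : res (χ : GL (Fin 2) F → ℂ) = ψ
      · rw [if_pos e1, if_pos]
        rw [Finset.mem_singleton]; exact Subtype.ext e1.symm
      · rw [if_neg e1, if_neg]
        rw [Finset.mem_singleton]
        intro h
        exact e1 (congrArg Subtype.val h).symm
    · rw [hcons, Finset.card_singleton]
      unfold cnum
      rw [if_neg hs]
    · intro ψ hψ
      unfold cnum
      rw [if_neg hs]
      rw [hcons, Finset.mem_singleton] at hψ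
      subst hψ
      simp [res]


lemma index_N : (N F).index = Fintype.card Fˣ := by
  have h4 := Subgroup.index_mul_card (N F)
  rw [card_G_eq_mul_card_N] at h4
  exact Nat.eq_of_mul_eq_mul_right Nat.card_pos h4

open scoped Classical in
/-- each irreducible character of `SL₂` lies under characters of `GL₂` of total weight `q - 1` -/
theorem sum_cnum_over (hε : QuadData ε) (ψ : IrrN) :
    ∑ χ : Irr2, (if ψ ∈ cons χ then cnum ε χ else 0) = Fintype.card Fˣ := by
  have hexp := class_function_expansion (indFun_isClassFunction (N F) (ψ : N F → ℂ))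
  have h1 := congrFun hexp 1
  rw [indFun_one, Finset.sum_apply, index_N] at h1
  have hcoef : ∀ χ : Irr2, classInner (indFun (N F) (ψ : N F → ℂ)) (χ : GL (Fin 2) F → ℂ) *
      (χ : GL (Fin 2) F → ℂ) 1 = ((if ψ ∈ cons χ then cnum ε χ else 0 : ℕ) : ℂ) * (ψ : N F → ℂ) 1 := by
    intro χ
    obtain ⟨hs1, -, hs3⟩ := cons_spec hε χ
    rw [frobenius_reciprocity (N F) _ (isClassFunction_of_isCharacter (IsIrrCharacter.isCharacter χ.2)),
      classInner_conj_symm]
    change conj (classInner (res (χ : GL (Fin 2) F → ℂ)) (ψ : N F → ℂ)) * _ = _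
    rw [hs1 ψ]
    by_cases hm : ψ ∈ cons χ
    · rw [if_pos hm, if_pos hm, map_one, one_mul, hs3 ψ hm]
    · rw [if_neg hm, if_neg hm, map_zero]
      simp
  simp only [Pi.smul_apply, smul_eq_mul] at h1
  rw [Finset.sum_congr rfl (fun χ _ => hcoef χ), ← Finset.sum_mul] at h1
  obtain ⟨d, hd, hd1⟩ := irr_one_pos ψ.2
  have hψ1 : (ψ : N F → ℂ) 1 ≠ 0 := by
    rw [hd1]; exact_mod_cast hd.ne'
  have h3 := mul_right_cancel₀ hψ1 h1
  rw [← Nat.cast_sum] at h3
  exact_mod_cast h3.symm

open scoped Classical in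
/-- the main counting identity: `(q-1) #{ψ : ψ(1) = d} = #{χ non-split, χ(1) = d} + 4 #{χ split, χ(1) = 2d}` -/
theorem card_degree_N (hε : QuadData ε) (d : ℂ) :
    Fintype.card Fˣ * (Finset.univ.filter (fun ψ : IrrN => (ψ : N F → ℂ) 1 = d)).card =
      ∑ χ : Irr2, (if (χ : GL (Fin 2) F → ℂ) 1 = (cnum ε χ : ℂ) * d then cnum ε χ * cnum ε χ else 0) := by
  have h1 : Fintype.card Fˣ * (Finset.univ.filter (fun ψ : IrrN => (ψ : N F → ℂ) 1 = d)).card =
      ∑ ψ ∈ Finset.univ.filter (fun ψ : IrrN => (ψ : N F → ℂ) 1 = d),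
        ∑ χ : Irr2, (if ψ ∈ cons χ then cnum ε χ else 0) := by
    rw [Finset.sum_congr rfl (fun ψ _ => sum_cnum_over hε ψ), Finset.sum_const, smul_eq_mul, mul_comm]
  rw [h1, Finset.sum_comm]
  apply Finset.sum_congr rfl
  intro χ _
  obtain ⟨-, hs2, hs3⟩ := cons_spec hε χ
  have hc0 : (cnum ε χ : ℂ) ≠ 0 := by
    unfold cnum
    split_ifs <;> norm_num
  rw [← Finset.sum_filter, Finset.sum_const, smul_eq_mul]
  by_cases hd : (χ : GL (Fin 2) F → ℂ) 1 = (cnum ε χ : ℂ) * d
  · rw [if_pos hd]
    congr 1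
    rw [← hs2]
    congr 1
    ext ψ
    simp only [Finset.mem_filter, Finset.mem_univ, true_and]
    constructor
    · exact fun h => h.2
    · intro h
      refine ⟨?_, h⟩
      have := hs3 ψ h
      rw [hd] at this
      exact mul_left_cancel₀ hc0 this
  · rw [if_neg hd]
    have : (Finset.univ.filter (fun ψ : IrrN => (ψ : N F → ℂ) 1 = d)).filter (fun ψ => ψ ∈ cons χ) = ∅ := by
      ext ψ
      simp only [Finset.mem_filter, Finset.mem_univ, true_and, Finset.notMem_empty, iff_false]
      rintro ⟨h1, h2⟩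
      apply hd
      rw [← hs3 ψ h2, h1]
    rw [this]
    simp

end Cfsg.Agent.Helper38
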