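import Mathlib
import Cfsg.Agent.Lib.Helper38.SL2OddCount

set_option autoImplicit false
set_option linter.unusedSectionVars false

/-! Which irreducible characters of `GL₂(F)` are fixed by the quadratic twist, family by family. -/

namespace Cfsg.Agent.Helper38

open Matrix Cfsg
open Cfsg.Agent.Helper81
open Cfsg.Agent.Helper3 (fintypeIrr)
open scoped ComplexConjugate

variable {F : Type*} [Field F] [Fintype F] [DecidableEq F]

local notation "Irr2" => IrrCharacter (GL (Fin 2) F)

variable {ε : MulChar F ℂ}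

/-- the split predicate -/
abbrev Split (ε : MulChar F ℂ) (χ : Irr2) : Prop := (χ : GL (Fin 2) F → ℂ) * lin ε = χ

lemma mul_ne_self (hε : ε ≠ 1) (α : MulChar F ℂ) : α * ε ≠ α := by
  intro h
  apply hε
  have : α * ε = α * 1 := by rw [h, mul_one]
  exact mul_left_cancel this

lemma not_split_SA (hε : ε ≠ 1) (χ : Irr2) (hχ : χ ∈ SA F) : ¬ Split ε χ := by
  unfold SA at hχ
  obtain ⟨α, -, rfl⟩ := Finset.mem_image.mp hχ
  intro h
  change lin α * lin ε = lin α at h
  rw [lin_mul_lin] at h
  exact mul_ne_self hε α (lin_injective h)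

lemma not_split_SS (hε : ε ≠ 1) (χ : Irr2) (hχ : χ ∈ SS F) : ¬ Split ε χ := by
  unfold SS at hχ
  obtain ⟨α, -, rfl⟩ := Finset.mem_image.mp hχ
  intro h
  change stein α * lin ε = stein α at h
  rw [stein_mul_lin] at h
  exact mul_ne_self hε α (stein_injective h)

lemma split_irrPS_iff (hε : ε ≠ 1) (hε2 : ε ^ 2 = 1) (x : MulChar F ℂ × MulChar F ℂ) (hx : x.1 ≠ x.2) :
    Split ε (irrPS x) ↔ x.2 = x.1 * ε := by
  unfold Split
  rw [irrPS_val x hx, ind_mul_lin, ind_eq_iff]
  constructor
  · rintro (⟨h1, -⟩ | ⟨h1, -⟩)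
    · exact absurd h1 (mul_ne_self hε _)
    · exact h1.symm
  · intro h
    right
    refine ⟨h.symm, ?_⟩
    rw [h, mul_assoc, ← pow_two, hε2, mul_one]

open scoped Classical in
/-- half of the principal series characters with `β = αε` -/
theorem card_split_SP (hε : ε ≠ 1) (hε2 : ε ^ 2 = 1) :
    2 * ((SP F).filter (Split ε)).card = Fintype.card Fˣ := by
  have h0 := sum_SP_eq (F := F) (fun χ => if Split ε χ then (1 : ℂ) else 0)
  beta_reduce at h0
  rw [← Finset.sum_filter, ← Finset.sum_filter, Finset.sum_const, Finset.sum_const] at h0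
  simp only [nsmul_eq_mul, mul_one] at h0
  have h1 : ((Finset.univ : Finset (MulChar F ℂ)).offDiag.filter (fun x => Split ε (irrPS x))) =
      (Finset.univ : Finset (MulChar F ℂ)).image (fun α => (α, α * ε)) := by
    ext x
    simp only [Finset.mem_filter, Finset.mem_offDiag, Finset.mem_univ, true_and, Finset.mem_image]
    constructor
    · rintro ⟨hx, hs⟩
      exact ⟨x.1, Prod.ext rfl ((split_irrPS_iff hε hε2 x hx).mp hs).symm⟩
    · rintro ⟨α, rfl⟩
      have hne : α ≠ α * ε := fun h => mul_ne_self hε α h.symm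
      exact ⟨hne, (split_irrPS_iff hε hε2 (α, α * ε) hne).mpr rfl⟩
  rw [h1, Finset.card_image_of_injective _ (fun a b h => congrArg Prod.fst h), Finset.card_univ,
    card_mulChar] at h0
  exact_mod_cast h0.symm

open scoped Classical in
theorem card_split_SC (hε : ε ≠ 1) (hε2 : ε ^ 2 = 1) :
    ((SC F).filter (Split ε)).card + ((SP F).filter (Split ε)).card = Fintype.card Fˣ := by
  have h := card_twist_fixed (F := F) hε hε2
  have h1 : (Finset.univ.filter (fun χ : Irr2 => (χ : GL (Fin 2) F → ℂ) * lin ε = χ)).card =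
      Fintype.card Fˣ := by exact_mod_cast h
  rw [Finset.card_filter, sum_split' (F := F)] at h1
  have e1 : ∑ χ ∈ SA F, (if (χ : GL (Fin 2) F → ℂ) * lin ε = χ then 1 else 0) = 0 := by
    apply Finset.sum_eq_zero
    intro χ hχ
    exact if_neg (not_split_SA hε χ hχ)
  have e2 : ∑ χ ∈ SS F, (if (χ : GL (Fin 2) F → ℂ) * lin ε = χ then 1 else 0) = 0 := by
    apply Finset.sum_eq_zero
    intro χ hχ
    exact if_neg (not_split_SS hε χ hχ)
  rw [e1, e2, zero_add, zero_add, ← Finset.card_filter, ← Finset.card_filter] at h1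
  rw [add_comm]
  exact h1

end Cfsg.Agent.Helper38
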