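import Mathlib
import Cfsg.Agent.Lib.Helper38.SL2OddFam

set_option autoImplicit false
set_option linter.unusedSectionVars false

/-! The degrees of the irreducible characters of `SL₂(F)`, `q` odd: counting. -/

namespace Cfsg.Agent.Helper38

open Matrix Cfsg
open Cfsg.Agent.Helper81
open Cfsg.Agent.Helper3 (fintypeIrr)
open scoped ComplexConjugate

variable {F : Type*} [Field F] [Fintype F] [DecidableEq F] [Fintype (N F)]

local notation "Irr2" => IrrCharacter (GL (Fin 2) F)
local notation "IrrN" => IrrCharacter (N F)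

variable {ε : MulChar F ℂ}

open scoped Classical in
/-- the counting identity with natural-number degrees -/
theorem card_degree_N_nat (hε : QuadData ε) (k : ℕ) :
    Fintype.card Fˣ * (Finset.univ.filter (fun ψ : IrrN => (ψ : N F → ℂ) 1 = (k : ℂ))).card =
      ∑ χ : Irr2, (if deg χ = cnum ε χ * k then cnum ε χ * cnum ε χ else 0) := by
  rw [card_degree_N hε]
  apply Finset.sum_congr rfl
  intro χ _
  have : ((χ : GL (Fin 2) F → ℂ) 1 = (cnum ε χ : ℂ) * (k : ℂ)) ↔ deg χ = cnum ε χ * k := by
    rw [deg_spec]
    constructor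
    · intro h; exact_mod_cast h
    · intro h; rw [h]; push_cast; ring
  simp only [this]

open scoped Classical in
/-- contribution of a family of constant degree -/
lemma sum_family (S : Finset Irr2) (K : ℕ) (hK : ∀ χ ∈ S, deg χ = K) (k : ℕ) :
    ∑ χ ∈ S, (if deg χ = cnum ε χ * k then cnum ε χ * cnum ε χ else 0) =
      (if K = 2 * k then 4 * (S.filter (Split ε)).card else 0) +
      (if K = k then (S.filter (fun χ => ¬ Split ε χ)).card else 0) := by
  rw [← Finset.sum_filter_add_sum_filter_not S (Split ε)]
  congr 1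
  · have : ∀ χ ∈ S.filter (Split ε), (if deg χ = cnum ε χ * k then cnum ε χ * cnum ε χ else 0) =
        if K = 2 * k then 4 else 0 := by
      intro χ hχ
      obtain ⟨h1, h2⟩ := Finset.mem_filter.mp hχ
      have hc : cnum ε χ = 2 := by unfold cnum; exact if_pos h2
      rw [hc, hK χ h1]
    rw [Finset.sum_congr rfl this, Finset.sum_const, smul_eq_mul]
    split_ifs <;> ring
  · have : ∀ χ ∈ S.filter (fun χ => ¬ Split ε χ),
        (if deg χ = cnum ε χ * k then cnum ε χ * cnum ε χ else 0) = if K = k then 1 else 0 := by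
      intro χ hχ
      obtain ⟨h1, h2⟩ := Finset.mem_filter.mp hχ
      have hc : cnum ε χ = 1 := by unfold cnum; exact if_neg h2
      rw [hc, hK χ h1, one_mul]
    rw [Finset.sum_congr rfl this, Finset.sum_const, smul_eq_mul]
    split_ifs <;> ring

open scoped Classical in
lemma filter_split_eq_empty (S : Finset Irr2) (h : ∀ χ ∈ S, ¬ Split ε χ) :
    (S.filter (Split ε)).card = 0 ∧ (S.filter (fun χ => ¬ Split ε χ)).card = S.card := by
  constructor
  · rw [Finset.card_eq_zero, Finset.filter_eq_empty_iff]
    exact h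
  · rw [Finset.filter_true_of_mem h]

open scoped Classical in
/-- the full counting formula -/
theorem card_degree_formula (hε : QuadData ε) (k : ℕ) :
    ∃ sP uP sC uC : ℕ, 2 * sP = Fintype.card Fˣ ∧ sP + uP = (SP F).card ∧
      sC + sP = Fintype.card Fˣ ∧ sC + uC = (SC F).card ∧
      Fintype.card Fˣ * (Finset.univ.filter (fun ψ : IrrN => (ψ : N F → ℂ) 1 = (k : ℂ))).card =
        (if 1 = k then Fintype.card Fˣ else 0) +
        (if Fintype.card Fˣ + 1 = k then Fintype.card Fˣ else 0) +
        ((if Fintype.card Fˣ + 2 = 2 * k then 4 * sP else 0) + (if Fintype.card Fˣ + 2 = k then uP else 0)) +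
        ((if Fintype.card Fˣ = 2 * k then 4 * sC else 0) + (if Fintype.card Fˣ = k then uC else 0)) := by
  refine ⟨((SP F).filter (Split ε)).card, ((SP F).filter (fun χ => ¬ Split ε χ)).card,
    ((SC F).filter (Split ε)).card, ((SC F).filter (fun χ => ¬ Split ε χ)).card,
    card_split_SP hε.ne_one hε.sq, Finset.card_filter_add_card_filter_not _,
    card_split_SC hε.ne_one hε.sq, Finset.card_filter_add_card_filter_not _, ?_⟩
  rw [card_degree_N_nat hε, sum_split' (F := F),
    sum_family (SA F) 1 deg_SA, sum_family (SS F) (Fintype.card Fˣ + 1) deg_SS,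
    sum_family (SP F) (Fintype.card Fˣ + 2) deg_SP, sum_family (SC F) (Fintype.card Fˣ) deg_SC]
  obtain ⟨a1, a2⟩ := filter_split_eq_empty (ε := ε) (SA F) (not_split_SA hε.ne_one)
  obtain ⟨b1, b2⟩ := filter_split_eq_empty (ε := ε) (SS F) (not_split_SS hε.ne_one)
  rw [a1, a2, b1, b2, card_SA, card_SS]
  simp only [mul_zero, ite_self, zero_add]

end Cfsg.Agent.Helper38
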