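import Mathlib
import Cfsg.Agent.Lib.Helper38.SL2OddMain
import Cfsg.Agent.S2300

set_option autoImplicit false
set_option linter.unusedSectionVars false

/-! Every irreducible character of `SL₂(F)` (as `ker det`) lies under an irreducible character of
`GL₂(F)`; the structure of the restriction. -/

namespace Cfsg.Agent.Helper38

open Matrix Cfsg
open Cfsg.Agent.Helper81
open Cfsg.Agent.Helper3 (fintypeIrr)
open scoped ComplexConjugate

variable {F : Type*} [Field F] [Fintype F] [DecidableEq F] [Fintype (N F)]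

local notation "Irr2" => IrrCharacter (GL (Fin 2) F)
local notation "IrrN" => IrrCharacter (N F)

lemma normal_N : (N F).Normal := MonoidHom.normal_ker _

/-- split characters restrict to a sum of two distinct conjugate irreducible characters -/
theorem res_split' {ε : MulChar F ℂ} (hε1 : ε ≠ 1)
    (hε : ∀ α : MulChar F ℂ, α ^ 2 = 1 → α = 1 ∨ α = ε)
    {χ : GL (Fin 2) F → ℂ} (hχ : IsIrrCharacter (GL (Fin 2) F) χ) (hs : χ * lin ε = χ) :
    ∃ ψ₁ ψ₂ : N F → ℂ, IsIrrCharacter (N F) ψ₁ ∧ IsIrrCharacter (N F) ψ₂ ∧ ψ₁ ≠ ψ₂ ∧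
      (fun n : N F => χ n) = ψ₁ + ψ₂ ∧ ∃ g : GL (Fin 2) F, ψ₂ = conjFun (N F) normal_N ψ₁ g := by
  have hnorm : classInner (fun n : N F => χ n) (fun n : N F => χ n) = 2 := by
    rw [norm_res hε1 hε hχ, if_pos hs]; norm_num
  obtain ⟨ψ₁, ψ₂, h₁, h₂, hne, hsum⟩ := exists_two_irr_of_classInner_eq_two
    (isCharacter_restrict _ (IsIrrCharacter.isCharacter hχ)) hnorm
  refine ⟨ψ₁, ψ₂, h₁, h₂, hne, hsum, ?_⟩
  have hin1 : classInner (fun n : N F => χ n) ψ₁ ≠ 0 := by
    rw [hsum, classInner_add_left, irr_orthonormal h₁ h₁, irr_orthonormal h₂ h₁, if_pos rfl,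
      if_neg (Ne.symm hne)]
    norm_num
  have hin2 : classInner (fun n : N F => χ n) ψ₂ ≠ 0 := by
    rw [hsum, classInner_add_left, irr_orthonormal h₁ h₂, irr_orthonormal h₂ h₂, if_pos rfl,
      if_neg hne]
    norm_num
  by_contra hnc
  exact hin2 (clifford_not_conj (N F) normal_N hχ h₁ h₂ hin1 hnc)

lemma conjFun_inv (ψ ψ' : N F → ℂ) (g : GL (Fin 2) F) (h : ψ' = conjFun (N F) normal_N ψ g) :
    ψ = conjFun (N F) normal_N ψ' g⁻¹ := by
  rw [h, conjFun_mul, mul_inv_cancel, conjFun_one]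

/-- every irreducible character of `ker det` lies under some irreducible character of `GL₂` -/
theorem exists_over {ψ : N F → ℂ} (hψ : IsIrrCharacter (N F) ψ) :
    ∃ χ : GL (Fin 2) F → ℂ, IsIrrCharacter (GL (Fin 2) F) χ ∧
      classInner (fun n : N F => χ n) ψ ≠ 0 := by
  classical
  have hexp := class_function_expansion (indFun_isClassFunction (N F) ψ)
  have h1 := congrFun hexp 1
  rw [indFun_one, Finset.sum_apply] at h1
  by_contra hcon
  push Not at hcon
  have hz : ∀ χ : Irr2, classInner (indFun (N F) ψ) (χ : GL (Fin 2) F → ℂ) = 0 := by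
    intro χ
    rw [frobenius_reciprocity (N F) ψ
      (isClassFunction_of_isCharacter (IsIrrCharacter.isCharacter χ.2))]
    have h2 := hcon χ χ.2
    have h3 := classInner_conj_symm (fun n : N F => (χ : GL (Fin 2) F → ℂ) n) ψ
    rw [h2] at h3
    rw [h3]
    simp
  rw [Finset.sum_eq_zero (fun χ _ => by rw [Pi.smul_apply, hz χ, zero_smul])] at h1
  obtain ⟨k, hk, hk1⟩ := irr_one_pos hψ
  rw [hk1] at h1
  have hidx : ((N F).index : ℂ) ≠ 0 := by
    have : (N F).index ≠ 0 := Subgroup.index_ne_zero_of_finite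
    exact_mod_cast this
  have hk0 : (k : ℂ) ≠ 0 := by exact_mod_cast hk.ne'
  exact mul_ne_zero hidx hk0 h1

/-- structure of the restriction of the character lying over `ψ` -/
theorem over_cases {ψ : N F → ℂ} (hψ : IsIrrCharacter (N F) ψ) :
    ∃ χ : GL (Fin 2) F → ℂ, IsIrrCharacter (GL (Fin 2) F) χ ∧
      ((fun n : N F => χ n) = ψ ∨
        (Odd (Fintype.card F) ∧ ∃ ε : MulChar F ℂ, QuadData ε ∧ χ * lin ε = χ ∧
          ∃ ψ' : N F → ℂ, IsIrrCharacter (N F) ψ' ∧ ψ ≠ ψ' ∧ (fun n : N F => χ n) = ψ + ψ' ∧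
            ∃ g : GL (Fin 2) F, ψ' = conjFun (N F) normal_N ψ g)) := by
  classical
  rcases Nat.even_or_odd (Fintype.card F) with heven | hodd
  · have h2 : ringChar F = 2 := by
      rw [FiniteField.even_card_iff_char_two]
      exact Nat.even_iff.mp heven
    have : CharP F 2 := ringChar.of_eq h2
    obtain ⟨χ, hχ, hres⟩ := exists_restrict_of_central_prod (N F) sc
      Cfsg.Agent.S2300.sc_mem_center Cfsg.Agent.S2300.Ψ_bijective hψ
    exact ⟨χ, hχ, Or.inl hres⟩
  · obtain ⟨ε, hε1, hε2, hε3⟩ := exists_quadratic hodd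
    have hε : QuadData ε := ⟨hε1, hε2, hε3⟩
    obtain ⟨χ, hχ, hin⟩ := exists_over hψ
    refine ⟨χ, hχ, ?_⟩
    by_cases hs : χ * lin ε = χ
    · right
      refine ⟨hodd, ε, hε, hs, ?_⟩
      obtain ⟨ψ₁, ψ₂, h₁, h₂, hne, hsum, g, hg⟩ := res_split' hε1 hε3 hχ hs
      rw [hsum, classInner_add_left, irr_orthonormal h₁ hψ, irr_orthonormal h₂ hψ] at hin
      by_cases e1 : ψ₁ = ψ
      · subst e1
        exact ⟨ψ₂, h₂, hne, hsum, g, hg⟩
      · by_cases e2 : ψ₂ = ψ
        · subst e2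
          refine ⟨ψ₁, h₁, Ne.symm hne, by rw [hsum, add_comm], g⁻¹, conjFun_inv _ _ g hg⟩
        · rw [if_neg e1, if_neg e2] at hin
          simp at hin
    · left
      have h₀ := res_irr_of_not_split hε1 hε3 hχ hs
      rw [irr_orthonormal h₀ hψ] at hin
      by_contra hne
      rw [if_neg hne] at hin
      exact hin rfl

/-- the version for `SL₂` itself -/
theorem over_SL2 {χ : Matrix.SpecialLinearGroup (Fin 2) F → ℂ}
    (hχ : IsIrrCharacter (Matrix.SpecialLinearGroup (Fin 2) F) χ) :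
    ∃ X : GL (Fin 2) F → ℂ, IsIrrCharacter (GL (Fin 2) F) X ∧
      ((∀ s : Matrix.SpecialLinearGroup (Fin 2) F, X (Matrix.SpecialLinearGroup.toGL s) = χ s) ∨
        (Odd (Fintype.card F) ∧ ∃ ε : MulChar F ℂ, QuadData ε ∧ X * lin ε = X ∧
          ∃ χ' : Matrix.SpecialLinearGroup (Fin 2) F → ℂ,
            IsIrrCharacter (Matrix.SpecialLinearGroup (Fin 2) F) χ' ∧ χ ≠ χ' ∧
            (∀ s : Matrix.SpecialLinearGroup (Fin 2) F,
              X (Matrix.SpecialLinearGroup.toGL s) = χ s + χ' s) ∧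
            ∃ g : GL (Fin 2) F, ∀ s s' : Matrix.SpecialLinearGroup (Fin 2) F,
              Matrix.SpecialLinearGroup.toGL s' = g * Matrix.SpecialLinearGroup.toGL s * g⁻¹ →
                χ' s = χ s')) := by
  have hψ : IsIrrCharacter (N F) (fun n => χ (ι.symm n)) := isIrrCharacter_comp_equiv ι.symm hχ
  obtain ⟨X, hX, h⟩ := over_cases hψ
  refine ⟨X, hX, ?_⟩
  rcases h with h | ⟨hodd, ε, hε, hs, ψ', hψ', hne, hsum, g, hg⟩
  · left
    intro s
    have := congrFun h (ι s)
    simpa [ι_coe] using this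
  · right
    refine ⟨hodd, ε, hε, hs, fun s => ψ' (ι s), isIrrCharacter_comp_equiv ι hψ', ?_, ?_, g, ?_⟩
    · intro he
      apply hne
      funext n
      have := congrFun he (ι.symm n)
      simpa using this
    · intro s
      have := congrFun hsum (ι s)
      simpa [ι_coe] using this
    · intro s s' hss
      rw [hg]
      simp only [conjFun_apply]
      congr 1
      apply ι.injective
      rw [MulEquiv.apply_symm_apply]
      apply Subtype.ext
      change g * ((ι s : N F) : GL (Fin 2) F) * g⁻¹ = ((ι s' : N F) : GL (Fin 2) F)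
      rw [ι_coe, ι_coe, hss]

end Cfsg.Agent.Helper38
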