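import Mathlib
import Cfsg.Agent.Lib.Helper38.SL2Over

set_option autoImplicit false
set_option linter.unusedSectionVars false

/-! The quadratic character, and conjugation of characters of `SL₂` by elements of `GL₂`. -/

namespace Cfsg.Agent.Helper38

open Matrix Cfsg
open Cfsg.Agent.Helper81
open Cfsg.Agent.S2305 (dg dg00 dg01 dg10 dg11)
open scoped ComplexConjugate

variable {F : Type*} [Field F] [Fintype F] [DecidableEq F]

/-- the concrete quadratic character with complex values -/
noncomputable def qc (F : Type*) [Field F] [Fintype F] [DecidableEq F] : MulChar F ℂ :=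
  (quadraticChar F).ringHomComp (Int.castRingHom ℂ)

lemma qc_apply (a : F) : qc F a = ((quadraticChar F a : ℤ) : ℂ) := rfl

lemma qc_sq : (qc F) ^ 2 = 1 := by
  ext a
  rw [MulChar.pow_apply_coe, qc_apply, MulChar.one_apply_coe]
  have := quadraticChar_sq_one (F := F) a.ne_zero
  exact_mod_cast this

lemma ringChar_ne_two (hodd : Odd (Fintype.card F)) : ringChar F ≠ 2 := by
  intro h
  rw [FiniteField.even_card_iff_char_two] at h
  have := Nat.odd_iff.mp hodd
  omega

lemma qc_ne_one (hodd : Odd (Fintype.card F)) : qc F ≠ 1 := by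
  intro h
  obtain ⟨a, ha⟩ := quadraticChar_exists_neg_one' (F := F) (ringChar_ne_two hodd)
  have h1 := congrArg (fun χ : MulChar F ℂ => χ a) h
  simp only [qc_apply, ha, MulChar.one_apply_coe] at h1
  norm_num at h1

variable {ε : MulChar F ℂ}

lemma quad_eq_qc (hodd : Odd (Fintype.card F)) (hε : QuadData ε) : ε = qc F := by
  rcases hε.uniq (qc F) qc_sq with h | h
  · exact absurd h (qc_ne_one hodd)
  · exact h.symm

lemma quad_cases (hε : QuadData ε) (a : Fˣ) : ε a = 1 ∨ ε a = -1 := by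
  have h := congrArg (fun χ : MulChar F ℂ => χ a) hε.sq
  simp only [MulChar.pow_apply_coe, MulChar.one_apply_coe] at h
  have : (ε a - 1) * (ε a + 1) = 0 := by linear_combination h
  rcases mul_eq_zero.mp this with h1 | h1
  · left; linear_combination h1
  · right; linear_combination h1

lemma exists_nonsquare (hε : QuadData ε) : ∃ c : Fˣ, ε c = -1 := by
  by_contra hcon
  push Not at hcon
  apply hε.ne_one
  ext a
  rw [MulChar.one_apply_coe]
  rcases quad_cases hε a with h | h
  · exact h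
  · exact absurd h (hcon a)

lemma sq_of_quad_eq_one (hodd : Odd (Fintype.card F)) (hε : QuadData ε) (a : Fˣ) (h : ε a = 1) :
    ∃ s : Fˣ, a = s * s := by
  rw [quad_eq_qc hodd hε, qc_apply] at h
  have h1 : quadraticChar F (a : F) = 1 := by exact_mod_cast h
  rw [quadraticChar_one_iff_isSquare a.ne_zero] at h1
  obtain ⟨r, hr⟩ := h1
  have hr0 : r ≠ 0 := by
    intro h0
    rw [h0, mul_zero] at hr
    exact a.ne_zero hr
  refine ⟨Units.mk0 r hr0, ?_⟩
  apply Units.ext
  simp only [Units.val_mul, Units.val_mk0]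
  exact hr

lemma quad_neg_one (hodd : Odd (Fintype.card F)) (hε : QuadData ε) :
    ε ((-1 : Fˣ) : F) = (-1 : ℂ) ^ ((Fintype.card F - 1) / 2) := by
  rw [quad_eq_qc hodd hε, qc_apply]
  have h : ((-1 : Fˣ) : F) = -1 := by simp
  rw [h, quadraticChar_neg_one (ringChar_ne_two hodd),
    ZMod.χ₄_eq_neg_one_pow (Nat.odd_iff.mp hodd)]
  have : Fintype.card F / 2 = (Fintype.card F - 1) / 2 := by
    obtain ⟨k, hk⟩ := hodd
    omega
  rw [this]
  push_cast
  rfl

lemma det_sc' (z : Fˣ) : Matrix.GeneralLinearGroup.det (sc z : GL (Fin 2) F) = z * z := by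
  apply Units.ext
  rw [det_coe, sc_coe]
  simp

section conjugation

variable [Fintype (N F)]

/-- conjugation by an element of square determinant fixes the class functions of `SL₂` -/
lemma conjFun_of_sq {ψ : N F → ℂ} (hψ : IsClassFunction (N F) ψ) (h : GL (Fin 2) F) (s : Fˣ)
    (hs : Matrix.GeneralLinearGroup.det h = s * s) : conjFun (N F) normal_N ψ h = ψ := by
  have hm : (sc s)⁻¹ * h ∈ N F := by
    rw [MonoidHom.mem_ker, map_mul, map_inv, det_sc', hs, inv_mul_cancel]
  funext n
  rw [conjFun_apply]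
  have := hψ n ⟨(sc s)⁻¹ * h, hm⟩
  rw [← this]
  congr 1
  apply Subtype.ext
  simp only [Subgroup.coe_mul, Subgroup.coe_inv, _root_.mul_inv_rev, inv_inv]
  have h1 := sc_comm s ((n : GL (Fin 2) F) * h⁻¹)
  calc h * ↑n * h⁻¹ = (sc s)⁻¹ * (sc s * (h * (↑n * h⁻¹))) := by group
    _ = (sc s)⁻¹ * (h * (↑n * h⁻¹) * sc s) := by rw [sc_comm s]
    _ = (sc s)⁻¹ * h * ↑n * (h⁻¹ * sc s) := by group

lemma lin_inv (α : MulChar F ℂ) (g : GL (Fin 2) F) : lin α g⁻¹ * lin α g = 1 := by
  rw [← lin_mul, inv_mul_cancel, lin_one]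

/-- conjugation by an element on which `ε ∘ det` is trivial fixes class functions -/
lemma conjFun_of_lin_one (hodd : Odd (Fintype.card F)) (hε : QuadData ε) {ψ : N F → ℂ}
    (hψ : IsClassFunction (N F) ψ) (h : GL (Fin 2) F) (hh : lin ε h = 1) :
    conjFun (N F) normal_N ψ h = ψ := by
  obtain ⟨s, hs⟩ := sq_of_quad_eq_one hodd hε _ hh
  exact conjFun_of_sq hψ h s hs

/-- the two constituents are swapped by every element of non-square determinant -/
theorem conj_swap (hodd : Odd (Fintype.card F)) (hε : QuadData ε) {ψ ψ' : N F → ℂ}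
    (hψ : IsClassFunction (N F) ψ) (hψ' : IsClassFunction (N F) ψ') (hne : ψ ≠ ψ')
    (g : GL (Fin 2) F) (hg : ψ' = conjFun (N F) normal_N ψ g) (t : GL (Fin 2) F)
    (ht : lin ε t = -1) :
    conjFun (N F) normal_N ψ t = ψ' ∧ conjFun (N F) normal_N ψ' t = ψ := by
  have hgε : lin ε g = -1 := by
    have hc : lin ε g = 1 ∨ lin ε g = -1 := quad_cases hε _
    rcases hc with h | h
    · exfalso
      apply hne
      rw [hg, conjFun_of_lin_one hodd hε hψ g h]
    · exact h
  constructor
  · have h1 : lin ε (g⁻¹ * t) = 1 := by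
      rw [lin_mul, ht]
      have := lin_inv ε g
      rw [hgε] at this
      linear_combination this
    have h2 := conjFun_of_lin_one hodd hε hψ' (g⁻¹ * t) h1
    rw [hg, conjFun_mul, mul_inv_cancel_left] at h2
    rw [h2, hg]
  · have h1 : lin ε (g * t) = 1 := by
      rw [lin_mul, ht, hgε]; norm_num
    have h2 := conjFun_of_lin_one hodd hε hψ (g * t) h1
    rw [hg, conjFun_mul, h2]

end conjugation

section elliptic

/-- an element without eigenvectors has no root of its characteristic polynomial -/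
lemma no_root_of_elliptic (g : Matrix (Fin 2) (Fin 2) F)
    (hE : ∀ (c : F) (v : Fin 2 → F), v ≠ 0 → g.mulVec v ≠ c • v) (l : F) :
    l ^ 2 - (g 0 0 + g 1 1) * l + (g 0 0 * g 1 1 - g 0 1 * g 1 0) ≠ 0 := by
  intro h
  by_cases h1 : g 0 1 ≠ 0 ∨ l - g 0 0 ≠ 0
  · apply Cfsg.Agent.S2308.eig_contra g hE l (g 0 1) (l - g 0 0) h1
    · ring
    · linear_combination -h
  · by_cases h2 : l - g 1 1 ≠ 0 ∨ g 1 0 ≠ 0
    · apply Cfsg.Agent.S2308.eig_contra g hE l (l - g 1 1) (g 1 0) h2
      · linear_combination -h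
      · ring
    · push Not at h1 h2
      apply Cfsg.Agent.S2308.eig_contra g hE l 1 0 (Or.inl one_ne_zero)
      · have := h1.2
        linear_combination -this
      · rw [h2.2]; ring

/-- the centralizer of an element without eigenvectors contains elements of every determinant -/
theorem exists_comm_det (hodd : Odd (Fintype.card F)) (g : GL (Fin 2) F)
    (hdet : Matrix.GeneralLinearGroup.det g = 1)
    (hE : ∀ (c : F) (v : Fin 2 → F), v ≠ 0 → (g : Matrix (Fin 2) (Fin 2) F).mulVec v ≠ c • v)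
    (c : Fˣ) : ∃ t : GL (Fin 2) F, t * g = g * t ∧ Matrix.GeneralLinearGroup.det t = c := by
  have h2 : (2 : F) ≠ 0 := Ring.two_ne_zero (ringChar_ne_two hodd)
  have h4 : (4 : F) ≠ 0 := by
    have : (4 : F) = 2 * 2 := by norm_num
    rw [this]; exact mul_ne_zero h2 h2
  have hd : (g : Matrix (Fin 2) (Fin 2) F) 0 0 * (g : Matrix (Fin 2) (Fin 2) F) 1 1 -
      (g : Matrix (Fin 2) (Fin 2) F) 0 1 * (g : Matrix (Fin 2) (Fin 2) F) 1 0 = 1 := by
    rw [← det_coe, hdet]; simp
  set τ : F := (g : Matrix (Fin 2) (Fin 2) F) 0 0 + (g : Matrix (Fin 2) (Fin 2) F) 1 1 with hτ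
  set D : F := 1 - τ ^ 2 / 4 with hD
  have hD0 : D ≠ 0 := by
    intro h0
    apply no_root_of_elliptic _ hE (τ / 2)
    rw [hd, ← hτ]
    rw [hD] at h0
    field_simp
    field_simp at h0
    linear_combination h0
  have hf : (Polynomial.X ^ 2 - Polynomial.C (c : F) : Polynomial F).degree = 2 := by
    rw [Polynomial.degree_sub_C (by rw [Polynomial.degree_X_pow]; norm_num), Polynomial.degree_X_pow]
    rfl
  have hg : (Polynomial.C D * Polynomial.X ^ 2 : Polynomial F).degree = 2 := by
    rw [Polynomial.degree_C_mul hD0, Polynomial.degree_X_pow]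
    rfl
  obtain ⟨a, b, hab⟩ := FiniteField.exists_root_sum_quadratic hf hg (Nat.odd_iff.mp hodd)
  simp only [Polynomial.eval_sub, Polynomial.eval_pow, Polynomial.eval_X, Polynomial.eval_C,
    Polynomial.eval_mul] at hab
  set x : F := a - τ * b / 2 with hx
  have hdet_t : (x + b * (g : Matrix (Fin 2) (Fin 2) F) 0 0) * (x + b * (g : Matrix (Fin 2) (Fin 2) F) 1 1) -
      (b * (g : Matrix (Fin 2) (Fin 2) F) 0 1) * (b * (g : Matrix (Fin 2) (Fin 2) F) 1 0) = c := by
    have e1 : (x + b * (g : Matrix (Fin 2) (Fin 2) F) 0 0) * (x + b * (g : Matrix (Fin 2) (Fin 2) F) 1 1) -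
      (b * (g : Matrix (Fin 2) (Fin 2) F) 0 1) * (b * (g : Matrix (Fin 2) (Fin 2) F) 1 0) =
        x ^ 2 + τ * x * b + b ^ 2 := by
      rw [hτ]
      linear_combination b ^ 2 * hd
    rw [e1, hx]
    rw [hD] at hab
    field_simp
    field_simp at hab
    linear_combination hab
  let t : GL (Fin 2) F := Matrix.GeneralLinearGroup.mkOfDetNeZero
    !![x + b * (g : Matrix (Fin 2) (Fin 2) F) 0 0, b * (g : Matrix (Fin 2) (Fin 2) F) 0 1;
      b * (g : Matrix (Fin 2) (Fin 2) F) 1 0, x + b * (g : Matrix (Fin 2) (Fin 2) F) 1 1]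
    (by rw [Matrix.det_fin_two_of, hdet_t]; exact c.ne_zero)
  have ht : ((t : GL (Fin 2) F) : Matrix (Fin 2) (Fin 2) F) =
    !![x + b * (g : Matrix (Fin 2) (Fin 2) F) 0 0, b * (g : Matrix (Fin 2) (Fin 2) F) 0 1;
      b * (g : Matrix (Fin 2) (Fin 2) F) 1 0, x + b * (g : Matrix (Fin 2) (Fin 2) F) 1 1] := rfl
  refine ⟨t, ?_, ?_⟩
  · apply Matrix.GeneralLinearGroup.ext
    intro i j
    rw [Matrix.GeneralLinearGroup.coe_mul, Matrix.GeneralLinearGroup.coe_mul, ht]
    fin_cases i <;> fin_cases j <;> simp [Matrix.mul_apply, Fin.sum_univ_two] <;> ring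
  · apply Units.ext
    rw [det_coe, ht]
    simpa using hdet_t

end elliptic

end Cfsg.Agent.Helper38
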