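import Mathlib
import Cfsg.Agent.Lib.Helper38.SL2Conj

set_option autoImplicit false
set_option linter.unusedSectionVars false

/-! Summing conjugation-invariant functions over `SL₂(F)` inside `GL₂(F)`, `q` odd. -/

namespace Cfsg.Agent.Helper38

open Matrix Cfsg
open Cfsg.Agent.Helper81
open Cfsg.Agent.S2305 (dg dg00 dg01 dg10 dg11)
open scoped ComplexConjugate

variable {F : Type*} [Field F] [Fintype F] [DecidableEq F]

/-- an eigenvalue is a root of the characteristic polynomial -/
lemma root_of_eigen (g : Matrix (Fin 2) (Fin 2) F) (c : F) (v : Fin 2 → F) (hv : v ≠ 0)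
    (h : g.mulVec v = c • v) :
    c ^ 2 - (g 0 0 + g 1 1) * c + (g 0 0 * g 1 1 - g 0 1 * g 1 0) = 0 := by
  have e0 : g 0 0 * v 0 + g 0 1 * v 1 = c * v 0 := by
    have := congrFun h 0
    simpa [Matrix.mulVec, dotProduct, Fin.sum_univ_two] using this
  have e1 : g 1 0 * v 0 + g 1 1 * v 1 = c * v 1 := by
    have := congrFun h 1
    simpa [Matrix.mulVec, dotProduct, Fin.sum_univ_two] using this
  have p0 : (c ^ 2 - (g 0 0 + g 1 1) * c + (g 0 0 * g 1 1 - g 0 1 * g 1 0)) * v 0 = 0 := by
    linear_combination -(c - g 1 1) * e0 - g 0 1 * e1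
  have p1 : (c ^ 2 - (g 0 0 + g 1 1) * c + (g 0 0 * g 1 1 - g 0 1 * g 1 0)) * v 1 = 0 := by
    linear_combination -(c - g 0 0) * e1 - g 1 0 * e0
  by_contra hP
  apply hv
  funext i
  fin_cases i
  · exact (mul_eq_zero.mp p0).resolve_left hP
  · exact (mul_eq_zero.mp p1).resolve_left hP

lemma un_not_scalar (a b : Fˣ) : sc a * un 1 ≠ (sc b : GL (Fin 2) F) := by
  intro h
  have := congrArg (fun y : GL (Fin 2) F => (y : Matrix (Fin 2) (Fin 2) F) 0 1) h
  simp only [Matrix.GeneralLinearGroup.coe_mul, sc_coe, un_coe] at this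
  simp at this

lemma tr2_sc_un (a : Fˣ) : tr2 (sc a * un 1 : GL (Fin 2) F) = 2 * (a : F) := by
  unfold tr2
  simp only [Matrix.GeneralLinearGroup.coe_mul, sc_coe, un_coe]
  simp
  ring

lemma det_sc_un (a : Fˣ) :
    Matrix.GeneralLinearGroup.det (sc a * un 1 : GL (Fin 2) F) = a * a := by
  rw [map_mul, det_sc']
  have : Matrix.GeneralLinearGroup.det (un 1 : GL (Fin 2) F) = 1 := by
    apply Units.ext
    rw [det_coe, un_coe]
    simp
  rw [this, mul_one]

/-- non-scalar elements with the same trace and determinant are conjugate -/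
lemma isConj_of_tr_det (g h : GL (Fin 2) F) (hg : ¬ ∃ a : Fˣ, g = sc a) (hh : ¬ ∃ a : Fˣ, h = sc a)
    (htr : tr2 g = tr2 h)
    (hdet : Matrix.GeneralLinearGroup.det g = Matrix.GeneralLinearGroup.det h) : IsConj g h := by
  have h1 := (scalar_or_conj_cmp g).resolve_left hg
  have h2 := (scalar_or_conj_cmp h).resolve_left hh
  rw [htr, hdet] at h1
  exact h1.symm.trans h2

lemma dg_not_scalar (a d : Fˣ) (had : a ≠ d) : ¬ ∃ b : Fˣ, (dg a d : GL (Fin 2) F) = sc b := by
  rintro ⟨b, hb⟩
  have h0 := congrArg (fun y : GL (Fin 2) F => (y : Matrix (Fin 2) (Fin 2) F) 0 0) hb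
  have h1 := congrArg (fun y : GL (Fin 2) F => (y : Matrix (Fin 2) (Fin 2) F) 1 1) hb
  simp only [dg_coe, sc_coe] at h0 h1
  simp at h0 h1
  apply had
  apply Units.ext
  rw [h0, h1]

/-- the classification of the elements of determinant one -/
theorem N_cases (g : GL (Fin 2) F) (hdet : Matrix.GeneralLinearGroup.det g = 1) :
    g = 1 ∨ g = sc (-1) ∨ IsConj (un 1) g ∨ IsConj (sc (-1) * un 1) g ∨
      (∃ a d : Fˣ, a ≠ d ∧ a * d = 1 ∧ IsConj (dg a d) g) ∨
      (∀ (c : F) (v : Fin 2 → F), v ≠ 0 → (g : Matrix (Fin 2) (Fin 2) F).mulVec v ≠ c • v) := by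
  by_cases hsc : ∃ a : Fˣ, g = sc a
  · obtain ⟨a, rfl⟩ := hsc
    rw [det_sc'] at hdet
    have h1 : ((a : F) - 1) * ((a : F) + 1) = 0 := by
      have := congrArg Units.val hdet
      simp only [Units.val_mul, Units.val_one] at this
      linear_combination this
    rcases mul_eq_zero.mp h1 with h | h
    · left
      have : a = 1 := Units.ext (by simpa using sub_eq_zero.mp h)
      rw [this]
      apply Matrix.GeneralLinearGroup.ext
      intro i j
      rw [sc_coe]
      fin_cases i <;> fin_cases j <;> simp
    · right; left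
      have : a = -1 := Units.ext (by simpa using eq_neg_of_add_eq_zero_left h)
      rw [this]
  · by_cases hE : ∀ (c : F) (v : Fin 2 → F), v ≠ 0 → (g : Matrix (Fin 2) (Fin 2) F).mulVec v ≠ c • v
    · right; right; right; right; right; exact hE
    · push Not at hE
      obtain ⟨c, v, hv, hcv⟩ := hE
      have hroot := root_of_eigen _ c v hv hcv
      have hd : (g : Matrix (Fin 2) (Fin 2) F) 0 0 * (g : Matrix (Fin 2) (Fin 2) F) 1 1 -
          (g : Matrix (Fin 2) (Fin 2) F) 0 1 * (g : Matrix (Fin 2) (Fin 2) F) 1 0 = 1 := by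
        rw [← det_coe, hdet]; simp
      rw [hd] at hroot
      have hc0 : c ≠ 0 := by
        intro h0
        rw [h0] at hroot
        simp at hroot
      have htr : tr2 g = c + c⁻¹ := by
        unfold tr2
        field_simp
        linear_combination -hroot
      by_cases hc1 : c = 1
      · right; right; left
        apply isConj_of_tr_det
        · have := un_not_scalar (F := F) 1
          rintro ⟨b, hb⟩
          apply this b
          rw [← hb]
          have : (sc 1 : GL (Fin 2) F) = 1 := by
            apply Matrix.GeneralLinearGroup.ext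
            intro i j
            rw [sc_coe]
            fin_cases i <;> fin_cases j <;> simp
          rw [this, one_mul]
        · exact hsc
        · rw [htr, hc1]
          unfold tr2
          rw [un_coe]
          simp
        · rw [hdet]
          apply Units.ext
          rw [det_coe, un_coe]
          simp
      · by_cases hc2 : c = -1
        · right; right; right; left
          apply isConj_of_tr_det
          · rintro ⟨b, hb⟩
            exact un_not_scalar _ _ hb
          · exact hsc
          · rw [htr, hc2, tr2_sc_un]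
            simp
            norm_num
          · rw [hdet, det_sc_un]
            simp
        · right; right; right; right; left
          have hne : Units.mk0 c hc0 ≠ (Units.mk0 c hc0)⁻¹ := by
            intro h
            have := congrArg Units.val h
            simp only [Units.val_mk0, Units.val_inv_eq_inv_val] at this
            have h2 : (c - 1) * (c + 1) = 0 := by
              field_simp at this
              linear_combination this
            rcases mul_eq_zero.mp h2 with h | h
            · exact hc1 (sub_eq_zero.mp h)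
            · exact hc2 (eq_neg_of_add_eq_zero_left h)
          refine ⟨Units.mk0 c hc0, (Units.mk0 c hc0)⁻¹, hne, mul_inv_cancel _, ?_⟩
          apply isConj_of_tr_det
          · exact dg_not_scalar _ _ hne
          · exact hsc
          · rw [htr]
            unfold tr2
            rw [dg_coe]
            simp
          · rw [hdet, det_dg, mul_inv_cancel]

section classsize

open Cfsg.Agent.Helper3 (fintypeIrr)

local notation "Irr2" => IrrCharacter (GL (Fin 2) F)

/-- the centralizer of a transvection, by column orthogonality -/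
lemma card_centralizer_un :
    Nat.card (Subgroup.centralizer ({un 1} : Set (GL (Fin 2) F))) =
      Fintype.card Fˣ * (Fintype.card Fˣ + 1) := by
  have h := Cfsg.Agent.Helper3.column_orthogonality (un (1 : F)) (un 1)
  rw [if_pos (IsConj.refl _), sum_split'] at h
  have e1 : ∑ χ ∈ SA F, (χ : GL (Fin 2) F → ℂ) (un 1) * conj ((χ : GL (Fin 2) F → ℂ) (un 1)) =
      ((SA F).card : ℂ) := by
    rw [Finset.sum_congr rfl (g := fun _ => (1 : ℂ))]
    · simp
    · intro χ hχ
      unfold SA at hχ
      obtain ⟨α, -, rfl⟩ := Finset.mem_image.mp hχ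
      change lin α (un 1) * conj (lin α (un 1)) = 1
      rw [lin_un]; simp
  have e2 : ∑ χ ∈ SS F, (χ : GL (Fin 2) F → ℂ) (un 1) * conj ((χ : GL (Fin 2) F → ℂ) (un 1)) = 0 := by
    apply Finset.sum_eq_zero
    intro χ hχ
    unfold SS at hχ
    obtain ⟨α, -, rfl⟩ := Finset.mem_image.mp hχ
    change stein α (un 1) * conj (stein α (un 1)) = 0
    rw [stein_un]; simp
  have e3 : ∑ χ ∈ SP F, (χ : GL (Fin 2) F → ℂ) (un 1) * conj ((χ : GL (Fin 2) F → ℂ) (un 1)) =
      ((SP F).card : ℂ) := by
    rw [Finset.sum_congr rfl (g := fun _ => (1 : ℂ))]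
    · simp
    · intro χ hχ
      unfold SP at hχ
      obtain ⟨x, hx, rfl⟩ := Finset.mem_image.mp hχ
      have hx' : x.1 ≠ x.2 := (Finset.mem_offDiag.mp hx).2.2
      rw [irrPS_val x hx', ind_un]; simp
  have e4 : ∑ χ ∈ SC F, (χ : GL (Fin 2) F → ℂ) (un 1) * conj ((χ : GL (Fin 2) F → ℂ) (un 1)) =
      ((SC F).card : ℂ) := by
    rw [Finset.sum_congr rfl (g := fun _ => (1 : ℂ))]
    · simp
    · intro χ hχ
      rw [un_SC χ hχ]; simp
  rw [e1, e2, e3, e4, card_SA] at h
  have h' : Fintype.card Fˣ + 0 + (SP F).card + (SC F).card =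
      Nat.card (Subgroup.centralizer ({un 1} : Set (GL (Fin 2) F))) := by exact_mod_cast h
  have h1 := card_SP (F := F)
  have h2 := card_SC (F := F)
  nlinarith

lemma card_conj_un :
    Nat.card {x : GL (Fin 2) F // IsConj (un 1) x} = Fintype.card Fˣ * (Fintype.card Fˣ + 2) := by
  have h := Cfsg.Agent.Helper3.card_conj_mul_card_centralizer (un (1 : F))
  rw [card_centralizer_un, card_GL2] at h
  have hn := card_units_pos (F := F)
  have hpos : 0 < Fintype.card Fˣ * (Fintype.card Fˣ + 1) := by positivity
  apply Nat.eq_of_mul_eq_mul_right hpos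
  rw [h]; ring

lemma centralizer_central_mul (z g : GL (Fin 2) F) (hz : ∀ x, x * z = z * x) :
    Subgroup.centralizer ({z * g} : Set (GL (Fin 2) F)) = Subgroup.centralizer {g} := by
  ext x
  rw [Subgroup.mem_centralizer_singleton_iff, Subgroup.mem_centralizer_singleton_iff]
  constructor
  · intro h
    have : z * (x * g) = z * (g * x) := by
      rw [← mul_assoc, ← hz x, mul_assoc, h, mul_assoc]
    exact mul_left_cancel this
  · intro h
    rw [← mul_assoc, hz x, mul_assoc, h, mul_assoc]

lemma card_conj_sc_un (a : Fˣ) :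
    Nat.card {x : GL (Fin 2) F // IsConj (sc a * un 1) x} =
      Fintype.card Fˣ * (Fintype.card Fˣ + 2) := by
  have h := Cfsg.Agent.Helper3.card_conj_mul_card_centralizer (sc a * un (1 : F))
  rw [centralizer_central_mul (sc a) (un 1) (fun x => sc_comm a x), card_centralizer_un, card_GL2] at h
  have hn := card_units_pos (F := F)
  have hpos : 0 < Fintype.card Fˣ * (Fintype.card Fˣ + 1) := by positivity
  apply Nat.eq_of_mul_eq_mul_right hpos
  rw [h]; ring

end classsize

section sumformula

lemma sc_one : (sc 1 : GL (Fin 2) F) = 1 := by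
  apply Matrix.GeneralLinearGroup.ext
  intro i j
  rw [sc_coe]
  fin_cases i <;> fin_cases j <;> simp

lemma un_ne_sc (b : Fˣ) : (un 1 : GL (Fin 2) F) ≠ sc b := by
  intro h
  apply un_not_scalar (F := F) 1 b
  rw [sc_one, one_mul, h]

lemma eq_of_isConj_sc (x : GL (Fin 2) F) (b : Fˣ) (h : IsConj x (sc b)) : x = sc b := by
  obtain ⟨c, hc⟩ := isConj_iff.mp h
  have : x = c⁻¹ * sc b * c := by rw [← hc]; group
  rw [this, mul_assoc, ← sc_comm b c, ← mul_assoc, inv_mul_cancel, one_mul]

lemma two_ne_neg_two (hodd : Odd (Fintype.card F)) : (2 : F) ≠ -2 := by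
  intro h
  have h2 : (2 : F) ≠ 0 := Ring.two_ne_zero (ringChar_ne_two hodd)
  have : (2 : F) * 2 = 0 := by linear_combination h
  rcases mul_eq_zero.mp this with h | h <;> exact h2 h

lemma one_ne_neg_one (hodd : Odd (Fintype.card F)) : (1 : F) ≠ -1 := by
  intro h
  have h2 : (2 : F) ≠ 0 := Ring.two_ne_zero (ringChar_ne_two hodd)
  apply h2
  linear_combination h

lemma tr2_eq_of_isConj (x y : GL (Fin 2) F) (h : IsConj x y) : tr2 x = tr2 y := by
  obtain ⟨c, hc⟩ := isConj_iff.mp h
  rw [← hc, tr2_conj]

lemma sc_neg_ne_one (hodd : Odd (Fintype.card F)) : (sc (-1) : GL (Fin 2) F) ≠ 1 := by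
  intro h
  have := congrArg (fun y : GL (Fin 2) F => (y : Matrix (Fin 2) (Fin 2) F) 0 0) h
  simp only [sc_coe] at this
  simp at this
  exact one_ne_neg_one hodd this.symm

/-- summing over the elements of determinant one a conjugation invariant function that vanishes
at the regular semisimple elements -/
theorem sum_det_one (hodd : Odd (Fintype.card F)) (Φ : GL (Fin 2) F → ℂ)
    (hΦ : IsClassFunction (GL (Fin 2) F) Φ)
    (hN : ∀ g, Matrix.GeneralLinearGroup.det g ≠ 1 → Φ g = 0)
    (hsplit : ∀ a d : Fˣ, a ≠ d → a * d = 1 → Φ (dg a d) = 0)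
    (hell : ∀ g : GL (Fin 2) F, Matrix.GeneralLinearGroup.det g = 1 →
      (∀ (c : F) (v : Fin 2 → F), v ≠ 0 → (g : Matrix (Fin 2) (Fin 2) F).mulVec v ≠ c • v) →
      Φ g = 0) :
    ∑ g, Φ g = Φ 1 + Φ (sc (-1)) +
      ((Fintype.card Fˣ * (Fintype.card Fˣ + 2) : ℕ) : ℂ) * (Φ (un 1) + Φ (sc (-1) * un 1)) := by
  classical
  have key : ∀ g, Φ g = (if g = 1 then Φ g else 0) + (if g = sc (-1) then Φ g else 0) +
      (if IsConj (un 1) g then Φ g else 0) + (if IsConj (sc (-1) * un 1) g then Φ g else 0) := by
    intro g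
    by_cases h0 : Φ g = 0
    · simp [h0]
    · have hdet : Matrix.GeneralLinearGroup.det g = 1 := by
        by_contra h
        exact h0 (hN g h)
      rcases N_cases g hdet with h | h | h | h | ⟨a, d, had, had1, h⟩ | h
      · subst h
        have n2 : (1 : GL (Fin 2) F) ≠ sc (-1) := (sc_neg_ne_one hodd).symm
        have n3 : ¬ IsConj (un 1) (1 : GL (Fin 2) F) := by
          intro h
          rw [← sc_one] at h
          exact un_ne_sc 1 (eq_of_isConj_sc _ _ h)
        have n4 : ¬ IsConj (sc (-1) * un 1) (1 : GL (Fin 2) F) := by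
          intro h
          rw [← sc_one] at h
          exact un_not_scalar _ _ (eq_of_isConj_sc _ _ h)
        rw [if_pos rfl, if_neg n2, if_neg n3, if_neg n4]; ring
      · subst h
        have n1 : (sc (-1) : GL (Fin 2) F) ≠ 1 := sc_neg_ne_one hodd
        have n3 : ¬ IsConj (un 1) (sc (-1) : GL (Fin 2) F) := by
          intro h
          exact un_ne_sc _ (eq_of_isConj_sc _ _ h)
        have n4 : ¬ IsConj (sc (-1) * un 1) (sc (-1) : GL (Fin 2) F) := by
          intro h
          exact un_not_scalar _ _ (eq_of_isConj_sc _ _ h)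
        rw [if_neg n1, if_pos rfl, if_neg n3, if_neg n4]; ring
      · have n1 : g ≠ 1 := by
          rintro rfl
          rw [← sc_one] at h
          exact un_ne_sc 1 (eq_of_isConj_sc _ _ h)
        have n2 : g ≠ sc (-1) := by
          rintro rfl
          exact un_ne_sc _ (eq_of_isConj_sc _ _ h)
        have n4 : ¬ IsConj (sc (-1) * un 1) g := by
          intro h'
          have := tr2_eq_of_isConj _ _ (h.trans h'.symm)
          rw [tr2_sc_un] at this
          unfold tr2 at this
          rw [un_coe] at this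
          simp at this
          apply two_ne_neg_two hodd
          linear_combination this
        rw [if_neg n1, if_neg n2, if_pos h, if_neg n4]; ring
      · have n1 : g ≠ 1 := by
          rintro rfl
          rw [← sc_one] at h
          exact un_not_scalar _ _ (eq_of_isConj_sc _ _ h)
        have n2 : g ≠ sc (-1) := by
          rintro rfl
          exact un_not_scalar _ _ (eq_of_isConj_sc _ _ h)
        have n3 : ¬ IsConj (un 1) g := by
          intro h'
          have := tr2_eq_of_isConj _ _ (h'.trans h.symm)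
          rw [tr2_sc_un] at this
          unfold tr2 at this
          rw [un_coe] at this
          simp at this
          apply two_ne_neg_two hodd
          linear_combination this
        rw [if_neg n1, if_neg n2, if_neg n3, if_pos h]; ring
      · exfalso
        apply h0
        obtain ⟨c, hc⟩ := isConj_iff.mp h
        rw [← hc, hΦ]
        exact hsplit a d had had1
      · exact absurd (hell g hdet h) h0
  have e3 : ∀ y : GL (Fin 2) F, ∑ x, (if IsConj y x then Φ x else 0) =
      (Nat.card {x : GL (Fin 2) F // IsConj y x} : ℂ) * Φ y := by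
    intro y
    rw [← Cfsg.Agent.Helper3.sum_ite_isConj Φ hΦ y]
    apply Finset.sum_congr rfl
    intro x _
    by_cases h : IsConj y x <;> simp [h]
  rw [Finset.sum_congr rfl (fun g _ => key g), Finset.sum_add_distrib, Finset.sum_add_distrib,
    Finset.sum_add_distrib, Finset.sum_ite_eq', Finset.sum_ite_eq', if_pos (Finset.mem_univ _),
    if_pos (Finset.mem_univ _), e3, e3, card_conj_un, card_conj_sc_un]
  ring

end sumformula

section misc

/-- having no eigenvector is a condition on the characteristic polynomial -/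
lemma elliptic_iff (g : GL (Fin 2) F) :
    (∀ (c : F) (v : Fin 2 → F), v ≠ 0 → (g : Matrix (Fin 2) (Fin 2) F).mulVec v ≠ c • v) ↔
      ∀ l : F, l ^ 2 - tr2 g * l + ((Matrix.GeneralLinearGroup.det g : Fˣ) : F) ≠ 0 := by
  constructor
  · intro hE l
    have := no_root_of_elliptic _ hE l
    rw [det_coe]
    exact this
  · intro h c v hv hcv
    apply h c
    have := root_of_eigen _ c v hv hcv
    rw [det_coe]
    exact this

/-- a sum over `ker det` as a sum over `GL₂` -/
lemma sum_N_eq [Fintype (N F)] (f : GL (Fin 2) F → ℂ) :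
    ∑ n : N F, f n = ∑ g : GL (Fin 2) F, (if Matrix.GeneralLinearGroup.det g = 1 then f g else 0) := by
  rw [← Finset.sum_filter]
  rw [Finset.sum_subtype (Finset.univ.filter (fun g : GL (Fin 2) F =>
    Matrix.GeneralLinearGroup.det g = 1)) (p := fun g => g ∈ N F)
      (by intro x; simp [MonoidHom.mem_ker]) f]

/-- central twisting does not change absolute values -/
lemma normSq_sc_mul {X : GL (Fin 2) F → ℂ} (hX : IsIrrCharacter (GL (Fin 2) F) X) (b : Fˣ)
    (g : GL (Fin 2) F) : Complex.normSq (X (sc b * g)) = Complex.normSq (X g) := by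
  obtain ⟨k, ρ, hρ, rfl⟩ := hX
  have := hρ
  obtain ⟨f, -, -, -, hnorm, hchar, -⟩ := Cfsg.Agent.S4566.exists_central_scalar ρ
  have hc : sc b ∈ Subgroup.center (GL (Fin 2) F) := by
    rw [Subgroup.mem_center_iff]
    intro g
    exact sc_comm b g
  rw [← sc_comm b g, hchar _ hc, Complex.normSq_mul, Complex.normSq_eq_norm_sq, hnorm _ hc]
  simp

end misc

end Cfsg.Agent.Helper38
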