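import Mathlib
import Cfsg.Agent.Lib.Helper38.SL2Sum

set_option autoImplicit false
set_option linter.unusedSectionVars false

/-! Irreducible characters of `GL₂(F)`, `q` odd, whose central character is trivial at `-1`:
counting them in the principal series and among the cuspidal characters. -/

namespace Cfsg.Agent.Helper38

open Matrix Cfsg
open Cfsg.Agent.Helper81
open Cfsg.Agent.Helper3 (fintypeIrr)
open Cfsg.Agent.S2305 (dg)
open scoped ComplexConjugate

variable {F : Type*} [Field F] [Fintype F] [DecidableEq F]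

local notation "Irr2" => IrrCharacter (GL (Fin 2) F)

/-- the central character is trivial at `-1` -/
abbrev EvenChar (X : Irr2) : Prop := (X : GL (Fin 2) F → ℂ) (sc (-1)) = (X : GL (Fin 2) F → ℂ) 1

lemma sc_neg_sq : (sc (-1) : GL (Fin 2) F) * sc (-1) = 1 := by
  apply Matrix.GeneralLinearGroup.ext
  intro i j
  rw [Matrix.GeneralLinearGroup.coe_mul, sc_coe]
  fin_cases i <;> fin_cases j <;> simp [Matrix.mul_apply, Fin.sum_univ_two]

/-- the action of `-1` on an irreducible character is by a sign -/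
lemma even_cases (X : Irr2) :
    (EvenChar X ∧ ∀ g, (X : GL (Fin 2) F → ℂ) (sc (-1) * g) = (X : GL (Fin 2) F → ℂ) g) ∨
    (¬ EvenChar X ∧ ∀ g, (X : GL (Fin 2) F → ℂ) (sc (-1) * g) = -(X : GL (Fin 2) F → ℂ) g) := by
  obtain ⟨d, hd, hd1⟩ := irr_one_pos X.2
  obtain ⟨X, hX⟩ := X
  obtain ⟨k, ρ, hρ, rfl⟩ := hX
  have := hρ
  obtain ⟨f, -, f1, fmul, -, hchar, -⟩ := Cfsg.Agent.S4566.exists_central_scalar ρ
  have hc : sc (-1) ∈ Subgroup.center (GL (Fin 2) F) := by
    rw [Subgroup.mem_center_iff]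
    intro g
    exact sc_comm (-1) g
  have hs : f (sc (-1)) * f (sc (-1)) = 1 := by
    rw [← fmul _ hc _ hc, sc_neg_sq, f1]
  have hval : ∀ g, ρ.character (sc (-1) * g) = f (sc (-1)) * ρ.character g := by
    intro g
    rw [← sc_comm (-1) g, hchar _ hc]
  have hcases : f (sc (-1)) = 1 ∨ f (sc (-1)) = -1 := by
    have : (f (sc (-1)) - 1) * (f (sc (-1)) + 1) = 0 := by linear_combination hs
    rcases mul_eq_zero.mp this with h | h
    · left; linear_combination h
    · right; linear_combination h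
  have h1ne : ρ.character 1 ≠ 0 := by
    simp only at hd1
    rw [hd1]
    exact_mod_cast hd.ne'
  rcases hcases with h | h
  · left
    refine ⟨?_, ?_⟩
    · have := hval 1
      rw [mul_one, h, one_mul] at this
      exact this
    · intro g
      change ρ.character (sc (-1) * g) = ρ.character g
      rw [hval, h, one_mul]
  · right
    refine ⟨?_, ?_⟩
    · intro he
      have := hval 1
      rw [mul_one, h] at this
      have he' : ρ.character (sc (-1)) = ρ.character 1 := he
      rw [he'] at this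
      apply h1ne
      linear_combination (1 / 2 : ℂ) * this
    · intro g
      change ρ.character (sc (-1) * g) = -ρ.character g
      rw [hval, h]
      ring

lemma not_conj_un_one : ¬ IsConj (un (1 : F)) (1 : GL (Fin 2) F) := by
  intro h
  rw [← sc_one] at h
  exact un_ne_sc 1 (eq_of_isConj_sc _ _ h)

lemma not_conj_un_sc : ¬ IsConj (un (1 : F)) (sc (-1) : GL (Fin 2) F) := by
  intro h
  exact un_ne_sc _ (eq_of_isConj_sc _ _ h)

lemma not_conj_un_sc_un (hodd : Odd (Fintype.card F)) :
    ¬ IsConj (un (1 : F)) (sc (-1) * un 1 : GL (Fin 2) F) := by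
  intro h
  have := tr2_eq_of_isConj _ _ h
  rw [tr2_sc_un] at this
  unfold tr2 at this
  rw [un_coe] at this
  simp at this
  apply two_ne_neg_two hodd
  linear_combination this

lemma lin_even (α : MulChar F ℂ) : lin α (sc (-1)) = lin α 1 := by
  rw [lin_sc, lin_one, ← map_mul]
  simp

open scoped Classical in
/-- the two counting identities for even characters -/
theorem even_count (hodd : Odd (Fintype.card F)) :
    Fintype.card Fˣ + (Fintype.card Fˣ + 2) * ((SP F).filter EvenChar).card =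
      Fintype.card Fˣ * ((SC F).filter EvenChar).card ∧
    2 * (Fintype.card Fˣ + ((SP F).filter EvenChar).card + ((SC F).filter EvenChar).card) =
      Fintype.card Fˣ * (Fintype.card Fˣ + 1) := by
  -- first identity
  have o1 := Cfsg.Agent.Helper3.column_orthogonality (un (1 : F)) (1 : GL (Fin 2) F)
  have o2 := Cfsg.Agent.Helper3.column_orthogonality (un (1 : F)) (sc (-1) : GL (Fin 2) F)
  have o3 := Cfsg.Agent.Helper3.column_orthogonality (un (1 : F)) (un (1 : F))
  have o4 := Cfsg.Agent.Helper3.column_orthogonality (un (1 : F)) (sc (-1) * un 1 : GL (Fin 2) F)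
  rw [if_neg not_conj_un_one] at o1
  rw [if_neg not_conj_un_sc] at o2
  rw [if_pos (IsConj.refl _), card_centralizer_un] at o3
  rw [if_neg (not_conj_un_sc_un hodd)] at o4
  have s1 : ∑ X : Irr2, (if EvenChar X then
      2 * ((X : GL (Fin 2) F → ℂ) (un 1) * conj ((X : GL (Fin 2) F → ℂ) 1)) else 0) = 0 := by
    have : ∀ X : Irr2, (if EvenChar X then
        2 * ((X : GL (Fin 2) F → ℂ) (un 1) * conj ((X : GL (Fin 2) F → ℂ) 1)) else 0) =
        (X : GL (Fin 2) F → ℂ) (un 1) * conj ((X : GL (Fin 2) F → ℂ) 1) +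
        (X : GL (Fin 2) F → ℂ) (un 1) * conj ((X : GL (Fin 2) F → ℂ) (sc (-1))) := by
      intro X
      rcases even_cases X with ⟨h1, h2⟩ | ⟨h1, h2⟩
      · rw [if_pos h1, h1]; ring
      · have := h2 1
        rw [mul_one] at this
        rw [if_neg h1, this, map_neg]; ring
    rw [Finset.sum_congr rfl (fun X _ => this X), Finset.sum_add_distrib, o1, o2, add_zero]
  have s2 : ∑ X : Irr2, (if EvenChar X then
      2 * ((X : GL (Fin 2) F → ℂ) (un 1) * conj ((X : GL (Fin 2) F → ℂ) (un 1))) else 0) =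
      ((Fintype.card Fˣ * (Fintype.card Fˣ + 1) : ℕ) : ℂ) := by
    have : ∀ X : Irr2, (if EvenChar X then
        2 * ((X : GL (Fin 2) F → ℂ) (un 1) * conj ((X : GL (Fin 2) F → ℂ) (un 1))) else 0) =
        (X : GL (Fin 2) F → ℂ) (un 1) * conj ((X : GL (Fin 2) F → ℂ) (un 1)) +
        (X : GL (Fin 2) F → ℂ) (un 1) * conj ((X : GL (Fin 2) F → ℂ) (sc (-1) * un 1)) := by
      intro X
      rcases even_cases X with ⟨h1, h2⟩ | ⟨h1, h2⟩
      · rw [if_pos h1, h2]; ring
      · rw [if_neg h1, h2, map_neg]; ring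
    rw [Finset.sum_congr rfl (fun X _ => this X), Finset.sum_add_distrib, o3, o4, add_zero]
  -- family by family
  have hSA : ∀ X ∈ SA F, EvenChar X ∧ (X : GL (Fin 2) F → ℂ) (un 1) = 1 ∧
      (X : GL (Fin 2) F → ℂ) 1 = 1 := by
    intro X hX
    unfold SA at hX
    obtain ⟨α, -, rfl⟩ := Finset.mem_image.mp hX
    exact ⟨lin_even α, lin_un α, lin_one α⟩
  have hSS : ∀ X ∈ SS F, (X : GL (Fin 2) F → ℂ) (un 1) = 0 := by
    intro X hX
    unfold SS at hX
    obtain ⟨α, -, rfl⟩ := Finset.mem_image.mp hX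
    exact stein_un α
  have hSP : ∀ X ∈ SP F, (X : GL (Fin 2) F → ℂ) (un 1) = 1 ∧
      (X : GL (Fin 2) F → ℂ) 1 = ((Fintype.card Fˣ + 2 : ℕ) : ℂ) := by
    intro X hX
    refine ⟨?_, by rw [deg_spec, deg_SP X hX]⟩
    unfold SP at hX
    obtain ⟨x, hx, rfl⟩ := Finset.mem_image.mp hX
    have hx' : x.1 ≠ x.2 := (Finset.mem_offDiag.mp hx).2.2
    rw [irrPS_val x hx']
    exact ind_un _ _
  have hSC : ∀ X ∈ SC F, (X : GL (Fin 2) F → ℂ) (un 1) = -1 ∧
      (X : GL (Fin 2) F → ℂ) 1 = ((Fintype.card Fˣ : ℕ) : ℂ) := by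
    intro X hX
    exact ⟨un_SC X hX, by rw [deg_spec, deg_SC X hX]⟩
  rw [sum_split'] at s1 s2
  have a1 : ∑ X ∈ SA F, (if EvenChar X then
      2 * ((X : GL (Fin 2) F → ℂ) (un 1) * conj ((X : GL (Fin 2) F → ℂ) 1)) else 0) =
      2 * (Fintype.card Fˣ : ℂ) := by
    rw [Finset.sum_congr rfl (g := fun _ => (2 : ℂ))]
    · rw [Finset.sum_const, card_SA]; simp; ring
    · intro X hX
      obtain ⟨h1, h2, h3⟩ := hSA X hX
      rw [if_pos h1, h2, h3]; simp
  have a2 : ∑ X ∈ SA F, (if EvenChar X then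
      2 * ((X : GL (Fin 2) F → ℂ) (un 1) * conj ((X : GL (Fin 2) F → ℂ) (un 1))) else 0) =
      2 * (Fintype.card Fˣ : ℂ) := by
    rw [Finset.sum_congr rfl (g := fun _ => (2 : ℂ))]
    · rw [Finset.sum_const, card_SA]; simp; ring
    · intro X hX
      obtain ⟨h1, h2, h3⟩ := hSA X hX
      rw [if_pos h1, h2]; simp
  have b1 : ∑ X ∈ SS F, (if EvenChar X then
      2 * ((X : GL (Fin 2) F → ℂ) (un 1) * conj ((X : GL (Fin 2) F → ℂ) 1)) else 0) = 0 := by
    apply Finset.sum_eq_zero
    intro X hX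
    rw [hSS X hX]; simp
  have b2 : ∑ X ∈ SS F, (if EvenChar X then
      2 * ((X : GL (Fin 2) F → ℂ) (un 1) * conj ((X : GL (Fin 2) F → ℂ) (un 1))) else 0) = 0 := by
    apply Finset.sum_eq_zero
    intro X hX
    rw [hSS X hX]; simp
  have c1 : ∑ X ∈ SP F, (if EvenChar X then
      2 * ((X : GL (Fin 2) F → ℂ) (un 1) * conj ((X : GL (Fin 2) F → ℂ) 1)) else 0) =
      (((SP F).filter EvenChar).card : ℂ) * (2 * ((Fintype.card Fˣ : ℂ) + 2)) := by
    rw [Finset.sum_congr rfl (g := fun X => if EvenChar X then 2 * ((Fintype.card Fˣ : ℂ) + 2) else 0)]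
    · rw [← Finset.sum_filter, Finset.sum_const, nsmul_eq_mul]
    · intro X hX
      obtain ⟨h1, h2⟩ := hSP X hX
      by_cases he : EvenChar X
      · rw [if_pos he, if_pos he, h1, h2]
        push_cast
        simp only [map_add, Complex.conj_natCast, one_mul]
        congr 2
        exact Complex.conj_ofNat 2
      · rw [if_neg he, if_neg he]
  have c2 : ∑ X ∈ SP F, (if EvenChar X then
      2 * ((X : GL (Fin 2) F → ℂ) (un 1) * conj ((X : GL (Fin 2) F → ℂ) (un 1))) else 0) =
      (((SP F).filter EvenChar).card : ℂ) * 2 := by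
    rw [Finset.sum_congr rfl (g := fun X => if EvenChar X then (2 : ℂ) else 0)]
    · rw [← Finset.sum_filter, Finset.sum_const, nsmul_eq_mul]
    · intro X hX
      obtain ⟨h1, h2⟩ := hSP X hX
      by_cases he : EvenChar X
      · rw [if_pos he, if_pos he, h1]; simp
      · rw [if_neg he, if_neg he]
  have d1 : ∑ X ∈ SC F, (if EvenChar X then
      2 * ((X : GL (Fin 2) F → ℂ) (un 1) * conj ((X : GL (Fin 2) F → ℂ) 1)) else 0) =
      (((SC F).filter EvenChar).card : ℂ) * (-(2 * (Fintype.card Fˣ : ℂ))) := by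
    rw [Finset.sum_congr rfl (g := fun X => if EvenChar X then -(2 * (Fintype.card Fˣ : ℂ)) else 0)]
    · rw [← Finset.sum_filter, Finset.sum_const, nsmul_eq_mul]
    · intro X hX
      obtain ⟨h1, h2⟩ := hSC X hX
      by_cases he : EvenChar X
      · rw [if_pos he, if_pos he, h1, h2]; simp
      · rw [if_neg he, if_neg he]
  have d2 : ∑ X ∈ SC F, (if EvenChar X then
      2 * ((X : GL (Fin 2) F → ℂ) (un 1) * conj ((X : GL (Fin 2) F → ℂ) (un 1))) else 0) =
      (((SC F).filter EvenChar).card : ℂ) * 2 := by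
    rw [Finset.sum_congr rfl (g := fun X => if EvenChar X then (2 : ℂ) else 0)]
    · rw [← Finset.sum_filter, Finset.sum_const, nsmul_eq_mul]
    · intro X hX
      obtain ⟨h1, h2⟩ := hSC X hX
      by_cases he : EvenChar X
      · rw [if_pos he, if_pos he, h1]; simp
      · rw [if_neg he, if_neg he]
  rw [a1, b1, c1, d1] at s1
  rw [a2, b2, c2, d2] at s2
  constructor
  · have : ((Fintype.card Fˣ + (Fintype.card Fˣ + 2) * ((SP F).filter EvenChar).card : ℕ) : ℂ) =
        ((Fintype.card Fˣ * ((SC F).filter EvenChar).card : ℕ) : ℂ) := by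
      push_cast
      linear_combination (1 / 2 : ℂ) * s1
    exact_mod_cast this
  · have : ((2 * (Fintype.card Fˣ + ((SP F).filter EvenChar).card +
        ((SC F).filter EvenChar).card) : ℕ) : ℂ) =
        ((Fintype.card Fˣ * (Fintype.card Fˣ + 1) : ℕ) : ℂ) := by
      rw [← s2]
      push_cast
      ring
    exact_mod_cast this

variable {ε : MulChar F ℂ}

open scoped Classical in
/-- the exact numbers of even characters in the two big families -/
theorem even_card (hodd : Odd (Fintype.card F)) :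
    4 * ((SC F).filter EvenChar).card = Fintype.card Fˣ * Fintype.card Fˣ ∧
    4 * ((SP F).filter EvenChar).card + 2 * Fintype.card Fˣ = Fintype.card Fˣ * Fintype.card Fˣ := by
  obtain ⟨h1, h2⟩ := even_count (F := F) hodd
  set n := Fintype.card Fˣ
  set a := ((SP F).filter EvenChar).card
  set e := ((SC F).filter EvenChar).card
  have h1z : (n : ℤ) + (n + 2) * a = n * e := by exact_mod_cast h1
  have h2z : 2 * ((n : ℤ) + a + e) = n * (n + 1) := by exact_mod_cast h2
  have key : ((n : ℤ) + 1) * (4 * e - n * n) = 0 := by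
    linear_combination (-2 : ℤ) * h1z + ((n : ℤ) + 2) * h2z
  have hn1 : ((n : ℤ) + 1) ≠ 0 := by positivity
  have he : (4 : ℤ) * e = n * n := by
    have := (mul_eq_zero.mp key).resolve_left hn1
    linarith
  constructor
  · exact_mod_cast he
  · have : (4 : ℤ) * a + 2 * n = n * n := by linarith
    exact_mod_cast this

open scoped Classical in
/-- for `q ≥ 7` there are even characters in both families which are not fixed by the quadratic
twist -/
theorem exists_even_nonsplit (hodd : Odd (Fintype.card F)) (hε : QuadData ε)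
    (h6 : 6 ≤ Fintype.card Fˣ) :
    (∃ X ∈ SP F, EvenChar X ∧ ¬ Split ε X) ∧ (∃ X ∈ SC F, EvenChar X ∧ ¬ Split ε X) := by
  obtain ⟨he, ha⟩ := even_card (F := F) hodd
  have s1 := card_split_SP (F := F) hε.ne_one hε.sq
  have s2 := card_split_SC (F := F) hε.ne_one hε.sq
  constructor
  · by_contra hcon
    push Not at hcon
    have hsub : (SP F).filter EvenChar ⊆ (SP F).filter (Split ε) := by
      intro X hX
      obtain ⟨h1, h2⟩ := Finset.mem_filter.mp hX
      exact Finset.mem_filter.mpr ⟨h1, hcon X h1 h2⟩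
    have := Finset.card_le_card hsub
    nlinarith
  · by_contra hcon
    push Not at hcon
    have hsub : (SC F).filter EvenChar ⊆ (SC F).filter (Split ε) := by
      intro X hX
      obtain ⟨h1, h2⟩ := Finset.mem_filter.mp hX
      exact Finset.mem_filter.mpr ⟨h1, hcon X h1 h2⟩
    have := Finset.card_le_card hsub
    nlinarith

end Cfsg.Agent.Helper38
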