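import Mathlib
import Cfsg.Agent.Lib.Helper7.M11UDefs

set_option autoImplicit false
set_option linter.style.haveILetI false
set_option linter.unusedVariables false
set_option linter.unusedSectionVars false

/-!
# M11U (U2) `exists_unique_fixed` for helper7's server (S0420)
-/

namespace Cfsg.Agent.Helper38.M11U

open Subgroup Cfsg.Agent.Helper7.M11U
open scoped Pointwise

section U2

variable {α : Type*} [Fintype α] [DecidableEq α]

/-- a permutation of order dividing `3` preserving a finset `S` whose complement has size prime to `3`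
fixes a point outside `S` -/
theorem u2_fixed_of_three (σ : Equiv.Perm α) (hσ3 : σ ^ 3 = 1) (S : Finset α)
    (hS : ∀ a, σ a ∈ S ↔ a ∈ S) (hcard : ¬ 3 ∣ Fintype.card α - S.card) :
    ∃ a, a ∉ S ∧ σ a = a := by
  have hq : ∀ a, (σ a ∉ S) ↔ (a ∉ S) := fun a => not_congr (hS a)
  let σ' : Equiv.Perm {a // a ∉ S} := σ.subtypePerm hq
  have hσ'3 : σ' ^ 3 = 1 := by
    show (σ.subtypePerm hq) ^ 3 = 1
    rw [Equiv.Perm.subtypePerm_pow]
    apply Equiv.ext
    rintro ⟨a, ha⟩
    apply Subtype.ext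
    simp [hσ3]
  have hp : IsPGroup 3 (Subgroup.zpowers σ') := by
    rintro ⟨g, hg⟩
    obtain ⟨k, rfl⟩ := Subgroup.mem_zpowers_iff.mp hg
    refine ⟨1, ?_⟩
    apply Subtype.ext
    simp only [pow_one, Subgroup.coe_pow, Subgroup.coe_one]
    rw [← zpow_natCast, ← zpow_mul, mul_comm, zpow_mul, zpow_natCast, hσ'3, one_zpow]
  haveI : Fact (Nat.Prime 3) := ⟨Nat.prime_three⟩
  have hc : Nat.card {a // a ∉ S} = Fintype.card α - S.card := by
    rw [Nat.card_eq_fintype_card, Fintype.card_of_subtype Sᶜ (fun x => by simp), Finset.card_compl]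
  obtain ⟨⟨a, ha⟩, hfix⟩ := hp.nonempty_fixed_point_of_prime_not_dvd_card {a // a ∉ S}
    (by rw [hc]; exact hcard)
  refine ⟨a, ha, ?_⟩
  have h1 := MulAction.mem_fixedPoints.mp hfix ⟨σ', Subgroup.mem_zpowers σ'⟩
  exact congrArg Subtype.val h1

/-- sharpness: an element of `K` fixing the four points of an embedding is trivial -/
theorem u2_sharp (K : Subgroup (Equiv.Perm α)) (hK : Sharp4 K) (y : Fin 4 ↪ α)
    (g : Equiv.Perm α) (hg : g ∈ K) (h : ∀ i, g (y i) = y i) : g = 1 := by
  have h1 : (⟨g, hg⟩ : K) ∈ MulAction.stabilizer K y := by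
    rw [MulAction.mem_stabilizer_iff]
    ext i
    exact h i
  rw [hK.2 y, Subgroup.mem_bot] at h1
  exact congrArg Subtype.val h1

theorem u2_sharp' (K : Subgroup (Equiv.Perm α)) (hK : Sharp4 K) (y : Fin 4 ↪ α)
    (g h : Equiv.Perm α) (hg : g ∈ K) (hh : h ∈ K) (hgh : ∀ i, g (y i) = h (y i)) : g = h := by
  have h1 : h⁻¹ * g = 1 := by
    apply u2_sharp K hK y _ (K.mul_mem (K.inv_mem hh) hg)
    intro i
    rw [Equiv.Perm.mul_apply, hgh i]
    simp
  calc g = h * (h⁻¹ * g) := by group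
    _ = h := by rw [h1, mul_one]

/-- an element of `K` with four distinct fixed points is trivial -/
theorem u2_fix4 (K : Subgroup (Equiv.Perm α)) (hK : Sharp4 K) (g : Equiv.Perm α) (hg : g ∈ K)
    (a b c d : α) (hab : a ≠ b) (hac : a ≠ c) (had : a ≠ d) (hbc : b ≠ c) (hbd : b ≠ d) (hcd : c ≠ d)
    (ha : g a = a) (hb : g b = b) (hc : g c = c) (hd : g d = d) : g = 1 := by
  have tinj : Function.Injective (![a, b, c, d] : Fin 4 → α) := by
    intro i j h
    fin_cases i <;> fin_cases j <;> simp at h <;>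
      first
        | rfl
        | exact absurd h hab
        | exact absurd h hab.symm
        | exact absurd h hac
        | exact absurd h hac.symm
        | exact absurd h had
        | exact absurd h had.symm
        | exact absurd h hbc
        | exact absurd h hbc.symm
        | exact absurd h hbd
        | exact absurd h hbd.symm
        | exact absurd h hcd
        | exact absurd h hcd.symm
  apply u2_sharp K hK ⟨![a, b, c, d], tinj⟩ g hg
  intro i
  fin_cases i
  · exact ha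
  · exact hb
  · exact hc
  · exact hd

/-- 4-transitivity: every permutation of the indices is induced by an element of `K` -/
theorem u2_trans (K : Subgroup (Equiv.Perm α)) (hK : Sharp4 K) (y : Fin 4 ↪ α)
    (π : Equiv.Perm (Fin 4)) : ∃ g ∈ K, ∀ i, g (y i) = y (π i) := by
  haveI := hK.1
  obtain ⟨k, hk⟩ := MulAction.exists_smul_eq K y (π.toEmbedding.trans y)
  refine ⟨k.1, k.2, fun i => ?_⟩
  have h1 := DFunLike.congr_fun hk i
  exact h1

/-- an element permuting the `y i` preserves their set -/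
theorem u2_preserves (y : Fin 4 ↪ α) (X : Finset α) (hXy : ∀ a, a ∈ X ↔ ∃ i, y i = a)
    (π : Equiv.Perm (Fin 4)) (g : Equiv.Perm α) (hg : ∀ i, g (y i) = y (π i)) :
    ∀ a, g a ∈ X ↔ a ∈ X := by
  intro a
  constructor
  · intro h
    obtain ⟨j, hj⟩ := (hXy _).mp h
    refine (hXy a).mpr ⟨π.symm j, ?_⟩
    apply g.injective
    rw [hg, Equiv.apply_symm_apply, hj]
  · intro h
    obtain ⟨i, rfl⟩ := (hXy _).mp h
    exact (hXy _).mpr ⟨π i, (hg i).symm⟩

/-- the 3-cycle `1 → 2 → 3 → 1` of `Fin 4` -/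
def u2c : Equiv.Perm (Fin 4) := Equiv.swap 1 2 * Equiv.swap 2 3

theorem u2c_cube : ∀ i : Fin 4, u2c (u2c (u2c i)) = i := by decide

theorem u2c_one : u2c 1 = 2 := by decide

theorem u2c_zero : u2c 0 = 0 := by decide

theorem u2c_normal : ∀ π : Equiv.Perm (Fin 4), π 0 = 0 →
    (∀ i, u2c (π i) = π (u2c i)) ∨ (∀ i, u2c (π i) = π (u2c.symm i)) := by decide

theorem u2_perm_exists : ∀ i j : Fin 4, i ≠ j →
    ∃ π : Equiv.Perm (Fin 4), π i = i ∧ π j = j ∧ ∃ k, π k ≠ k := by decide

theorem u2_third : ∀ i : Fin 4, ∃ k : Fin 4, k ≠ 0 ∧ k ≠ i := by decide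

/-- Lemma L: the point stabiliser of `y 0` in `K_X` fixes a point outside `X`. -/
theorem u2_point (hα : Fintype.card α = 11) (K : Subgroup (Equiv.Perm α)) (hK : Sharp4 K)
    (y : Fin 4 ↪ α) (X : Finset α) (hXy : ∀ a, a ∈ X ↔ ∃ i, y i = a) (hX : X.card = 4) :
    ∃ e, e ∉ X ∧ ∀ g ∈ K, (∀ a, g a ∈ X ↔ a ∈ X) → g (y 0) = y 0 → g e = e := by
  obtain ⟨σ, hσK, hσ⟩ := u2_trans K hK y u2c
  have hσX := u2_preserves y X hXy u2c σ hσ
  have hσ3 : σ ^ 3 = 1 := by
    apply u2_sharp K hK y _ (K.pow_mem hσK 3)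
    intro i
    have h1 : (σ ^ 3) (y i) = σ (σ (σ (y i))) := by
      rw [pow_succ, pow_succ, pow_one]; rfl
    rw [h1, hσ, hσ, hσ, u2c_cube]
  have hσne : σ ≠ 1 := by
    intro h
    have h1 := hσ 1
    rw [h, Equiv.Perm.one_apply, u2c_one] at h1
    exact absurd (y.injective h1) (by decide)
  obtain ⟨e, heX, hσe⟩ := u2_fixed_of_three σ hσ3 X hσX (by rw [hα, hX]; decide)
  have huniq : ∀ e', e' ∉ X → σ e' = e' → e' = e := by
    intro e' he'X hσe'
    by_contra hne
    have hS : ∀ a, σ a ∈ insert e (insert e' X) ↔ a ∈ insert e (insert e' X) := by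
      intro a
      simp only [Finset.mem_insert]
      constructor
      · rintro (h | h | h)
        · left; apply σ.injective; rw [h, hσe]
        · right; left; apply σ.injective; rw [h, hσe']
        · right; right; exact (hσX a).mp h
      · rintro (h | h | h)
        · left; rw [h, hσe]
        · right; left; rw [h, hσe']
        · right; right; exact (hσX a).mpr h
    have hcardS : (insert e (insert e' X)).card = 6 := by
      rw [Finset.card_insert_of_notMem, Finset.card_insert_of_notMem he'X, hX]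
      simp only [Finset.mem_insert, not_or]
      exact ⟨fun h => hne h.symm, heX⟩
    obtain ⟨e'', he''S, hσe''⟩ := u2_fixed_of_three σ hσ3 _ hS (by rw [hα, hcardS]; decide)
    simp only [Finset.mem_insert, not_or] at he''S
    have hy0X : y 0 ∈ X := (hXy _).mpr ⟨0, rfl⟩
    apply hσne
    apply u2_fix4 K hK σ hσK (y 0) e e' e''
    · intro h; exact heX (h ▸ hy0X)
    · intro h; exact he'X (h ▸ hy0X)
    · intro h; exact he''S.2.2 (h ▸ hy0X)
    · exact fun h => hne h.symm
    · exact fun h => he''S.1 h.symm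
    · exact fun h => he''S.2.1 h.symm
    · rw [hσ, u2c_zero]
    · exact hσe
    · exact hσe'
    · exact hσe''
  refine ⟨e, heX, ?_⟩
  intro g hgK hgX hg0
  -- the permutation induced by `g`
  have hex : ∀ i, ∃ j, g (y i) = y j := by
    intro i
    have h1 : g (y i) ∈ X := (hgX _).mpr ((hXy _).mpr ⟨i, rfl⟩)
    obtain ⟨j, hj⟩ := (hXy _).mp h1
    exact ⟨j, hj.symm⟩
  choose f hf using hex
  have finj : Function.Injective f := by
    intro i j hij
    have h1 : g (y i) = g (y j) := by rw [hf, hf, hij]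
    exact y.injective (g.injective h1)
  let π : Equiv.Perm (Fin 4) := Equiv.ofBijective f (Finite.injective_iff_bijective.mp finj)
  have hπ : ∀ i, g (y i) = y (π i) := hf
  have hπ0 : π 0 = 0 := by
    apply y.injective
    rw [← hπ 0, hg0]
  have hσinv : ∀ i, σ⁻¹ (y i) = y (u2c.symm i) := by
    intro i
    rw [Equiv.Perm.inv_eq_iff_eq, hσ, Equiv.apply_symm_apply]
  have hσinve : σ⁻¹ e = e := by
    rw [Equiv.Perm.inv_eq_iff_eq, hσe]
  have hgeX : g e ∉ X := fun h => heX ((hgX e).mp h)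
  apply huniq _ hgeX
  rcases u2c_normal π hπ0 with h | h
  · have h1 : σ * g = g * σ := by
      apply u2_sharp' K hK y _ _ (K.mul_mem hσK hgK) (K.mul_mem hgK hσK)
      intro i
      rw [Equiv.Perm.mul_apply, Equiv.Perm.mul_apply, hπ, hσ, hσ, hπ, h]
    calc σ (g e) = (σ * g) e := rfl
      _ = (g * σ) e := by rw [h1]
      _ = g e := by rw [Equiv.Perm.mul_apply, hσe]
  · have h1 : σ * g = g * σ⁻¹ := by
      apply u2_sharp' K hK y _ _ (K.mul_mem hσK hgK) (K.mul_mem hgK (K.inv_mem hσK))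
      intro i
      rw [Equiv.Perm.mul_apply, Equiv.Perm.mul_apply, hπ, hσ, hσinv, hπ, h]
    calc σ (g e) = (σ * g) e := rfl
      _ = (g * σ⁻¹) e := by rw [h1]
      _ = g e := by rw [Equiv.Perm.mul_apply, hσinve]

/-- (U2) the setwise stabiliser of a 4-set fixes exactly one further point. -/
theorem exists_unique_fixed (hα : Fintype.card α = 11) (K : Subgroup (Equiv.Perm α)) (hK : Sharp4 K)
    (X : Finset α) (hX : X.card = 4) :
    ∃! e : α, e ∉ X ∧ ∀ g ∈ K, X.image (g : α → α) = X → g e = e := by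
  classical
  -- an ordering of `X`
  let E : X ≃ Fin 4 := Finset.equivFinOfCardEq hX
  let x : Fin 4 ↪ α := ⟨fun i => ((E.symm i : X) : α), fun i j h => by
    have h1 : E.symm i = E.symm j := Subtype.ext h
    exact E.symm.injective h1⟩
  have hXx : ∀ a, a ∈ X ↔ ∃ i, x i = a := by
    intro a
    constructor
    · intro ha
      refine ⟨E ⟨a, ha⟩, ?_⟩
      show ((E.symm (E ⟨a, ha⟩) : X) : α) = a
      rw [Equiv.symm_apply_apply]
    · rintro ⟨i, rfl⟩
      exact (E.symm i).2
  have hxX : ∀ i, x i ∈ X := fun i => (hXx _).mpr ⟨i, rfl⟩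
  -- image form versus iff form
  have himg_of_iff : ∀ g : Equiv.Perm α, (∀ a, g a ∈ X ↔ a ∈ X) → X.image (g : α → α) = X := by
    intro g hg
    ext a
    rw [Finset.mem_image]
    constructor
    · rintro ⟨b, hb, rfl⟩; exact (hg b).mpr hb
    · intro ha
      refine ⟨g⁻¹ a, ?_, by simp⟩
      apply (hg _).mp
      simpa using ha
  have hiff_of_img : ∀ g : Equiv.Perm α, X.image (g : α → α) = X → (∀ a, g a ∈ X ↔ a ∈ X) := by
    intro g hg a
    constructor
    · intro h
      rw [← hg, Finset.mem_image] at h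
      obtain ⟨b, hb, hba⟩ := h
      rw [← g.injective hba]; exact hb
    · intro h
      rw [← hg]; exact Finset.mem_image_of_mem _ h
  -- the points `ε i`
  have hL : ∀ i : Fin 4, ∃ e, e ∉ X ∧
      ∀ g ∈ K, (∀ a, g a ∈ X ↔ a ∈ X) → g (x i) = x i → g e = e := by
    intro i
    let y : Fin 4 ↪ α := (Equiv.swap 0 i).toEmbedding.trans x
    have hy : ∀ j, y j = x (Equiv.swap 0 i j) := fun j => rfl
    have hXy : ∀ a, a ∈ X ↔ ∃ j, y j = a := by
      intro a
      rw [hXx]
      constructor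
      · rintro ⟨j, rfl⟩
        exact ⟨Equiv.swap 0 i j, by rw [hy, Equiv.swap_apply_self]⟩
      · rintro ⟨j, rfl⟩
        exact ⟨Equiv.swap 0 i j, (hy j).symm⟩
    obtain ⟨e, he, h⟩ := u2_point hα K hK y X hXy hX
    refine ⟨e, he, fun g hgK hgX hgi => h g hgK hgX ?_⟩
    rw [hy, Equiv.swap_apply_left]; exact hgi
  choose ε hε1 hε2 using hL
  -- all `ε i` coincide
  have heq : ∀ i j : Fin 4, i ≠ j → ε i = ε j := by
    intro i j hij
    by_contra hne
    obtain ⟨π, hπi, hπj, k, hπk⟩ := u2_perm_exists i j hij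
    obtain ⟨τ, hτK, hτ⟩ := u2_trans K hK x π
    have hτX := u2_preserves x X hXx π τ hτ
    have h1 : τ (x i) = x i := by rw [hτ, hπi]
    have h2 : τ (x j) = x j := by rw [hτ, hπj]
    have h3 := hε2 i τ hτK hτX h1
    have h4 := hε2 j τ hτK hτX h2
    have h5 : τ = 1 := by
      apply u2_fix4 K hK τ hτK (x i) (x j) (ε i) (ε j)
      · exact fun h => hij (x.injective h)
      · intro h; exact hε1 i (h ▸ hxX i)
      · intro h; exact hε1 j (h ▸ hxX i)
      · intro h; exact hε1 i (h ▸ hxX j)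
      · intro h; exact hε1 j (h ▸ hxX j)
      · exact hne
      · exact h1
      · exact h2
      · exact h3
      · exact h4
    have h6 := hτ k
    rw [h5, Equiv.Perm.one_apply] at h6
    exact hπk (x.injective h6).symm
  have heq0 : ∀ i : Fin 4, ε i = ε 0 := by
    intro i
    by_cases hi : i = 0
    · rw [hi]
    · exact heq i 0 hi
  -- every element of `K_X` fixes `ε 0`
  have hB : ∀ g ∈ K, (∀ a, g a ∈ X ↔ a ∈ X) → g (ε 0) = ε 0 := by
    intro g hgK hgX
    obtain ⟨i, hi⟩ := (hXx _).mp ((hgX (x 0)).mpr (hxX 0))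
    by_cases hi0 : i = 0
    · apply hε2 0 g hgK hgX
      rw [← hi, hi0]
    · obtain ⟨ρ, hρK, hρ⟩ := u2_trans K hK x (Equiv.swap 0 i)
      have hρX := u2_preserves x X hXx _ ρ hρ
      obtain ⟨k, hk0, hki⟩ := u2_third i
      have h1 : ρ (x k) = x k := by rw [hρ, Equiv.swap_apply_of_ne_of_ne hk0 hki]
      have h2 : ρ (ε 0) = ε 0 := by
        have := hε2 k ρ hρK hρX h1
        rwa [heq0 k] at this
      have hρg : ∀ a, (ρ⁻¹ * g) a ∈ X ↔ a ∈ X := by
        intro a
        rw [Equiv.Perm.mul_apply, ← hgX a]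
        constructor
        · intro h
          have := (hρX (ρ⁻¹ (g a))).mpr h
          simpa using this
        · intro h
          apply (hρX _).mp
          simpa using h
      have h3 : (ρ⁻¹ * g) (x 0) = x 0 := by
        rw [Equiv.Perm.mul_apply, ← hi, Equiv.Perm.inv_eq_iff_eq, hρ, Equiv.swap_apply_left]
      have h4 := hε2 0 (ρ⁻¹ * g) (K.mul_mem (K.inv_mem hρK) hgK) hρg h3
      rw [Equiv.Perm.mul_apply, Equiv.Perm.inv_eq_iff_eq, h2] at h4
      exact h4
  refine ⟨ε 0, ⟨hε1 0, fun g hgK hg => hB g hgK (hiff_of_img g hg)⟩, ?_⟩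
  rintro e' ⟨he'X, he'⟩
  by_contra hne
  obtain ⟨τ, hτK, hτ⟩ := u2_trans K hK x (Equiv.swap 2 3)
  have hτX := u2_preserves x X hXx _ τ hτ
  have h0 : τ (x 0) = x 0 := by
    rw [hτ, Equiv.swap_apply_of_ne_of_ne (by decide) (by decide)]
  have h1 : τ (x 1) = x 1 := by
    rw [hτ, Equiv.swap_apply_of_ne_of_ne (by decide) (by decide)]
  have h2 : τ (ε 0) = ε 0 := hB τ hτK hτX
  have h3 : τ e' = e' := he' τ hτK (himg_of_iff τ hτX)
  have h5 : τ = 1 := by
    apply u2_fix4 K hK τ hτK (x 0) (x 1) (ε 0) e'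
    · exact fun h => absurd (x.injective h) (by decide)
    · intro h; exact hε1 0 (h ▸ hxX 0)
    · intro h; exact he'X (h ▸ hxX 0)
    · intro h; exact hε1 0 (h ▸ hxX 1)
    · intro h; exact he'X (h ▸ hxX 1)
    · exact fun h => hne h.symm
    · exact h0
    · exact h1
    · exact h2
    · exact h3
  have h6 := hτ 2
  rw [h5, Equiv.Perm.one_apply, Equiv.swap_apply_left] at h6
  exact absurd (x.injective h6) (by decide)

end U2

end Cfsg.Agent.Helper38.M11U
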