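import Mathlib
import Cfsg.Agent.Lib.Helper7.M11UDefs
import Cfsg.Agent.Lib.Helper7.NSEDefs

set_option autoImplicit false
set_option linter.unusedVariables false
set_option linter.style.haveILetI false
set_option linter.unusedSectionVars false

/-!
# NSE (G6) `no_normal_five` for helper7's server (S3592)
-/

namespace Cfsg.Agent.Helper38.NSE

open Subgroup Cfsg.Agent.Helper7.M11U Cfsg.Agent.Helper7.NSE
open scoped Pointwise

/-- a Sylow `p`-subgroup of a group whose order is `p * m` with `p ∤ m` has order `p` -/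
theorem g6_card_sylow {G : Type*} [Group G] [Finite G] (p m : ℕ) [hp : Fact p.Prime]
    (hc : Nat.card G = p * m) (hm : ¬ p ∣ m) (P : Sylow p G) : Nat.card (P : Subgroup G) = p := by
  obtain ⟨n, hn⟩ := IsPGroup.iff_card.mp P.2
  have hdvd : p ^ n ∣ p * m := by
    rw [← hn, ← hc]; exact (P : Subgroup G).card_subgroup_dvd_card
  have hn1 : n ≤ 1 := by
    by_contra hlt
    have h2 : 2 ≤ n := by omega
    have h3 : p ^ 2 ∣ p * m := (pow_dvd_pow p h2).trans hdvd
    rw [pow_two] at h3
    exact hm ((Nat.mul_dvd_mul_iff_left hp.out.pos).mp h3)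
  have hne : (P : Subgroup G) ≠ ⊥ := P.ne_bot_of_dvd_card (by rw [hc]; exact dvd_mul_right p m)
  have hn0 : n ≠ 0 := by
    intro h0
    rw [h0, pow_zero] at hn
    exact hne ((P : Subgroup G).card_eq_one.mp hn)
  have : n = 1 := by omega
  rw [hn, this, pow_one]

/-- (G6) -/
theorem no_normal_five {G : Type*} [Group G] [Finite G] (hc : Nat.card G = 7920)
    (hA : ∀ M : Subgroup G, M.Normal → 11 ∣ Nat.card M → M = ⊤)
    (h5b : ∀ (P : Subgroup G), Nat.card P = 11 → ∀ T : Subgroup G, P ≤ normalizer (T : Set G) →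
      Nat.card T ≡ Nat.card (T ⊓ centralizer (P : Set G) : Subgroup G) [MOD 11])
    (N : Subgroup G) (hN : N.Normal) (h5 : Nat.card N = 5) : False := by
  haveI : Fact (Nat.Prime 5) := ⟨by norm_num⟩
  haveI : Fact (Nat.Prime 11) := ⟨by norm_num⟩
  -- `N` is a Sylow 5-subgroup
  have hNp : IsPGroup 5 N := IsPGroup.of_card (n := 1) (by rw [h5, pow_one])
  obtain ⟨S, hNS⟩ := hNp.exists_le_sylow
  have hS5 : Nat.card (S : Subgroup G) = 5 :=
    g6_card_sylow 5 1584 (by rw [hc]) (by norm_num) S
  have hSN : (S : Subgroup G) = N :=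
    (Subgroup.eq_of_le_of_card_ge hNS (by rw [hS5, h5])).symm
  -- a Sylow 11-subgroup centralises `N`
  obtain ⟨P⟩ : Nonempty (Sylow 11 G) := inferInstance
  have hP11 : Nat.card (P : Subgroup G) = 11 :=
    g6_card_sylow 11 720 (by rw [hc]) (by norm_num) P
  have hPN : (P : Subgroup G) ≤ normalizer (N : Set G) := by
    rw [Subgroup.normalizer_eq_top]; exact le_top
  have hmod := h5b P hP11 N hPN
  rw [h5] at hmod
  have hle : (N ⊓ centralizer ((P : Subgroup G) : Set G) : Subgroup G) ≤ N := inf_le_left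
  have hdvd : Nat.card (N ⊓ centralizer ((P : Subgroup G) : Set G) : Subgroup G) ∣ 5 := by
    rw [← h5]; exact Subgroup.card_dvd_of_le hle
  have hcard : Nat.card (N ⊓ centralizer ((P : Subgroup G) : Set G) : Subgroup G) = 5 := by
    rcases (Nat.dvd_prime (by norm_num : Nat.Prime 5)).mp hdvd with h | h
    · rw [h] at hmod
      exact absurd hmod (by decide)
    · exact h
  have hNC : N ≤ centralizer ((P : Subgroup G) : Set G) := by
    have := Subgroup.eq_of_le_of_card_ge hle (by rw [hcard, h5])
    rw [← this]; exact inf_le_right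
  have hPC : (P : Subgroup G) ≤ centralizer (N : Set G) := by
    intro x hx y hy
    exact (hNC hy x hx).symm
  -- `C(N) = ⊤`
  have hCtop : centralizer (N : Set G) = ⊤ := by
    apply hA _ inferInstance
    rw [← hP11]
    exact Subgroup.card_dvd_of_le hPC
  -- Burnside
  have hSC : normalizer ((S : Subgroup G) : Set G) ≤ centralizer ((S : Subgroup G) : Set G) := by
    rw [hSN, hCtop]; exact le_top
  have hcompl := MonoidHom.ker_transferSylow_isComplement' S hSC
  have hmul := hcompl.card_mul_card
  rw [hS5, hc] at hmul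
  have hK : Nat.card (MonoidHom.transferSylow S hSC).ker = 1584 := by omega
  have hKtop : (MonoidHom.transferSylow S hSC).ker = ⊤ := by
    apply hA _ inferInstance
    rw [hK]; norm_num
  rw [hKtop, Subgroup.card_top, hc] at hK
  omega

end Cfsg.Agent.Helper38.NSE
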