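import Mathlib
import Cfsg.Agent.Lib.Helper7.M11UDefs
import Cfsg.Agent.Lib.Helper7.NSEDefs
import Cfsg.Agent.Lib.Helper38.NSEG6

set_option autoImplicit false
set_option linter.unusedVariables false
set_option linter.style.haveILetI false
set_option linter.unusedSectionVars false

/-!
# NSE (G3) `no_1584` for helper7's server (S3592)
-/

namespace Cfsg.Agent.Helper38.NSE

open Subgroup Cfsg.Agent.Helper7.M11U Cfsg.Agent.Helper7.NSE
open scoped Pointwise

/-- an element of order `11` normalising a subgroup with fewer than `11` elements centralises it -/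
theorem g3_centralizes {X : Type*} [Group X] [Finite X] (Q0 : Subgroup X) (hQ : Nat.card Q0 < 11)
    (g : X) (hg : orderOf g = 11) (hgN : g ∈ normalizer (Q0 : Set X)) :
    ∀ y ∈ Q0, g * y * g⁻¹ = y := by
  have hnormal : (Q0.subgroupOf (normalizer (Q0 : Set X))).Normal := Subgroup.normal_in_normalizer
  let φ : ↥(normalizer (Q0 : Set X)) →* MulAut ↥(Q0.subgroupOf (normalizer (Q0 : Set X))) :=
    MulAut.conjNormal
  let σ : Equiv.Perm ↥(Q0.subgroupOf (normalizer (Q0 : Set X))) :=
    MulAut.toPerm _ (φ ⟨g, hgN⟩)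
  have hσ11 : σ ^ 11 = 1 := by
    show (MulAut.toPerm _ (φ ⟨g, hgN⟩)) ^ 11 = 1
    rw [← map_pow, ← map_pow]
    have h1 : (⟨g, hgN⟩ : ↥(normalizer (Q0 : Set X))) ^ 11 = 1 := by
      apply Subtype.ext
      rw [Subgroup.coe_pow, Subgroup.coe_one]
      show g ^ 11 = 1
      rw [← hg]; exact pow_orderOf_eq_one g
    rw [h1, map_one, map_one]
  have hcardQ : Nat.card ↥(Q0.subgroupOf (normalizer (Q0 : Set X))) = Nat.card Q0 :=
    Nat.card_congr (Subgroup.subgroupOfEquivOfLe Subgroup.le_normalizer).toEquiv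
  have hσ1 : σ = 1 := by
    have hd : orderOf σ ∣ 11 := orderOf_dvd_of_pow_eq_one hσ11
    rcases (Nat.dvd_prime (by norm_num : Nat.Prime 11)).mp hd with h | h
    · exact orderOf_eq_one_iff.mp h
    · exfalso
      have h2 : orderOf σ ∣ Nat.card (Equiv.Perm ↥(Q0.subgroupOf (normalizer (Q0 : Set X)))) :=
        orderOf_dvd_natCard σ
      rw [Nat.card_perm, hcardQ, h] at h2
      have h3 := ((by norm_num : Nat.Prime 11).dvd_factorial).mp h2
      omega
  intro y hy
  have hyN : y ∈ normalizer (Q0 : Set X) := Subgroup.le_normalizer hy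
  have hy' : (⟨y, hyN⟩ : ↥(normalizer (Q0 : Set X))) ∈ Q0.subgroupOf (normalizer (Q0 : Set X)) :=
    Subgroup.mem_subgroupOf.mpr hy
  have h4 : σ ⟨⟨y, hyN⟩, hy'⟩ = ⟨⟨y, hyN⟩, hy'⟩ := by rw [hσ1]; rfl
  have h5 : (((σ ⟨⟨y, hyN⟩, hy'⟩ : ↥(Q0.subgroupOf (normalizer (Q0 : Set X)))) :
      ↥(normalizer (Q0 : Set X))) : X) = g * y * g⁻¹ := rfl
  rw [h4] at h5
  exact h5.symm

/-- (G3) -/
theorem no_1584 {X : Type*} [Group X] [Finite X] (hX : Nat.card X = 1584) (P : Sylow 11 X)
    (hN : Nat.card (normalizer ((P : Subgroup X) : Set X)) = 11) : False := by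
  haveI : Fact (Nat.Prime 11) := ⟨by norm_num⟩
  haveI : Fact (Nat.Prime 3) := ⟨by norm_num⟩
  have hcard11 : ∀ S : Sylow 11 X, Nat.card (S : Subgroup X) = 11 :=
    fun S => g6_card_sylow 11 144 (by rw [hX]) (by norm_num) S
  have hnorm11 : ∀ S : Sylow 11 X, Nat.card (normalizer ((S : Subgroup X) : Set X)) = 11 := by
    intro S
    have h1 : Nat.card (Sylow 11 X) = (normalizer ((S : Subgroup X) : Set X)).index :=
      S.card_eq_index_normalizer
    have h2 : Nat.card (Sylow 11 X) = (normalizer ((P : Subgroup X) : Set X)).index :=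
      P.card_eq_index_normalizer
    have h3 := (normalizer ((S : Subgroup X) : Set X)).card_mul_index
    have h4 := (normalizer ((P : Subgroup X) : Set X)).card_mul_index
    rw [← h1] at h3
    rw [← h2, hN] at h4
    have hpos : 0 < Nat.card (Sylow 11 X) := Nat.card_pos
    exact Nat.eq_of_mul_eq_mul_right hpos (h3.trans h4.symm)
  have hself : ∀ S : Sylow 11 X, (S : Subgroup X) = normalizer ((S : Subgroup X) : Set X) :=
    fun S => Subgroup.eq_of_le_of_card_ge Subgroup.le_normalizer (by rw [hnorm11 S, hcard11 S])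
  -- `P` is abelian
  have hPcyc : IsCyclic ↥(P : Subgroup X) := isCyclic_of_prime_card (p := 11) (hcard11 P)
  have hPcomm : ∀ a ∈ (P : Subgroup X), ∀ b ∈ (P : Subgroup X), a * b = b * a := by
    intro a ha b hb
    letI := IsCyclic.commGroup (α := ↥(P : Subgroup X))
    have := mul_comm (⟨a, ha⟩ : ↥(P : Subgroup X)) ⟨b, hb⟩
    exact congrArg Subtype.val this
  have hNC : normalizer ((P : Subgroup X) : Set X) ≤ centralizer ((P : Subgroup X) : Set X) := by
    intro x hx
    rw [← hself P] at hx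
    rw [Subgroup.mem_centralizer_iff]
    intro y hy
    exact hPcomm y hy x hx
  -- Burnside: the normal complement `K` of order 144
  have hcompl := MonoidHom.ker_transferSylow_isComplement' P hNC
  have hmul := hcompl.card_mul_card
  rw [hcard11 P, hX] at hmul
  obtain ⟨K, hKdef⟩ : ∃ K : Subgroup X, K = (MonoidHom.transferSylow P hNC).ker := ⟨_, rfl⟩
  rw [← hKdef] at hmul
  have hKn : K.Normal := by rw [hKdef]; infer_instance
  have hK : Nat.card K = 144 := by omega
  -- a Sylow 3-subgroup of `K`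
  obtain ⟨Q⟩ : Nonempty (Sylow 3 K) := inferInstance
  obtain ⟨n, hn⟩ := IsPGroup.iff_card.mp Q.2
  have hn2 : n ≤ 2 := by
    by_contra hlt
    have h3 : 3 ≤ n := by omega
    have h4 : 3 ^ 3 ∣ Nat.card K := by
      have : 3 ^ n ∣ Nat.card K := by rw [← hn]; exact (Q : Subgroup K).card_subgroup_dvd_card
      exact (pow_dvd_pow 3 h3).trans this
    rw [hK] at h4
    omega
  have hn0 : n ≠ 0 := by
    intro h0
    rw [h0, pow_zero] at hn
    exact Q.ne_bot_of_dvd_card (by rw [hK]; norm_num) ((Q : Subgroup K).card_eq_one.mp hn)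
  obtain ⟨Q0, hQ0⟩ : ∃ Q0 : Subgroup X, Q0 = (Q : Subgroup K).map K.subtype := ⟨_, rfl⟩
  have hQ0card : Nat.card Q0 = 3 ^ n := by
    rw [hQ0, ← hn]
    exact Nat.card_congr
      ((Q : Subgroup K).equivMapOfInjective K.subtype K.subtype_injective).toEquiv.symm
  have hQ0lt : Nat.card Q0 < 11 := by
    rw [hQ0card]
    calc 3 ^ n ≤ 3 ^ 2 := Nat.pow_le_pow_right (by norm_num) hn2
      _ < 11 := by norm_num
  -- Frattini
  have hfrat : normalizer (Q0 : Set X) ⊔ K = ⊤ := by
    rw [hQ0]; exact Sylow.normalizer_sup_eq_top Q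
  have h11M : 11 ∣ Nat.card (normalizer (Q0 : Set X)) := by
    have hquot : Nat.card (X ⧸ K) = 11 := by
      have := K.card_eq_card_quotient_mul_card_subgroup
      rw [hX, hK] at this
      omega
    rw [← hquot]
    apply Subgroup.card_dvd_of_surjective
      ((QuotientGroup.mk' K).comp (normalizer (Q0 : Set X)).subtype)
    intro q
    obtain ⟨x, rfl⟩ := QuotientGroup.mk'_surjective K q
    have hx : x ∈ ((normalizer (Q0 : Set X) ⊔ K : Subgroup X) : Set X) := by
      rw [hfrat]; exact Set.mem_univ x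
    rw [Subgroup.mul_normal] at hx
    obtain ⟨m, hm, k, hk, rfl⟩ := Set.mem_mul.mp hx
    refine ⟨⟨m, hm⟩, ?_⟩
    show (QuotientGroup.mk' K) m = (QuotientGroup.mk' K) (m * k)
    rw [QuotientGroup.mk'_apply, QuotientGroup.mk'_apply, QuotientGroup.eq]
    simpa using hk
  -- an element of order 11 normalising `Q0`
  obtain ⟨g', hg'⟩ := exists_prime_orderOf_dvd_card' 11 h11M
  have hg : orderOf (g' : X) = 11 := by rw [Subgroup.orderOf_coe]; exact hg'
  have hcent := g3_centralizes Q0 hQ0lt (g' : X) hg g'.2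
  -- the Sylow 11-subgroup generated by it
  have hzp : IsPGroup 11 (Subgroup.zpowers (g' : X)) :=
    IsPGroup.of_card (n := 1) (by rw [Nat.card_zpowers, hg, pow_one])
  obtain ⟨S, hS⟩ := hzp.exists_le_sylow
  have hSz : Subgroup.zpowers (g' : X) = (S : Subgroup X) :=
    Subgroup.eq_of_le_of_card_ge hS (by rw [hcard11 S, Nat.card_zpowers, hg])
  have hQS : Q0 ≤ normalizer ((S : Subgroup X) : Set X) := by
    intro y hy
    apply Subgroup.centralizer_le_normalizer
    rw [Subgroup.mem_centralizer_iff]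
    intro h hh
    have hh' : h ∈ Subgroup.zpowers (g' : X) := by rw [hSz]; exact hh
    have hgc : (g' : X) ∈ centralizer ({y} : Set X) := by
      rw [Subgroup.mem_centralizer_iff]
      intro z hz
      rw [Set.mem_singleton_iff] at hz
      rw [hz]
      have h1 := hcent y hy
      calc y * (g' : X) = (g' : X) * y * (g' : X)⁻¹ * (g' : X) := by rw [h1]
        _ = (g' : X) * y := by group
    have h2 : h ∈ centralizer ({y} : Set X) := (Subgroup.zpowers_le.mpr hgc) hh'
    rw [Subgroup.mem_centralizer_iff] at h2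
    exact (h2 y rfl).symm
  have hdvd : Nat.card Q0 ∣ 11 := by
    rw [← hnorm11 S]; exact Subgroup.card_dvd_of_le hQS
  rw [hQ0card] at hdvd
  have h3 : 3 ∣ 11 := (dvd_pow_self 3 hn0).trans hdvd
  omega

end Cfsg.Agent.Helper38.NSE
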