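import Mathlib
import Cfsg.Agent.Lib.Helper7.O5760Defs

/-!
# O5760 server (helper7, S0980): piece (D4) `line_basic`
-/

set_option autoImplicit false
set_option linter.unusedVariables false
set_option linter.style.haveILetI false

namespace Cfsg.Agent.Helper38.O5760

open Cfsg MulAction Cfsg.Agent.Helper7.O5760

universe u v

section D

variable {G : Type u} [Group G] {X : Type v} [MulAction G X]

/-- an element commuting with `K3 G a b` maps the line to itself -/
theorem d4_smul_mem (a b : X) (g : G) (hg : ∀ k ∈ K3 G a b, g * k = k * g) (c : X)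
    (hc : c ∈ line G a b) : g • c ∈ line G a b := by
  intro k hk
  rw [← mul_smul, ← hg k hk, mul_smul, hc k hk]

/-- (D4) the size of a line: `4 ≤ n ≤ 15`, `n ≡ 1 mod 3`. -/
theorem line_basic [Finite G] (z : X → G) (h : Hyp G X z)
    (hprops : ∀ a b : X, a ≠ b → K3 G a b ≠ ⊥ ∧ K3 G a b ≤ Subgroup.centralizer ({z a} : Set G) ∧
      K3 G a b ≤ stabilizer G a ⊓ stabilizer G b ∧
      (∀ g ∈ stabilizer G a ⊓ stabilizer G b, ∀ k ∈ K3 G a b, g * k * g⁻¹ ∈ K3 G a b))
    (a b : X) (hab : a ≠ b) :
    4 ≤ Nat.card (line G a b) ∧ Nat.card (line G a b) ≤ 15 ∧ Nat.card (line G a b) % 3 = 1 := by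
  classical
  haveI : Finite X := Nat.finite_of_card_ne_zero (by rw [h.cardX]; norm_num)
  obtain ⟨hne, hcen, hstab, -⟩ := hprops a b hab
  have hza : z a • a = a := (h.zFix a a).2 rfl
  have hz3 : z a ^ 3 = 1 := by rw [← h.zOrder a]; exact pow_orderOf_eq_one _
  -- `z a` commutes with `K3`
  have hcomm : ∀ k ∈ K3 G a b, z a * k = k * z a := fun k hk =>
    Subgroup.mem_centralizer_iff.1 (hcen hk) (z a) rfl
  have hcommZ : ∀ g ∈ Subgroup.zpowers (z a), ∀ k ∈ K3 G a b, g * k = k * g := by
    intro g hg k hk
    obtain ⟨n, rfl⟩ := Subgroup.mem_zpowers_iff.1 hg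
    have hc : Commute (z a) k := hcomm k hk
    exact (hc.zpow_left n).eq
  -- points of the line
  have ha : a ∈ line G a b := fun k hk => (Subgroup.mem_inf.1 (hstab hk)).1
  have hb : b ∈ line G a b := fun k hk => (Subgroup.mem_inf.1 (hstab hk)).2
  have hzb : z a • b ∈ line G a b := d4_smul_mem a b (z a) hcomm b hb
  have hzzb : z a • z a • b ∈ line G a b := d4_smul_mem a b (z a) hcomm _ hzb
  have hinj : ∀ x y : X, z a • x = z a • y → x = y := fun x y hxy =>
    (MulAction.injective (z a)) hxy
  have n1 : z a • b ≠ b := fun hh => hab ((h.zFix a b).1 hh).symm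
  have n2 : z a • b ≠ a := fun hh => by
    have : z a • b = z a • a := by rw [hza]; exact hh
    exact hab (hinj _ _ this).symm
  have n3 : z a • z a • b ≠ z a • b := fun hh => n1 (hinj _ _ hh)
  have n4 : z a • z a • b ≠ a := fun hh => by
    have : z a • z a • b = z a • a := by rw [hza]; exact hh
    exact n2 (hinj _ _ this)
  have n5 : z a • z a • b ≠ b := fun hh => by
    have h3 : z a • z a • z a • b = b := by
      rw [← mul_smul, ← mul_smul, ← pow_two, ← pow_succ, hz3, one_smul]
    rw [hh] at h3
    exact n1 h3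
  refine ⟨?_, ?_, ?_⟩
  · -- four points
    rw [Nat.card_coe_set_eq]
    have hsub : ({a, b, z a • b, z a • z a • b} : Set X) ⊆ line G a b := by
      intro x hx
      simp only [Set.mem_insert_iff, Set.mem_singleton_iff] at hx
      rcases hx with rfl | rfl | rfl | rfl
      · exact ha
      · exact hb
      · exact hzb
      · exact hzzb
    have hcard : ({a, b, z a • b, z a • z a • b} : Set X).ncard = 4 := by
      rw [Set.ncard_insert_of_notMem, Set.ncard_insert_of_notMem, Set.ncard_pair n3.symm]
      · simp only [Set.mem_insert_iff, Set.mem_singleton_iff, not_or]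
        exact ⟨n1.symm, n5.symm⟩
      · simp only [Set.mem_insert_iff, Set.mem_singleton_iff, not_or]
        exact ⟨hab, n2.symm, n4.symm⟩
    rw [← hcard]
    exact Set.ncard_le_ncard hsub (Set.toFinite _)
  · -- not everything
    rw [Nat.card_coe_set_eq]
    obtain ⟨k, hk, hk'⟩ := (Subgroup.bot_or_exists_ne_one (K3 G a b)).resolve_left hne
    have hex : ∃ c : X, k • c ≠ c := by
      by_contra hcon
      have hall : ∀ c : X, k • c = c := fun c => by
        by_contra hc
        exact hcon ⟨c, hc⟩
      exact hk' (h.faithful _ hall)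
    obtain ⟨c, hc⟩ := hex
    have hcl : c ∉ line G a b := fun hh => hc (hh _ hk)
    have hss : line G a b ⊂ Set.univ := by
      rw [Set.ssubset_univ_iff]
      intro hh
      exact hcl (hh ▸ Set.mem_univ c)
    have := Set.ncard_lt_ncard hss (Set.toFinite _)
    rw [Set.ncard_univ, h.cardX] at this
    omega
  · -- congruence mod 3
    letI act : MulAction ↥(Subgroup.zpowers (z a)) ↥(line G a b) :=
      { smul := fun g c => ⟨(g : G) • (c : X), d4_smul_mem a b g.1 (hcommZ g.1 g.2) c.1 c.2⟩
        one_smul := fun c => Subtype.ext (one_smul G (c : X))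
        mul_smul := fun g g' c => Subtype.ext (mul_smul (g : G) (g' : G) (c : X)) }
    have hsmul : ∀ (g : ↥(Subgroup.zpowers (z a))) (c : ↥(line G a b)),
        ((g • c : ↥(line G a b)) : X) = (g : G) • (c : X) := fun g c => rfl
    haveI : Fact (Nat.Prime 3) := ⟨Nat.prime_three⟩
    have hp : IsPGroup 3 ↥(Subgroup.zpowers (z a)) := by
      apply IsPGroup.of_card (n := 1)
      rw [Nat.card_zpowers, h.zOrder a, pow_one]
    have hmod := hp.card_modEq_card_fixedPoints ↥(line G a b)
    have hfix : fixedPoints ↥(Subgroup.zpowers (z a)) ↥(line G a b) = {⟨a, ha⟩} := by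
      ext c
      rw [mem_fixedPoints, Set.mem_singleton_iff]
      constructor
      · intro hc
        have h1 := hc ⟨z a, Subgroup.mem_zpowers (z a)⟩
        have h2 : z a • (c : X) = c := by
          have := congrArg Subtype.val h1
          rwa [hsmul] at this
        exact Subtype.ext ((h.zFix a c).1 h2)
      · rintro rfl g
        apply Subtype.ext
        rw [hsmul]
        have hle : Subgroup.zpowers (z a) ≤ stabilizer G a := by
          rw [Subgroup.zpowers_le]
          exact hza
        exact hle g.2
    rw [hfix] at hmod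
    have h1 : Nat.card ↥({⟨a, ha⟩} : Set ↥(line G a b)) = 1 := by
      rw [Nat.card_coe_set_eq, Set.ncard_singleton]
    rw [h1] at hmod
    exact hmod

end D

end Cfsg.Agent.Helper38.O5760
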