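import Mathlib
import Cfsg.Agent.Lib.Helper7.O5760Defs

/-!
# O5760 server (helper7, S0980): piece (D5) `card_normalizer_K3`
-/

set_option autoImplicit false
set_option linter.unusedVariables false
set_option linter.style.haveILetI false

namespace Cfsg.Agent.Helper38.O5760

open Cfsg MulAction Cfsg.Agent.Helper7.O5760

universe u v

section D

variable {G : Type u} [Group G] {X : Type v} [MulAction G X]

/-- the action of the normalizer of `K3 G a b` on the line -/
theorem d5_smul_mem (a b : X) (g : G)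
    (hg : g ∈ Subgroup.normalizer ((K3 G a b : Subgroup G) : Set G)) (c : X)
    (hc : c ∈ line G a b) : g • c ∈ line G a b := by
  intro k hk
  have hg' : g⁻¹ ∈ Subgroup.normalizer ((K3 G a b : Subgroup G) : Set G) := inv_mem hg
  have h1 : g⁻¹ * k * g⁻¹⁻¹ ∈ K3 G a b := (Subgroup.mem_normalizer_iff.1 hg' k).1 hk
  have h2 := hc _ h1
  have h3 : k • g • c = g • ((g⁻¹ * k * g⁻¹⁻¹) • c) := by
    rw [← mul_smul, ← mul_smul]
    congr 1
    group
  rw [h3, h2]

/-- (D5) the normalizer of `K3 G a b` is 2-transitive on the line with two-point stabilizers of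
order 24. -/
theorem card_normalizer_K3 [Finite G] (z : X → G) (h : Hyp G X z)
    (hbasic : (∀ (g : G) (a b : X) (k : G), k ∈ K3 G a b → g * k * g⁻¹ ∈ K3 G (g • a) (g • b)) ∧
      (∀ (g : G) (a b c : X), c ∈ line G a b → g • c ∈ line G (g • a) (g • b)) ∧
      (∀ a b c d : X, c ∈ line G a b → d ∈ line G a b → K3 G a b ≤ K3 G c d) ∧
      (∀ a b : X, a ∈ line G a b ∧ b ∈ line G a b))
    (hline : ∀ a b c d : X, a ≠ b → c ≠ d → c ∈ line G a b → d ∈ line G a b →
      K3 G c d = K3 G a b ∧ line G c d = line G a b)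
    (hprops : ∀ a b : X, a ≠ b → K3 G a b ≠ ⊥ ∧ K3 G a b ≤ Subgroup.centralizer ({z a} : Set G) ∧
      K3 G a b ≤ stabilizer G a ⊓ stabilizer G b ∧
      (∀ g ∈ stabilizer G a ⊓ stabilizer G b, ∀ k ∈ K3 G a b, g * k * g⁻¹ ∈ K3 G a b))
    (hgen : ∀ (N : Type u) [Group N] [Finite N] (F : Type v) [MulAction N F] [Finite F], 2 ≤ Nat.card F →
      (∀ a b c d : F, a ≠ b → c ≠ d → ∃ g : N, g • a = c ∧ g • b = d) → ∀ m : ℕ,
      (∀ a b : F, a ≠ b → Nat.card ↥(stabilizer N a ⊓ stabilizer N b) = m) →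
      Nat.card N = Nat.card F * (Nat.card F - 1) * m)
    (a b : X) (hab : a ≠ b) (hn : 2 ≤ Nat.card (line G a b)) :
    Nat.card (Subgroup.normalizer ((K3 G a b : Subgroup G) : Set G)) =
      Nat.card (line G a b) * (Nat.card (line G a b) - 1) * 24 := by
  classical
  haveI : Finite X := Nat.finite_of_card_ne_zero (by rw [h.cardX]; norm_num)
  letI act : MulAction ↥(Subgroup.normalizer ((K3 G a b : Subgroup G) : Set G)) ↥(line G a b) :=
    { smul := fun g c => ⟨(g : G) • (c : X), d5_smul_mem a b g.1 g.2 c.1 c.2⟩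
      one_smul := fun c => Subtype.ext (one_smul G (c : X))
      mul_smul := fun g g' c => Subtype.ext (mul_smul (g : G) (g' : G) (c : X)) }
  have hsmul : ∀ (g : ↥(Subgroup.normalizer ((K3 G a b : Subgroup G) : Set G)))
      (c : ↥(line G a b)), ((g • c : ↥(line G a b)) : X) = (g : G) • (c : X) := fun g c => rfl
  -- membership in the normalizer
  have hmemN : ∀ (c d c' d' : X), c ≠ d → c' ≠ d' → c ∈ line G a b → d ∈ line G a b →
      c' ∈ line G a b → d' ∈ line G a b → ∀ g : G, g • c = c' → g • d = d' →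
      g ∈ Subgroup.normalizer ((K3 G a b : Subgroup G) : Set G) := by
    intro c d c' d' hcd hcd' hc hd hc' hd' g hgc hgd
    have e1 : K3 G c d = K3 G a b := (hline a b c d hab hcd hc hd).1
    have e2 : K3 G c' d' = K3 G a b := (hline a b c' d' hab hcd' hc' hd').1
    rw [Subgroup.mem_normalizer_iff]
    intro k
    constructor
    · intro hk
      have h1 := hbasic.1 g c d k (by rw [e1]; exact hk)
      rw [hgc, hgd, e2] at h1
      exact h1
    · intro hk
      have h1 := hbasic.1 g⁻¹ c' d' (g * k * g⁻¹) (by rw [e2]; exact hk)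
      have e3 : g⁻¹ • c' = c := by rw [← hgc, inv_smul_smul]
      have e4 : g⁻¹ • d' = d := by rw [← hgd, inv_smul_smul]
      rw [e3, e4, e1] at h1
      have e5 : g⁻¹ * (g * k * g⁻¹) * g⁻¹⁻¹ = k := by group
      rw [e5] at h1
      exact h1
  refine hgen ↥(Subgroup.normalizer ((K3 G a b : Subgroup G) : Set G)) ↥(line G a b) hn ?_ 24 ?_
  · -- 2-transitivity
    intro c d c' d' hcd hcd'
    have hcdv : (c : X) ≠ (d : X) := fun hh => hcd (Subtype.ext hh)
    have hcdv' : (c' : X) ≠ (d' : X) := fun hh => hcd' (Subtype.ext hh)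
    obtain ⟨g, hgc, hgd⟩ := h.twoTrans c d c' d' hcdv hcdv'
    have hg := hmemN c d c' d' hcdv hcdv' c.2 d.2 c'.2 d'.2 g hgc hgd
    refine ⟨⟨g, hg⟩, Subtype.ext ?_, Subtype.ext ?_⟩
    · rw [hsmul]; exact hgc
    · rw [hsmul]; exact hgd
  · -- two-point stabilizers
    intro c d hcd
    have hcdv : (c : X) ≠ (d : X) := fun hh => hcd (Subtype.ext hh)
    have hle : stabilizer G (c : X) ⊓ stabilizer G (d : X) ≤
        Subgroup.normalizer ((K3 G a b : Subgroup G) : Set G) := by
      intro g hg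
      have hgc : g • (c : X) = c := (Subgroup.mem_inf.1 hg).1
      have hgd : g • (d : X) = d := (Subgroup.mem_inf.1 hg).2
      exact hmemN c d c d hcdv hcdv c.2 d.2 c.2 d.2 g hgc hgd
    have heq : stabilizer ↥(Subgroup.normalizer ((K3 G a b : Subgroup G) : Set G)) c ⊓
        stabilizer ↥(Subgroup.normalizer ((K3 G a b : Subgroup G) : Set G)) d =
        (stabilizer G (c : X) ⊓ stabilizer G (d : X)).subgroupOf
          (Subgroup.normalizer ((K3 G a b : Subgroup G) : Set G)) := by
      ext g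
      rw [Subgroup.mem_inf, Subgroup.mem_subgroupOf, Subgroup.mem_inf, mem_stabilizer_iff,
        mem_stabilizer_iff, mem_stabilizer_iff, mem_stabilizer_iff]
      constructor
      · rintro ⟨h1, h2⟩
        exact ⟨by rw [← hsmul, h1], by rw [← hsmul, h2]⟩
      · rintro ⟨h1, h2⟩
        exact ⟨Subtype.ext (by rw [hsmul]; exact h1), Subtype.ext (by rw [hsmul]; exact h2)⟩
    rw [heq, Nat.card_congr (Subgroup.subgroupOfEquivOfLe hle).toEquiv]
    exact h.card24 c d hcdv

end D

end Cfsg.Agent.Helper38.O5760
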