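import Mathlib
import Cfsg.Prelude.Def_FusionSystem
import Cfsg.Agent.Lib.Helper87.Om7Defs
import Cfsg.Agent.Lib.Helper77.Om7API1
import Cfsg.Agent.Lib.Helper8.Om7API2a

set_option autoImplicit false
set_option linter.unusedVariables false
set_option linter.unusedSectionVars false

/-!
# OM7 (B3) `exists_perm_of_diag` for helper87's server (S2647)
-/

namespace Cfsg.Agent.Helper38.Om7

open Matrix QuadraticMap Cfsg.Agent.Helper36.QuadInv Cfsg.Agent.Helper36.OmegaTrans
  Cfsg.Agent.Helper43 Cfsg.Agent.Helper87.Om7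
open Cfsg.Agent.Helper77.Om7 Cfsg.Agent.Helper8.Om7

variable {F : Type*} [Field F] [Fintype F] [DecidableEq F] {ι : Type} [Fintype ι] [DecidableEq ι]
variable {Q : QuadraticForm F (ι → F)} {c : F} {f : Fin 7 → ι → F}

theorem b3_third : ∀ j l : Fin 7, ∃ m : Fin 7, m ≠ j ∧ m ≠ l := by decide

/-- moving an involution to the other side of the polar form -/
theorem b3_polar_invol (d : OG F ⇑Q) (hd : d * d = 1) (u v : ι → F) :
    polar Q u (actHom (⇑Q) d v) = polar Q (actHom (⇑Q) d u) v := by
  have h1 := polar_act (Q := Q) d u (actHom (⇑Q) d v)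
  rw [← act_mul, hd, act_one] at h1
  exact h1.symm

theorem b3_polar_D (hF : Frame Q c f) {m l : Fin 7} (hml : m ≠ l) (k : Fin 7) (v : ι → F) :
    polar Q (f k) (actHom (⇑Q) (D Q f m l) v)
      = if k = m ∨ k = l then - polar Q (f k) v else polar Q (f k) v := by
  rw [b3_polar_invol _ (D_mul_self hF hml), D_act hF hml]
  split_ifs
  · rw [polar_neg_left]
  · rfl

/-- a vector of norm `c` which is an eigenvector of every `D m l` is `± f j` -/
theorem b3_eigen (hF : Frame Q c f) (v : ι → F) (hv : Q v = c)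
    (h : ∀ m l : Fin 7, m ≠ l →
      actHom (⇑Q) (D Q f m l) v = v ∨ actHom (⇑Q) (D Q f m l) v = - v) :
    ∃ j : Fin 7, v = f j ∨ v = - f j := by
  have h2 := hF.two
  have hc := hF.c0
  -- a nonzero coordinate
  have hex : ∃ j, polar Q (f j) v ≠ 0 := by
    by_contra hcon0
    have hcon : ∀ j, polar Q (f j) v = 0 := fun j => by_contra (fun hne => hcon0 ⟨j, hne⟩)
    have hv0 : v = 0 := by
      apply frame_coord_ext hF
      intro i
      rw [hcon i, polar_zero_right]
    rw [hv0, map_zero] at hv
    exact hc hv.symm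
  obtain ⟨j, hj⟩ := hex
  -- all other coordinates vanish
  have hzero : ∀ l, l ≠ j → polar Q (f l) v = 0 := by
    intro l hlj
    obtain ⟨m, hmj, hml⟩ := b3_third j l
    have hjm : j ≠ m := fun h => hmj h.symm
    rcases h j m hjm with h1 | h1
    · exfalso
      have h3 := b3_polar_D hF hjm j v
      rw [h1, if_pos (Or.inl rfl)] at h3
      apply hj
      have h4 : (2 : F) * polar Q (f j) v = 0 := by
        rw [two_mul]; nth_rewrite 1 [h3]; exact neg_add_cancel _
      rcases mul_eq_zero.mp h4 with h5 | h5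
      · exact absurd h5 h2
      · exact h5
    · have h3 := b3_polar_D hF hjm l v
      have hn : ¬ (l = j ∨ l = m) := by
        rintro (h | h)
        · exact hlj h
        · exact hml h.symm
      rw [h1, if_neg hn, polar_neg_right] at h3
      have h4 : (2 : F) * polar Q (f l) v = 0 := by
        rw [two_mul]; nth_rewrite 1 [← h3]; exact neg_add_cancel _
      rcases mul_eq_zero.mp h4 with h5 | h5
      · exact absurd h5 h2
      · exact h5
  -- so `v = α • f j`
  have hrepr := frame_repr hF v
  rw [Finset.sum_eq_single j (fun l _ hl => by rw [hzero l hl, mul_zero, zero_smul])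
    (fun hj' => absurd (Finset.mem_univ j) hj')] at hrepr
  set α : F := (2 * c)⁻¹ * polar Q (f j) v with hα
  have hQ : α * α * c = c := by
    have h5 : Q v = Q (α • f j) := by rw [← hrepr]
    rw [QuadraticMap.map_smul, hF.norm, hv, smul_eq_mul] at h5
    exact h5.symm
  have hαα : α * α = 1 := by
    have h6 : (α * α - 1) * c = 0 := by rw [sub_mul, hQ, one_mul, sub_self]
    rcases mul_eq_zero.mp h6 with h7 | h7
    · exact sub_eq_zero.mp h7
    · exact absurd h7 hc
  refine ⟨j, ?_⟩
  rcases mul_self_eq_one_iff.mp hαα with h8 | h8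
  · left; rw [hrepr, h8, one_smul]
  · right; rw [hrepr, h8, neg_smul, one_smul]

/-- (B3) -/
theorem exists_perm_of_diag (hF : Frame Q c f) (g : OG F ⇑Q)
    (h : ∀ i j : Fin 7, i ≠ j → IsMono Q f (g⁻¹ * D Q f i j * g) 1) :
    ∃ σ : Equiv.Perm (Fin 7), IsMono Q f g σ := by
  have hex : ∀ i : Fin 7, ∃ j : Fin 7,
      actHom (⇑Q) g (f i) = f j ∨ actHom (⇑Q) g (f i) = - f j := by
    intro i
    apply b3_eigen hF
    · exact (Q_act (Q := ⇑Q) g (f i)).trans (hF.norm i)
    · intro m l hml
      have h1 : actHom (⇑Q) (D Q f m l) (actHom (⇑Q) g (f i))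
          = actHom (⇑Q) g (actHom (⇑Q) (g⁻¹ * D Q f m l * g) (f i)) := by
        rw [← act_mul (D Q f m l) g, ← act_mul g (g⁻¹ * D Q f m l * g)]
        congr 2
        group
      rcases h m l hml i with h3 | h3
      · left
        rw [h1, h3]; rfl
      · right
        rw [h1, h3, map_neg]; rfl
  choose s hs using hex
  have sinj : Function.Injective s := by
    intro i i' hii
    apply frame_injective hF
    have e1 : ∀ u w : ι → F, actHom (⇑Q) g u = actHom (⇑Q) g w → u = w :=
      fun u w huw => (actHom (⇑Q) g).injective huw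
    rcases hs i with h1 | h1 <;> rcases hs i' with h2 | h2
    · left; apply e1; rw [h1, h2, hii]
    · right; apply e1; rw [map_neg, h1, h2, hii, neg_neg]
    · right; apply e1; rw [map_neg, h1, h2, hii]
    · left; apply e1; rw [h1, h2, hii]
  exact ⟨Equiv.ofBijective s (Finite.injective_iff_bijective.mp sinj), hs⟩

end Cfsg.Agent.Helper38.Om7
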