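import Mathlib
import Cfsg.Agent.Lib.Helper38.SpecBasic
import Cfsg.Agent.Lib.Helper41.SL2Spec

set_option autoImplicit false
set_option linter.unusedSectionVars false

/-!
# The set of element orders of `PGL₂(q)`
-/

namespace Cfsg.Agent.Helper38.PGL2Spec

open Matrix Polynomial Cfsg.Agent.Helper41

variable {F : Type*} [Field F]

/-- `(mk g) ^ n = 1` iff `g ^ n` is a scalar matrix -/
theorem mk_pow_eq_one_iff (g : GL (Fin 2) F) (n : ℕ) :
    ((QuotientGroup.mk g : GL (Fin 2) F ⧸ Subgroup.center (GL (Fin 2) F)) ^ n = 1) ↔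
      ∃ c : F, (g : Matrix (Fin 2) (Fin 2) F) ^ n = c • 1 := by
  rw [← QuotientGroup.mk_pow, QuotientGroup.eq_one_iff,
    GeneralLinearGroup.mem_center_iff_val_mem_range_scalar, Units.val_pow_eq_pow_val]
  constructor
  · rintro ⟨c, hc⟩
    exact ⟨c, by rw [← hc, scalar_apply, smul_one_eq_diagonal]⟩
  · rintro ⟨c, hc⟩
    exact ⟨c, by rw [hc, scalar_apply, smul_one_eq_diagonal]⟩

/-- Cayley–Hamilton for `2 × 2` matrices -/
theorem sq_eq (M : Matrix (Fin 2) (Fin 2) F) : M ^ 2 = M.trace • M - M.det • 1 := by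
  have h1 := Matrix.aeval_self_charpoly M
  rw [Matrix.charpoly_fin_two] at h1
  simp only [map_add, map_sub, map_mul, map_pow, aeval_X, aeval_C] at h1
  rw [Algebra.algebraMap_eq_smul_one, Algebra.algebraMap_eq_smul_one, smul_mul_assoc, one_mul] at h1
  rw [eq_sub_iff_add_eq, ← sub_eq_zero, ← h1]
  abel

theorem orderOf_eq_of_iff {G : Type*} [Group G] (x : G) (N : ℕ) (h : ∀ n : ℕ, x ^ n = 1 ↔ N ∣ n) :
    orderOf x = N :=
  Nat.dvd_antisymm (orderOf_dvd_of_pow_eq_one ((h N).mpr dvd_rfl))
    ((h _).mp (pow_orderOf_eq_one x))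

/-- a suitable power of an invertible `2 × 2` matrix over a finite field is scalar -/
theorem pow_scalar_cases [Fintype F] (p : ℕ) [Fact p.Prime] [CharP F p]
    (M : Matrix (Fin 2) (Fin 2) F) (hd : M.det ≠ 0) :
    (∃ c : F, M ^ p = c • 1) ∨ (∃ c : F, M ^ (Fintype.card F - 1) = c • 1) ∨
      (∃ c : F, M ^ (Fintype.card F + 1) = c • 1) := by
  have hCH := sq_eq M
  set t := M.trace with htdef
  set d := M.det with hddef
  set q := Fintype.card F with hq
  have hq1 : 1 ≤ q := Fintype.card_pos
  by_cases hΔ : t ^ 2 = 4 * d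
  · left
    by_cases hp : p = 2
    · subst hp
      have h2 : (2 : F) = 0 := CharTwo.two_eq_zero
      have h4 : (4 : F) = 0 := by
        have : (4 : F) = 2 * 2 := by norm_num
        rw [this, h2, mul_zero]
      rw [h4, zero_mul] at hΔ
      have ht0 : t = 0 := pow_eq_zero_iff (by norm_num) |>.mp hΔ
      refine ⟨-d, ?_⟩
      rw [hCH, ht0, zero_smul, zero_sub, neg_smul]
    · have : CharP (Matrix (Fin 2) (Fin 2) F) p := Matrix.charP p
      have hp2 : 2 ≤ p := (Fact.out : p.Prime).two_le
      have h2 : (2 : F) ≠ 0 := by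
        intro h
        have h' : ((2 : ℕ) : F) = 0 := by exact_mod_cast h
        rw [CharP.cast_eq_zero_iff F p] at h'
        have := Nat.le_of_dvd (by norm_num) h'
        omega
      set a := t / 2 with ha
      have hta : t = 2 * a := by rw [ha]; field_simp
      have hda : d = a ^ 2 := by
        have : 4 * d = 4 * a ^ 2 := by rw [← hΔ, hta]; ring
        have h4 : (4 : F) ≠ 0 := by
          have : (4 : F) = 2 * 2 := by norm_num
          rw [this]
          exact mul_ne_zero h2 h2
        exact mul_left_cancel₀ h4 this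
      have hcomm : Commute M (a • (1 : Matrix (Fin 2) (Fin 2) F)) :=
        (Commute.one_right M).smul_right a
      have hsq : (M - a • (1 : Matrix (Fin 2) (Fin 2) F)) ^ 2 = 0 := by
        have hexp : (M - a • (1 : Matrix (Fin 2) (Fin 2) F)) ^ 2 =
            M ^ 2 - (2 * a) • M + (a ^ 2) • (1 : Matrix (Fin 2) (Fin 2) F) := by
          rw [pow_two, pow_two]
          simp only [sub_mul, mul_sub, smul_mul_assoc, mul_smul_comm, one_mul, mul_one]
          module
        rw [hexp, hCH, hta, hda]
        module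
      have h1 : (M - a • (1 : Matrix (Fin 2) (Fin 2) F)) ^ p = 0 := by
        obtain ⟨k, hk⟩ := Nat.exists_eq_add_of_le hp2
        rw [hk, pow_add, hsq, zero_mul]
      rw [sub_pow_char_of_commute p hcomm, sub_eq_zero] at h1
      refine ⟨a ^ p, ?_⟩
      rw [h1, _root_.smul_pow, one_pow]
  · right
    let L := AlgebraicClosure F
    let φ : F →+* L := algebraMap F L
    have hφ : Function.Injective φ := (algebraMap F L).injective
    obtain ⟨a, ha⟩ : ∃ a : L, a ^ 2 - φ t * a + φ d = 0 := by
      have hdeg : (C (1 : L) * X ^ 2 + C (-(φ t)) * X + C (φ d) : L[X]).degree ≠ 0 := by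
        rw [degree_quadratic one_ne_zero]; decide
      obtain ⟨a, ha⟩ := IsAlgClosed.exists_root _ hdeg
      refine ⟨a, ?_⟩
      simp only [IsRoot.def, eval_add, eval_mul, eval_C, eval_pow, eval_X] at ha
      linear_combination ha
    set b := φ t - a with hb
    have hab : a * b = φ d := by rw [hb]; linear_combination -ha
    have hd' : φ d ≠ 0 := by
      rw [Ne, map_eq_zero_iff φ hφ]
      exact hd
    have ha0 : a ≠ 0 := by
      rintro rfl
      rw [zero_mul] at hab
      exact hd' hab.symm
    have hb0 : b ≠ 0 := by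
      intro h
      rw [h, mul_zero] at hab
      exact hd' hab.symm
    have hsum : a + b = φ t := by rw [hb]; ring
    have hne : a ≠ b := by
      intro h
      apply hΔ
      apply hφ
      have h1 : φ t = 2 * a := by rw [← hsum, ← h]; ring
      have h2 : φ d = a ^ 2 := by rw [← hab, ← h]; ring
      rw [map_pow, map_mul, h1, h2]
      simp only [map_ofNat]
      ring
    obtain ⟨f, -, hf⟩ := FiniteField.card F p
    have htq : φ t ^ q = φ t := by rw [← map_pow, hq, FiniteField.pow_card]
    have hdq : φ d ^ q = φ d := by rw [← map_pow, hq, FiniteField.pow_card]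
    have hfrob : (a ^ q) ^ 2 - φ t * a ^ q + φ d = 0 := by
      have h1 : (a ^ 2 - φ t * a + φ d) ^ q = 0 := by rw [ha, zero_pow (by omega)]
      rw [hq, hf] at h1 ⊢
      rw [add_pow_char_pow, sub_pow_char_pow, mul_pow, ← hf, ← hq, htq, hdq, ← pow_mul,
        mul_comm 2 q, pow_mul] at h1
      rw [← hf, ← hq]
      exact h1
    have hbq : b ^ q = φ t - a ^ q := by
      rw [hb, hq, hf, sub_pow_char_pow, ← hf, ← hq, htq]
    have hfrob' : (a ^ q - a) * (a ^ q - b) = 0 := by
      have : (a ^ q - a) * (a ^ q - b) = (a ^ q) ^ 2 - (a + b) * a ^ q + a * b := by ring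
      rw [this, hsum, hab]; exact hfrob
    set N : Matrix (Fin 2) (Fin 2) L := φ.mapMatrix M with hNdef
    have hNdet : N.det = φ d := by rw [hNdef, ← RingHom.map_det]
    have hNtr : N.trace = φ t := by
      rw [hNdef, htdef]
      simp [Matrix.trace, RingHom.mapMatrix_apply]
    have hCHN := sq_eq N
    rw [hNtr, hNdet] at hCHN
    have hNab : (N - a • (1 : Matrix (Fin 2) (Fin 2) L)) * (N - b • (1 : Matrix (Fin 2) (Fin 2) L)) = 0 := by
      have : (N - a • (1 : Matrix (Fin 2) (Fin 2) L)) * (N - b • (1 : Matrix (Fin 2) (Fin 2) L))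
          = N ^ 2 - (a + b) • N + (a * b) • (1 : Matrix (Fin 2) (Fin 2) L) := by
        simp only [sub_mul, mul_sub, smul_mul_assoc, mul_smul_comm, one_mul, mul_one,
          add_smul, pow_two]
        rw [smul_sub, smul_smul, mul_comm b a]
        abel
      rw [this, hsum, hab, hCHN]
      abel
    have hinj : Function.Injective (φ.mapMatrix : Matrix (Fin 2) (Fin 2) F →+* Matrix (Fin 2) (Fin 2) L) := by
      intro X Y hXY
      exact Matrix.map_injective hφ hXY
    have hmapsmul : ∀ c : F, φ.mapMatrix (c • (1 : Matrix (Fin 2) (Fin 2) F)) =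
        φ c • (1 : Matrix (Fin 2) (Fin 2) L) := by
      intro c
      rw [RingHom.mapMatrix_apply]
      rw [← Matrix.ext_iff]
      intro i j
      fin_cases i <;> fin_cases j <;> simp
    rcases mul_eq_zero.mp hfrob' with h | h
    · left
      have h1 : a ^ q = a := by linear_combination h
      have h1b : b ^ q = b := by rw [hbq, h1]
      have haq : a ^ (q - 1) = 1 := by
        have h2 : a ^ (q - 1) * a = 1 * a := by
          rw [← pow_succ, Nat.sub_add_cancel hq1, h1, one_mul]
        exact mul_right_cancel₀ ha0 h2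
      have hbq' : b ^ (q - 1) = 1 := by
        have h2 : b ^ (q - 1) * b = 1 * b := by
          rw [← pow_succ, Nat.sub_add_cancel hq1, h1b, one_mul]
        exact mul_right_cancel₀ hb0 h2
      have hNk := pow_eq_smul_of_roots N a b 1 hne hNab (q - 1) haq hbq'
      refine ⟨1, ?_⟩
      apply hinj
      rw [map_pow, ← hNdef, hNk, hmapsmul, map_one]
    · right
      have h1 : a ^ q = b := by linear_combination h
      have h1b : b ^ q = a := by rw [hbq, h1, hb]; ring
      have haq : a ^ (q + 1) = φ d := by rw [pow_succ, h1, mul_comm, hab]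
      have hbq' : b ^ (q + 1) = φ d := by rw [pow_succ, h1b, hab]
      have hNk := pow_eq_smul_of_roots N a b (φ d) hne hNab (q + 1) haq hbq'
      refine ⟨d, ?_⟩
      apply hinj
      rw [map_pow, ← hNdef, hNk, hmapsmul]

/-- the orders of the elements of `PGL₂(q)` divide `p`, `q - 1` or `q + 1` -/
theorem pgl_pow_cases [Fintype F] (p : ℕ) [Fact p.Prime] [CharP F p]
    (x : GL (Fin 2) F ⧸ Subgroup.center (GL (Fin 2) F)) :
    x ^ p = 1 ∨ x ^ (Fintype.card F - 1) = 1 ∨ x ^ (Fintype.card F + 1) = 1 := by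
  obtain ⟨g, rfl⟩ := QuotientGroup.mk_surjective x
  have hd : (g : Matrix (Fin 2) (Fin 2) F).det ≠ 0 := by
    have := Matrix.GeneralLinearGroup.det g
    exact (Matrix.GeneralLinearGroup.det g).ne_zero
  rcases pow_scalar_cases p (g : Matrix (Fin 2) (Fin 2) F) hd with h | h | h
  · left; exact (mk_pow_eq_one_iff g p).mpr h
  · right; left; exact (mk_pow_eq_one_iff g _).mpr h
  · right; right; exact (mk_pow_eq_one_iff g _).mpr h

end Cfsg.Agent.Helper38.PGL2Spec
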