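import Mathlib
import Cfsg.Agent.Lib.Helper38.PGL2Spec

set_option autoImplicit false
set_option linter.unusedSectionVars false

/-!
# Elements of orders `p`, `q - 1`, `q + 1` in `PGL₂(q)`
-/

namespace Cfsg.Agent.Helper38.PGL2Spec

open Matrix Polynomial Cfsg.Agent.Helper41

variable {F : Type*} [Field F]

theorem smul_one_fin_two (c : F) : c • (1 : Matrix (Fin 2) (Fin 2) F) = !![c, 0; 0, c] := by
  rw [← Matrix.ext_iff]
  intro i j
  fin_cases i <;> fin_cases j <;> simp

theorem upper_pow (n : ℕ) :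
    (!![1, 1; 0, 1] : Matrix (Fin 2) (Fin 2) F) ^ n = !![1, (n : F); 0, 1] := by
  induction n with
  | zero =>
    rw [pow_zero, Nat.cast_zero]
    rw [← Matrix.ext_iff]
    intro i j
    fin_cases i <;> fin_cases j <;> simp
  | succ n ih =>
    rw [pow_succ, ih, Matrix.mul_fin_two, Nat.cast_succ]
    rw [← Matrix.ext_iff]
    intro i j
    fin_cases i <;> fin_cases j <;> simp [add_comm]

theorem diag_pow (l : F) (n : ℕ) :
    (!![l, 0; 0, 1] : Matrix (Fin 2) (Fin 2) F) ^ n = !![l ^ n, 0; 0, 1] := by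
  induction n with
  | zero =>
    rw [pow_zero, pow_zero]
    rw [← Matrix.ext_iff]
    intro i j
    fin_cases i <;> fin_cases j <;> simp
  | succ n ih =>
    rw [pow_succ, ih, Matrix.mul_fin_two, pow_succ]
    rw [← Matrix.ext_iff]
    intro i j
    fin_cases i <;> fin_cases j <;> simp

theorem mat2_entries {a b c d a' b' c' d' : F} (h : !![a, b; c, d] = !![a', b'; c', d']) :
    a = a' ∧ b = b' ∧ c = c' ∧ d = d' := by
  have h00 := congrFun (congrFun h 0) 0
  have h01 := congrFun (congrFun h 0) 1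
  have h10 := congrFun (congrFun h 1) 0
  have h11 := congrFun (congrFun h 1) 1
  simp at h00 h01 h10 h11
  exact ⟨h00, h01, h10, h11⟩

/-- an element of order `p` -/
theorem pgl_exists_p (p : ℕ) [Fact p.Prime] [CharP F p] :
    ∃ x : GL (Fin 2) F ⧸ Subgroup.center (GL (Fin 2) F), orderOf x = p := by
  let g : GL (Fin 2) F := Matrix.GeneralLinearGroup.mkOfDetNeZero !![1, 1; 0, 1] (by
    rw [Matrix.det_fin_two_of]; simp)
  have hg : (g : Matrix (Fin 2) (Fin 2) F) = !![1, 1; 0, 1] := rfl
  refine ⟨QuotientGroup.mk g, ?_⟩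
  apply orderOf_eq_of_iff
  intro n
  rw [mk_pow_eq_one_iff, hg, upper_pow]
  constructor
  · rintro ⟨c, hc⟩
    rw [smul_one_fin_two] at hc
    obtain ⟨-, h01, -, -⟩ := mat2_entries hc
    exact (CharP.cast_eq_zero_iff F p n).mp h01
  · intro h
    refine ⟨1, ?_⟩
    rw [smul_one_fin_two, (CharP.cast_eq_zero_iff F p n).mpr h]

/-- an element of order `q - 1` -/
theorem pgl_exists_sub_one [Fintype F] :
    ∃ x : GL (Fin 2) F ⧸ Subgroup.center (GL (Fin 2) F), orderOf x = Fintype.card F - 1 := by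
  classical
  obtain ⟨l, hl⟩ := IsCyclic.exists_generator (α := Fˣ)
  have hord : orderOf l = Fintype.card F - 1 := by
    rw [orderOf_eq_card_of_forall_mem_zpowers hl, Nat.card_eq_fintype_card, Fintype.card_units]
  let g : GL (Fin 2) F := Matrix.GeneralLinearGroup.mkOfDetNeZero !![(l : F), 0; 0, 1] (by
    rw [Matrix.det_fin_two_of]; simp)
  have hg : (g : Matrix (Fin 2) (Fin 2) F) = !![(l : F), 0; 0, 1] := rfl
  refine ⟨QuotientGroup.mk g, ?_⟩
  apply orderOf_eq_of_iff
  intro n
  rw [mk_pow_eq_one_iff, hg, diag_pow, ← hord, orderOf_dvd_iff_pow_eq_one]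
  constructor
  · rintro ⟨c, hc⟩
    rw [smul_one_fin_two] at hc
    obtain ⟨h00, -, -, h11⟩ := mat2_entries hc
    apply Units.ext
    rw [Units.val_pow_eq_pow_val, h00, ← h11, Units.val_one]
  · intro h
    refine ⟨1, ?_⟩
    have h' := congrArg Units.val h
    rw [Units.val_pow_eq_pow_val, Units.val_one] at h'
    rw [smul_one_fin_two, h']

/-- an element of order `q + 1` (a Singer cycle) -/
theorem pgl_exists_add_one [Fintype F] (p : ℕ) [Fact p.Prime] [CharP F p] :
    ∃ x : GL (Fin 2) F ⧸ Subgroup.center (GL (Fin 2) F), orderOf x = Fintype.card F + 1 := by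
  classical
  obtain ⟨q, hq⟩ : ∃ q, q = Fintype.card F := ⟨_, rfl⟩
  rw [← hq]
  have hq2 : 2 ≤ q := by rw [hq]; exact Fintype.one_lt_card
  let L := FiniteField.Extension F p 2
  let _ : Fintype L := Fintype.ofFinite L
  have hcardL : Fintype.card L = q ^ 2 := by
    rw [Fintype.card_eq_nat_card, FiniteField.natCard_extension, Nat.card_eq_fintype_card, hq]
  obtain ⟨z, hz⟩ := IsCyclic.exists_generator (α := Lˣ)
  have hfac : q ^ 2 - 1 = (q + 1) * (q - 1) := by
    have := Nat.sq_sub_sq q 1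
    rw [one_pow] at this
    exact this
  have hzord : orderOf z = (q + 1) * (q - 1) := by
    rw [orderOf_eq_card_of_forall_mem_zpowers hz, Nat.card_eq_fintype_card, Fintype.card_units,
      hcardL, hfac]
  have hzq : (z : L) ^ ((q + 1) * (q - 1)) = 1 := by
    have := pow_orderOf_eq_one z
    rw [hzord] at this
    have h' := congrArg Units.val this
    rw [Units.val_pow_eq_pow_val, Units.val_one] at h'
    exact h'
  let b : Module.Basis (Fin 2) F L :=
    Module.finBasisOfFinrankEq F L (FiniteField.finrank_extension F p 2)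
  have hdet : (Algebra.leftMulMatrix b (z : L)).det ≠ 0 := by
    rw [← Algebra.norm_eq_matrix_det, Algebra.norm_ne_zero_iff]
    exact z.ne_zero
  let g : GL (Fin 2) F := Matrix.GeneralLinearGroup.mkOfDetNeZero _ hdet
  have hg : (g : Matrix (Fin 2) (Fin 2) F) = Algebra.leftMulMatrix b (z : L) := rfl
  have hinj := Algebra.leftMulMatrix_injective b
  have hscal : ∀ c : F, Algebra.leftMulMatrix b (algebraMap F L c) =
      c • (1 : Matrix (Fin 2) (Fin 2) F) := by
    intro c
    rw [AlgHom.commutes, Algebra.algebraMap_eq_smul_one]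
  -- `z ^ (q + 1)` lies in `F`
  obtain ⟨c0, hc0⟩ : ∃ c0 : F, algebraMap F L c0 = (z : L) ^ (q + 1) := by
    apply mem_range_of_pow_card_eq (F := F)
    rw [← hq, ← pow_mul]
    have : (q + 1) * q = (q + 1) * (q - 1) + (q + 1) := by
      have : q = (q - 1) + 1 := by omega
      nth_rewrite 2 [this]
      ring
    rw [this, pow_add, hzq, one_mul]
  refine ⟨QuotientGroup.mk g, ?_⟩
  apply orderOf_eq_of_iff
  intro n
  rw [mk_pow_eq_one_iff, hg, ← map_pow]
  constructor
  · rintro ⟨c, hc⟩
    rw [← hscal] at hc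
    have h1 := hinj hc
    have hc0' : c ≠ 0 := by
      rintro rfl
      rw [map_zero] at h1
      exact pow_ne_zero n z.ne_zero h1
    have h3 : (z : L) ^ (n * (q - 1)) = 1 := by
      rw [pow_mul, h1, ← map_pow, hq, FiniteField.pow_card_sub_one_eq_one c hc0', map_one]
    have h4 : z ^ (n * (q - 1)) = 1 := by
      apply Units.ext
      rw [Units.val_pow_eq_pow_val, h3, Units.val_one]
    have h5 := orderOf_dvd_of_pow_eq_one h4
    rw [hzord] at h5
    exact Nat.dvd_of_mul_dvd_mul_right (by omega) h5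
  · rintro ⟨k, hk⟩
    refine ⟨c0 ^ k, ?_⟩
    have h1 : (z : L) ^ n = algebraMap F L (c0 ^ k) := by
      rw [map_pow (algebraMap F L), hc0, hk, pow_mul]
    rw [h1, hscal]

/-- the set of element orders of `PGL₂(q)` -/
theorem pgl_spectrum [Fintype F] (p : ℕ) [Fact p.Prime] [CharP F p] :
    Set.range (orderOf : GL (Fin 2) F ⧸ Subgroup.center (GL (Fin 2) F) → ℕ) =
      {n | n ∣ p ∨ n ∣ Fintype.card F - 1 ∨ n ∣ Fintype.card F + 1} := by
  have hq2 : 2 ≤ Fintype.card F := Fintype.one_lt_card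
  have hp : 0 < p := (Fact.out : p.Prime).pos
  exact SpecBasic.range_orderOf_eq p (Fintype.card F - 1) (Fintype.card F + 1) hp (by omega)
    (by omega) (pgl_pow_cases p) (pgl_exists_p p) pgl_exists_sub_one (pgl_exists_add_one p)

end Cfsg.Agent.Helper38.PGL2Spec
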