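import Mathlib
import Cfsg.Agent.Lib.Helper38.FrobForty
import Cfsg.Agent.Lib.Helper38.AffGroup2
import Cfsg.Agent.Lib.Helper38.SpecBasic

set_option autoImplicit false
set_option linter.unusedSectionVars false

/-!
# A Frobenius group `3⁴ : (5 : 8)` with the same element orders as `PGL₂(9)`,
and `S₃` for `PGL₂(2)`
-/

namespace Cfsg.Agent.Helper38.PGL2Nine

open Matrix Cfsg.Agent.Helper38

/-- the module -/
abbrev V := Fin 4 → ZMod 3

/-- the ambient group -/
abbrev Gam := V ≃ₗ[ZMod 3] V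

/-- an element of order `5` -/
def Am : Matrix (Fin 4) (Fin 4) (ZMod 3) := !![0,0,0,2;1,0,0,2;0,1,0,2;0,0,1,2]
/-- its inverse -/
def A4m : Matrix (Fin 4) (Fin 4) (ZMod 3) := !![2,1,0,0;2,0,1,0;2,0,0,1;2,0,0,0]
/-- an element of order `8` -/
def Bm : Matrix (Fin 4) (Fin 4) (ZMod 3) := !![0,2,1,1;1,1,1,0;0,2,2,2;2,2,1,0]
/-- its inverse -/
def B7m : Matrix (Fin 4) (Fin 4) (ZMod 3) := !![2,2,2,1;1,0,1,0;0,2,0,2;2,1,1,1]
/-- the inverse of `A - 1` -/
def Im : Matrix (Fin 4) (Fin 4) (ZMod 3) := !![1,2,2,2;0,0,1,1;2,2,2,0;1,1,1,1]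

set_option maxRecDepth 100000 in
theorem Am_mul_A4m : Am * A4m = 1 := by decide
set_option maxRecDepth 100000 in
theorem A4m_mul_Am : A4m * Am = 1 := by decide
set_option maxRecDepth 100000 in
theorem Bm_mul_B7m : Bm * B7m = 1 := by decide
set_option maxRecDepth 100000 in
theorem B7m_mul_Bm : B7m * Bm = 1 := by decide
set_option maxRecDepth 100000 in
theorem Am_pow_five : Am ^ 5 = 1 := by decide
set_option maxRecDepth 100000 in
theorem Bm_pow_four : Bm ^ 4 = -1 := by decide
set_option maxRecDepth 100000 in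
theorem Bm_mul_Am : Bm * Am = Am ^ 3 * Bm := by decide
set_option maxRecDepth 100000 in
theorem Im_mul : Im * (Am - 1) = 1 := by decide

/-- units -/
def Au : (Matrix (Fin 4) (Fin 4) (ZMod 3))ˣ := ⟨Am, A4m, Am_mul_A4m, A4m_mul_Am⟩
/-- units -/
def Bu : (Matrix (Fin 4) (Fin 4) (ZMod 3))ˣ := ⟨Bm, B7m, Bm_mul_B7m, B7m_mul_Bm⟩

/-- matrices acting on vectors -/
def toFn4 : (Matrix (Fin 4) (Fin 4) (ZMod 3))ˣ →* Gam :=
  (LinearMap.GeneralLinearGroup.generalLinearEquiv (ZMod 3) V).toMonoidHom.comp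
    Matrix.GeneralLinearGroup.toLin.toMonoidHom

theorem toFn4_apply (M : (Matrix (Fin 4) (Fin 4) (ZMod 3))ˣ) (f : V) :
    toFn4 M f = (M : Matrix (Fin 4) (Fin 4) (ZMod 3)).mulVec f := rfl

/-- the generators -/
def A' : Gam := toFn4 Au
/-- the generators -/
def B' : Gam := toFn4 Bu
/-- the central involution -/
def Z' : Gam := toFn4 (-1)

theorem A'_pow : A' ^ 5 = 1 := by
  unfold A'
  rw [← map_pow]
  have : Au ^ 5 = 1 := by
    apply Units.ext
    rw [Units.val_pow_eq_pow_val]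
    exact Am_pow_five
  rw [this, map_one]

theorem B'_pow : B' ^ 4 = Z' := by
  unfold B' Z'
  rw [← map_pow]
  congr 1
  apply Units.ext
  rw [Units.val_pow_eq_pow_val]
  exact Bm_pow_four

theorem B'_mul_A' : B' * A' = A' ^ 3 * B' := by
  unfold B' A'
  rw [← map_pow, ← map_mul, ← map_mul]
  congr 1
  apply Units.ext
  rw [Units.val_mul, Units.val_mul, Units.val_pow_eq_pow_val]
  exact Bm_mul_Am

theorem Z'_sq : Z' ^ 2 = 1 := by
  unfold Z'
  rw [← map_pow]
  have : (-1 : (Matrix (Fin 4) (Fin 4) (ZMod 3))ˣ) ^ 2 = 1 := by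
    rw [neg_one_sq]
  rw [this, map_one]

theorem Z'_apply (v : V) : Z' v = -v := by
  unfold Z'
  rw [toFn4_apply, Units.val_neg, Units.val_one, Matrix.neg_mulVec, Matrix.one_mulVec]

theorem A'_apply (v : V) : A' v = Am.mulVec v := rfl

theorem eq_zero_of_neg_eq (v : V) (h : -v = v) : v = 0 := by
  funext k
  have h1 := congrFun h k
  rw [Pi.neg_apply] at h1
  rw [Pi.zero_apply]
  generalize v k = x at h1
  revert x
  decide

theorem three_smul_zero (w : V) : 3 • w = 0 := by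
  funext k
  rw [Pi.smul_apply, Pi.zero_apply]
  generalize w k = x
  revert x
  decide

theorem pow_apply_of_fixed (c : Gam) (v : V) (h : c v = v) (n : ℕ) : (c ^ n) v = v := by
  induction n with
  | zero => rfl
  | succ n ih =>
    rw [pow_succ, LinearEquiv.mul_apply, h, ih]

theorem fpf_of_pow_eq_Z (c : Gam) (n : ℕ) (hc : c ^ n = Z') (v : V) (h : c v = v) : v = 0 := by
  have h1 := pow_apply_of_fixed c v h n
  rw [hc, Z'_apply] at h1
  exact eq_zero_of_neg_eq v h1

theorem fpf_A' (v : V) (h : A' v = v) : v = 0 := by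
  rw [A'_apply] at h
  have h1 : (Am - 1).mulVec v = 0 := by
    rw [Matrix.sub_mulVec, Matrix.one_mulVec, h, sub_self]
  have h2 : Im.mulVec ((Am - 1).mulVec v) = v := by
    rw [Matrix.mulVec_mulVec, Im_mul, Matrix.one_mulVec]
  rw [← h2, h1, Matrix.mulVec_zero]

theorem fpf_A'_pow (i : ℕ) (hi : A' ^ i ≠ 1) (v : V) (h : (A' ^ i) v = v) : v = 0 := by
  have hmod : A' ^ i = A' ^ (i % 5) := by
    conv_lhs => rw [← Nat.div_add_mod i 5]
    rw [pow_add, pow_mul, A'_pow, one_pow, one_mul]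
  rw [hmod] at hi h
  have hlt : i % 5 < 5 := Nat.mod_lt _ (by norm_num)
  set j := i % 5 with hj
  clear_value j
  apply fpf_A'
  have key : ∀ m : ℕ, (A' ^ j) ^ m = A' → A' v = v := by
    intro m hm
    have := pow_apply_of_fixed (A' ^ j) v h m
    rw [hm] at this
    exact this
  have h6 : A' ^ 6 = A' := by
    rw [pow_succ, A'_pow, one_mul]
  have h16 : A' ^ 16 = A' := by
    have : A' ^ 16 = (A' ^ 5) ^ 3 * A' := by rw [← pow_mul, ← pow_succ]
    rw [this, A'_pow, one_pow, one_mul]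
  interval_cases j
  · exact absurd (pow_zero A') hi
  · exact key 1 (by rw [pow_one, pow_one])
  · exact key 3 (by rw [← pow_mul]; exact h6)
  · exact key 2 (by rw [← pow_mul]; exact h6)
  · exact key 4 (by rw [← pow_mul]; exact h16)

/-- the acting group `5 : 8` -/
def C40 : Subgroup Gam := Subgroup.closure ({A', B'} : Set Gam)

theorem A'_mem : A' ∈ C40 := Subgroup.subset_closure (by simp)
theorem B'_mem : B' ∈ C40 := Subgroup.subset_closure (by simp)
theorem Z'_mem : Z' ∈ C40 := by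
  rw [← B'_pow]
  exact Subgroup.pow_mem _ B'_mem 4

/-- the Frobenius group -/
abbrev H9 := Aff C40 V

theorem coe_smul (c : C40) (w : V) : c • w = (c : Gam) w := rfl

theorem pow_eq_one_of_coe (c : C40) (n : ℕ) (h : (c : Gam) ^ n = 1) : c ^ n = 1 := by
  apply Subtype.ext
  rw [Subgroup.coe_pow, h]
  rfl

theorem pow_cases (x : H9) : x ^ 3 = 1 ∨ x ^ 8 = 1 ∨ x ^ 10 = 1 := by
  have hcases := FrobForty.elem_cases A' B' Z' A'_pow B'_mul_A' B'_pow Z'_sq (x.a : Gam) x.a.2
  rcases hcases with ⟨i, hi⟩ | h | h | h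
  · by_cases h1 : (x.a : Gam) = 1
    · left
      have ha : x.a ^ 1 = 1 := by
        rw [pow_one]
        exact Subtype.ext h1
      exact Aff.pow_mul_three_eq_one three_smul_zero x 1 ha
    · right; right
      apply Aff.pow_eq_one_of_fpf x
      · intro w hw
        rw [coe_smul, hi] at hw
        rw [hi] at h1
        exact fpf_A'_pow i h1 w hw
      · apply pow_eq_one_of_coe
        have h10 : A' ^ 10 = 1 := by
          have : A' ^ 10 = (A' ^ 5) ^ 2 := by rw [← pow_mul]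
          rw [this, A'_pow, one_pow]
        rw [hi, ← pow_mul, mul_comm, pow_mul, h10, one_pow]
  · right; left
    apply Aff.pow_eq_one_of_fpf x
    · intro w hw
      rw [coe_smul] at hw
      exact fpf_of_pow_eq_Z _ 2 h w hw
    · apply pow_eq_one_of_coe
      have : (x.a : Gam) ^ 8 = ((x.a : Gam) ^ 2) ^ 4 := by rw [← pow_mul]
      rw [this, h]
      have : Z' ^ 4 = (Z' ^ 2) ^ 2 := by rw [← pow_mul]
      rw [this, Z'_sq, one_pow]
  · right; left
    apply Aff.pow_eq_one_of_fpf x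
    · intro w hw
      rw [coe_smul] at hw
      exact fpf_of_pow_eq_Z _ 4 h w hw
    · apply pow_eq_one_of_coe
      have : (x.a : Gam) ^ 8 = ((x.a : Gam) ^ 4) ^ 2 := by rw [← pow_mul]
      rw [this, h, Z'_sq]
  · right; right
    apply Aff.pow_eq_one_of_fpf x
    · intro w hw
      rw [coe_smul] at hw
      exact fpf_of_pow_eq_Z _ 5 h w hw
    · apply pow_eq_one_of_coe
      have : (x.a : Gam) ^ 10 = ((x.a : Gam) ^ 5) ^ 2 := by rw [← pow_mul]
      rw [this, h, Z'_sq]

/-- a nonzero vector -/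
def e0 : V := Pi.single 0 1

theorem e0_ne_zero : e0 ≠ 0 := by
  intro h
  have := congrFun h 0
  rw [e0, Pi.single_eq_same, Pi.zero_apply] at this
  exact one_ne_zero this

theorem Z'_ne_one : Z' ≠ 1 := by
  intro h
  have h1 : Z' e0 = e0 := by rw [h]; rfl
  rw [Z'_apply] at h1
  exact e0_ne_zero (eq_zero_of_neg_eq e0 h1)

theorem A'_ne_one : A' ≠ 1 := by
  intro h
  have h1 : A' e0 = e0 := by rw [h]; rfl
  exact e0_ne_zero (fpf_A' e0 h1)

theorem exists_three : ∃ x : H9, orderOf x = 3 := by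
  refine ⟨⟨e0, 1⟩, ?_⟩
  have : Fact (Nat.Prime 3) := ⟨Nat.prime_three⟩
  apply orderOf_eq_prime
  · rw [Aff.trans_pow, three_smul_zero]
    rfl
  · intro h
    exact e0_ne_zero (congrArg Aff.v h)

theorem exists_eight : ∃ x : H9, orderOf x = 8 := by
  refine ⟨Aff.inr ⟨B', B'_mem⟩, ?_⟩
  rw [Aff.orderOf_inr, Subgroup.orderOf_mk]
  have : Fact (Nat.Prime 2) := ⟨Nat.prime_two⟩
  have := orderOf_eq_prime_pow (x := B') (n := 2) (p := 2) (by
    norm_num
    rw [B'_pow]
    exact Z'_ne_one) (by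
    norm_num
    exact FrobForty.B_pow_eight B' Z' B'_pow Z'_sq)
  rw [this]
  norm_num

theorem exists_ten : ∃ x : H9, orderOf x = 10 := by
  refine ⟨Aff.inr ⟨A' * Z', Subgroup.mul_mem _ A'_mem Z'_mem⟩, ?_⟩
  rw [Aff.orderOf_inr, Subgroup.orderOf_mk]
  have : Fact (Nat.Prime 2) := ⟨Nat.prime_two⟩
  have : Fact (Nat.Prime 5) := ⟨by norm_num⟩
  have hA : orderOf A' = 5 := orderOf_eq_prime A'_pow A'_ne_one
  have hZ : orderOf Z' = 2 := orderOf_eq_prime Z'_sq Z'_ne_one
  have hcomm : Commute A' Z' := by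
    apply LinearEquiv.ext
    intro v
    rw [LinearEquiv.mul_apply, LinearEquiv.mul_apply, Z'_apply, Z'_apply, map_neg]
  rw [hcomm.orderOf_mul_eq_mul_orderOf_of_coprime (by rw [hA, hZ]; norm_num), hA, hZ]

/-- a Frobenius group with the element orders of `PGL₂(9)` -/
theorem exists_model_nine :
    ∃ (G : Type) (_ : Group G) (_ : Finite G) (N : Subgroup G), N.Normal ∧ N ≠ ⊥ ∧
      Group.IsSolvable N ∧
      Set.range (orderOf : G → ℕ) = {n | n ∣ 3 ∨ n ∣ 8 ∨ n ∣ 10} := by
  have : Finite Gam :=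
    Finite.of_injective (fun e => (e : V → V)) DFunLike.coe_injective
  have hfin : Finite H9 := Aff.finite_of_finite
  refine ⟨H9, inferInstance, hfin, (Aff.proj : H9 →* C40).ker, inferInstance, ?_, ?_, ?_⟩
  · exact Aff.ker_proj_ne_bot e0 e0_ne_zero
  · exact Aff.ker_proj_solvable
  · exact SpecBasic.range_orderOf_eq 3 8 10 (by norm_num) (by norm_num) (by norm_num) pow_cases
      exists_three exists_eight exists_ten

/-- `S₃` has the element orders of `PGL₂(2)` -/
theorem exists_model_two :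
    ∃ (G : Type) (_ : Group G) (_ : Finite G) (N : Subgroup G), N.Normal ∧ N ≠ ⊥ ∧
      Group.IsSolvable N ∧
      Set.range (orderOf : G → ℕ) = {n | n ∣ 2 ∨ n ∣ 1 ∨ n ∣ 3} := by
  have : Fact (Nat.Prime 2) := ⟨Nat.prime_two⟩
  have : Fact (Nat.Prime 3) := ⟨Nat.prime_three⟩
  have hcomm : ∀ x y : alternatingGroup (Fin 3), x * y = y * x := by decide
  refine ⟨Equiv.Perm (Fin 3), inferInstance, inferInstance, alternatingGroup (Fin 3),
    inferInstance, ?_, ?_, ?_⟩
  · intro h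
    have hmem : (finRotate 3 : Equiv.Perm (Fin 3)) ∈ alternatingGroup (Fin 3) := by
      rw [Equiv.Perm.mem_alternatingGroup]
      decide
    rw [h, Subgroup.mem_bot] at hmem
    revert hmem
    decide
  · exact Group.isSolvable_of_comm hcomm
  · apply SpecBasic.range_orderOf_eq 2 1 3 (by norm_num) (by norm_num) (by norm_num)
    · decide
    · exact ⟨Equiv.swap 0 1, orderOf_eq_prime (by decide) (by decide)⟩
    · exact ⟨1, orderOf_one⟩
    · exact ⟨finRotate 3, orderOf_eq_prime (by decide) (by decide)⟩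

end Cfsg.Agent.Helper38.PGL2Nine
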