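import Mathlib
import Cfsg.Agent.Lib.Helper98.RT0

/-!
# RT server (helper98, S2278): piece (G1) `exists_zeta`
-/

set_option autoImplicit false
set_option linter.unusedVariables false

namespace Cfsg.Agent.Helper38.RT

open Matrix Cfsg.Agent.Helper93.RU Cfsg.Agent.Helper98.RT

variable {F : Type*} [Field F]

/-- arithmetic core: `k ∣ q`, `2 ≤ k`, `q - 1 ∣ 3 (k - 1)`, `q ≠ 4` force `k = q` -/
theorem g1_arith (q k : ℕ) (hk2 : 2 ≤ k) (hkq : k ∣ q) (hq : 0 < q)
    (hdvd : (q - 1) ∣ 3 * (k - 1)) (h4 : q ≠ 4) : k = q := by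
  by_contra hne
  obtain ⟨m, rfl⟩ := hkq
  have hm0 : m ≠ 0 := by
    rintro rfl
    simp at hq
  have hm1 : m ≠ 1 := by
    rintro rfl
    exact hne (by ring)
  have hm2 : 2 ≤ m := by omega
  have hle : k * m - 1 ≤ 3 * (k - 1) := Nat.le_of_dvd (by omega) hdvd
  have h2k : k * 2 ≤ k * m := Nat.mul_le_mul_left k hm2
  have hm3 : m < 3 := by
    by_contra h3
    have : k * 3 ≤ k * m := Nat.mul_le_mul_left k (by omega)
    omega
  have hm : m = 2 := by omega
  subst hm
  -- `2k - 1 ∣ 3k - 3`, so `2k - 1 ∣ k - 2`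
  have h1 : (k * 2 - 1) ∣ (3 * (k - 1) - (k * 2 - 1)) := Nat.dvd_sub hdvd (dvd_refl _)
  have h2 : 3 * (k - 1) - (k * 2 - 1) = k - 2 := by omega
  rw [h2] at h1
  have h3 : k - 2 = 0 := Nat.eq_zero_of_dvd_of_lt h1 (by omega)
  have : k = 2 := by omega
  subst this
  exact h4 rfl

/-- (G1) a generator `ζ` of `Fˣ` works when `q ≠ 2, 4`. -/
theorem exists_zeta [Fintype F] (h2 : Fintype.card F ≠ 2) (h4 : Fintype.card F ≠ 4) :
    ∃ ζ : F, ζ ≠ 0 ∧ ζ ^ 3 ≠ 1 ∧ Gen3 ζ := by
  classical
  obtain ⟨g, hg⟩ := IsCyclic.exists_generator (α := Fˣ)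
  have hog : orderOf g = Fintype.card F - 1 := by
    rw [orderOf_eq_card_of_forall_mem_zpowers hg, Nat.card_eq_fintype_card, Fintype.card_units]
  have hq1 : 1 < Fintype.card F := Fintype.one_lt_card
  refine ⟨(g : F), Units.ne_zero g, ?_, ?_⟩
  · intro h3
    have h3' : g ^ 3 = 1 := Units.ext (by rw [Units.val_pow_eq_pow_val, h3, Units.val_one])
    have hd : orderOf g ∣ 3 := orderOf_dvd_of_pow_eq_one h3'
    rw [hog] at hd
    have hle : Fintype.card F - 1 ≤ 3 := Nat.le_of_dvd (by norm_num) hd
    have hcases : Fintype.card F - 1 = 1 ∨ Fintype.card F - 1 = 3 := by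
      have := (Nat.dvd_prime Nat.prime_three).1 hd
      exact this
    rcases hcases with h | h
    · exact h2 (by omega)
    · exact h4 (by omega)
  · intro M hM hne
    obtain ⟨μ₀, hμ₀, hμ₀0⟩ := hne
    -- the ring of multipliers of `M`
    let Sr : Subring F :=
      { carrier := {a | ∀ μ ∈ M, a * μ ∈ M}
        mul_mem' := by
          intro a b ha hb μ hμ
          rw [mul_assoc]
          exact ha _ (hb μ hμ)
        one_mem' := by
          intro μ hμ
          rw [one_mul]; exact hμ
        add_mem' := by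
          intro a b ha hb μ hμ
          rw [add_mul]
          exact M.add_mem (ha μ hμ) (hb μ hμ)
        zero_mem' := by
          intro μ hμ
          rw [zero_mul]; exact M.zero_mem
        neg_mem' := by
          intro a ha μ hμ
          rw [neg_mul]
          exact M.neg_mem (ha μ hμ) }
    have hSr : ∀ a : F, a ∈ Sr ↔ ∀ μ ∈ M, a * μ ∈ M := fun a => Iff.rfl
    let K : Subfield F :=
      { Sr with
        inv_mem' := by
          intro x hx
          by_cases hx0 : x = 0
          · rw [hx0, _root_.inv_zero]; exact Sr.zero_mem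
          · have h1 : x ^ (Fintype.card F - 1) = 1 := FiniteField.pow_card_sub_one_eq_one x hx0
            have h2' : x * x ^ (Fintype.card F - 2) = 1 := by
              rw [← pow_succ', show Fintype.card F - 2 + 1 = Fintype.card F - 1 by omega]
              exact h1
            have h3 : x⁻¹ = x ^ (Fintype.card F - 2) := inv_eq_of_mul_eq_one_right h2'
            rw [h3]
            exact Sr.pow_mem hx _ }
    have hK : ∀ a : F, a ∈ K ↔ ∀ μ ∈ M, a * μ ∈ M := fun a => Iff.rfl
    have htK : (g : F) ^ 3 ∈ K := (hK _).2 hM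
    -- `(ζ³)^(k-1) = 1`
    have ht0 : (⟨(g : F) ^ 3, htK⟩ : K) ≠ 0 := by
      intro h
      have := congrArg Subtype.val h
      simp only [ZeroMemClass.coe_zero] at this
      exact pow_ne_zero 3 (Units.ne_zero g) this
    have hpow := FiniteField.pow_card_sub_one_eq_one (⟨(g : F) ^ 3, htK⟩ : K) ht0
    have hpow' : ((g : F) ^ 3) ^ (Fintype.card K - 1) = 1 := by
      have := congrArg Subtype.val hpow
      simpa using this
    have hgpow : g ^ (3 * (Fintype.card K - 1)) = 1 := by
      apply Units.ext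
      rw [Units.val_pow_eq_pow_val, pow_mul, hpow', Units.val_one]
    have hdvd : (Fintype.card F - 1) ∣ 3 * (Fintype.card K - 1) := by
      rw [← hog]; exact orderOf_dvd_of_pow_eq_one hgpow
    -- Lagrange for the additive group of `K`
    have hcardK : Nat.card ↥(K.toSubring.toAddSubgroup) = Fintype.card K := by
      rw [← Nat.card_eq_fintype_card]
      exact Nat.card_congr (Equiv.subtypeEquivRight (fun x => Iff.rfl))
    have hkq : Fintype.card K ∣ Fintype.card F := by
      have := AddSubgroup.card_addSubgroup_dvd_card (K.toSubring.toAddSubgroup)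
      rwa [hcardK, Nat.card_eq_fintype_card] at this
    have hk2 : 2 ≤ Fintype.card K := Fintype.one_lt_card
    have hkeq : Fintype.card K = Fintype.card F :=
      g1_arith _ _ hk2 hkq (by omega) hdvd h4
    have htop : K.toSubring.toAddSubgroup = ⊤ := by
      apply AddSubgroup.eq_top_of_card_eq
      rw [hcardK, hkeq, Nat.card_eq_fintype_card]
    rw [AddSubgroup.eq_top_iff']
    intro x
    have hxK : x * μ₀⁻¹ ∈ K := by
      have : x * μ₀⁻¹ ∈ K.toSubring.toAddSubgroup := by rw [htop]; trivial
      exact this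
    have := (hK _).1 hxK μ₀ hμ₀
    rwa [mul_assoc, inv_mul_cancel₀ hμ₀0, mul_one] at this

end Cfsg.Agent.Helper38.RT
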