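import Mathlib
import Cfsg.Agent.Lib.Helper93.RU0

/-!
# RU server (helper93, S2280): cores of pieces (C4) `t13_of_t12` and (C5) `pow_mem`
(with (C1) `shift_mem` and (C3) `step` as hypotheses)
-/

set_option autoImplicit false

namespace Cfsg.Agent.Helper38.RU

open Matrix Cfsg.Agent.Helper93.RU

variable {F : Type*} [Field F] {m : ℕ}

/-- `shR (a • e₁) = a • e₂` -/
theorem shR_smul_eV_one (a : F) :
    shR (a • (eV 1 : Fin (m + 3) → F)) = a • (eV 2 : Fin (m + 3) → F) := by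
  funext j
  have hj2 : j = 2 ↔ j.val = 2 := by rw [Fin.ext_iff, Fin.val_two]
  have h1 : ∀ (hlt : j.val - 1 < m + 3),
      ((⟨j.val - 1, hlt⟩ : Fin (m + 3)) = 1) ↔ j.val - 1 = 1 := fun hlt => by
    rw [Fin.ext_iff, Fin.val_one]
  unfold shR
  by_cases h0 : j.val = 0
  · rw [dif_pos h0]
    have hne : j ≠ 2 := fun h => by rw [hj2] at h; omega
    simp [eV, hne]
  · rw [dif_neg h0]
    simp only [eV, Pi.smul_apply, Pi.single_apply, smul_eq_mul]
    by_cases h2 : j.val = 2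
    · rw [if_pos ((h1 _).2 (by omega)), if_pos (hj2.2 h2)]
    · rw [if_neg (fun h => h2 (by have := (h1 _).1 h; omega)), if_neg (fun h => h2 (hj2.1 h))]

/-- core of (C4): (C1) as a hypothesis -/
theorem t13_of_t12_core (H : Subgroup (SLm m F))
    (hC1 : ∀ φ : Fin (m + 3) → F, φ 0 = 0 → tvS (eV 0) φ ∈ H → tvS (eV 0) (shR φ) ∈ H)
    (a : F) (h : t12 a ∈ H) : t13 a ∈ H := by
  unfold t13
  rw [← shR_smul_eV_one]
  apply hC1
  · simp [eV]
  · exact h

/-- core of (C5): (C3) and (C4) as hypotheses -/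
theorem pow_mem_core (H : Subgroup (SLm m F)) (lam : F)
    (hC3 : ∀ μ : F, t13 μ ∈ H → t12 (μ * lam) ∈ H)
    (hC4 : ∀ a : F, t12 a ∈ H → t13 a ∈ H)
    (hlam : t13 lam ∈ H) (k : ℕ) (hk : 2 ≤ k) : t12 (lam ^ k) ∈ H := by
  induction k, hk using Nat.le_induction with
  | base =>
    rw [pow_two]
    exact hC3 lam hlam
  | succ k hk ih =>
    rw [pow_succ]
    exact hC3 (lam ^ k) (hC4 _ ih)

end Cfsg.Agent.Helper38.RU
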