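import Mathlib
import Cfsg.Agent.Lib.Helper93.RU0
import Cfsg.Agent.Lib.Helper38.RUC45Core
import Cfsg.Agent.Lib.Helper57.RUC1

/-!
# RU server (helper93, S2280): piece (C4) `t13_of_t12`
-/

set_option autoImplicit false

namespace Cfsg.Agent.Helper38.RU

open Matrix Cfsg.Agent.Helper93.RU

variable {F : Type*} [Field F] {m : ℕ}

/-- (C4) (C1) with `φ = a • e₁`: `shR (a • eV 1) = a • eV 2`. -/
theorem t13_of_t12 (H : Subgroup (SLm m F)) (hu : uEl m F ∈ H) (a : F) (h : t12 a ∈ H) :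
    t13 a ∈ H :=
  t13_of_t12_core H (fun φ h0 hφ => Cfsg.Agent.Helper57.RU.shift_mem H hu φ h0 hφ) a h

end Cfsg.Agent.Helper38.RU
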