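import Mathlib
import Cfsg.Agent.Lib.Helper93.RU0
import Cfsg.Agent.Lib.Helper38.RUC45Core
import Cfsg.Agent.Lib.Helper38.RUC4
import Cfsg.Agent.Lib.Helper33.RUC3

/-!
# RU server (helper93, S2280): piece (C5) `pow_mem`
-/

set_option autoImplicit false

namespace Cfsg.Agent.Helper38.RU

open Matrix Cfsg.Agent.Helper93.RU

variable {F : Type*} [Field F] {m : ℕ}

/-- (C5) induction on `k` with (C3), (C4). -/
theorem pow_mem (H : Subgroup (SLm m F)) (hu : uEl m F ∈ H) (ε lam : F) (hε : ε = 1 ∨ ε = -1)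
    (hl : lEl ε ∈ H) (hlam : t13 lam ∈ H) (k : ℕ) (hk : 2 ≤ k) : t12 (lam ^ k) ∈ H :=
  pow_mem_core H lam (fun μ hμ => Cfsg.Agent.Helper33.RU.step H hu ε lam μ hε hl hlam hμ)
    (fun a ha => t13_of_t12 H hu a ha) hlam k hk

end Cfsg.Agent.Helper38.RU
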