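import Mathlib
import Cfsg.Agent.Lib.Helper38.AffGroup
import Cfsg.Agent.Lib.Helper41.SL2Red1

set_option autoImplicit false
set_option linter.unusedSectionVars false

/-!
# The twisted tensor module `N ⊗ N^σ` of `2 × PSL₂(q)` in characteristic 3

`SL₂(F) × {±1}` acts on the `2 × 2` matrices by `X ↦ ε g X σ(g)⁻¹`, `σ` the cube map.
-/

namespace Cfsg.Agent.Helper38.ReeTrunc

open Matrix Cfsg.Agent.Helper41

variable {F : Type*} [Field F] [CharP F 3]

instance fact3 : Fact (Nat.Prime 3) := ⟨Nat.prime_three⟩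

/-- Frobenius twist -/
noncomputable def tw : Matrix.SpecialLinearGroup (Fin 2) F →* Matrix.SpecialLinearGroup (Fin 2) F :=
  Matrix.SpecialLinearGroup.map (frobenius F 3)

theorem tw_apply (g : Matrix.SpecialLinearGroup (Fin 2) F) (i j : Fin 2) :
    ((tw g : Matrix.SpecialLinearGroup (Fin 2) F) : Matrix (Fin 2) (Fin 2) F) i j =
      (g : Matrix (Fin 2) (Fin 2) F) i j ^ 3 := by
  unfold tw
  rw [Matrix.SpecialLinearGroup.map_apply_coe, RingHom.mapMatrix_apply, Matrix.map_apply,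
    frobenius_def]

theorem tw_trace (g : Matrix.SpecialLinearGroup (Fin 2) F) :
    ((tw g : Matrix.SpecialLinearGroup (Fin 2) F) : Matrix (Fin 2) (Fin 2) F).trace =
      (g : Matrix (Fin 2) (Fin 2) F).trace ^ 3 := by
  rw [Matrix.trace_fin_two, Matrix.trace_fin_two, tw_apply, tw_apply, add_pow_char]

/-- the sign as a scalar -/
noncomputable def sgn (F : Type*) [Field F] : ℤˣ →* F :=
  (Int.castRingHom F).toMonoidHom.comp (Units.coeHom ℤ)

omit [CharP F 3] in
theorem sgn_one : sgn F (1 : ℤˣ) = (1 : F) := map_one _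

omit [CharP F 3] in
theorem sgn_neg_one : sgn F (-1 : ℤˣ) = (-1 : F) := by
  unfold sgn
  simp

omit [CharP F 3] in
theorem sgn_cases (e : ℤˣ) : sgn F e = (1 : F) ∨ sgn F e = (-1 : F) := by
  rcases Int.units_eq_one_or e with h | h
  · left; rw [h, sgn_one]
  · right; rw [h, sgn_neg_one]

theorem two_ne_zero' : (2 : F) ≠ 0 := by
  intro h
  have h3 : ((3 : ℕ) : F) = 0 := CharP.cast_eq_zero F 3
  have : (1 : F) = 0 := by
    have h3' : (3 : F) = 0 := by exact_mod_cast h3
    linear_combination h3' - h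
  exact one_ne_zero this

/-- the action as a linear map -/
noncomputable def actL (p : Matrix.SpecialLinearGroup (Fin 2) F × ℤˣ) :
    Matrix (Fin 2) (Fin 2) F →ₗ[F] Matrix (Fin 2) (Fin 2) F where
  toFun X := sgn F p.2 • ((p.1 : Matrix (Fin 2) (Fin 2) F) * X *
    ((tw p.1)⁻¹ : Matrix.SpecialLinearGroup (Fin 2) F))
  map_add' X Y := by
    rw [mul_add, add_mul, smul_add]
  map_smul' c X := by
    rw [RingHom.id_apply, Matrix.mul_smul, Matrix.smul_mul, smul_comm]

theorem actL_apply (p : Matrix.SpecialLinearGroup (Fin 2) F × ℤˣ) (X : Matrix (Fin 2) (Fin 2) F) :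
    actL p X = sgn F p.2 • ((p.1 : Matrix (Fin 2) (Fin 2) F) * X *
      ((tw p.1)⁻¹ : Matrix.SpecialLinearGroup (Fin 2) F)) := rfl

theorem actL_one : actL (1 : Matrix.SpecialLinearGroup (Fin 2) F × ℤˣ) = LinearMap.id := by
  apply LinearMap.ext
  intro X
  rw [actL_apply]
  simp [sgn_one]

theorem actL_mul (p q : Matrix.SpecialLinearGroup (Fin 2) F × ℤˣ) :
    actL (p * q) = (actL p).comp (actL q) := by
  apply LinearMap.ext
  intro X
  rw [LinearMap.comp_apply, actL_apply, actL_apply, actL_apply]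
  rw [Prod.snd_mul, Prod.fst_mul, map_mul, map_mul, _root_.mul_inv_rev,
    Matrix.SpecialLinearGroup.coe_mul, Matrix.SpecialLinearGroup.coe_mul,
    Matrix.mul_smul, Matrix.smul_mul, smul_smul]
  simp only [Matrix.mul_assoc]

/-- the representation -/
noncomputable def rho : Matrix.SpecialLinearGroup (Fin 2) F × ℤˣ →*
    (Matrix (Fin 2) (Fin 2) F ≃ₗ[F] Matrix (Fin 2) (Fin 2) F) where
  toFun p := LinearEquiv.ofLinearMap (actL p) (actL p⁻¹)
    (by rw [← actL_mul, mul_inv_cancel, actL_one])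
    (by rw [← actL_mul, inv_mul_cancel, actL_one])
  map_one' := by
    apply LinearEquiv.ext
    intro X
    simp [actL_one]
  map_mul' p q := by
    apply LinearEquiv.ext
    intro X
    simp [actL_mul]

theorem rho_apply (p : Matrix.SpecialLinearGroup (Fin 2) F × ℤˣ) (X : Matrix (Fin 2) (Fin 2) F) :
    rho p X = sgn F p.2 • ((p.1 : Matrix (Fin 2) (Fin 2) F) * X *
      ((tw p.1)⁻¹ : Matrix.SpecialLinearGroup (Fin 2) F)) := rfl

/-! ### fixed points -/

theorem mul_tw_inv_mul (g : Matrix.SpecialLinearGroup (Fin 2) F) (X : Matrix (Fin 2) (Fin 2) F) :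
    X * ((tw g)⁻¹ : Matrix.SpecialLinearGroup (Fin 2) F) *
      (tw g : Matrix.SpecialLinearGroup (Fin 2) F) = X := by
  rw [Matrix.mul_assoc, ← Matrix.SpecialLinearGroup.coe_mul, inv_mul_cancel,
    Matrix.SpecialLinearGroup.coe_one, Matrix.mul_one]

theorem mul_tw_mul_inv (g : Matrix.SpecialLinearGroup (Fin 2) F) (X : Matrix (Fin 2) (Fin 2) F) :
    X * (tw g : Matrix.SpecialLinearGroup (Fin 2) F) *
      ((tw g)⁻¹ : Matrix.SpecialLinearGroup (Fin 2) F) = X := by
  rw [Matrix.mul_assoc, ← Matrix.SpecialLinearGroup.coe_mul, mul_inv_cancel,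
    Matrix.SpecialLinearGroup.coe_one, Matrix.mul_one]

theorem fix_eq (g : Matrix.SpecialLinearGroup (Fin 2) F) (e : F) (he : e * e = 1)
    (X : Matrix (Fin 2) (Fin 2) F)
    (h : e • ((g : Matrix (Fin 2) (Fin 2) F) * X *
      ((tw g)⁻¹ : Matrix.SpecialLinearGroup (Fin 2) F)) = X) :
    (g : Matrix (Fin 2) (Fin 2) F) * X =
      e • (X * (tw g : Matrix.SpecialLinearGroup (Fin 2) F)) := by
  have h1 : (g : Matrix (Fin 2) (Fin 2) F) * X *
      ((tw g)⁻¹ : Matrix.SpecialLinearGroup (Fin 2) F) = e • X := by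
    have := congrArg (fun M => e • M) h
    simp only [smul_smul, he, one_smul] at this
    exact this
  have h2 : (g : Matrix (Fin 2) (Fin 2) F) * X *
      ((tw g)⁻¹ : Matrix.SpecialLinearGroup (Fin 2) F) *
      (tw g : Matrix.SpecialLinearGroup (Fin 2) F) =
      e • X * (tw g : Matrix.SpecialLinearGroup (Fin 2) F) := by rw [h1]
  rw [mul_tw_inv_mul, Matrix.smul_mul] at h2
  exact h2

/-- regular semisimple elements (trace `≠ 0`, `±1`) act without fixed points -/
theorem fix_zero (hneg : ¬ IsSquare (-1 : F)) (g : Matrix.SpecialLinearGroup (Fin 2) F) (e : ℤˣ)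
    (ht0 : (g : Matrix (Fin 2) (Fin 2) F).trace ≠ 0)
    (ht1 : (g : Matrix (Fin 2) (Fin 2) F).trace ^ 2 ≠ 1)
    (X : Matrix (Fin 2) (Fin 2) F) (h : rho (g, e) X = X) : X = 0 := by
  rw [rho_apply] at h
  set ee := sgn F e with hee
  have hee2 : ee * ee = 1 := by
    rcases sgn_cases (F := F) e with h1 | h1 <;> rw [hee, h1] <;> ring
  have hgx := fix_eq g ee hee2 X h
  set t := (g : Matrix (Fin 2) (Fin 2) F).trace with ht
  set s := ((tw g : Matrix.SpecialLinearGroup (Fin 2) F) : Matrix (Fin 2) (Fin 2) F) with hs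
  have hg2 := sq_eq_of_det_one (g : Matrix (Fin 2) (Fin 2) F) g.2
  have hs2 := sq_eq_of_det_one s (tw g).2
  have htr : s.trace = t ^ 3 := tw_trace g
  rw [htr] at hs2
  -- compute `g * (g * X)` in two ways
  have e1 : (g : Matrix (Fin 2) (Fin 2) F) * ((g : Matrix (Fin 2) (Fin 2) F) * X) = X * s ^ 2 := by
    rw [hgx, Matrix.mul_smul, ← Matrix.mul_assoc, hgx, Matrix.smul_mul, smul_smul, hee2, one_smul,
      pow_two, Matrix.mul_assoc]
  have e2 : (g : Matrix (Fin 2) (Fin 2) F) * ((g : Matrix (Fin 2) (Fin 2) F) * X) =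
      (t * ee) • (X * s) - X := by
    rw [← Matrix.mul_assoc, ← pow_two, hg2, Matrix.sub_mul, Matrix.smul_mul, hgx, smul_smul,
      Matrix.one_mul]
  have e3 : X * s ^ 2 = (t ^ 3) • (X * s) - X := by
    rw [hs2, Matrix.mul_sub, Matrix.mul_smul, Matrix.mul_one]
  have e4 : (t * ee - t ^ 3) • (X * s) = 0 := by
    rw [sub_smul, sub_eq_zero]
    have := e2.symm.trans (e1.trans e3)
    exact sub_left_injective this
  rcases smul_eq_zero.mp e4 with h5 | h5
  · exfalso
    have h6 : t * (ee - t ^ 2) = 0 := by linear_combination h5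
    rcases mul_eq_zero.mp h6 with h7 | h7
    · exact ht0 h7
    · have h8 : t ^ 2 = ee := by linear_combination -h7
      rcases sgn_cases (F := F) e with h9 | h9
      · rw [← hee] at h9
        exact ht1 (h8.trans h9)
      · rw [← hee] at h9
        exact hneg ⟨t, by rw [← pow_two, h8, h9]⟩
  · have : X * s * (((tw g)⁻¹ : Matrix.SpecialLinearGroup (Fin 2) F) :
        Matrix (Fin 2) (Fin 2) F) = 0 * (((tw g)⁻¹ : Matrix.SpecialLinearGroup (Fin 2) F) :
        Matrix (Fin 2) (Fin 2) F) := by rw [h5]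
    rwa [hs, mul_tw_mul_inv, Matrix.zero_mul] at this

/-! ### the kernel -/

theorem tw_of_scalar (g : Matrix.SpecialLinearGroup (Fin 2) F)
    (hg : (g : Matrix (Fin 2) (Fin 2) F) = 1 ∨ (g : Matrix (Fin 2) (Fin 2) F) = -1) :
    tw g = g := by
  apply Subtype.ext
  rw [← Matrix.ext_iff]
  intro i j
  rw [tw_apply]
  rcases hg with h | h
  · rw [h]
    fin_cases i <;> fin_cases j <;> simp
  · rw [h]
    fin_cases i <;> fin_cases j <;> simp <;> norm_num

theorem scalar_mul_self (g : Matrix.SpecialLinearGroup (Fin 2) F)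
    (hg : (g : Matrix (Fin 2) (Fin 2) F) = 1 ∨ (g : Matrix (Fin 2) (Fin 2) F) = -1) :
    g * g = 1 := by
  apply Subtype.ext
  rw [Matrix.SpecialLinearGroup.coe_mul, Matrix.SpecialLinearGroup.coe_one]
  rcases hg with h | h <;> rw [h] <;> simp

/-- scalars act through the sign -/
theorem rho_scalar (g : Matrix.SpecialLinearGroup (Fin 2) F)
    (hg : (g : Matrix (Fin 2) (Fin 2) F) = 1 ∨ (g : Matrix (Fin 2) (Fin 2) F) = -1) (e : ℤˣ)
    (X : Matrix (Fin 2) (Fin 2) F) : rho (g, e) X = sgn F e • X := by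
  rw [rho_apply]
  simp only
  rw [tw_of_scalar g hg]
  have hinv : g⁻¹ = g := by
    rw [inv_eq_iff_mul_eq_one]
    exact scalar_mul_self g hg
  rw [hinv]
  rcases hg with h | h <;> rw [h] <;> simp

theorem rho_scalar_one (g : Matrix.SpecialLinearGroup (Fin 2) F)
    (hg : (g : Matrix (Fin 2) (Fin 2) F) = 1 ∨ (g : Matrix (Fin 2) (Fin 2) F) = -1) :
    rho (g, (1 : ℤˣ)) = 1 := by
  apply LinearEquiv.ext
  intro X
  rw [rho_scalar g hg, sgn_one, one_smul]
  rfl

theorem rho_scalar_neg (g : Matrix.SpecialLinearGroup (Fin 2) F)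
    (hg : (g : Matrix (Fin 2) (Fin 2) F) = 1 ∨ (g : Matrix (Fin 2) (Fin 2) F) = -1)
    (X : Matrix (Fin 2) (Fin 2) F) : rho (g, (-1 : ℤˣ)) X = -X := by
  rw [rho_scalar g hg, sgn_neg_one, neg_smul, one_smul]

/-- the kernel of the representation -/
theorem rho_eq_one (p : Matrix.SpecialLinearGroup (Fin 2) F × ℤˣ) (h : rho p = 1) :
    ((p.1 : Matrix (Fin 2) (Fin 2) F) = 1 ∨ (p.1 : Matrix (Fin 2) (Fin 2) F) = -1) ∧ p.2 = 1 := by
  obtain ⟨g, e⟩ := p
  simp only
  have hX : ∀ X : Matrix (Fin 2) (Fin 2) F, rho (g, e) X = X := by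
    intro X
    rw [h]
    rfl
  set ee := sgn F e with hee
  have hee2 : ee * ee = 1 := by
    rcases sgn_cases (F := F) e with h1 | h1 <;> rw [hee, h1] <;> ring
  have hgx : ∀ X : Matrix (Fin 2) (Fin 2) F, (g : Matrix (Fin 2) (Fin 2) F) * X =
      ee • (X * (tw g : Matrix.SpecialLinearGroup (Fin 2) F)) := by
    intro X
    apply fix_eq g ee hee2 X
    have := hX X
    rw [rho_apply] at this
    exact this
  have hg1 : (g : Matrix (Fin 2) (Fin 2) F) =
      ee • ((tw g : Matrix.SpecialLinearGroup (Fin 2) F) : Matrix (Fin 2) (Fin 2) F) := by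
    have := hgx 1
    rwa [Matrix.mul_one, Matrix.one_mul] at this
  have hcomm : ∀ X : Matrix (Fin 2) (Fin 2) F, (g : Matrix (Fin 2) (Fin 2) F) * X =
      X * (g : Matrix (Fin 2) (Fin 2) F) := by
    intro X
    rw [hgx X, ← Matrix.mul_smul, ← hg1]
  have hsc : (g : Matrix (Fin 2) (Fin 2) F) = 1 ∨ (g : Matrix (Fin 2) (Fin 2) F) = -1 := by
    apply sl2_scalar_eq
    have c1 := hcomm !![0, 1; 0, 0]
    have c2 := hcomm !![0, 0; 1, 0]
    rw [Matrix.eta_fin_two (g : Matrix (Fin 2) (Fin 2) F)] at c1 c2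
    simp only [Matrix.mul_fin_two] at c1 c2
    have a1 := congrFun (congrFun c1 0) 0
    have a2 := congrFun (congrFun c1 0) 1
    have a3 := congrFun (congrFun c2 0) 0
    simp at a1 a2 a3
    refine ⟨?_, ?_, ?_⟩
    · exact a3
    · exact a1.symm
    · exact a2
  refine ⟨hsc, ?_⟩
  have := hX 1
  rw [rho_scalar g hsc] at this
  rcases Int.units_eq_one_or e with h1 | h1
  · exact h1
  · exfalso
    rw [h1, sgn_neg_one, neg_smul, one_smul] at this
    have h00 := congrFun (congrFun this 0) 0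
    simp at h00
    apply two_ne_zero' (F := F)
    linear_combination -h00

end Cfsg.Agent.Helper38.ReeTrunc
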