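import Mathlib
import Cfsg.Agent.Lib.Helper38.ReeTruncAct

set_option autoImplicit false
set_option linter.unusedSectionVars false

/-!
# The group `F_q⁴ ⋊ (2 × PSL₂(q))`, `q = 3^α ≡ 3 (mod 4)`, and its element orders
-/

namespace Cfsg.Agent.Helper38.ReeTrunc

open Matrix Cfsg.Agent.Helper41 Cfsg.Agent.Helper38

variable {F : Type*} [Field F] [CharP F 3]

/-- the acting group `2 × PSL₂(F)` -/
noncomputable def Q (F : Type*) [Field F] [CharP F 3] :
    Subgroup (Matrix (Fin 2) (Fin 2) F ≃ₗ[F] Matrix (Fin 2) (Fin 2) F) :=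
  (rho (F := F)).range

/-- the element of `Q` given by a pair -/
noncomputable def qmk (p : Matrix.SpecialLinearGroup (Fin 2) F × ℤˣ) : Q F := ⟨rho p, ⟨p, rfl⟩⟩

theorem qmk_pow (p : Matrix.SpecialLinearGroup (Fin 2) F × ℤˣ) (n : ℕ) : qmk p ^ n = qmk (p ^ n) := by
  apply Subtype.ext
  rw [Subgroup.coe_pow]
  change rho p ^ n = rho (p ^ n)
  rw [map_pow]

theorem qmk_eq_one_iff (p : Matrix.SpecialLinearGroup (Fin 2) F × ℤˣ) : qmk p = 1 ↔ rho p = 1 := by
  constructor
  · intro h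
    exact congrArg Subtype.val h
  · intro h
    exact Subtype.ext h

theorem qmk_smul (p : Matrix.SpecialLinearGroup (Fin 2) F × ℤˣ) (X : Matrix (Fin 2) (Fin 2) F) :
    qmk p • X = rho p X := rfl

theorem exists_qmk (a : Q F) : ∃ p, a = qmk p := by
  obtain ⟨p, hp⟩ := a.2
  exact ⟨p, Subtype.ext hp.symm⟩

/-- the group -/
abbrev HH (F : Type*) [Field F] [CharP F 3] := Aff (Q F) (Matrix (Fin 2) (Fin 2) F)

theorem three_smul_zero (w : Matrix (Fin 2) (Fin 2) F) : 3 • w = 0 := by
  have h3 : ((3 : ℕ) : F) = 0 := CharP.cast_eq_zero F 3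
  rw [← Matrix.ext_iff]
  intro i j
  rw [Matrix.smul_apply, nsmul_eq_mul, h3, zero_mul, Matrix.zero_apply]

theorem four_eq_one : (4 : F) = 1 := by
  have h3 : ((3 : ℕ) : F) = 0 := CharP.cast_eq_zero F 3
  have h3' : (3 : F) = 0 := by exact_mod_cast h3
  linear_combination h3'

theorem coe_pow_scalar (g : Matrix.SpecialLinearGroup (Fin 2) F) (n : ℕ)
    (h : (g : Matrix (Fin 2) (Fin 2) F) ^ n = 1 ∨ (g : Matrix (Fin 2) (Fin 2) F) ^ n = -1) :
    ((g ^ n : Matrix.SpecialLinearGroup (Fin 2) F) : Matrix (Fin 2) (Fin 2) F) = 1 ∨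
      ((g ^ n : Matrix.SpecialLinearGroup (Fin 2) F) : Matrix (Fin 2) (Fin 2) F) = -1 := by
  rw [Matrix.SpecialLinearGroup.coe_pow]
  exact h

theorem units_pow_even (e : ℤˣ) (n : ℕ) (hn : Even n) : e ^ n = 1 := by
  obtain ⟨k, rfl⟩ := hn
  rw [← two_mul, pow_mul, Int.units_sq, one_pow]

/-- every element order divides `6`, `9`, `q - 1` or `(q + 1) / 2` -/
theorem pow_cases [Fintype F] (hq : Fintype.card F % 4 = 3) (x : HH F) :
    x ^ 6 = 1 ∨ x ^ 9 = 1 ∨ x ^ (Fintype.card F - 1) = 1 ∨ x ^ ((Fintype.card F + 1) / 2) = 1 := by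
  have hneg : ¬ IsSquare (-1 : F) := by
    rw [FiniteField.isSquare_neg_one_iff]
    omega
  obtain ⟨p, hp⟩ := exists_qmk x.a
  obtain ⟨g, e⟩ := p
  set t := (g : Matrix (Fin 2) (Fin 2) F).trace with ht
  by_cases ht4 : t ^ 2 = 4
  · -- unipotent up to sign
    have hu := coe_pow_scalar g 3 (unipotent_pow 3 (g : Matrix (Fin 2) (Fin 2) F) g.2 ht4)
    rcases Int.units_eq_one_or e with he | he
    · right; left
      have ha : x.a ^ 3 = 1 := by
        rw [hp, qmk_pow, qmk_eq_one_iff, Prod.pow_mk, he, one_pow]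
        exact rho_scalar_one _ hu
      exact Aff.pow_mul_three_eq_one three_smul_zero x 3 ha
    · left
      apply Aff.pow_six_eq_one
      · intro w
        rw [hp, qmk_pow, qmk_smul, Prod.pow_mk, he]
        have : ((-1 : ℤˣ)) ^ 3 = -1 := by decide
        rw [this]
        exact rho_scalar_neg _ hu w
      · rw [hp, qmk_pow, qmk_eq_one_iff, Prod.pow_mk, he]
        have : ((-1 : ℤˣ)) ^ 6 = 1 := by decide
        rw [this]
        apply rho_scalar_one
        left
        have h6 : g ^ 6 = g ^ 3 * g ^ 3 := by rw [← pow_add]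
        rw [h6, scalar_mul_self _ hu, Matrix.SpecialLinearGroup.coe_one]
  · have ht1 : t ^ 2 ≠ 1 := by
      rw [← four_eq_one (F := F)]
      exact ht4
    by_cases ht0 : t = 0
    · left
      have hg2 : ((g ^ 2 : Matrix.SpecialLinearGroup (Fin 2) F) : Matrix (Fin 2) (Fin 2) F) = -1 := by
        rw [Matrix.SpecialLinearGroup.coe_pow, sq_eq_of_det_one _ g.2, ← ht, ht0, zero_smul, zero_sub]
      have ha : x.a ^ 2 = 1 := by
        rw [hp, qmk_pow, qmk_eq_one_iff, Prod.pow_mk, Int.units_sq]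
        exact rho_scalar_one _ (Or.inr hg2)
      exact Aff.pow_mul_three_eq_one three_smul_zero x 2 ha
    · right; right
      have hfix : ∀ w : Matrix (Fin 2) (Fin 2) F, x.a • w = w → w = 0 := by
        intro w hw
        rw [hp, qmk_smul] at hw
        exact fix_zero hneg g e ht0 ht1 w hw
      have hgcd : Nat.gcd 2 (Fintype.card F - 1) = 2 := by
        apply Nat.gcd_eq_left
        omega
      have hss := semisimple_pow 3 (g : Matrix (Fin 2) (Fin 2) F) g.2 ht4
      rw [hgcd] at hss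
      rcases hss with hs | hs
      · left
        apply Aff.pow_eq_one_of_fpf x hfix
        have hsc := coe_pow_scalar g _ hs
        have hqe : Fintype.card F - 1 = (Fintype.card F - 1) / 2 + (Fintype.card F - 1) / 2 := by
          omega
        rw [hp, qmk_pow, qmk_eq_one_iff, Prod.pow_mk, units_pow_even e _ (by
          rw [Nat.even_iff]; omega)]
        apply rho_scalar_one
        left
        rw [hqe, pow_add, scalar_mul_self _ hsc, Matrix.SpecialLinearGroup.coe_one]
      · right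
        apply Aff.pow_eq_one_of_fpf x hfix
        have hsc := coe_pow_scalar g _ hs
        rw [hp, qmk_pow, qmk_eq_one_iff, Prod.pow_mk, units_pow_even e _ (by
          rw [Nat.even_iff]; omega)]
        exact rho_scalar_one _ hsc

/-! ### existence of the maximal orders -/

/-- the standard unipotent element -/
def umat (F : Type*) [Field F] : Matrix.SpecialLinearGroup (Fin 2) F :=
  ⟨!![1, 1; 0, 1], by simp [Matrix.det_fin_two]⟩

theorem umat_pow_three : (umat F) ^ 3 = 1 := by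
  have h3 : ((3 : ℕ) : F) = 0 := CharP.cast_eq_zero F 3
  have h3' : (3 : F) = 0 := by exact_mod_cast h3
  apply Subtype.ext
  rw [Matrix.SpecialLinearGroup.coe_pow, Matrix.SpecialLinearGroup.coe_one]
  change (!![1, 1; 0, 1] : Matrix (Fin 2) (Fin 2) F) ^ 3 = 1
  rw [pow_succ, pow_two]
  simp only [Matrix.mul_fin_two]
  rw [← Matrix.ext_iff]
  intro i j
  fin_cases i <;> fin_cases j <;> simp
  linear_combination h3'

theorem orderOf_eq_six {G : Type*} [Group G] (b : G) (h6 : b ^ 6 = 1) (h2 : b ^ 2 ≠ 1)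
    (h3 : b ^ 3 ≠ 1) : orderOf b = 6 := by
  have hd := orderOf_dvd_of_pow_eq_one h6
  have hle : orderOf b ≤ 6 := Nat.le_of_dvd (by norm_num) hd
  have hpow := pow_orderOf_eq_one b
  interval_cases h : orderOf b
  · simp at hd
  · exfalso; apply h2; rw [pow_two, ← pow_one b, hpow, one_mul]
  · exact absurd hpow h2
  · exact absurd hpow h3
  · omega
  · omega
  · rfl

theorem exists_six : ∃ x : HH F, orderOf x = 6 := by
  refine ⟨Aff.inr (qmk (umat F, -1)), ?_⟩
  rw [Aff.orderOf_inr]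
  apply orderOf_eq_six
  · rw [qmk_pow, qmk_eq_one_iff, Prod.pow_mk]
    have : ((-1 : ℤˣ)) ^ 6 = 1 := by decide
    rw [this]
    apply rho_scalar_one
    left
    have h6 : umat F ^ 6 = umat F ^ 3 * umat F ^ 3 := by rw [← pow_add]
    rw [h6, umat_pow_three, one_mul, Matrix.SpecialLinearGroup.coe_one]
  · rw [qmk_pow, Ne, qmk_eq_one_iff]
    intro h
    have := (rho_eq_one _ h).1
    rw [Prod.pow_mk] at this
    simp only at this
    rw [Matrix.SpecialLinearGroup.coe_pow] at this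
    change (!![1, 1; 0, 1] : Matrix (Fin 2) (Fin 2) F) ^ 2 = 1 ∨
      (!![1, 1; 0, 1] : Matrix (Fin 2) (Fin 2) F) ^ 2 = -1 at this
    rw [pow_two] at this
    simp only [Matrix.mul_fin_two] at this
    rcases this with h1 | h1
    · have := congrFun (congrFun h1 0) 1
      simp at this
      exact two_ne_zero' (F := F) (by linear_combination this)
    · have := congrFun (congrFun h1 0) 1
      simp at this
      exact two_ne_zero' (F := F) (by linear_combination this)
  · rw [qmk_pow, Ne, qmk_eq_one_iff]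
    intro h
    have := (rho_eq_one _ h).2
    rw [Prod.pow_mk] at this
    simp only at this
    revert this
    decide

theorem rho_umat (X : Matrix (Fin 2) (Fin 2) F) :
    rho (umat F, (1 : ℤˣ)) X = !![1, 1; 0, 1] * X * !![1, -1; 0, 1] := by
  rw [rho_apply]
  simp only
  rw [sgn_one, one_smul]
  have h1 : ((umat F : Matrix.SpecialLinearGroup (Fin 2) F) : Matrix (Fin 2) (Fin 2) F) =
      !![1, 1; 0, 1] := rfl
  have h2 : (((tw (umat F))⁻¹ : Matrix.SpecialLinearGroup (Fin 2) F) : Matrix (Fin 2) (Fin 2) F) =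
      !![1, -1; 0, 1] := by
    rw [Matrix.SpecialLinearGroup.coe_inv, Matrix.adjugate_fin_two]
    rw [tw_apply, tw_apply, tw_apply, tw_apply, h1]
    simp
  rw [h1, h2]

theorem exists_nine : ∃ x : HH F, orderOf x = 9 := by
  have h3 : ((3 : ℕ) : F) = 0 := CharP.cast_eq_zero F 3
  have h3' : (3 : F) = 0 := by exact_mod_cast h3
  set x : HH F := ⟨!![0, 0; 1, 0], qmk (umat F, 1)⟩ with hx
  refine ⟨x, ?_⟩
  have ha : x.a ^ 3 = 1 := by
    change qmk (umat F, 1) ^ 3 = 1
    rw [qmk_pow, qmk_eq_one_iff, Prod.pow_mk, umat_pow_three, one_pow]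
    exact map_one _
  have h9 : x ^ 3 ^ (1 + 1) = 1 := Aff.pow_mul_three_eq_one three_smul_zero x 3 ha
  have hn : ¬ x ^ 3 ^ 1 = 1 := by
    intro h
    have hv := congrArg Aff.v h
    rw [pow_one, pow_succ, pow_two] at hv
    simp only [Aff.mul_v, Aff.mul_a, Aff.one_v, mul_smul] at hv
    change (!![0, 0; 1, 0] : Matrix (Fin 2) (Fin 2) F) + qmk (umat F, 1) • !![0, 0; 1, 0] +
      qmk (umat F, 1) • qmk (umat F, 1) • !![0, 0; 1, 0] = 0 at hv
    rw [qmk_smul, rho_umat, qmk_smul, rho_umat] at hv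
    simp only [Matrix.mul_fin_two] at hv
    have := congrFun (congrFun hv 0) 1
    simp at this
    apply one_ne_zero (α := F)
    linear_combination this + 2 * h3'
  exact orderOf_eq_prime_pow hn h9

/-- if `rho (A, e) ^ n = 1` then `A ^ (2 * n) = 1` and `e ^ n = 1` -/
theorem of_qmk_pow_eq_one (A : Matrix.SpecialLinearGroup (Fin 2) F) (e : ℤˣ) (n : ℕ)
    (h : qmk (A, e) ^ n = 1) : A ^ (2 * n) = 1 ∧ e ^ n = 1 := by
  rw [qmk_pow, qmk_eq_one_iff, Prod.pow_mk] at h
  obtain ⟨h1, h2⟩ := rho_eq_one _ h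
  simp only at h1 h2
  refine ⟨?_, h2⟩
  rw [two_mul, pow_add]
  exact scalar_mul_self _ h1

theorem exists_sub_one [Fintype F] (hq : Fintype.card F % 4 = 3) :
    ∃ x : HH F, orderOf x = Fintype.card F - 1 := by
  obtain ⟨A, hA⟩ := sl2_exists_orderOf_sub_one (F := F)
  refine ⟨Aff.inr (qmk (A, -1)), ?_⟩
  rw [Aff.orderOf_inr]
  apply Nat.dvd_antisymm
  · apply orderOf_dvd_of_pow_eq_one
    rw [qmk_pow, qmk_eq_one_iff, Prod.pow_mk, units_pow_even _ _ (by rw [Nat.even_iff]; omega),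
      ← hA, pow_orderOf_eq_one]
    exact map_one _
  · obtain ⟨h1, h2⟩ := of_qmk_pow_eq_one A (-1) _ (pow_orderOf_eq_one (qmk (A, -1)))
    set n := orderOf (qmk (A, (-1 : ℤˣ))) with hn
    have hd : Fintype.card F - 1 ∣ 2 * n := by
      rw [← hA]
      exact orderOf_dvd_of_pow_eq_one h1
    have heven : Even n := by
      by_contra hodd
      rw [Nat.not_even_iff_odd] at hodd
      rw [hodd.neg_one_pow] at h2
      revert h2
      decide
    obtain ⟨k, hk⟩ := heven
    obtain ⟨m, hm⟩ : ∃ m, Fintype.card F - 1 = 2 * m := ⟨(Fintype.card F - 1) / 2, by omega⟩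
    have hmodd : m % 2 = 1 := by omega
    rw [hm] at hd ⊢
    have h3 : m ∣ n := Nat.dvd_of_mul_dvd_mul_left (by norm_num) hd
    rw [hk, ← two_mul] at h3 ⊢
    have hcop : Nat.Coprime m 2 := by
      rw [Nat.coprime_two_right, Nat.odd_iff]
      exact hmodd
    exact Nat.mul_dvd_mul_left 2 (hcop.dvd_of_dvd_mul_left h3)

theorem exists_add_one_half [Fintype F] (hq : Fintype.card F % 4 = 3) :
    ∃ x : HH F, orderOf x = (Fintype.card F + 1) / 2 := by
  obtain ⟨A, hA⟩ := sl2_exists_orderOf_add_one (F := F)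
  refine ⟨Aff.inr (qmk (A, 1)), ?_⟩
  rw [Aff.orderOf_inr]
  have hq2 : Fintype.card F + 1 = (Fintype.card F + 1) / 2 + (Fintype.card F + 1) / 2 := by omega
  apply Nat.dvd_antisymm
  · apply orderOf_dvd_of_pow_eq_one
    rw [qmk_pow, qmk_eq_one_iff, Prod.pow_mk, one_pow]
    apply rho_scalar_one
    apply sl2_eq_one_or_neg_one_of_sq two_ne_zero'
    rw [← Matrix.SpecialLinearGroup.coe_mul, ← pow_add, ← hq2, ← hA, pow_orderOf_eq_one,
      Matrix.SpecialLinearGroup.coe_one]
  · obtain ⟨h1, -⟩ := of_qmk_pow_eq_one A 1 _ (pow_orderOf_eq_one (qmk (A, 1)))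
    set n := orderOf (qmk (A, (1 : ℤˣ))) with hn
    have hd : Fintype.card F + 1 ∣ 2 * n := by
      rw [← hA]
      exact orderOf_dvd_of_pow_eq_one h1
    obtain ⟨m, hm⟩ : ∃ m, Fintype.card F + 1 = 2 * m := ⟨(Fintype.card F + 1) / 2, by omega⟩
    have hm2 : (Fintype.card F + 1) / 2 = m := by omega
    rw [hm2]
    rw [hm] at hd
    exact Nat.dvd_of_mul_dvd_mul_left (by norm_num) hd

/-! ### the normal `3`-subgroup -/

theorem exists_normal_three : ∃ P : Subgroup (HH F), P.Normal ∧ P ≠ ⊥ ∧ IsPGroup 3 P := by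
  refine ⟨(Aff.proj : HH F →* Q F).ker, inferInstance, ?_, ?_⟩
  · intro h
    have hmem : (⟨1, 1⟩ : HH F) ∈ (Aff.proj : HH F →* Q F).ker := by
      rw [MonoidHom.mem_ker]
      rfl
    rw [h, Subgroup.mem_bot] at hmem
    have hv := congrArg Aff.v hmem
    change (1 : Matrix (Fin 2) (Fin 2) F) = 0 at hv
    exact one_ne_zero hv
  · intro y
    refine ⟨1, ?_⟩
    apply Subtype.ext
    rw [Subgroup.coe_pow, Subgroup.coe_one, pow_one]
    have hy : (y : HH F).a = 1 := y.2
    rw [Aff.eq_trans_of_a_eq_one hy, Aff.trans_pow, three_smul_zero]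
    rfl

end Cfsg.Agent.Helper38.ReeTrunc
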