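import Mathlib
import Cfsg.Agent.Lib.Helper3.S4017DDefs

set_option autoImplicit false
set_option linter.unusedVariables false
set_option linter.unusedSectionVars false

/-!
# S4017D (L1) `mem_PQ_of_commute` for helper3's server (S4017)
-/

namespace Cfsg.Agent.Helper38.S4017D

open Cfsg.Agent.Helper3.S4017

variable {G : Type*} [Group G] [Finite G]

variable {Q P : Subgroup G} {t : G} {w : ℕ}

/-- `Q` has exponent 2, so it is abelian -/
theorem l1_Q_comm (h : CaseD G Q P t w) : ∀ a ∈ Q, ∀ b ∈ Q, a * b = b * a := by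
  intro a ha b hb
  have h1 := h.elem (a * b) (Q.mul_mem ha hb)
  have ha' : a⁻¹ = a := inv_eq_of_mul_eq_one_left (h.elem a ha)
  have hb' : b⁻¹ = b := inv_eq_of_mul_eq_one_left (h.elem b hb)
  have h2 : (a * b)⁻¹ = a * b := inv_eq_of_mul_eq_one_left h1
  rw [mul_inv_rev, ha', hb'] at h2
  exact h2.symm

theorem l1_inf (h : CaseD G Q P t w) : P ⊓ Q = ⊥ := by
  apply disjoint_iff.mp
  apply Subgroup.disjoint_of_coprime_natCard
  rw [h.card_P, h.card_Q]
  exact Nat.Coprime.pow_left w (by norm_num)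

/-- (L1) -/
theorem mem_PQ_of_commute (h : CaseD G Q P t w) (g : G) (hg : g * t = t * g) :
    ∃ y ∈ P, ∃ q ∈ Q, g = y * q := by
  classical
  have hQcomm := l1_Q_comm h
  have hinf := l1_inf h
  have hPC : ∀ y ∈ P, y ∈ Subgroup.centralizer ({t} : Set G) := by
    intro y hy
    rw [Subgroup.mem_centralizer_iff]
    intro z hz
    rw [Set.mem_singleton_iff.mp hz]
    exact (h.P_cent y hy).symm
  have hQC : ∀ q ∈ Q, q ∈ Subgroup.centralizer ({t} : Set G) := by
    intro q hq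
    rw [Subgroup.mem_centralizer_iff]
    intro z hz
    rw [Set.mem_singleton_iff.mp hz]
    exact hQcomm t h.t_mem q hq
  let f : ↥P × ↥Q → ↥(Subgroup.centralizer ({t} : Set G)) := fun x =>
    ⟨x.1.1 * x.2.1, (Subgroup.centralizer ({t} : Set G)).mul_mem (hPC _ x.1.2) (hQC _ x.2.2)⟩
  have finj : Function.Injective f := by
    rintro ⟨⟨y, hy⟩, ⟨q, hq⟩⟩ ⟨⟨y', hy'⟩, ⟨q', hq'⟩⟩ hxy
    have h1 : y * q = y' * q' := congrArg Subtype.val hxy
    have h2 : y'⁻¹ * y = q' * q⁻¹ := by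
      calc y'⁻¹ * y = y'⁻¹ * (y * q) * q⁻¹ := by group
        _ = y'⁻¹ * (y' * q') * q⁻¹ := by rw [h1]
        _ = q' * q⁻¹ := by group
    have h3 : y'⁻¹ * y ∈ P ⊓ Q :=
      ⟨P.mul_mem (P.inv_mem hy') hy, by rw [h2]; exact Q.mul_mem hq' (Q.inv_mem hq)⟩
    rw [hinf, Subgroup.mem_bot] at h3
    have hyy : y = y' := (inv_mul_eq_one.mp h3).symm
    subst hyy
    have hqq : q = q' := mul_left_cancel h1
    subst hqq
    rfl
  have hcard : Nat.card ↥(Subgroup.centralizer ({t} : Set G)) ≤ Nat.card (↥P × ↥Q) := by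
    rw [Nat.card_prod, h.card_P, h.card_Q, h.card_Ct]
    exact Nat.le_of_eq (by ring)
  have hbij := finj.bijective_of_nat_card_le hcard
  have hgC : g ∈ Subgroup.centralizer ({t} : Set G) := by
    rw [Subgroup.mem_centralizer_iff]
    intro z hz
    rw [Set.mem_singleton_iff.mp hz]
    exact hg.symm
  obtain ⟨⟨⟨y, hy⟩, ⟨q, hq⟩⟩, hyq⟩ := hbij.2 ⟨g, hgC⟩
  exact ⟨y, hy, q, hq, (congrArg Subtype.val hyq).symm⟩

end Cfsg.Agent.Helper38.S4017D
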