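import Mathlib
import Cfsg.Agent.Lib.Helper38.SL2AlgBase
import Cfsg.Agent.Lib.Helper98.SL2Mixed

set_option autoImplicit false

/-!
# The finite case: `⟨x(k), y(k α)⟩ = SL₂(k(α))` for a finite field `k` with at least 5 elements

The group `G` (enlarged by `-1`) has a non-normal Sylow `p`-subgroup of order at least 5, so by
the analysis of the subgroups of `SL₂(F)` (Helper98) it is doubly transitive on the points of its
Sylow subgroups; this makes the parameter set of its upper unitriangular elements a subfield.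
-/

namespace Cfsg.Agent.Helper38.SL2Alg.Fnt

open Matrix Cfsg.Agent.Helper38.SL2Pres Cfsg.Agent.Helper38.SL2Alg
open Cfsg.Agent.Helper5 Cfsg.Agent.Helper59.SL2Sub Cfsg.Agent.Helper98.Dickson
open Cfsg.Agent.Helper98.SL2CT Cfsg.Agent.Helper41

variable {L : Type*} [Field L]

/-- the subgroup `H ∪ -H` -/
def Kpm (H : Subgroup (Matrix.SpecialLinearGroup (Fin 2) L)) :
    Subgroup (Matrix.SpecialLinearGroup (Fin 2) L) where
  carrier := {g | g ∈ H ∨ -g ∈ H}
  one_mem' := Or.inl H.one_mem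
  mul_mem' := by
    rintro a b (ha | ha) (hb | hb)
    · exact Or.inl (H.mul_mem ha hb)
    · right; rw [← mul_neg]; exact H.mul_mem ha hb
    · right; rw [← neg_mul]; exact H.mul_mem ha hb
    · left; rw [← neg_mul_neg]; exact H.mul_mem ha hb
  inv_mem' := by
    rintro a (ha | ha)
    · exact Or.inl (H.inv_mem ha)
    · right; rw [← inv_neg]; exact H.inv_mem ha

theorem mem_Kpm {H : Subgroup (Matrix.SpecialLinearGroup (Fin 2) L)}
    {g : Matrix.SpecialLinearGroup (Fin 2) L} : g ∈ Kpm H ↔ g ∈ H ∨ -g ∈ H := Iff.rfl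

theorem le_Kpm (H : Subgroup (Matrix.SpecialLinearGroup (Fin 2) L)) : H ≤ Kpm H :=
  fun _ hg => Or.inl hg

theorem center_le_Kpm (H : Subgroup (Matrix.SpecialLinearGroup (Fin 2) L)) :
    Subgroup.center (Matrix.SpecialLinearGroup (Fin 2) L) ≤ Kpm H := by
  intro z hz
  rw [sl2_mem_center_iff] at hz
  rcases hz with h | h
  · left
    have : z = 1 := sl_ext (by rw [h, Matrix.SpecialLinearGroup.coe_one])
    rw [this]
    exact H.one_mem
  · right
    have : -z = 1 := sl_ext (by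
      rw [Matrix.SpecialLinearGroup.coe_neg, h, neg_neg, Matrix.SpecialLinearGroup.coe_one])
    rw [this]
    exact H.one_mem

theorem sq_mem_of_mem_Kpm {H : Subgroup (Matrix.SpecialLinearGroup (Fin 2) L)}
    {g : Matrix.SpecialLinearGroup (Fin 2) L} (hg : g ∈ Kpm H) : g * g ∈ H := by
  rcases hg with h | h
  · exact H.mul_mem h h
  · rw [← neg_mul_neg]
    exact H.mul_mem h h

theorem xmat_mem_slU (t : L) : xmat t ∈ slU L := by
  rw [mem_slU_iff']
  refine ⟨?_, ?_, ?_⟩ <;> simp [xmat]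

theorem eq_xmat_of_mem_slU {g : Matrix.SpecialLinearGroup (Fin 2) L} (hg : g ∈ slU L) :
    g = xmat (g.1 0 1) := by
  rw [mem_slU_iff'] at hg
  obtain ⟨h00, h10, h11⟩ := hg
  apply sl_ext
  rw [xmat_coe, coe_eq g]
  apply mat2_ext <;> simp [h00, h10, h11]

theorem xmat_ne_one {t : L} (ht : t ≠ 0) : xmat t ≠ 1 := by
  intro h
  have := congrArg (fun g : Matrix.SpecialLinearGroup (Fin 2) L => g.1 0 1) h
  simp [xmat] at this
  exact ht this

theorem xmat_inj {s t : L} (h : xmat s = xmat t) : s = t := by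
  have := congrArg (fun g : Matrix.SpecialLinearGroup (Fin 2) L => g.1 0 1) h
  simpa [xmat] using this

section sylow

variable [Fintype L]

/-- the number of points is one more than the order of the unipotent part -/
theorem index_BK (p : ℕ) [Fact p.Prime] [CharP L p] (K : Subgroup (Matrix.SpecialLinearGroup (Fin 2) L))
    (hcen : Subgroup.center (Matrix.SpecialLinearGroup (Fin 2) L) ≤ K)
    (hx1 : xmat (1 : L) ∈ K)
    (hne : ∃ g ∈ K, (g : Matrix.SpecialLinearGroup (Fin 2) L).1 1 0 ≠ 0)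
    (hcard : 5 ≤ Nat.card {t : L // xmat t ∈ K}) :
    (BK K).index = Nat.card {t : L // xmat t ∈ K} + 1 := by
  classical
  -- a Sylow subgroup containing the unipotent part
  have hP : IsPGroup p ((slU L).subgroupOf K) :=
    (isPGroup_slU p).comap_of_injective K.subtype K.subtype_injective
  obtain ⟨U, hU⟩ := hP.exists_le_sylow
  have hu1U : (⟨xmat 1, hx1⟩ : K) ∈ U := hU (Subgroup.mem_subgroupOf.mpr (xmat_mem_slU 1))
  -- `U` consists of upper unitriangular matrices
  have hinU : ∀ u ∈ U, ((u : K) : Matrix.SpecialLinearGroup (Fin 2) L) ∈ slU L := by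
    obtain ⟨h, hh⟩ := exists_conj p K.subtype U
    have h1 := hh _ hu1U
    rw [conjHom_apply] at h1
    have hut : (h⁻¹).1 1 0 = 0 := by
      refine ut_of_conj_mem_slU h⁻¹ (xmat 1) (xmat_mem_slU 1) (xmat_ne_one one_ne_zero) ?_
      rw [inv_inv]
      exact h1
    have hut' : h.1 1 0 = 0 := by
      have := inv_10 h⁻¹
      rw [inv_inv, hut, neg_zero] at this
      exact this
    intro u hu
    have h2 := hh u hu
    rw [conjHom_apply] at h2
    have h3 := conj_mem_slU h _ hut' h2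
    have e : h * (h⁻¹ * K.subtype u * h) * h⁻¹ = (u : Matrix.SpecialLinearGroup (Fin 2) L) := by
      simp [mul_assoc]
    rwa [e] at h3
  have hneU : (U : Subgroup K) ≠ ⊥ := by
    intro hbot
    have : (⟨xmat 1, hx1⟩ : K) ∈ (⊥ : Subgroup K) := hbot ▸ hu1U
    rw [Subgroup.mem_bot] at this
    exact xmat_ne_one (one_ne_zero (α := L)) (congrArg Subtype.val this)
  have S : Setup p K U := ⟨hcen, hinU, hneU⟩
  -- the order of `U`
  have hcardU : Nat.card (U : Subgroup K) = Nat.card {t : L // xmat t ∈ K} := by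
    apply Nat.card_congr
    refine Equiv.ofBijective
      (fun u : (U : Subgroup K) => (⟨((u : K) : Matrix.SpecialLinearGroup (Fin 2) L).1 0 1, by
        have := eq_xmat_of_mem_slU (hinU u.1 u.2)
        rw [← this]
        exact (u : K).2⟩ : {t : L // xmat t ∈ K})) ⟨?_, ?_⟩
    · intro u v huv
      have e := congrArg Subtype.val huv
      simp only at e
      apply Subtype.ext
      apply Subtype.ext
      rw [eq_xmat_of_mem_slU (hinU u.1 u.2), eq_xmat_of_mem_slU (hinU v.1 v.2), e]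
    · rintro ⟨t, ht⟩
      refine ⟨⟨⟨xmat t, ht⟩, (S.mem_U_iff _).mp (xmat_mem_slU t)⟩, ?_⟩
      apply Subtype.ext
      simp [xmat]
  have hneB : BK K ≠ ⊤ := by
    obtain ⟨g, hg, hg10⟩ := hne
    intro htop
    have : (⟨g, hg⟩ : K) ∈ BK K := htop ▸ Subgroup.mem_top _
    exact hg10 (mem_BK.mp this)
  have : (ZK K).Normal := by unfold ZK; infer_instance
  have hmain := S.main (QuotientGroup.mk' (ZK K)) (QuotientGroup.mk'_surjective _)
    (QuotientGroup.ker_mk' _) hneB
  rw [hcardU] at hmain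
  rcases hmain with h | ⟨h, -⟩ | ⟨h, -⟩
  · exact h
  · omega
  · omega

end sylow

/-! ### counting the points -/

theorem inv_mul_10_gen (a b : Matrix.SpecialLinearGroup (Fin 2) L) :
    (a⁻¹ * b).1 1 0 = a.1 0 0 * b.1 1 0 - a.1 1 0 * b.1 0 0 := by
  change ((a⁻¹ * b : Matrix.SpecialLinearGroup (Fin 2) L) : Matrix (Fin 2) (Fin 2) L) 1 0 = _
  rw [Matrix.SpecialLinearGroup.coe_mul, coe_inv_eq, Matrix.mul_apply, Fin.sum_univ_two]
  simp only [Matrix.of_apply, Matrix.cons_val', Matrix.cons_val_zero, Matrix.cons_val_one,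
    Matrix.cons_val_fin_one]
  ring

/-- if the number of points is `|A| + 1`, then every point other than the base point is a
translate of a given one by an element of the unipotent part -/
theorem exists_param [Finite L] (K : Subgroup (Matrix.SpecialLinearGroup (Fin 2) L))
    (hidx : (BK K).index = Nat.card {t : L // xmat t ∈ K} + 1)
    (m : Matrix.SpecialLinearGroup (Fin 2) L) (hm : m ∈ K) (hm10 : m.1 1 0 ≠ 0)
    (g : Matrix.SpecialLinearGroup (Fin 2) L) (hg : g ∈ K) (hg10 : g.1 1 0 ≠ 0) :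
    ∃ t, xmat t ∈ K ∧ (m.1 0 0 + t * m.1 1 0) * g.1 1 0 = m.1 1 0 * g.1 0 0 := by
  classical
  let ψ : Option {t : L // xmat t ∈ K} → K ⧸ BK K := fun o =>
    match o with
    | none => ((1 : K) : K ⧸ BK K)
    | some t => ((⟨xmat t.1 * m, K.mul_mem t.2 hm⟩ : K) : K ⧸ BK K)
  have hnone : ∀ (b : K), ψ none = (b : K ⧸ BK K) ↔ (b : Matrix.SpecialLinearGroup (Fin 2) L).1 1 0 = 0 := by
    intro b
    change ((1 : K) : K ⧸ BK K) = b ↔ _
    rw [QuotientGroup.eq, inv_one, one_mul, mem_BK]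
  have hsome : ∀ (t : {t : L // xmat t ∈ K}) (b : K), ψ (some t) = (b : K ⧸ BK K) ↔
      (m.1 0 0 + t.1 * m.1 1 0) * (b : Matrix.SpecialLinearGroup (Fin 2) L).1 1 0 =
        m.1 1 0 * (b : Matrix.SpecialLinearGroup (Fin 2) L).1 0 0 := by
    intro t b
    change ((⟨xmat t.1 * m, K.mul_mem t.2 hm⟩ : K) : K ⧸ BK K) = b ↔ _
    rw [QuotientGroup.eq, mem_BK]
    change ((xmat t.1 * m)⁻¹ * (b : Matrix.SpecialLinearGroup (Fin 2) L)).1 1 0 = 0 ↔ _
    rw [inv_mul_10_gen, xmat_mul_00, xmat_mul_10, sub_eq_zero]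
  have hinj : Function.Injective ψ := by
    rintro (_ | t) (_ | t') h
    · rfl
    · exfalso
      change ψ none = ((⟨xmat t'.1 * m, K.mul_mem t'.2 hm⟩ : K) : K ⧸ BK K) at h
      rw [hnone] at h
      change (xmat t'.1 * m).1 1 0 = 0 at h
      rw [xmat_mul_10] at h
      exact hm10 h
    · exfalso
      have h' := h.symm
      change ψ none = ((⟨xmat t.1 * m, K.mul_mem t.2 hm⟩ : K) : K ⧸ BK K) at h'
      rw [hnone] at h'
      change (xmat t.1 * m).1 1 0 = 0 at h'
      rw [xmat_mul_10] at h'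
      exact hm10 h'
    · change ψ (some t) = ((⟨xmat t'.1 * m, K.mul_mem t'.2 hm⟩ : K) : K ⧸ BK K) at h
      rw [hsome] at h
      change (m.1 0 0 + t.1 * m.1 1 0) * (xmat t'.1 * m).1 1 0 =
        m.1 1 0 * (xmat t'.1 * m).1 0 0 at h
      rw [xmat_mul_10, xmat_mul_00] at h
      have h2 : (t.1 - t'.1) * (m.1 1 0 * m.1 1 0) = 0 := by linear_combination h
      rcases mul_eq_zero.mp h2 with h3 | h3
      · congr 1
        exact Subtype.ext (sub_eq_zero.mp h3)
      · exact absurd (mul_self_eq_zero.mp h3) hm10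
  have hbij : Function.Bijective ψ := by
    apply hinj.bijective_of_nat_card_le
    rw [Finite.card_option, ← hidx, Subgroup.index_eq_card]
  obtain ⟨o, ho⟩ := hbij.2 ((⟨g, hg⟩ : K) : K ⧸ BK K)
  rcases o with _ | t
  · rw [hnone] at ho
    exact absurd ho hg10
  · rw [hsome] at ho
    exact ⟨t.1, t.2, ho⟩

/-! ### the parameter set is a subfield -/

section main

variable {k : Type*} [Field k] [Algebra k L]

theorem ymat_10 (s : L) : (ymat s).1 1 0 = s := by simp [ymat]

theorem ymat_00 (s : L) : (ymat s).1 0 0 = 1 := by simp [ymat]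

theorem G_eq_top_of_index [Finite L] (α : L) (hα0 : α ≠ 0) (h2 : (2 : k) ≠ 0)
    (hidx : (BK (Kpm (G k α))).index = Nat.card {t : L // xmat t ∈ Kpm (G k α)} + 1)
    (hspan : ∀ x : L, x ∈ Algebra.adjoin k {α}) : G k α = ⊤ := by
  classical
  set K := Kpm (G k α) with hK
  have h2L : (2 : L) ≠ 0 := by
    have := (algebraMap k L).injective.ne h2
    rwa [map_ofNat, map_zero] at this
  have hc2 : algebraMap k L 2⁻¹ * 2 = 1 := by
    rw [← map_ofNat (algebraMap k L) 2, ← map_mul, inv_mul_cancel₀ h2, map_one]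
  have hA_zero : xmat (0 : L) ∈ K := by rw [xmat_zero]; exact K.one_mem
  have hA_add : ∀ s t : L, xmat s ∈ K → xmat t ∈ K → xmat (s + t) ∈ K := by
    intro s t hs ht
    rw [← xmat_add]
    exact K.mul_mem hs ht
  have hA_neg : ∀ t : L, xmat t ∈ K → xmat (-t) ∈ K := by
    intro t ht
    rw [xmat_neg]
    exact K.inv_mem ht
  have hA_alg : ∀ c : k, xmat (algebraMap k L c) ∈ K := fun c => le_Kpm _ (xmat_mem_G α c)
  have hy : ∀ c : k, ymat (algebraMap k L c * α) ∈ K := fun c => le_Kpm _ (ymat_mem_G α c)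
  have hm : ymat α ∈ K := by
    have := hy 1
    rwa [map_one, one_mul] at this
  have key : ∀ g ∈ K, g.1 1 0 ≠ 0 → ∃ t, xmat t ∈ K ∧ (1 + t * α) * g.1 1 0 = α * g.1 0 0 := by
    intro g hg hg10
    have := exists_param K hidx (ymat α) hm (by rw [ymat_10]; exact hα0) g hg hg10
    rwa [ymat_10, ymat_00] at this
  -- `1/α` is a parameter
  have h_inv : xmat α⁻¹ ∈ K := by
    obtain ⟨t, ht, h⟩ := key _ (hy 2⁻¹) (by
      rw [ymat_10]
      intro h0
      have : (1 : L) = 0 := by
        rw [← hc2]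
        rcases mul_eq_zero.mp h0 with h1 | h1
        · rw [h1, zero_mul]
        · exact absurd h1 hα0
      exact one_ne_zero this)
    rw [ymat_10, ymat_00] at h
    have h' : (t * α - 1) * α = 0 := by
      linear_combination 2 * h - (1 + t * α) * α * hc2
    have h'' : t * α = 1 := by
      rcases mul_eq_zero.mp h' with h1 | h1
      · exact sub_eq_zero.mp h1
      · exact absurd h1 hα0
    rw [← eq_inv_of_mul_eq_one_left h'']
    exact ht
  have h_quot : ∀ g ∈ K, g.1 1 0 ≠ 0 → xmat (g.1 0 0 / g.1 1 0) ∈ K := by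
    intro g hg hg10
    obtain ⟨t, ht, h⟩ := key g hg hg10
    have : g.1 0 0 / g.1 1 0 = α⁻¹ + t := by
      field_simp
      linear_combination -h
    rw [this]
    exact hA_add _ _ h_inv ht
  -- a Weyl element
  set g₀ := xmat (-α⁻¹) * ymat α with hg₀
  have hg₀K : g₀ ∈ K := K.mul_mem (hA_neg _ h_inv) hm
  have hg₀00 : g₀.1 0 0 = 0 := by
    rw [hg₀, xmat_mul_00, ymat_00, ymat_10]
    field_simp
    ring
  have hg₀10 : g₀.1 1 0 = α := by
    rw [hg₀, xmat_mul_10, ymat_10]
  have h_y : ∀ t : L, xmat t ∈ K → ymat (-(α ^ 2 * t)) ∈ K := by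
    intro t ht
    have := conj_xmat_of_00 g₀ hg₀00 t
    rw [hg₀10] at this
    rw [← this]
    exact K.mul_mem (K.mul_mem hg₀K ht) (K.inv_mem hg₀K)
  have h_inv2 : ∀ t : L, xmat t ∈ K → t ≠ 0 → xmat ((-(α ^ 2 * t))⁻¹) ∈ K := by
    intro t ht ht0
    have hne : -(α ^ 2 * t) ≠ 0 := neg_ne_zero.mpr (mul_ne_zero (pow_ne_zero 2 hα0) ht0)
    have := h_quot _ (h_y t ht) (by rw [ymat_10]; exact hne)
    rwa [ymat_10, ymat_00, one_div] at this
  have h_y2 : ∀ t : L, xmat t ∈ K → t ≠ 0 → ymat t⁻¹ ∈ K := by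
    intro t ht ht0
    have := h_y _ (h_inv2 t ht ht0)
    have e : -(α ^ 2 * (-(α ^ 2 * t))⁻¹) = t⁻¹ := by
      field_simp
    rwa [e] at this
  have h_w : ∀ t : L, xmat t ∈ K → t ≠ 0 → xmat t * ymat (-t⁻¹) * xmat t ∈ K := by
    intro t ht ht0
    refine K.mul_mem (K.mul_mem ht ?_) ht
    rw [ymat_neg]
    exact K.inv_mem (h_y2 t ht ht0)
  have hw00 : ∀ t : L, t ≠ 0 → (xmat t * ymat (-t⁻¹) * xmat t).1 0 0 = 0 := by
    intro t ht0
    change ((xmat t * ymat (-t⁻¹) * xmat t : Matrix.SpecialLinearGroup (Fin 2) L) :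
      Matrix (Fin 2) (Fin 2) L) 0 0 = 0
    rw [wmat_coe ht0]
    rfl
  have hw10 : ∀ t : L, t ≠ 0 → (xmat t * ymat (-t⁻¹) * xmat t).1 1 0 = -t⁻¹ := by
    intro t ht0
    change ((xmat t * ymat (-t⁻¹) * xmat t : Matrix.SpecialLinearGroup (Fin 2) L) :
      Matrix (Fin 2) (Fin 2) L) 1 0 = -t⁻¹
    rw [wmat_coe ht0]
    rfl
  have hA_one : xmat (1 : L) ∈ K := by
    have := hA_alg 1
    rwa [map_one] at this
  have h_sq : ∀ t s : L, xmat t ∈ K → xmat s ∈ K → xmat (t ^ 2 * s) ∈ K := by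
    intro t s ht hs
    by_cases ht0 : t = 0
    · rw [ht0]
      simpa using hA_zero
    · set u := (xmat t * ymat (-t⁻¹) * xmat t)⁻¹ * (xmat 1 * ymat (-(1 : L)⁻¹) * xmat 1) with hu
      have huK : u ∈ K := K.mul_mem (K.inv_mem (h_w t ht ht0)) (h_w 1 hA_one one_ne_zero)
      have hu10 : u.1 1 0 = 0 := inv_mul_10 _ _ (hw00 1 one_ne_zero) (hw00 t ht0)
      have hu00 : u.1 0 0 = t := by
        have := inv_mul_00 _ _ (hw00 1 one_ne_zero) (hw00 t ht0)
        rw [← hu, hw10 t ht0, hw10 1 one_ne_zero] at this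
        field_simp at this
        linear_combination (-1 : L) * this
      have := conj_xmat_of_ut u hu10 s
      rw [hu00] at this
      rw [← this]
      exact K.mul_mem (K.mul_mem huK hs) (K.inv_mem huK)
  have h_mul : ∀ s t : L, xmat s ∈ K → xmat t ∈ K → xmat (s * t) ∈ K := by
    intro s t hs ht
    have h1 := h_sq (s + t) 1 (hA_add _ _ hs ht) hA_one
    have h2' := h_sq s 1 hs hA_one
    have h3 := h_sq t 1 ht hA_one
    have h4 := hA_add _ _ (hA_add _ _ h1 (hA_neg _ h2')) (hA_neg _ h3)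
    have h5 := hA_add _ _ h4 h4
    have h6 := h_sq _ _ (hA_alg 2⁻¹) h5
    have e : algebraMap k L 2⁻¹ ^ 2 *
        ((s + t) ^ 2 * 1 + -(s ^ 2 * 1) + -(t ^ 2 * 1) +
          ((s + t) ^ 2 * 1 + -(s ^ 2 * 1) + -(t ^ 2 * 1))) = s * t := by
      linear_combination (s * t * (algebraMap k L 2⁻¹ * 2 + 1)) * hc2
    rwa [e] at h6
  have h_alpha : xmat α ∈ K := by
    have h1 := h_mul _ _ (h_mul _ _ h_inv h_inv) h_inv
    have hne : α⁻¹ * α⁻¹ * α⁻¹ ≠ 0 :=
      mul_ne_zero (mul_ne_zero (inv_ne_zero hα0) (inv_ne_zero hα0)) (inv_ne_zero hα0)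
    have h2' := hA_neg _ (h_inv2 _ h1 hne)
    have e : -(-(α ^ 2 * (α⁻¹ * α⁻¹ * α⁻¹)))⁻¹ = α := by
      field_simp
    rwa [e] at h2'
  have h_all : ∀ x : L, xmat x ∈ K := by
    intro x
    refine Algebra.adjoin_induction (p := fun x _ => xmat x ∈ K) ?_ ?_ ?_ ?_ (hspan x)
    · intro y hy'
      rw [Set.mem_singleton_iff.mp hy']
      exact h_alpha
    · exact hA_alg
    · intro a b _ _ ha hb
      exact hA_add a b ha hb
    · intro a b _ _ ha hb
      exact h_mul a b ha hb
  -- back to `G`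
  have hxG : ∀ t : L, xmat t ∈ G k α := by
    intro t
    have := sq_mem_of_mem_Kpm (h_all (t / 2))
    rw [xmat_add] at this
    have e : t / 2 + t / 2 = t := by
      field_simp
      ring
    rwa [e] at this
  have hg₀G : g₀ ∈ G k α := by
    refine (G k α).mul_mem (hxG _) ?_
    have := ymat_mem_G α (1 : k)
    rwa [map_one, one_mul] at this
  have hyG : ∀ t : L, ymat t ∈ G k α := by
    intro t
    have := conj_xmat_of_00 g₀ hg₀00 (-t / α ^ 2)
    rw [hg₀10] at this
    have e : -(α ^ 2 * (-t / α ^ 2)) = t := by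
      field_simp
    rw [e] at this
    rw [← this]
    exact (G k α).mul_mem ((G k α).mul_mem hg₀G (hxG _)) ((G k α).inv_mem hg₀G)
  exact eq_top_of_xy _ hxG hyG

/-- a finite field in which `2 ≠ 0`, not of order 3, has at least 5 elements -/
theorem five_le_card [Finite k] (h2 : (2 : k) ≠ 0) (h3 : Nat.card k ≠ 3) : 5 ≤ Nat.card k := by
  classical
  have := Fintype.ofFinite k
  have h1 : 1 < Nat.card k := Finite.one_lt_card
  have hq : ((Nat.card k : ℕ) : k) = 0 := by
    rw [Nat.card_eq_fintype_card]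
    exact Nat.cast_card_eq_zero k
  by_contra hlt
  have hcases : Nat.card k = 2 ∨ Nat.card k = 4 := by omega
  rcases hcases with h | h
  · rw [h] at hq
    exact h2 (by exact_mod_cast hq)
  · rw [h] at hq
    have h4 : (2 : k) * 2 = 0 := by
      have : ((4 : ℕ) : k) = 2 * 2 := by norm_num
      rw [← this]
      exact hq
    rcases mul_eq_zero.mp h4 with h5 | h5 <;> exact h2 h5

/-- **The finite case.** -/
theorem G_eq_top [Finite k] (pb : PowerBasis k L) (h2 : (2 : k) ≠ 0) (h3 : Nat.card k ≠ 3)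
    (hα0 : pb.gen ≠ 0) : G k pb.gen = ⊤ := by
  classical
  have : Module.Finite k L := pb.finite
  have hfin : Finite L := Module.finite_of_finite k
  have := Fintype.ofFinite L
  have hp : (ringChar L).Prime := CharP.char_is_prime L (ringChar L)
  have : Fact (ringChar L).Prime := ⟨hp⟩
  have h5 := five_le_card h2 h3
  have hone : ymat pb.gen ∈ G k pb.gen := by
    have := ymat_mem_G pb.gen (1 : k)
    rwa [map_one, one_mul] at this
  have hidx := index_BK (ringChar L) (Kpm (G k pb.gen)) (center_le_Kpm _)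
    (by
      have := le_Kpm _ (xmat_mem_G pb.gen (1 : k))
      rwa [map_one] at this)
    ⟨ymat pb.gen, le_Kpm _ hone, by rw [ymat_10]; exact hα0⟩
    (by
      refine le_trans h5 ?_
      exact Nat.card_le_card_of_injective
        (fun c : k => (⟨algebraMap k L c, le_Kpm _ (xmat_mem_G pb.gen c)⟩ :
          {t : L // xmat t ∈ Kpm (G k pb.gen)}))
        (fun a b hab => (algebraMap k L).injective (congrArg Subtype.val hab)))
  refine G_eq_top_of_index pb.gen hα0 h2 hidx ?_
  intro x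
  rw [pb.adjoin_gen_eq_top]
  exact Algebra.mem_top

end main

end Cfsg.Agent.Helper38.SL2Alg.Fnt
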