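import Mathlib
import Cfsg.Agent.Lib.Helper38.SL2AlgBase

set_option autoImplicit false

/-!
# Words in `x(k)`, `y(k α)` from orthogonal polynomials

For a `k`-linear functional `lam` on `L = k(α)` whose Hankel determinants (plain and shifted) do
not vanish, the three-term recurrence of the orthogonal polynomials produces an element of
`G k α` whose `(0,0)` entry vanishes.
-/

namespace Cfsg.Agent.Helper38.SL2Alg.OPS

open Matrix Cfsg.Agent.Helper38.SL2Pres Cfsg.Agent.Helper38.SL2Alg

variable {k L : Type*} [Field k] [Field L] [Algebra k L] (pb : PowerBasis k L)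

/-- the flag of "polynomials of degree `< j`" in the generator -/
def F (j : ℕ) : Submodule k L :=
  Submodule.span k (Set.range fun i : Fin j => pb.gen ^ (i : ℕ))

theorem pow_mem_F {i j : ℕ} (h : i < j) : pb.gen ^ i ∈ F pb j :=
  Submodule.subset_span ⟨⟨i, h⟩, rfl⟩

theorem F_mono {j j' : ℕ} (h : j ≤ j') : F pb j ≤ F pb j' := by
  unfold F
  rw [Submodule.span_le]
  rintro _ ⟨i, rfl⟩
  exact pow_mem_F pb (lt_of_lt_of_le i.2 h)

theorem mem_F_iff {j : ℕ} {x : L} :
    x ∈ F pb j ↔ ∃ c : Fin j → k, ∑ i, c i • pb.gen ^ (i : ℕ) = x :=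
  Submodule.mem_span_range_iff_exists_fun k

theorem mul_mem_F {j : ℕ} {x : L} (hx : x ∈ F pb j) : pb.gen * x ∈ F pb (j + 1) := by
  obtain ⟨c, rfl⟩ := (mem_F_iff pb).mp hx
  rw [Finset.mul_sum]
  refine Submodule.sum_mem _ fun i _ => ?_
  rw [mul_smul_comm, ← pow_succ']
  exact Submodule.smul_mem _ _ (pow_mem_F pb (by omega))

theorem F_succ_decomp {j : ℕ} {x : L} (hx : x ∈ F pb (j + 1)) :
    ∃ y ∈ F pb j, ∃ c : k, x = y + c • pb.gen ^ j := by
  obtain ⟨c, rfl⟩ := (mem_F_iff pb).mp hx
  rw [Fin.sum_univ_castSucc]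
  refine ⟨∑ i : Fin j, c i.castSucc • pb.gen ^ (i.castSucc : ℕ), ?_, c (Fin.last j), ?_⟩
  · refine Submodule.sum_mem _ fun i _ => Submodule.smul_mem _ _ (pow_mem_F pb ?_)
    simp
  · simp

theorem pow_not_mem_F {j : ℕ} (hj : j < pb.dim) : pb.gen ^ j ∉ F pb j := by
  have hli : LinearIndependent k (fun i : Fin pb.dim => pb.gen ^ (i : ℕ)) := by
    have := pb.basis.linearIndependent
    rwa [pb.coe_basis] at this
  have h1 := hli.notMem_span_image (s := {i : Fin pb.dim | (i : ℕ) < j}) (x := ⟨j, hj⟩)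
    (by simp)
  intro h2
  apply h1
  refine (Submodule.span_mono ?_) h2
  rintro _ ⟨i, rfl⟩
  exact ⟨⟨i, lt_trans i.2 hj⟩, i.2, rfl⟩

theorem F_dim : F pb pb.dim = ⊤ := by
  unfold F
  rw [← pb.coe_basis, pb.basis.span_eq]

theorem mul_not_mem_F {m : ℕ} {x : L} (hx : x ∈ F pb (m + 1)) (hx' : x ∉ F pb m)
    (hm : pb.gen ^ (m + 1) ∉ F pb (m + 1)) : pb.gen * x ∉ F pb (m + 1) := by
  obtain ⟨y, hy, c, rfl⟩ := F_succ_decomp pb hx
  have hc : c ≠ 0 := by
    rintro rfl
    apply hx'
    simpa using hy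
  intro h
  apply hm
  rw [mul_add, mul_smul_comm, ← pow_succ'] at h
  have h1 : c • pb.gen ^ (m + 1) ∈ F pb (m + 1) := by
    have := Submodule.sub_mem _ h (mul_mem_F pb hy)
    simpa using this
  have := Submodule.smul_mem _ c⁻¹ h1
  rwa [smul_smul, inv_mul_cancel₀ hc, one_smul] at this

/-- Hankel matrix of moments -/
def hank (lam : L →ₗ[k] k) (j : ℕ) : Matrix (Fin j) (Fin j) k :=
  Matrix.of fun i l => lam (pb.gen ^ ((i : ℕ) + (l : ℕ)))

theorem nondeg {lam : L →ₗ[k] k} {j : ℕ} (hdet : (hank pb lam j).det ≠ 0) {x : L}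
    (hx : x ∈ F pb j) (horth : ∀ i, i < j → lam (x * pb.gen ^ i) = 0) : x = 0 := by
  obtain ⟨c, rfl⟩ := (mem_F_iff pb).mp hx
  have hmv : (hank pb lam j).mulVec c = 0 := by
    ext i
    have := horth i i.2
    rw [Finset.sum_mul, map_sum] at this
    simp only [Matrix.mulVec, dotProduct, hank, Matrix.of_apply, Pi.zero_apply]
    rw [← this]
    refine Finset.sum_congr rfl fun l _ => ?_
    rw [smul_mul_assoc, map_smul, smul_eq_mul, ← pow_add, mul_comm, add_comm]
  have := Matrix.eq_zero_of_mulVec_eq_zero hdet hmv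
  simp [this]

/-- the shifted functional -/
def shift (lam : L →ₗ[k] k) : L →ₗ[k] k := lam ∘ₗ LinearMap.mulLeft k pb.gen

theorem shift_apply (lam : L →ₗ[k] k) (x : L) : shift pb lam x = lam (pb.gen * x) := rfl

/-- all Hankel determinants, plain and shifted, are nonzero -/
def Good (lam : L →ₗ[k] k) : Prop :=
  ∀ j, j ≤ pb.dim → (hank pb lam j).det ≠ 0 ∧ (hank pb (shift pb lam) j).det ≠ 0

/-- the state of the recursion at level `j` -/
structure St (lam : L →ₗ[k] k) (j : ℕ) (g : Matrix.SpecialLinearGroup (Fin 2) L) (qt : L) :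
    Prop where
  mem : g ∈ G k pb.gen
  h10 : g.1 1 0 = pb.gen * qt
  pF : g.1 0 0 ∈ F pb (j + 1)
  pN : j < pb.dim → g.1 0 0 ∉ F pb j
  pO : ∀ i, i < j → lam (g.1 0 0 * pb.gen ^ i) = 0
  qF : qt ∈ F pb j
  qN : 1 ≤ j → qt ∉ F pb (j - 1)
  qO : ∀ i, i + 1 < j → lam (pb.gen * qt * pb.gen ^ i) = 0

theorem St_zero (lam : L →ₗ[k] k) : St pb lam 0 1 0 where
  mem := Subgroup.one_mem _
  h10 := by simp
  pF := by
    have := pow_mem_F pb (i := 0) (j := 0 + 1) (by omega)
    simpa using this
  pN := by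
    intro h
    have := pow_not_mem_F pb h
    simpa using this
  pO := by intro i hi; omega
  qF := Submodule.zero_mem _
  qN := by intro h; omega
  qO := by intro i hi; omega

theorem St_step {lam : L →ₗ[k] k} (hgood : Good pb lam) {j : ℕ} (hj : j < pb.dim)
    {g : Matrix.SpecialLinearGroup (Fin 2) L} {qt : L} (S : St pb lam j g qt) :
    ∃ g' qt', St pb lam (j + 1) g' qt' := by
  set p := g.1 0 0 with hp
  set α := pb.gen with hα
  -- the norm of p
  have hh : lam (p * α ^ j) ≠ 0 := by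
    intro h0
    have : p = 0 := by
      refine nondeg pb (hgood (j + 1) (by omega)).1 S.pF ?_
      intro i hi
      rcases Nat.lt_succ_iff_lt_or_eq.mp hi with h | h
      · exact S.pO i h
      · rw [h]; exact h0
    apply S.pN hj
    rw [← hp, this]
    exact Submodule.zero_mem _
  -- the coefficient a
  obtain ⟨a, ha0, haO⟩ : ∃ a : k, a ≠ 0 ∧
      (1 ≤ j → lam (α * qt * α ^ (j - 1)) + a * lam (p * α ^ j) = 0) := by
    by_cases hj0 : j = 0
    · exact ⟨1, one_ne_zero, fun h => by omega⟩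
    · have hj1 : 1 ≤ j := by omega
      have hh' : lam (α * qt * α ^ (j - 1)) ≠ 0 := by
        intro h0
        have : qt = 0 := by
          refine nondeg pb (hgood j (by omega)).2 S.qF ?_
          intro i hi
          rw [shift_apply, ← mul_assoc]
          by_cases hi' : i + 1 < j
          · exact S.qO i hi'
          · have : i = j - 1 := by omega
            rw [this]; exact h0
        apply S.qN hj1
        rw [this]
        exact Submodule.zero_mem _
      refine ⟨-(lam (α * qt * α ^ (j - 1))) / lam (p * α ^ j), ?_, fun _ => ?_⟩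
      · exact div_ne_zero (neg_ne_zero.mpr hh') hh
      · field_simp
        ring
  set qt' := qt + a • p with hqt'
  have hqF' : qt' ∈ F pb (j + 1) :=
    Submodule.add_mem _ (F_mono pb (by omega) S.qF) (Submodule.smul_mem _ _ S.pF)
  have hqN' : qt' ∉ F pb j := by
    intro h
    apply S.pN hj
    have h1 : a • p ∈ F pb j := by
      have := Submodule.sub_mem _ h S.qF
      simpa [hqt'] using this
    have := Submodule.smul_mem _ a⁻¹ h1
    rwa [smul_smul, inv_mul_cancel₀ ha0, one_smul] at this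
  have hqO' : ∀ i, i + 1 < j + 1 → lam (α * qt' * α ^ i) = 0 := by
    intro i hi
    have e : α * qt' * α ^ i = α * qt * α ^ i + a • (p * α ^ (i + 1)) := by
      rw [hqt', pow_succ', Algebra.smul_def, Algebra.smul_def]
      ring
    rw [e, map_add, map_smul, smul_eq_mul]
    by_cases hi' : i + 1 < j
    · rw [S.qO i hi', S.pO (i + 1) hi', mul_zero, add_zero]
    · have hij : i + 1 = j := by omega
      have hj1 : 1 ≤ j := by omega
      have := haO hj1
      have e2 : j - 1 = i := by omega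
      rw [e2] at this
      rw [hij]
      exact this
  have hh'' : lam (α * qt' * α ^ j) ≠ 0 := by
    intro h0
    have : qt' = 0 := by
      refine nondeg pb (hgood (j + 1) (by omega)).2 hqF' ?_
      intro i hi
      rw [shift_apply, ← mul_assoc]
      rcases Nat.lt_succ_iff_lt_or_eq.mp hi with h | h
      · exact hqO' i (by omega)
      · rw [h]; exact h0
    apply hqN'
    rw [this]
    exact Submodule.zero_mem _
  set c : k := -(lam (p * α ^ j)) / lam (α * qt' * α ^ j) with hc
  have hc0 : c ≠ 0 := div_ne_zero (neg_ne_zero.mpr hh) hh''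
  set g1 := ymat (algebraMap k L a * α) * g with hg1
  set g' := xmat (algebraMap k L c) * g1 with hg'
  have e10 : g'.1 1 0 = α * qt' := by
    rw [hg', xmat_mul_10, hg1, ymat_mul_10, S.h10, hqt', Algebra.smul_def]
    ring
  have e00 : g'.1 0 0 = p + c • (α * qt') := by
    rw [hg', xmat_mul_00, hg1, ymat_mul_10, ymat_mul_00, S.h10, hqt', Algebra.smul_def,
      Algebra.smul_def]
    ring
  refine ⟨g', qt', ?_, e10, ?_, ?_, ?_, hqF', ?_, ?_⟩
  · exact Subgroup.mul_mem _ (xmat_mem_G _ _) (Subgroup.mul_mem _ (ymat_mem_G _ _) S.mem)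
  · rw [e00]
    exact Submodule.add_mem _ (F_mono pb (by omega) S.pF)
      (Submodule.smul_mem _ _ (mul_mem_F pb hqF'))
  · intro hj' h
    rw [e00] at h
    have hpF : p ∈ F pb (j + 1) := S.pF
    have h1 : c • (α * qt') ∈ F pb (j + 1) := by
      have := Submodule.sub_mem _ h hpF
      rwa [add_sub_cancel_left] at this
    have h2 := Submodule.smul_mem _ c⁻¹ h1
    rw [smul_smul, inv_mul_cancel₀ hc0, one_smul] at h2
    exact mul_not_mem_F pb hqF' hqN' (pow_not_mem_F pb hj') h2
  · intro i hi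
    rw [e00, add_mul, map_add, smul_mul_assoc, map_smul, smul_eq_mul]
    rcases Nat.lt_succ_iff_lt_or_eq.mp hi with h | h
    · rw [S.pO i h, hqO' i (by omega), mul_zero, add_zero]
    · rw [h, hc, div_mul_cancel₀ _ hh'', add_neg_cancel]
  · intro _
    simpa using hqN'
  · intro i hi
    exact hqO' i (by omega)

theorem exists_St {lam : L →ₗ[k] k} (hgood : Good pb lam) :
    ∀ j, j ≤ pb.dim → ∃ g qt, St pb lam j g qt := by
  intro j
  induction j with
  | zero => exact fun _ => ⟨1, 0, St_zero pb lam⟩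
  | succ j ih =>
    intro hj
    obtain ⟨g, qt, S⟩ := ih (by omega)
    exact St_step pb hgood (by omega) S

/-- the outcome: an element of `G` mapping `∞` to `0`, whose `(1,0)` entry is orthogonal to the
polynomials of degree `< n - 1` -/
theorem exists_zero_word (hα0 : pb.gen ≠ 0) {lam : L →ₗ[k] k} (hgood : Good pb lam) :
    ∃ g ∈ G k pb.gen, g.1 0 0 = 0 ∧ g.1 1 0 ≠ 0 ∧
      ∀ i, i + 1 < pb.dim → lam (g.1 1 0 * pb.gen ^ i) = 0 := by
  obtain ⟨g, qt, S⟩ := exists_St pb hgood pb.dim le_rfl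
  have hpos := pb.dim_pos
  have h00 : g.1 0 0 = 0 := by
    refine nondeg pb (hgood pb.dim le_rfl).1 ?_ S.pO
    rw [F_dim]
    exact Submodule.mem_top
  refine ⟨g, S.mem, h00, ?_, ?_⟩
  · rw [S.h10]
    refine mul_ne_zero hα0 ?_
    intro h
    apply S.qN (by omega)
    rw [h]
    exact Submodule.zero_mem _
  · intro i hi
    rw [S.h10]
    exact S.qO i hi

/-- the orthogonal complement of the polynomials of degree `< n - 1` is a line -/
theorem orth_unique {lam : L →ₗ[k] k} (hgood : Good pb lam) {x y : L} (hx : x ≠ 0)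
    (hxo : ∀ i, i + 1 < pb.dim → lam (x * pb.gen ^ i) = 0)
    (hyo : ∀ i, i + 1 < pb.dim → lam (y * pb.gen ^ i) = 0) : ∃ c : k, y = c • x := by
  have hpos := pb.dim_pos
  have hall : ∀ z : L, (∀ i, i < pb.dim → lam (z * pb.gen ^ i) = 0) → z = 0 := by
    intro z hz
    refine nondeg pb (hgood pb.dim le_rfl).1 ?_ hz
    rw [F_dim]
    exact Submodule.mem_top
  have ha : lam (x * pb.gen ^ (pb.dim - 1)) ≠ 0 := by
    intro h0
    apply hx
    apply hall
    intro i hi
    by_cases hi' : i + 1 < pb.dim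
    · exact hxo i hi'
    · have : i = pb.dim - 1 := by omega
      rw [this]; exact h0
  refine ⟨lam (y * pb.gen ^ (pb.dim - 1)) / lam (x * pb.gen ^ (pb.dim - 1)), ?_⟩
  have : y - (lam (y * pb.gen ^ (pb.dim - 1)) / lam (x * pb.gen ^ (pb.dim - 1))) • x = 0 := by
    apply hall
    intro i hi
    rw [sub_mul, map_sub, smul_mul_assoc, map_smul, smul_eq_mul]
    by_cases hi' : i + 1 < pb.dim
    · rw [hxo i hi', hyo i hi', mul_zero, sub_zero]
    · have : i = pb.dim - 1 := by omega
      rw [this, div_mul_cancel₀ _ ha, sub_self]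
  exact sub_eq_zero.mp this

end Cfsg.Agent.Helper38.SL2Alg.OPS
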