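import Mathlib
import Cfsg.Agent.Lib.Helper38.SL2AlgOPS

set_option autoImplicit false

/-!
# The infinite case: `⟨x(k), y(k α)⟩ = SL₂(k(α))` for an infinite field `k`
-/

namespace Cfsg.Agent.Helper38.SL2Alg.Inf

open Matrix Cfsg.Agent.Helper38.SL2Pres Cfsg.Agent.Helper38.SL2Alg Cfsg.Agent.Helper38.SL2Alg.OPS

variable {k L : Type*} [Field k] [Field L] [Algebra k L] (pb : PowerBasis k L)

/-- the determinant along a line is a polynomial function -/
theorem det_line {j : ℕ} (M N : Matrix (Fin j) (Fin j) k) :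
    ∃ P : Polynomial k, ∀ c : k, P.eval c = (M + c • N).det := by
  refine ⟨(M.map Polynomial.C + (Polynomial.X : Polynomial k) • N.map Polynomial.C).det,
    fun c => ?_⟩
  rw [← Polynomial.coe_evalRingHom, RingHom.map_det]
  congr 1
  ext i l
  simp
  ring

/-- finitely many line-polynomial conditions, each satisfiable, are simultaneously satisfiable over
an infinite field -/
theorem exists_common [Infinite k] {V : Type*} [AddCommGroup V] [Module k V] (f : ℕ → V → k)
    (hline : ∀ m u v, ∃ P : Polynomial k, ∀ c : k, P.eval c = f m (u + c • v)) (N : ℕ)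
    (hw : ∀ m, m < N → ∃ v, f m v ≠ 0) : ∃ v, ∀ m, m < N → f m v ≠ 0 := by
  induction N with
  | zero => exact ⟨0, fun m hm => by omega⟩
  | succ N ih =>
    obtain ⟨v0, hv0⟩ := ih (fun m hm => hw m (by omega))
    obtain ⟨w, hw'⟩ := hw N (by omega)
    choose P hP using fun m => hline m v0 (w - v0)
    have hne : ∀ m, m < N + 1 → P m ≠ 0 := by
      intro m hm h0
      rcases Nat.lt_succ_iff_lt_or_eq.mp hm with h | h
      · apply hv0 m h
        have := hP m 0
        rw [h0, Polynomial.eval_zero, zero_smul, add_zero] at this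
        exact this.symm
      · apply hw'
        have := hP m 1
        rw [h0, Polynomial.eval_zero, one_smul, add_sub_cancel] at this
        rw [← h]
        exact this.symm
    have hfin : (⋃ m ∈ Finset.range (N + 1), {c : k | (P m).IsRoot c}).Finite := by
      refine Set.Finite.biUnion (Finset.finite_toSet _) fun m hm => ?_
      exact Polynomial.finite_setOfPred_isRoot (hne m (Finset.mem_range.mp hm))
    obtain ⟨c, hc⟩ := hfin.exists_notMem
    refine ⟨v0 + c • (w - v0), fun m hm => ?_⟩
    rw [← hP m c]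
    intro h0
    apply hc
    simp only [Set.mem_iUnion]
    exact ⟨m, Finset.mem_range.mpr hm, h0⟩

theorem hank_add_smul (lam mu : L →ₗ[k] k) (c : k) (j : ℕ) :
    hank pb (lam + c • mu) j = hank pb lam j + c • hank pb mu j := by
  ext i l
  simp [hank]

theorem shift_add_smul (lam mu : L →ₗ[k] k) (c : k) :
    shift pb (lam + c • mu) = shift pb lam + c • shift pb mu := by
  ext x
  simp [shift]

/-- a functional with non-vanishing `j`-th Hankel determinant -/
theorem exists_hank_ne {j : ℕ} (hj : j ≤ pb.dim) :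
    ∃ lam : L →ₗ[k] k, (hank pb lam j).det ≠ 0 := by
  rcases Nat.eq_zero_or_pos j with rfl | hpos
  · exact ⟨0, by simp⟩
  · have hj1 : j - 1 < pb.dim := by omega
    refine ⟨pb.basis.coord ⟨j - 1, hj1⟩, ?_⟩
    have hlam : ∀ i : ℕ, i < pb.dim →
        pb.basis.coord ⟨j - 1, hj1⟩ (pb.gen ^ i) = if i = j - 1 then 1 else 0 := by
      intro i hi
      have : pb.gen ^ i = pb.basis ⟨i, hi⟩ := by rw [pb.coe_basis]
      rw [this, Module.Basis.coord_apply, Module.Basis.repr_self, Finsupp.single_apply]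
      simp only [Fin.mk.injEq]
    set M := hank pb (pb.basis.coord ⟨j - 1, hj1⟩) j with hM
    have htri : (M.submatrix id Fin.revPerm).IsLowerTriangular := by
      intro i l hil
      have hil' : i < l := hil
      have hlt : (i : ℕ) < (l : ℕ) := hil'
      simp only [Matrix.submatrix_apply, id_eq, Fin.revPerm_apply, hM, hank, Matrix.of_apply,
        Fin.val_rev]
      have hl := l.2
      rw [hlam _ (by omega), if_neg (by omega)]
    have hdiag : ∀ i, (M.submatrix id Fin.revPerm) i i = 1 := by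
      intro i
      simp only [Matrix.submatrix_apply, id_eq, Fin.revPerm_apply, hM, hank, Matrix.of_apply,
        Fin.val_rev]
      have hi := i.2
      rw [hlam _ (by omega), if_pos (by omega)]
    have hdet' : (M.submatrix id Fin.revPerm).det = 1 := by
      rw [Matrix.det_of_isLowerTriangular _ htri]
      exact Finset.prod_eq_one fun i _ => hdiag i
    rw [Matrix.det_permute'] at hdet'
    intro h0
    rw [h0, mul_zero] at hdet'
    exact zero_ne_one hdet'

theorem exists_hank_shift_ne (hα0 : pb.gen ≠ 0) {j : ℕ} (hj : j ≤ pb.dim) :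
    ∃ lam : L →ₗ[k] k, (hank pb (shift pb lam) j).det ≠ 0 := by
  obtain ⟨mu, hmu⟩ := exists_hank_ne pb hj
  refine ⟨mu ∘ₗ LinearMap.mulLeft k pb.gen⁻¹, ?_⟩
  have : shift pb (mu ∘ₗ LinearMap.mulLeft k pb.gen⁻¹) = mu := by
    ext x
    simp [shift, hα0]
  rw [this]
  exact hmu

/-- the conditions defining `Good`, as a sequence -/
noncomputable def cond (m : ℕ) (lam : L →ₗ[k] k) : k :=
  if m % 2 = 0 then (hank pb lam (m / 2)).det else (hank pb (shift pb lam) (m / 2)).det

theorem cond_line (m : ℕ) (u v : L →ₗ[k] k) :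
    ∃ P : Polynomial k, ∀ c : k, P.eval c = cond pb m (u + c • v) := by
  unfold cond
  by_cases hm : m % 2 = 0
  · simp only [hm, if_true]
    obtain ⟨P, hP⟩ := det_line (hank pb u (m / 2)) (hank pb v (m / 2))
    exact ⟨P, fun c => by rw [hP, hank_add_smul]⟩
  · simp only [hm, if_false]
    obtain ⟨P, hP⟩ := det_line (hank pb (shift pb u) (m / 2)) (hank pb (shift pb v) (m / 2))
    exact ⟨P, fun c => by rw [hP, shift_add_smul, hank_add_smul]⟩

theorem good_iff (lam : L →ₗ[k] k) :
    Good pb lam ↔ ∀ m, m < 2 * (pb.dim + 1) → cond pb m lam ≠ 0 := by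
  constructor
  · intro h m hm
    unfold cond
    by_cases hm2 : m % 2 = 0
    · simp only [hm2, if_true]
      exact (h (m / 2) (by omega)).1
    · simp only [hm2, if_false]
      exact (h (m / 2) (by omega)).2
  · intro h j hj
    constructor
    · have := h (2 * j) (by omega)
      unfold cond at this
      rw [if_pos (by omega)] at this
      rwa [show 2 * j / 2 = j by omega] at this
    · have := h (2 * j + 1) (by omega)
      unfold cond at this
      rw [if_neg (by omega)] at this
      rwa [show (2 * j + 1) / 2 = j by omega] at this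

theorem exists_good [Infinite k] (hα0 : pb.gen ≠ 0) : ∃ lam : L →ₗ[k] k, Good pb lam := by
  obtain ⟨lam, h⟩ := exists_common (cond pb) (cond_line pb) (2 * (pb.dim + 1)) (by
    intro m hm
    unfold cond
    by_cases hm2 : m % 2 = 0
    · simp only [hm2, if_true]
      exact exists_hank_ne pb (by omega)
    · simp only [hm2, if_false]
      exact exists_hank_shift_ne pb hα0 (by omega))
  exact ⟨lam, (good_iff pb lam).mpr h⟩

/-- along a line through a good functional, all but finitely many functionals are good -/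
theorem finite_bad {lam : L →ₗ[k] k} (hgood : Good pb lam) (mu : L →ₗ[k] k) :
    {c : k | ¬ Good pb (lam + c • mu)}.Finite := by
  choose P hP using fun m => cond_line pb m lam mu
  have hne : ∀ m, m < 2 * (pb.dim + 1) → P m ≠ 0 := by
    intro m hm h0
    apply (good_iff pb lam).mp hgood m hm
    have := hP m 0
    rw [h0, Polynomial.eval_zero, zero_smul, add_zero] at this
    exact this.symm
  have hfin : (⋃ m ∈ Finset.range (2 * (pb.dim + 1)), {c : k | (P m).IsRoot c}).Finite := by
    refine Set.Finite.biUnion (Finset.finite_toSet _) fun m hm => ?_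
    exact Polynomial.finite_setOfPred_isRoot (hne m (Finset.mem_range.mp hm))
  refine hfin.subset ?_
  intro c hc
  rw [Set.mem_ofPred_eq, good_iff] at hc
  push Not at hc
  obtain ⟨m, hm, h0⟩ := hc
  simp only [Set.mem_iUnion]
  refine ⟨m, Finset.mem_range.mpr hm, ?_⟩
  change (P m).eval c = 0
  rw [hP, h0]


/-- the parameters of the upper unitriangular elements of `G`, as a `k`-subspace -/
def Apar (k : Type*) {L : Type*} [Field k] [Field L] [Algebra k L] (α : L) : Submodule k L where
  carrier := {t | xmat t ∈ G k α}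
  add_mem' := by
    intro a b ha hb
    rw [Set.mem_ofPred_eq, ← xmat_add]
    exact Subgroup.mul_mem _ ha hb
  zero_mem' := by
    rw [Set.mem_ofPred_eq, xmat_zero]
    exact Subgroup.one_mem _
  smul_mem' := by
    intro c t ht
    rw [Set.mem_ofPred_eq, Algebra.smul_def]
    exact xmat_smul_mem α c ht

theorem mem_Apar {α t : L} : t ∈ Apar k α ↔ xmat t ∈ G k α := Iff.rfl

/-- multiplying by the square of a good direction preserves the parameters -/
theorem sq_mul_mem (hα0 : pb.gen ≠ 0) {lam : L →ₗ[k] k} (hgood : Good pb lam) (γ : L)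
    (hgood' : Good pb (lam ∘ₗ LinearMap.mulLeft k γ)) {t : L} (ht : t ∈ Apar k pb.gen) :
    γ ^ 2 * t ∈ Apar k pb.gen := by
  obtain ⟨g0, hg0, h00, hq0, ho0⟩ := exists_zero_word pb hα0 hgood
  obtain ⟨g1, hg1, h01, hq1, ho1⟩ := exists_zero_word pb hα0 hgood'
  obtain ⟨d, hd⟩ := orth_unique pb hgood hq0 ho0 (y := γ * g1.1 1 0) (by
    intro i hi
    have := ho1 i hi
    simpa [mul_assoc] using this)
  have hu10 : (g1⁻¹ * g0).1 1 0 = 0 := inv_mul_10 g0 g1 h00 h01
  have hu00 : (g1⁻¹ * g0).1 0 0 * g1.1 1 0 = g0.1 1 0 := inv_mul_00 g0 g1 h00 h01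
  have hu : g1⁻¹ * g0 ∈ G k pb.gen := Subgroup.mul_mem _ (Subgroup.inv_mem _ hg1) hg0
  have hconj : (g1⁻¹ * g0).1 0 0 ^ 2 * t ∈ Apar k pb.gen := by
    rw [mem_Apar, ← conj_xmat_of_ut _ hu10 t]
    exact Subgroup.mul_mem _ (Subgroup.mul_mem _ hu ht) (Subgroup.inv_mem _ hu)
  have e : γ = algebraMap k L d * (g1⁻¹ * g0).1 0 0 := by
    have h1 : γ * g1.1 1 0 = (algebraMap k L d * (g1⁻¹ * g0).1 0 0) * g1.1 1 0 := by
      rw [hd, Algebra.smul_def, mul_assoc, hu00]
    exact mul_right_cancel₀ hq1 h1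
  have e2 : γ ^ 2 * t = (d ^ 2) • ((g1⁻¹ * g0).1 0 0 ^ 2 * t) := by
    rw [Algebra.smul_def, map_pow, e]
    ring
  rw [e2]
  exact Submodule.smul_mem _ _ hconj

/-- **The infinite case.** -/
theorem G_eq_top [Infinite k] (h2 : (2 : k) ≠ 0) (hα0 : pb.gen ≠ 0) : G k pb.gen = ⊤ := by
  obtain ⟨lam, hgood⟩ := exists_good pb hα0
  have hmul : ∀ x t : L, t ∈ Apar k pb.gen → x * t ∈ Apar k pb.gen := by
    intro x t ht
    have hfin := finite_bad pb hgood (lam ∘ₗ LinearMap.mulLeft k x)
    obtain ⟨c1, hc1⟩ := (hfin.union (Set.finite_singleton 0)).exists_notMem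
    obtain ⟨c2, hc2⟩ :=
      ((hfin.union (Set.finite_singleton 0)).union (Set.finite_singleton c1)).exists_notMem
    simp only [Set.mem_union, Set.mem_ofPred_eq, Set.mem_singleton_iff, not_or, not_not]
      at hc1 hc2
    obtain ⟨hc1g, hc10⟩ := hc1
    obtain ⟨⟨hc2g, hc20⟩, hc21⟩ := hc2
    have key : ∀ c : k, Good pb (lam + c • (lam ∘ₗ LinearMap.mulLeft k x)) →
        (1 + c • x) ^ 2 * t ∈ Apar k pb.gen := by
      intro c hc
      refine sq_mul_mem pb hα0 hgood (1 + c • x) ?_ ht
      have : lam ∘ₗ LinearMap.mulLeft k (1 + c • x) =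
          lam + c • (lam ∘ₗ LinearMap.mulLeft k x) := by
        ext y
        simp [add_mul]
      rw [this]
      exact hc
    have h1 := key c1 hc1g
    have h2' := key c2 hc2g
    have hne : (2 * c1 * c2 * (c2 - c1) : k) ≠ 0 :=
      mul_ne_zero (mul_ne_zero (mul_ne_zero h2 hc10) hc20) (sub_ne_zero.mpr hc21)
    have e : x * t = (2 * c1 * c2 * (c2 - c1))⁻¹ •
        (c2 ^ 2 • ((1 + c1 • x) ^ 2 * t - t) - c1 ^ 2 • ((1 + c2 • x) ^ 2 * t - t)) := by
      rw [eq_comm, inv_smul_eq_iff₀ hne]
      simp only [Algebra.smul_def, map_mul, map_pow, map_sub, map_ofNat]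
      ring
    rw [e]
    refine Submodule.smul_mem _ _ (Submodule.sub_mem _ ?_ ?_)
    · exact Submodule.smul_mem _ _ (Submodule.sub_mem _ h1 ht)
    · exact Submodule.smul_mem _ _ (Submodule.sub_mem _ h2' ht)
  have hone : (1 : L) ∈ Apar k pb.gen := by
    rw [mem_Apar]
    have := xmat_mem_G pb.gen (1 : k)
    rwa [map_one] at this
  have hx : ∀ t : L, xmat t ∈ G k pb.gen := by
    intro t
    have := hmul t 1 hone
    rwa [mul_one] at this
  obtain ⟨g0, hg0, h00, hq0, -⟩ := exists_zero_word pb hα0 hgood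
  refine eq_top_of_xy _ hx fun s => ?_
  have := conj_xmat_of_00 g0 h00 (-(s / g0.1 1 0 ^ 2))
  have e : -(g0.1 1 0 ^ 2 * -(s / g0.1 1 0 ^ 2)) = s := by
    field_simp
  rw [e] at this
  rw [← this]
  exact Subgroup.mul_mem _ (Subgroup.mul_mem _ hg0 (hx _)) (Subgroup.inv_mem _ hg0)

end Cfsg.Agent.Helper38.SL2Alg.Inf
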