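import Mathlib
import Cfsg.Agent.S2321
import Cfsg.Agent.S2299
import Cfsg.Agent.Lib.Helper79.Inflation

set_option autoImplicit false
set_option linter.unusedSectionVars false

/-! Degrees of the irreducible characters of `SL₂(F)` and `PSL₂(F)`, any `q ≥ 4`. -/

namespace Cfsg.Agent.Helper38

open Matrix Cfsg
open Cfsg.Agent.Helper81
open Cfsg.Agent.Helper3 (fintypeIrr)

variable {F : Type*} [Field F] [Fintype F] [DecidableEq F]

local notation "SL2" => Matrix.SpecialLinearGroup (Fin 2) F

lemma charDegree_of_eq {G : Type*} [Group G] (χ : G → ℂ) (k : ℕ) (h : χ 1 = (k : ℂ)) :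
    charDegree χ = k := by
  unfold charDegree
  rw [h]
  simp

/-- central elements of `SL₂` are scalar matrices `±1` -/
lemma center_SL2_toGL (z : SL2) (hz : z ∈ Subgroup.center SL2) :
    ∃ a : Fˣ, a * a = 1 ∧ (Matrix.SpecialLinearGroup.toGL z : GL (Fin 2) F) = sc a := by
  obtain ⟨r, hr, hz⟩ := Matrix.SpecialLinearGroup.mem_center_iff.mp hz
  rw [Fintype.card_fin] at hr
  have hr0 : r ≠ 0 := by
    intro h0
    rw [h0] at hr
    norm_num at hr
  refine ⟨Units.mk0 r hr0, ?_, ?_⟩
  · apply Units.ext
    simp only [Units.val_mul, Units.val_mk0, Units.val_one]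
    rw [← pow_two, hr]
  · apply Matrix.GeneralLinearGroup.ext
    intro i j
    rw [Matrix.SpecialLinearGroup.coe_GL_coe_matrix, ← hz, sc_coe]
    fin_cases i <;> fin_cases j <;> simp [Matrix.scalar_apply]

lemma sc_eq_bmat (a : Fˣ) : (sc a : GL (Fin 2) F) = bmat a a 0 := by
  apply Matrix.GeneralLinearGroup.ext
  intro i j
  rw [sc_coe]
  fin_cases i <;> fin_cases j <;> simp

lemma stein_sc (α : MulChar F ℂ) (a : Fˣ) :
    stein α (sc a) = (Fintype.card F : ℂ) * (α a * α a) := by
  unfold stein
  rw [Pi.sub_apply, lin_sc, sc_eq_bmat, I_scalar]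
  ring

/-- the degree-`q` character of `SL₂` is trivial on the centre -/
theorem steinberg_central [Fintype (N F)] {χ : SL2 → ℂ} (hχ : IsIrrCharacter SL2 χ)
    (hdeg : χ 1 = (Fintype.card F : ℂ)) (z : SL2) (hz : z ∈ Subgroup.center SL2) : χ z = χ 1 := by
  obtain ⟨X, hX, h⟩ := over_SL2 hχ
  rcases h with h | ⟨-, ε, -, -, χ', -, -, hsum, t, ht⟩
  · have hX1 : X 1 = (Fintype.card F : ℂ) := by
      have := h 1
      rw [map_one] at this
      rw [this, hdeg]
    obtain ⟨α, rfl⟩ := Cfsg.Agent.S2320.exists_stein_of_degree hX hX1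
    obtain ⟨a, ha, hza⟩ := center_SL2_toGL z hz
    rw [← h z, hza, stein_sc, hdeg, ← map_mul]
    have : ((a : F) * (a : F)) = 1 := by
      have := congrArg Units.val ha
      simpa using this
    rw [this, map_one, mul_one]
  · exfalso
    have h1 := hsum 1
    have h2 := ht 1 1 (by simp)
    rw [map_one] at h1
    rw [h2, hdeg] at h1
    apply Cfsg.Agent.S2321.no_degree_two_q hX
    rw [h1]
    ring

/-- the possible degrees of the irreducible characters of `SL₂`, all `q` -/
theorem SL2_degrees {χ : SL2 → ℂ} (hχ : IsIrrCharacter SL2 χ) :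
    ∃ k : ℕ, χ 1 = (k : ℂ) ∧ (k = 1 ∨ k = Fintype.card F ∨ k = Fintype.card F + 1 ∨
      k + 1 = Fintype.card F ∨ 2 * k = Fintype.card F + 1 ∨ 2 * k + 1 = Fintype.card F) := by
  obtain ⟨k, hk0, hk⟩ := irr_one_pos hχ
  refine ⟨k, hk, ?_⟩
  have hpos : 0 < Fintype.card F := Fintype.card_pos
  rcases Nat.even_or_odd (Fintype.card F) with heven | hodd
  · have h2 : ringChar F = 2 := by
      rw [FiniteField.even_card_iff_char_two]
      exact Nat.even_iff.mp heven
    have : CharP F 2 := ringChar.of_eq h2
    have := (Cfsg.Agent.S2300.result (F := F)).1 χ hχ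
    rw [hk] at this
    rcases this with h | h | h | h
    · left; exact_mod_cast h
    · right; right; right; left
      have : ((k + 1 : ℕ) : ℂ) = (Fintype.card F : ℂ) := by push_cast; rw [h]; ring
      exact_mod_cast this
    · right; left; exact_mod_cast h
    · right; right; left; exact_mod_cast h
  · have := (Cfsg.Agent.S2299.result hodd).1 χ hχ
    obtain ⟨m, hm⟩ := hodd
    rw [hk] at this
    rcases this with h | h | h | h | h | h
    · left; exact_mod_cast h
    · right; left; exact_mod_cast h
    · right; right; left; exact_mod_cast h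
    · right; right; right; left
      have : ((k + 1 : ℕ) : ℂ) = (Fintype.card F : ℂ) := by push_cast; rw [h]; ring
      exact_mod_cast this
    · right; right; right; right; left
      have : k = (Fintype.card F + 1) / 2 := by exact_mod_cast h
      omega
    · right; right; right; right; right
      have : k = (Fintype.card F - 1) / 2 := by exact_mod_cast h
      omega

/-- there is exactly one irreducible character of `SL₂` of degree `q`, `q ≥ 4` -/
theorem SL2_unique_q (hq : 4 ≤ Fintype.card F) :
    Nat.card {χ : IrrCharacter SL2 // (χ : SL2 → ℂ) 1 = (Fintype.card F : ℂ)} = 1 := by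
  rcases Nat.even_or_odd (Fintype.card F) with heven | hodd
  · have h2 : ringChar F = 2 := by
      rw [FiniteField.even_card_iff_char_two]
      exact Nat.even_iff.mp heven
    have : CharP F 2 := ringChar.of_eq h2
    exact ((Cfsg.Agent.S2300.result (F := F)).2 hq).2.1
  · have h5 : 5 ≤ Fintype.card F := by
      obtain ⟨m, hm⟩ := hodd
      omega
    exact ((Cfsg.Agent.S2299.result hodd).2 h5).2.1

end Cfsg.Agent.Helper38
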