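import Mathlib
import Cfsg.Agent.Lib.Helper38.GL2Even

set_option autoImplicit false
set_option linter.unusedSectionVars false

/-! Elements of `SL₂(F)` without eigenvectors: conjugation invariance, the sum formula with
the elliptic remainder, and elements of order dividing `q + 1`. -/

namespace Cfsg.Agent.Helper38

open Matrix Cfsg
open Cfsg.Agent.Helper81
open Cfsg.Agent.S2305 (dg dg00 dg01 dg10 dg11)
open scoped ComplexConjugate

variable {F : Type*} [Field F] [Fintype F] [DecidableEq F]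

/-- having no eigenvector in `F²` -/
def NoEig (M : Matrix (Fin 2) (Fin 2) F) : Prop :=
  ∀ (c : F) (v : Fin 2 → F), v ≠ 0 → M.mulVec v ≠ c • v

lemma noEig_iff (g : GL (Fin 2) F) :
    NoEig (g : Matrix (Fin 2) (Fin 2) F) ↔
      ∀ l : F, l ^ 2 - tr2 g * l + ((Matrix.GeneralLinearGroup.det g : Fˣ) : F) ≠ 0 :=
  elliptic_iff g

lemma noEig_conj (c g : GL (Fin 2) F) :
    NoEig ((c * g * c⁻¹ : GL (Fin 2) F) : Matrix (Fin 2) (Fin 2) F) ↔
      NoEig (g : Matrix (Fin 2) (Fin 2) F) := by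
  rw [noEig_iff, noEig_iff, tr2_conj, det_conj]

lemma noEig_of_isConj {g h : GL (Fin 2) F} (hc : IsConj g h) :
    NoEig (h : Matrix (Fin 2) (Fin 2) F) ↔ NoEig (g : Matrix (Fin 2) (Fin 2) F) := by
  obtain ⟨c, hc⟩ := isConj_iff.mp hc
  rw [← hc, noEig_conj]

/-- matrices with vanishing lower left entry have an eigenvector -/
lemma not_noEig_of_lower (M : Matrix (Fin 2) (Fin 2) F) (h : M 1 0 = 0) : ¬ NoEig M := by
  intro hE
  apply hE (M 0 0) ![1, 0]
  · intro h0
    have := congrFun h0 0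
    simp at this
  · funext i
    fin_cases i <;> simp [Matrix.mulVec, dotProduct, Fin.sum_univ_two, h]

lemma not_noEig_one : ¬ NoEig (((1 : GL (Fin 2) F) : Matrix (Fin 2) (Fin 2) F)) :=
  not_noEig_of_lower _ (by simp)

lemma not_noEig_sc (a : Fˣ) : ¬ NoEig (((sc a : GL (Fin 2) F) : Matrix (Fin 2) (Fin 2) F)) :=
  not_noEig_of_lower _ (by rw [sc_coe]; simp)

lemma not_noEig_un (c : F) : ¬ NoEig (((un c : GL (Fin 2) F) : Matrix (Fin 2) (Fin 2) F)) :=
  not_noEig_of_lower _ (by rw [un_coe]; simp)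

lemma not_noEig_sc_un (a : Fˣ) (c : F) :
    ¬ NoEig (((sc a * un c : GL (Fin 2) F) : Matrix (Fin 2) (Fin 2) F)) :=
  not_noEig_of_lower _ (by
    rw [Matrix.GeneralLinearGroup.coe_mul, sc_coe, un_coe]
    simp [Matrix.mul_apply, Fin.sum_univ_two])

lemma not_noEig_dg (a d : Fˣ) : ¬ NoEig (((dg a d : GL (Fin 2) F) : Matrix (Fin 2) (Fin 2) F)) :=
  not_noEig_of_lower _ (by simp)

open Classical in
/-- the sum formula with the elliptic remainder -/
theorem sum_det_one' (hodd : Odd (Fintype.card F)) (Φ : GL (Fin 2) F → ℂ)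
    (hΦ : IsClassFunction (GL (Fin 2) F) Φ)
    (hN : ∀ g, Matrix.GeneralLinearGroup.det g ≠ 1 → Φ g = 0)
    (hsplit : ∀ a d : Fˣ, a ≠ d → a * d = 1 → Φ (dg a d) = 0) :
    ∑ g, Φ g = Φ 1 + Φ (sc (-1)) +
      ((Fintype.card Fˣ * (Fintype.card Fˣ + 2) : ℕ) : ℂ) * (Φ (un 1) + Φ (sc (-1) * un 1)) +
      ∑ g : GL (Fin 2) F, (if NoEig (g : Matrix (Fin 2) (Fin 2) F) then Φ g else 0) := by
  let Φ' : GL (Fin 2) F → ℂ := fun g => if NoEig (g : Matrix (Fin 2) (Fin 2) F) then 0 else Φ g
  have hΦ' : IsClassFunction (GL (Fin 2) F) Φ' := by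
    intro g c
    simp only [Φ']
    by_cases h : NoEig (g : Matrix (Fin 2) (Fin 2) F)
    · rw [if_pos h, if_pos ((noEig_conj c g).mpr h)]
    · rw [if_neg h, if_neg (fun h' => h ((noEig_conj c g).mp h')), hΦ]
  have hsum := sum_det_one hodd Φ' hΦ'
    (by
      intro g hg
      simp only [Φ']
      rw [hN g hg]; simp)
    (by
      intro a d had had1
      simp only [Φ']
      rw [if_neg (not_noEig_dg a d), hsplit a d had had1])
    (by
      intro g _ hE
      simp only [Φ']
      exact if_pos hE)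
  have e1 : Φ' 1 = Φ 1 := by simp only [Φ']; rw [if_neg not_noEig_one]
  have e2 : Φ' (sc (-1)) = Φ (sc (-1)) := by simp only [Φ']; rw [if_neg (not_noEig_sc _)]
  have e3 : Φ' (un 1) = Φ (un 1) := by simp only [Φ']; rw [if_neg (not_noEig_un _)]
  have e4 : Φ' (sc (-1) * un 1) = Φ (sc (-1) * un 1) := by
    simp only [Φ']; rw [if_neg (not_noEig_sc_un _ _)]
  rw [e1, e2, e3, e4] at hsum
  rw [← hsum, ← Finset.sum_add_distrib]
  apply Finset.sum_congr rfl
  intro g _
  simp only [Φ']
  by_cases h : NoEig (g : Matrix (Fin 2) (Fin 2) F)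
  · rw [if_pos h, if_pos h, zero_add]
  · rw [if_neg h, if_neg h, add_zero]

section powers

lemma un_pow (n : ℕ) : (un (1 : F)) ^ n = un (n : F) := by
  induction n with
  | zero => simp [un_zero]
  | succ n ih => rw [pow_succ, ih, Nat.cast_succ, un_add]

lemma un_eq_one_iff (c : F) : un c = 1 ↔ c = 0 := by
  constructor
  · intro h
    have := congrArg (fun y : GL (Fin 2) F => (y : Matrix (Fin 2) (Fin 2) F) 0 1) h
    simp only [un_coe] at this
    simpa using this
  · rintro rfl
    exact un_zero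

lemma un_pow_card_succ : (un (1 : F)) ^ (Fintype.card F + 1) = un 1 := by
  rw [un_pow]
  congr 1
  push_cast
  rw [FiniteField.cast_card_eq_zero, zero_add]

lemma dg_pow_coe (a d : Fˣ) (n : ℕ) :
    (((dg a d : GL (Fin 2) F) ^ n : GL (Fin 2) F) : Matrix (Fin 2) (Fin 2) F) =
      !![((a ^ n : Fˣ) : F), 0; 0, ((d ^ n : Fˣ) : F)] := by
  induction n with
  | zero =>
    ext i j
    fin_cases i <;> fin_cases j <;> simp
  | succ n ih =>
    rw [pow_succ, Matrix.GeneralLinearGroup.coe_mul, ih, dg_coe]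
    ext i j
    fin_cases i <;> fin_cases j <;> simp [Matrix.mul_apply, Fin.sum_univ_two, pow_succ]

/-- an element of determinant one whose order divides `q + 1` is `±1` or has no eigenvector -/
theorem noEig_of_pow (hodd : Odd (Fintype.card F)) (g : GL (Fin 2) F)
    (hdet : Matrix.GeneralLinearGroup.det g = 1) (hpow : g ^ (Fintype.card F + 1) = 1) :
    g = 1 ∨ g = sc (-1) ∨ NoEig (g : Matrix (Fin 2) (Fin 2) F) := by
  have hconj : ∀ x : GL (Fin 2) F, IsConj x g → x ^ (Fintype.card F + 1) = 1 := by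
    intro x hx
    obtain ⟨c, hc⟩ := isConj_iff.mp hx
    rw [← hc, conj_pow] at hpow
    have := congrArg (fun y => c⁻¹ * y * c) hpow
    simpa [mul_assoc] using this
  rcases N_cases g hdet with h | h | h | h | ⟨a, d, had, had1, h⟩ | h
  · exact Or.inl h
  · exact Or.inr (Or.inl h)
  · exfalso
    have := hconj _ h
    rw [un_pow_card_succ, un_eq_one_iff] at this
    exact one_ne_zero this
  · exfalso
    have := hconj _ h
    rw [(show Commute (sc (-1) : GL (Fin 2) F) (un 1) from (sc_comm (-1) (un 1)).symm).mul_pow,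
      un_pow_card_succ] at this
    obtain ⟨k, hk⟩ := hodd
    have h2 : (sc (-1) : GL (Fin 2) F) ^ (Fintype.card F + 1) = 1 := by
      rw [hk, show 2 * k + 1 + 1 = 2 * (k + 1) by ring, pow_mul, pow_two, sc_neg_sq, one_pow]
    rw [h2, one_mul, un_eq_one_iff] at this
    exact one_ne_zero this
  · exfalso
    have h1 := hconj _ h
    have h2 := congrArg (fun y : GL (Fin 2) F => (y : Matrix (Fin 2) (Fin 2) F) 0 0) h1
    simp only [dg_pow_coe] at h2
    have h3 : a ^ (Fintype.card F + 1) = 1 := by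
      apply Units.ext
      simpa using h2
    have h4 : a ^ (Fintype.card Fˣ) = 1 := pow_card_eq_one
    have hF := card_F_eq (F := F)
    rw [hF, show Fintype.card Fˣ + 1 + 1 = Fintype.card Fˣ + 2 by ring, pow_add, h4, one_mul] at h3
    apply had
    have : a * a = a * d := by rw [← pow_two, h3, had1]
    exact mul_left_cancel this
  · exact Or.inr (Or.inr h)

end powers

end Cfsg.Agent.Helper38
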