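import Mathlib
import Cfsg.Agent.Lib.Helper38.SL2Sum

set_option autoImplicit false
set_option linter.unusedSectionVars false

/-! The values at a transvection of the two constituents of a split character of `GL₂(F)`
restricted to `SL₂(F)`, `q` odd. -/

namespace Cfsg.Agent.Helper38

open Matrix Cfsg
open Cfsg.Agent.Helper81
open Cfsg.Agent.S2305 (dg dg00 dg01 dg10 dg11)
open scoped ComplexConjugate

variable {F : Type*} [Field F] [Fintype F] [DecidableEq F] [Fintype (N F)]

/-- extension by zero from `ker det` -/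
noncomputable def ext0 (ψ : N F → ℂ) : GL (Fin 2) F → ℂ := fun g =>
  if h : Matrix.GeneralLinearGroup.det g = 1 then ψ ⟨g, MonoidHom.mem_ker.mpr h⟩ else 0

lemma ext0_coe (ψ : N F → ℂ) (n : N F) : ext0 ψ (n : GL (Fin 2) F) = ψ n := by
  unfold ext0
  rw [dif_pos (MonoidHom.mem_ker.mp n.2)]

lemma ext0_of_det (ψ : N F → ℂ) (g : GL (Fin 2) F) (h : Matrix.GeneralLinearGroup.det g = 1) :
    ext0 ψ g = ψ ⟨g, MonoidHom.mem_ker.mpr h⟩ := by
  unfold ext0
  rw [dif_pos h]

lemma ext0_of_det_ne (ψ : N F → ℂ) (g : GL (Fin 2) F) (h : Matrix.GeneralLinearGroup.det g ≠ 1) :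
    ext0 ψ g = 0 := by
  unfold ext0
  rw [dif_neg h]

lemma ext0_conj (ψ : N F → ℂ) (c g : GL (Fin 2) F) :
    ext0 ψ (c * g * c⁻¹) = ext0 (conjFun (N F) normal_N ψ c) g := by
  by_cases h : Matrix.GeneralLinearGroup.det g = 1
  · have h' : Matrix.GeneralLinearGroup.det (c * g * c⁻¹) = 1 := by rw [det_conj, h]
    rw [ext0_of_det _ _ h', ext0_of_det _ _ h, conjFun_apply]
  · have h' : Matrix.GeneralLinearGroup.det (c * g * c⁻¹) ≠ 1 := by rw [det_conj]; exact h
    rw [ext0_of_det_ne _ _ h', ext0_of_det_ne _ _ h]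

/-- value of a conjugate at an element commuting with the conjugating element -/
lemma conjFun_comm' (ψ : N F → ℂ) (t : GL (Fin 2) F) (n : N F)
    (h : t * (n : GL (Fin 2) F) = n * t) : conjFun (N F) normal_N ψ t n = ψ n := by
  rw [conjFun_apply]
  congr 1
  apply Subtype.ext
  simp only
  rw [h, mul_inv_cancel_right]

variable {ε : MulChar F ℂ}

/-- the central element `-1` of `ker det` -/
noncomputable def zN : N F := ⟨sc (-1), by rw [MonoidHom.mem_ker, det_sc']; simp⟩

/-- the transvection in `ker det` -/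
noncomputable def uN : N F := ⟨un 1, by
  rw [MonoidHom.mem_ker]
  apply Units.ext
  rw [det_coe, un_coe]
  simp⟩

lemma zN_central : (zN : N F) ∈ Subgroup.center (N F) := by
  rw [Subgroup.mem_center_iff]
  intro n
  apply Subtype.ext
  exact sc_comm (-1) (n : GL (Fin 2) F)

/-- the central character at `-1` -/
lemma exists_central_sign {ψ : N F → ℂ} (hψ : IsIrrCharacter (N F) ψ) :
    ∃ ω : ℂ, Complex.normSq ω = 1 ∧ ∀ n : N F, ψ (zN * n) = ω * ψ n := by
  obtain ⟨k, ρ, hρ, rfl⟩ := hψ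
  have := hρ
  obtain ⟨f, -, -, -, hnorm, hchar, -⟩ := Cfsg.Agent.S4566.exists_central_scalar ρ
  refine ⟨f zN, ?_, ?_⟩
  · rw [Complex.normSq_eq_norm_sq, hnorm _ zN_central]; simp
  · intro n
    rw [← hchar _ zN_central]
    congr 1
    exact ((Subgroup.mem_center_iff.mp zN_central) n).symm

/-- the key computation: the difference of the two constituents at the transvection has
absolute value `√q` -/
theorem normSq_diff (hodd : Odd (Fintype.card F)) (hε : QuadData ε) {ψ ψ' : N F → ℂ}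
    (hψ : IsIrrCharacter (N F) ψ) (hψ' : IsIrrCharacter (N F) ψ') (hne : ψ ≠ ψ')
    (t : GL (Fin 2) F) (ht : ψ' = conjFun (N F) normal_N ψ t) :
    Complex.normSq (ψ uN - ψ' uN) = (Fintype.card F : ℝ) := by
  classical
  have hc := isClassFunction_of_isCharacter (IsIrrCharacter.isCharacter hψ)
  have hc' := isClassFunction_of_isCharacter (IsIrrCharacter.isCharacter hψ')
  have hswap := conj_swap hodd hε hc hc' hne t ht
  have hfix : ∀ c : GL (Fin 2) F, lin ε c = 1 → conjFun (N F) normal_N ψ c = ψ ∧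
      conjFun (N F) normal_N ψ' c = ψ' :=
    fun c h => ⟨conjFun_of_lin_one hodd hε hc c h, conjFun_of_lin_one hodd hε hc' c h⟩
  -- the function to be summed
  let Φ : GL (Fin 2) F → ℂ := fun g => ((Complex.normSq (ext0 ψ g - ext0 ψ' g) : ℝ) : ℂ)
  have hΦ : IsClassFunction (GL (Fin 2) F) Φ := by
    intro g c
    simp only [Φ]
    rw [ext0_conj, ext0_conj]
    rcases quad_cases hε (Matrix.GeneralLinearGroup.det c) with h | h
    · obtain ⟨h1, h2⟩ := hfix c h
      rw [h1, h2]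
    · obtain ⟨h1, h2⟩ := hswap c h
      rw [h1, h2, ← Complex.normSq_neg]
      congr 2
      ring
  -- vanishing when some element of non-square determinant commutes
  have hvan : ∀ (n : N F) (t' : GL (Fin 2) F), lin ε t' = -1 →
      t' * (n : GL (Fin 2) F) = n * t' → ψ n - ψ' n = 0 := by
    intro n t' h1 h2
    rw [← (hswap t' h1).1, conjFun_comm' ψ t' n h2, sub_self]
  obtain ⟨c, hc1⟩ := exists_nonsquare hε
  have hsum := sum_det_one hodd Φ hΦ
    (by
      intro g hg
      simp only [Φ]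
      rw [ext0_of_det_ne _ _ hg, ext0_of_det_ne _ _ hg]
      simp)
    (by
      intro a d had had1
      have hd : Matrix.GeneralLinearGroup.det (dg a d : GL (Fin 2) F) = 1 := by rw [det_dg, had1]
      simp only [Φ]
      rw [ext0_of_det _ _ hd, ext0_of_det _ _ hd, hvan _ (dg c 1) (by rw [lin_dg, hc1]; simp)]
      · simp
      · apply Matrix.GeneralLinearGroup.ext
        intro i j
        simp only [Matrix.GeneralLinearGroup.coe_mul, dg_coe]
        fin_cases i <;> fin_cases j <;> simp [Matrix.mul_apply, Fin.sum_univ_two, mul_comm])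
    (by
      intro g hg hE
      obtain ⟨t', ht'1, ht'2⟩ := exists_comm_det hodd g hg hE c
      simp only [Φ]
      rw [ext0_of_det _ _ hg, ext0_of_det _ _ hg, hvan _ t' (by unfold lin; rw [ht'2, hc1]) ht'1]
      simp)
  -- the four special values
  have h1 : Φ 1 = 0 := by
    simp only [Φ]
    have : ((1 : N F) : GL (Fin 2) F) = 1 := rfl
    rw [← this, ext0_coe, ext0_coe, hvan 1 (dg c 1) (by rw [lin_dg, hc1]; simp) (by simp)]
    simp
  have hz : Φ (sc (-1)) = 0 := by
    simp only [Φ]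
    have : ((zN : N F) : GL (Fin 2) F) = sc (-1) := rfl
    rw [← this, ext0_coe, ext0_coe, hvan zN (dg c 1) (by rw [lin_dg, hc1]; simp)
      (by rw [this]; exact sc_comm _ _)]
    simp
  have hu : Φ (un 1) = ((Complex.normSq (ψ uN - ψ' uN) : ℝ) : ℂ) := by
    simp only [Φ]
    have : ((uN : N F) : GL (Fin 2) F) = un 1 := rfl
    rw [← this, ext0_coe, ext0_coe]
  have hzu : Φ (sc (-1) * un 1) = ((Complex.normSq (ψ uN - ψ' uN) : ℝ) : ℂ) := by
    simp only [Φ]
    have : ((zN * uN : N F) : GL (Fin 2) F) = sc (-1) * un 1 := rfl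
    rw [← this, ext0_coe, ext0_coe]
    obtain ⟨ω, hω1, hω2⟩ := exists_central_sign hψ
    have e1 : ψ' (zN * uN) = ω * ψ' uN := by
      rw [ht, conjFun_apply, conjFun_apply]
      have : (⟨t * ((zN * uN : N F) : GL (Fin 2) F) * t⁻¹, normal_N.conj_mem _ (zN * uN).2 t⟩ : N F) =
          zN * ⟨t * ((uN : N F) : GL (Fin 2) F) * t⁻¹, normal_N.conj_mem _ uN.2 t⟩ := by
        apply Subtype.ext
        change t * (sc (-1) * un 1) * t⁻¹ = sc (-1) * (t * un 1 * t⁻¹)
        rw [← mul_assoc, sc_comm (-1) t]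
        group
      rw [this, hω2]
    rw [hω2, e1, ← mul_sub, Complex.normSq_mul, hω1, one_mul]
  rw [h1, hz, hu, hzu] at hsum
  -- the norm of the difference
  have hnorm : classInner (ψ - ψ') (ψ - ψ') = 2 := by
    rw [classInner_sub_left, classInner_conj_symm (ψ - ψ') ψ, classInner_conj_symm (ψ - ψ') ψ',
      classInner_sub_left, classInner_sub_left, irr_orthonormal hψ hψ, irr_orthonormal hψ' hψ,
      irr_orthonormal hψ hψ', irr_orthonormal hψ' hψ', if_pos rfl, if_pos rfl, if_neg hne,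
      if_neg (Ne.symm hne)]
    simp
    norm_num
  unfold classInner at hnorm
  have hsumN : ∑ n : N F, (ψ - ψ') n * conj ((ψ - ψ') n) = ∑ g, Φ g := by
    have e1 : ∀ n : N F, (ψ - ψ') n * conj ((ψ - ψ') n) = Φ n := by
      intro n
      simp only [Φ]
      rw [ext0_coe, ext0_coe, Pi.sub_apply, Complex.mul_conj]
    rw [Finset.sum_congr rfl (fun n _ => e1 n), sum_N_eq Φ]
    apply Finset.sum_congr rfl
    intro g _
    split_ifs with h
    · rfl
    · simp only [Φ]
      rw [ext0_of_det_ne _ _ h, ext0_of_det_ne _ _ h]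
      simp
  rw [hsumN, hsum] at hnorm
  have hNcard : (Nat.card (N F) : ℂ) =
      ((Fintype.card Fˣ + 2) * (Fintype.card Fˣ * (Fintype.card Fˣ + 1)) : ℕ) := by
    have h1 := card_G_eq_mul_card_N (F := F)
    rw [card_GL2] at h1
    have hn := card_units_pos (F := F)
    have : Nat.card (N F) = (Fintype.card Fˣ + 2) * (Fintype.card Fˣ * (Fintype.card Fˣ + 1)) := by
      apply Nat.eq_of_mul_eq_mul_left hn
      rw [← h1]; ring
    rw [this]
  rw [hNcard] at hnorm
  have hn : (Fintype.card Fˣ : ℂ) ≠ 0 := by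
    have := card_units_pos (F := F)
    exact_mod_cast this.ne'
  have hn1 : (Fintype.card Fˣ : ℂ) + 1 ≠ 0 := by
    have : ((Fintype.card Fˣ + 1 : ℕ) : ℂ) ≠ 0 := Nat.cast_ne_zero.mpr (Nat.succ_ne_zero _)
    push_cast at this
    exact this
  have hn2 : (Fintype.card Fˣ : ℂ) + 2 ≠ 0 := by
    have : ((Fintype.card Fˣ + 2 : ℕ) : ℂ) ≠ 0 := Nat.cast_ne_zero.mpr (Nat.succ_ne_zero _)
    push_cast at this
    exact this
  have hfin : ((Complex.normSq (ψ uN - ψ' uN) : ℝ) : ℂ) = ((Fintype.card F : ℝ) : ℂ) := by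
    rw [card_F_eq (F := F)]
    push_cast at hnorm ⊢
    field_simp at hnorm
    have h0 : (2 * (Fintype.card Fˣ : ℂ) * ((Fintype.card Fˣ : ℂ) + 2)) *
        (((Complex.normSq (ψ uN - ψ' uN) : ℝ) : ℂ) - ((Fintype.card Fˣ : ℂ) + 1)) = 0 := by
      linear_combination hnorm
    have h2 : (2 * (Fintype.card Fˣ : ℂ) * ((Fintype.card Fˣ : ℂ) + 2)) ≠ 0 :=
      mul_ne_zero (mul_ne_zero two_ne_zero hn) hn2
    exact sub_eq_zero.mp ((mul_eq_zero.mp h0).resolve_left h2)
  exact_mod_cast hfin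

lemma un_dg_un : un 1 * (dg (-1) 1 * un 1) = (dg (-1) 1 : GL (Fin 2) F) := by
  apply Matrix.GeneralLinearGroup.ext
  intro i j
  simp only [Matrix.GeneralLinearGroup.coe_mul, dg_coe, un_coe]
  fin_cases i <;> fin_cases j <;> simp [Matrix.mul_apply, Fin.sum_univ_two]

lemma conj_uN : (⟨dg (-1) 1 * ((uN : N F) : GL (Fin 2) F) * (dg (-1) 1)⁻¹,
    normal_N.conj_mem _ uN.2 _⟩ : N F) = uN⁻¹ := by
  apply Subtype.ext
  change dg (-1) 1 * un 1 * (dg (-1) 1)⁻¹ = (un 1)⁻¹
  rw [mul_inv_eq_iff_eq_mul, eq_inv_mul_iff_mul_eq]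
  exact un_dg_un

/-- complex conjugation on the difference of the two values -/
theorem conj_diff (hodd : Odd (Fintype.card F)) (hε : QuadData ε) {ψ ψ' : N F → ℂ}
    (hψ : IsIrrCharacter (N F) ψ) (hψ' : IsIrrCharacter (N F) ψ') (hne : ψ ≠ ψ')
    (t : GL (Fin 2) F) (ht : ψ' = conjFun (N F) normal_N ψ t) :
    conj (ψ uN - ψ' uN) = ε ((-1 : Fˣ) : F) * (ψ uN - ψ' uN) := by
  have hc := isClassFunction_of_isCharacter (IsIrrCharacter.isCharacter hψ)
  have hc' := isClassFunction_of_isCharacter (IsIrrCharacter.isCharacter hψ')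
  have e1 : ∀ φ : N F → ℂ, IsIrrCharacter (N F) φ →
      conj (φ uN) = conjFun (N F) normal_N φ (dg (-1) 1) uN := by
    intro φ hφ
    rw [conjFun_apply, conj_uN]
    exact (Cfsg.Agent.Helper79.irr_inv ⟨φ, hφ⟩ uN).symm
  have hlin : lin ε (dg (-1) 1) = ε ((-1 : Fˣ) : F) := by
    rw [lin_dg]; simp
  rw [map_sub, e1 ψ hψ, e1 ψ' hψ']
  rcases quad_cases hε (-1) with h | h
  · rw [conjFun_of_lin_one hodd hε hc _ (hlin.trans h),
      conjFun_of_lin_one hodd hε hc' _ (hlin.trans h), h, one_mul]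
  · obtain ⟨h1, h2⟩ := conj_swap hodd hε hc hc' hne t ht (dg (-1) 1) (hlin.trans h)
    rw [h1, h2, h]
    ring

/-- the square of the difference -/
theorem sq_diff (hodd : Odd (Fintype.card F)) (hε : QuadData ε) {ψ ψ' : N F → ℂ}
    (hψ : IsIrrCharacter (N F) ψ) (hψ' : IsIrrCharacter (N F) ψ') (hne : ψ ≠ ψ')
    (t : GL (Fin 2) F) (ht : ψ' = conjFun (N F) normal_N ψ t) :
    (ψ uN - ψ' uN) ^ 2 = (-1 : ℂ) ^ ((Fintype.card F - 1) / 2) * (Fintype.card F : ℂ) := by
  have h1 := normSq_diff hodd hε hψ hψ' hne t ht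
  have h2 := conj_diff hodd hε hψ hψ' hne t ht
  have h3 := Complex.mul_conj (ψ uN - ψ' uN)
  rw [h1, h2] at h3
  rw [← quad_neg_one hodd hε]
  have h4 : ε ((-1 : Fˣ) : F) * ε ((-1 : Fˣ) : F) = 1 := by
    rcases quad_cases hε (-1) with h | h <;> rw [h] <;> norm_num
  push_cast at h3
  linear_combination ε ((-1 : Fˣ) : F) * h3 - (ψ uN - ψ' uN) ^ 2 * h4

end Cfsg.Agent.Helper38
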