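import Mathlib
import Cfsg.Agent.Lib.Helper38.SL2Ell
import Cfsg.Agent.Lib.Helper38.SL2Half

set_option autoImplicit false
set_option linter.unusedSectionVars false

/-! Sums of cuspidal characters of `GL₂(F)` over the elements of `SL₂(F)` without eigenvectors. -/

namespace Cfsg.Agent.Helper38

open Matrix Cfsg
open Cfsg.Agent.Helper81
open Cfsg.Agent.S2305 (dg)
open scoped ComplexConjugate

variable {F : Type*} [Field F] [Fintype F] [DecidableEq F] [Fintype (N F)]

local notation "Irr2" => IrrCharacter (GL (Fin 2) F)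

lemma card_N : Nat.card (N F) =
    (Fintype.card Fˣ + 2) * (Fintype.card Fˣ * (Fintype.card Fˣ + 1)) := by
  have h1 := card_G_eq_mul_card_N (F := F)
  rw [card_GL2] at h1
  have hn := card_units_pos (F := F)
  have h2 : Fintype.card Fˣ * Nat.card (N F) =
      Fintype.card Fˣ * ((Fintype.card Fˣ + 2) * (Fintype.card Fˣ * (Fintype.card Fˣ + 1))) := by
    rw [← h1]; ring
  exact Nat.eq_of_mul_eq_mul_left hn h2

lemma two_le_card_units (hodd : Odd (Fintype.card F)) : 2 ≤ Fintype.card Fˣ := by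
  have hF := card_F_eq (F := F)
  have hn := card_units_pos (F := F)
  obtain ⟨m, hm⟩ := hodd
  omega

/-- a cuspidal character restricted to `SL₂` has no trivial constituent -/
lemma sum_N_cusp (hodd : Odd (Fintype.card F)) (X : Irr2) (hX : X ∈ SC F) :
    ∑ n : N F, (X : GL (Fin 2) F → ℂ) n = 0 := by
  have h1 := inner_res (X : GL (Fin 2) F → ℂ) (lin (1 : MulChar F ℂ))
  have h2 : ∀ α : MulChar F ℂ, classInner ((X : GL (Fin 2) F → ℂ) * lin α) (lin 1) = 0 := by
    intro α
    rw [irr_orthonormal (twist_isIrr X.2 α) (lin_isIrr 1), if_neg]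
    intro h
    have h3 := congrFun h 1
    rw [Pi.mul_apply, lin_one, lin_one, mul_one, deg_spec, deg_SC X hX] at h3
    have h4 := two_le_card_units (F := F) hodd
    have : Fintype.card Fˣ = 1 := by exact_mod_cast h3
    omega
  rw [Finset.sum_congr rfl (fun α _ => h2 α), Finset.sum_const_zero] at h1
  unfold classInner at h1
  have hN : (Nat.card (N F) : ℂ) ≠ 0 := by
    have : Nat.card (N F) ≠ 0 := Nat.card_pos.ne'
    exact_mod_cast this
  rcases mul_eq_zero.mp h1 with h | h
  · exact absurd (inv_eq_zero.mp h) hN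
  · rw [← h]
    apply Finset.sum_congr rfl
    intro n _
    rw [lin_one_char]
    simp

open Classical in
/-- the sums of a cuspidal character and of its absolute value squared over the elements of
`SL₂` without eigenvectors -/
theorem cusp_sums (hodd : Odd (Fintype.card F)) (X : Irr2) (hX : X ∈ SC F) (ω : ℂ)
    (hω : ω = 1 ∨ ω = -1)
    (hXω : ∀ g, (X : GL (Fin 2) F → ℂ) (sc (-1) * g) = ω * (X : GL (Fin 2) F → ℂ) g) :
    ∑ n : N F, (if NoEig ((n : GL (Fin 2) F) : Matrix (Fin 2) (Fin 2) F)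
        then (X : GL (Fin 2) F → ℂ) n else 0) =
      (1 + ω) * (Fintype.card Fˣ : ℂ) * ((Fintype.card Fˣ : ℂ) + 1) ∧
    ∑ n : N F, (if NoEig ((n : GL (Fin 2) F) : Matrix (Fin 2) (Fin 2) F)
        then (X : GL (Fin 2) F → ℂ) n * conj ((X : GL (Fin 2) F → ℂ) n) else 0) =
      classInner (fun n : N F => (X : GL (Fin 2) F → ℂ) n) (fun n : N F => (X : GL (Fin 2) F → ℂ) n) *
          (Nat.card (N F) : ℂ) - 2 * (Fintype.card Fˣ : ℂ) ^ 2 -
        2 * (Fintype.card Fˣ : ℂ) * ((Fintype.card Fˣ : ℂ) + 2) := by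
  have hcl := isClassFunction_of_isCharacter (IsIrrCharacter.isCharacter X.2)
  have hωω : ω * conj ω = 1 := by
    rcases hω with h | h <;> rw [h] <;> simp
  have hX1 : (X : GL (Fin 2) F → ℂ) 1 = (Fintype.card Fˣ : ℂ) := by
    rw [deg_spec, deg_SC X hX]
  have hXz : (X : GL (Fin 2) F → ℂ) (sc (-1)) = ω * (Fintype.card Fˣ : ℂ) := by
    have := hXω 1
    rwa [mul_one, hX1] at this
  have hXu : (X : GL (Fin 2) F → ℂ) (un 1) = -1 := un_SC X hX
  have hXzu : (X : GL (Fin 2) F → ℂ) (sc (-1) * un 1) = -ω := by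
    rw [hXω, hXu]; ring
  have hdz : Matrix.GeneralLinearGroup.det (sc (-1) : GL (Fin 2) F) = 1 := by
    rw [det_sc']; simp
  have hdu : Matrix.GeneralLinearGroup.det (un 1 : GL (Fin 2) F) = 1 := by
    apply Units.ext
    rw [det_coe, un_coe]
    simp
  have hdzu : Matrix.GeneralLinearGroup.det (sc (-1) * un 1 : GL (Fin 2) F) = 1 := by
    rw [det_sc_un]; simp
  -- general principle
  have key : ∀ f : GL (Fin 2) F → ℂ, IsClassFunction (GL (Fin 2) F) f →
      (∀ a d : Fˣ, a ≠ d → f (dg a d) = 0) →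
      ∑ n : N F, (if NoEig ((n : GL (Fin 2) F) : Matrix (Fin 2) (Fin 2) F) then f n else 0) =
        ∑ n : N F, f n - f 1 - f (sc (-1)) -
          ((Fintype.card Fˣ * (Fintype.card Fˣ + 2) : ℕ) : ℂ) * (f (un 1) + f (sc (-1) * un 1)) := by
    intro f hf hsplit
    let Φ : GL (Fin 2) F → ℂ := fun g => if Matrix.GeneralLinearGroup.det g = 1 then f g else 0
    have hΦ : IsClassFunction (GL (Fin 2) F) Φ := by
      intro g c
      simp only [Φ]
      rw [det_conj, hf]
    have h := sum_det_one' hodd Φ hΦ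
      (by intro g hg; simp only [Φ]; rw [if_neg hg])
      (by
        intro a d had had1
        simp only [Φ]
        rw [hsplit a d had]; simp)
    have e0 : ∑ g, Φ g = ∑ n : N F, f n := (sum_N_eq f).symm
    have e1 : Φ 1 = f 1 := by simp only [Φ]; rw [if_pos (map_one _)]
    have e2 : Φ (sc (-1)) = f (sc (-1)) := by simp only [Φ]; rw [if_pos hdz]
    have e3 : Φ (un 1) = f (un 1) := by simp only [Φ]; rw [if_pos hdu]
    have e4 : Φ (sc (-1) * un 1) = f (sc (-1) * un 1) := by simp only [Φ]; rw [if_pos hdzu]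
    have e5 : ∑ g : GL (Fin 2) F, (if NoEig (g : Matrix (Fin 2) (Fin 2) F) then Φ g else 0) =
        ∑ n : N F, (if NoEig ((n : GL (Fin 2) F) : Matrix (Fin 2) (Fin 2) F) then f n else 0) := by
      rw [sum_N_eq (fun g => if NoEig (g : Matrix (Fin 2) (Fin 2) F) then f g else 0)]
      apply Finset.sum_congr rfl
      intro g _
      simp only [Φ]
      by_cases h1 : NoEig (g : Matrix (Fin 2) (Fin 2) F) <;>
        by_cases h2 : Matrix.GeneralLinearGroup.det g = 1 <;> simp [h1, h2]
    rw [e0, e1, e2, e3, e4, e5] at h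
    linear_combination -h
  constructor
  · rw [key _ hcl (fun a d had => SC_dg X hX a d had), sum_N_cusp hodd X hX, hX1, hXz, hXu, hXzu]
    push_cast
    ring
  · have hcl2 : IsClassFunction (GL (Fin 2) F)
        (fun g => (X : GL (Fin 2) F → ℂ) g * conj ((X : GL (Fin 2) F → ℂ) g)) := by
      intro g c
      simp only
      rw [hcl]
    have h := key _ hcl2 (fun a d had => by rw [SC_dg X hX a d had]; simp)
    rw [h, hX1, hXz, hXu, hXzu]
    have hN : (Nat.card (N F) : ℂ) ≠ 0 := by
      have : Nat.card (N F) ≠ 0 := Nat.card_pos.ne'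
      exact_mod_cast this
    have e : ∑ n : N F, (X : GL (Fin 2) F → ℂ) n * conj ((X : GL (Fin 2) F → ℂ) n) =
        classInner (fun n : N F => (X : GL (Fin 2) F → ℂ) n)
          (fun n : N F => (X : GL (Fin 2) F → ℂ) n) * (Nat.card (N F) : ℂ) := by
      unfold classInner
      field_simp
    rw [e]
    simp only [map_mul, map_neg, map_one, Complex.conj_natCast]
    push_cast
    linear_combination (-(Fintype.card Fˣ : ℂ) ^ 2 - (Fintype.card Fˣ : ℂ) * ((Fintype.card Fˣ : ℂ) + 2)) * hωω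

end Cfsg.Agent.Helper38
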