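import Mathlib
import Cfsg.Agent.Lib.Helper38.SL2Ell
import Cfsg.Agent.Lib.Helper38.SL2inGL2
import Cfsg.Agent.S2429

set_option autoImplicit false
set_option linter.unusedSectionVars false

/-! Non-split tori of `SL₂(F)`, `q` odd, and the sum of a class function over the elements
without eigenvectors in terms of its values on such a torus. -/

namespace Cfsg.Agent.Helper38

open Matrix Cfsg

variable {F : Type*} [Field F] [Fintype F] [DecidableEq F]

local notation "SL2" => Matrix.SpecialLinearGroup (Fin 2) F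

/-- the properties of a non-split torus that we use -/
structure IsNSTorus (T : Subgroup SL2) : Prop where
  cyc : IsCyclic T
  card : Nat.card T = Fintype.card F + 1
  cent : ∀ g : SL2, g ∈ T → (g : Matrix (Fin 2) (Fin 2) F) ≠ 1 →
    (g : Matrix (Fin 2) (Fin 2) F) ≠ -1 → Subgroup.centralizer ({g} : Set SL2) = T
  into : ∀ g : SL2, NoEig (g : Matrix (Fin 2) (Fin 2) F) → ∃ h : SL2, h * g * h⁻¹ ∈ T
  norm : Nat.card (Subgroup.normalizer (T : Set SL2)) = 2 * (Fintype.card F + 1)

theorem exists_nsTorus (hodd : Odd (Fintype.card F)) : ∃ T : Subgroup SL2, IsNSTorus T := by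
  obtain ⟨T, h1, h2, -, h4, h5, h6, -, -⟩ := Cfsg.Agent.S2429.result (F := F) hodd
  exact ⟨T, ⟨h1, h2, h4, h5, h6⟩⟩

lemma toGL_coe (s : SL2) :
    ((Matrix.SpecialLinearGroup.toGL s : GL (Fin 2) F) : Matrix (Fin 2) (Fin 2) F) =
      (s : Matrix (Fin 2) (Fin 2) F) :=
  Matrix.SpecialLinearGroup.coe_GL_coe_matrix s

lemma det_toGL' (s : SL2) :
    Matrix.GeneralLinearGroup.det (Matrix.SpecialLinearGroup.toGL s : GL (Fin 2) F) = 1 := by
  apply Units.ext
  rw [Matrix.GeneralLinearGroup.val_det_apply, toGL_coe]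
  simp

lemma noEig_conj_SL (h g : SL2) :
    NoEig ((h * g * h⁻¹ : SL2) : Matrix (Fin 2) (Fin 2) F) ↔
      NoEig (g : Matrix (Fin 2) (Fin 2) F) := by
  rw [← toGL_coe, ← toGL_coe g, map_mul, map_mul, map_inv]
  exact noEig_conj _ _

lemma coe_ne_one_of_noEig {g : SL2} (h : NoEig (g : Matrix (Fin 2) (Fin 2) F)) :
    (g : Matrix (Fin 2) (Fin 2) F) ≠ 1 := by
  intro h1
  rw [h1] at h
  exact not_noEig_of_lower _ (by simp) h

lemma coe_ne_neg_one_of_noEig {g : SL2} (h : NoEig (g : Matrix (Fin 2) (Fin 2) F)) :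
    (g : Matrix (Fin 2) (Fin 2) F) ≠ -1 := by
  intro h1
  rw [h1] at h
  exact not_noEig_of_lower _ (by simp) h

/-- the non-central elements of a non-split torus have no eigenvectors -/
theorem IsNSTorus.noEig {T : Subgroup SL2} (hT : IsNSTorus T) (hodd : Odd (Fintype.card F)) {c : SL2} (hc : c ∈ T)
    (h1 : (c : Matrix (Fin 2) (Fin 2) F) ≠ 1) (h2 : (c : Matrix (Fin 2) (Fin 2) F) ≠ -1) :
    NoEig (c : Matrix (Fin 2) (Fin 2) F) := by
  have hpow : c ^ (Fintype.card F + 1) = 1 := by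
    have := pow_card_eq_one' (G := T) (x := ⟨c, hc⟩)
    rw [hT.card] at this
    have := congrArg Subtype.val this
    simpa using this
  have hpow' : (Matrix.SpecialLinearGroup.toGL c : GL (Fin 2) F) ^ (Fintype.card F + 1) = 1 := by
    rw [← map_pow, hpow, map_one]
  rcases noEig_of_pow hodd _ (det_toGL' c) hpow' with h | h | h
  · exfalso
    apply h1
    rw [← toGL_coe, h]
    rfl
  · exfalso
    apply h2
    rw [← toGL_coe, h, sc_coe]
    ext i j
    fin_cases i <;> fin_cases j <;> simp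
  · rwa [toGL_coe] at h

lemma sum_ite_const' {α : Type*} [Fintype α] (Q : α → Prop) [DecidablePred Q] (a : ℂ) :
    ∑ x : α, (if Q x then a else 0) = (Nat.card {x : α // Q x} : ℂ) * a := by
  rw [Finset.sum_ite, Finset.sum_const_zero, add_zero, Finset.sum_const, nsmul_eq_mul,
    Nat.card_eq_fintype_card, Fintype.card_subtype]

/-- membership in the normalizer, for the count of the fibres -/
lemma IsNSTorus.mem_normalizer_iff {T : Subgroup SL2} (hT : IsNSTorus T) {c₀ : SL2} (hc₀ : c₀ ∈ T)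
    (hE : NoEig (c₀ : Matrix (Fin 2) (Fin 2) F)) (x : SL2) :
    x⁻¹ * c₀ * x ∈ T ↔ x ∈ Subgroup.normalizer (T : Set SL2) := by
  constructor
  · intro hx
    have hE1 : NoEig ((x⁻¹ * c₀ * x : SL2) : Matrix (Fin 2) (Fin 2) F) := by
      have := (noEig_conj_SL x⁻¹ c₀).mpr hE
      rwa [inv_inv] at this
    have hc1 := hT.cent _ hx (coe_ne_one_of_noEig hE1) (coe_ne_neg_one_of_noEig hE1)
    have hc0 := hT.cent _ hc₀ (coe_ne_one_of_noEig hE) (coe_ne_neg_one_of_noEig hE)
    rw [Subgroup.mem_normalizer_iff]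
    intro n
    rw [← SetLike.mem_coe, ← SetLike.mem_coe]
    change n ∈ T ↔ x * n * x⁻¹ ∈ T
    nth_rewrite 1 [← hc1]
    rw [← hc0, Subgroup.mem_centralizer_singleton_iff, Subgroup.mem_centralizer_singleton_iff]
    constructor
    · intro h
      calc x * n * x⁻¹ * c₀ = x * (n * (x⁻¹ * c₀ * x)) * x⁻¹ := by group
        _ = x * (x⁻¹ * c₀ * x * n) * x⁻¹ := by rw [h]
        _ = c₀ * (x * n * x⁻¹) := by group
    · intro h
      calc n * (x⁻¹ * c₀ * x) = x⁻¹ * (x * n * x⁻¹ * c₀) * x := by group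
        _ = x⁻¹ * (c₀ * (x * n * x⁻¹)) * x := by rw [h]
        _ = x⁻¹ * c₀ * x * n := by group
  · intro hx
    have hx' : x⁻¹ ∈ Subgroup.normalizer (T : Set SL2) := inv_mem hx
    rw [Subgroup.mem_normalizer_iff] at hx'
    have := (hx' c₀).mp hc₀
    rwa [inv_inv] at this

open Classical in
/-- the number of conjugating elements into the torus -/
lemma IsNSTorus.card_fibre {T : Subgroup SL2} (hT : IsNSTorus T) (g : SL2) :
    Nat.card {h : SL2 // h⁻¹ * g * h ∈ T ∧ NoEig ((h⁻¹ * g * h : SL2) : Matrix (Fin 2) (Fin 2) F)} =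
      if NoEig (g : Matrix (Fin 2) (Fin 2) F) then 2 * (Fintype.card F + 1) else 0 := by
  by_cases hE : NoEig (g : Matrix (Fin 2) (Fin 2) F)
  · rw [if_pos hE, ← hT.norm]
    obtain ⟨h₀, hh₀⟩ := hT.into g hE
    have hE0 : NoEig ((h₀ * g * h₀⁻¹ : SL2) : Matrix (Fin 2) (Fin 2) F) :=
      (noEig_conj_SL h₀ g).mpr hE
    apply Nat.card_congr
    refine Equiv.subtypeEquiv (Equiv.mulLeft h₀) ?_
    intro h
    simp only [Equiv.coe_mulLeft]
    have e1 : h⁻¹ * g * h = (h₀ * h)⁻¹ * (h₀ * g * h₀⁻¹) * (h₀ * h) := by group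
    rw [← hT.mem_normalizer_iff hh₀ hE0, ← e1]
    constructor
    · exact fun h' => h'.1
    · intro h'
      refine ⟨h', ?_⟩
      have := (noEig_conj_SL h⁻¹ g).mpr hE
      rwa [inv_inv] at this
  · rw [if_neg hE]
    have : IsEmpty {h : SL2 // h⁻¹ * g * h ∈ T ∧
        NoEig ((h⁻¹ * g * h : SL2) : Matrix (Fin 2) (Fin 2) F)} := by
      constructor
      rintro ⟨h, -, h2⟩
      apply hE
      have := (noEig_conj_SL h⁻¹ g).mp (by rwa [inv_inv])
      exact this
    exact Nat.card_of_isEmpty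

open Classical in
/-- summing a class function over the elements without eigenvectors -/
theorem IsNSTorus.sum_noEig {T : Subgroup SL2} (hT : IsNSTorus T) (f : SL2 → ℂ) (hf : IsClassFunction SL2 f) :
    (2 * ((Fintype.card F : ℂ) + 1)) *
        ∑ g : SL2, (if NoEig (g : Matrix (Fin 2) (Fin 2) F) then f g else 0) =
      (Nat.card SL2 : ℂ) *
        ∑ c : SL2, (if c ∈ T ∧ NoEig (c : Matrix (Fin 2) (Fin 2) F) then f c else 0) := by
  let P : SL2 → Prop := fun c => c ∈ T ∧ NoEig (c : Matrix (Fin 2) (Fin 2) F)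
  have h1 : ∑ h : SL2, ∑ g : SL2, (if P (h⁻¹ * g * h) then f g else 0) =
      (Nat.card SL2 : ℂ) * ∑ c : SL2, (if P c then f c else 0) := by
    have : ∀ h : SL2, ∑ g : SL2, (if P (h⁻¹ * g * h) then f g else 0) =
        ∑ c : SL2, (if P c then f c else 0) := by
      intro h
      rw [← Equiv.sum_comp (MulAut.conj h).toEquiv]
      apply Finset.sum_congr rfl
      intro c _
      simp only [MulEquiv.toEquiv_eq_coe, MulEquiv.coe_toEquiv, MulAut.conj_apply]
      rw [hf c h]
      congr 2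
      group
    rw [Finset.sum_congr rfl (fun h _ => this h), Finset.sum_const, Finset.card_univ, nsmul_eq_mul,
      Nat.card_eq_fintype_card]
  rw [← h1, Finset.sum_comm, Finset.mul_sum]
  apply Finset.sum_congr rfl
  intro g _
  rw [sum_ite_const' (fun h => P (h⁻¹ * g * h)) (f g)]
  have := hT.card_fibre g
  simp only [P]
  rw [this]
  by_cases hE : NoEig (g : Matrix (Fin 2) (Fin 2) F)
  · rw [if_pos hE, if_pos hE]
    push_cast
    ring
  · rw [if_neg hE, if_neg hE]
    simp

end Cfsg.Agent.Helper38
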