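import Mathlib
import Cfsg.Agent.Lib.Helper38.SL2Fiber
import Cfsg.Agent.Lib.Helper38.SL2CuspSum

set_option autoImplicit false
set_option linter.unusedSectionVars false

/-! Transferring sums over the elements of `SL₂(F)` without eigenvectors to a non-split torus. -/

namespace Cfsg.Agent.Helper38

open Matrix Cfsg
open scoped ComplexConjugate

variable {F : Type*} [Field F] [Fintype F] [DecidableEq F] [Fintype (N F)]

local notation "SL2" => Matrix.SpecialLinearGroup (Fin 2) F

/-- the central involution of `SL₂` -/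
noncomputable def zS : SL2 := ι.symm (zN : N F)

lemma ι_zS : (ι (zS : SL2) : N F) = zN := by
  unfold zS
  simp

lemma zS_coe : ((zS : SL2) : Matrix (Fin 2) (Fin 2) F) = -1 := by
  rw [← toGL_coe, ← ι_coe, ι_zS]
  change ((sc (-1) : GL (Fin 2) F) : Matrix (Fin 2) (Fin 2) F) = -1
  rw [sc_coe]
  ext i j
  fin_cases i <;> fin_cases j <;> simp

lemma zS_mul_self : (zS : SL2) * zS = 1 := by
  apply ι.injective
  rw [map_mul, ι_zS, map_one]
  apply Subtype.ext
  exact sc_neg_sq

lemma zS_comm (g : SL2) : zS * g = g * zS := by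
  apply ι.injective
  rw [map_mul, map_mul, ι_zS]
  exact ((Subgroup.mem_center_iff.mp zN_central) (ι g)).symm

lemma zS_ne_one (hodd : Odd (Fintype.card F)) : (zS : SL2) ≠ 1 := by
  intro h
  have h1 := zS_coe (F := F)
  rw [h] at h1
  have h2 := congrFun (congrFun h1 0) 0
  simp at h2
  exact one_ne_neg_one hodd h2

lemma coe_injective' {g h : SL2} (e : (g : Matrix (Fin 2) (Fin 2) F) = (h : Matrix (Fin 2) (Fin 2) F)) :
    g = h := Subtype.ext e

/-- the generator of a non-split torus has no eigenvector -/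
lemma IsNSTorus.exists_noEig {T : Subgroup SL2} (hT : IsNSTorus T) (hodd : Odd (Fintype.card F))
    (hq : 5 ≤ Fintype.card F) : ∃ g : T, (∀ x : T, x ∈ Subgroup.zpowers g) ∧
      NoEig ((g : SL2) : Matrix (Fin 2) (Fin 2) F) := by
  have := hT.cyc
  obtain ⟨g, hg⟩ := IsCyclic.exists_generator (α := T)
  have hord : orderOf g = Fintype.card F + 1 := by
    rw [orderOf_eq_card_of_forall_mem_zpowers hg, hT.card]
  refine ⟨g, hg, ?_⟩
  apply hT.noEig hodd g.2
  · intro h1
    have : g = 1 := by
      apply Subtype.ext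
      apply coe_injective'
      rw [h1]; rfl
    rw [this, orderOf_one] at hord
    omega
  · intro h1
    have : g * g = 1 := by
      apply Subtype.ext
      apply coe_injective'
      change ((g : SL2) : Matrix (Fin 2) (Fin 2) F) * ((g : SL2) : Matrix (Fin 2) (Fin 2) F) = 1
      rw [h1]
      simp
    have h2 : orderOf g ∣ 2 := by
      apply orderOf_dvd_of_pow_eq_one
      rw [pow_two, this]
    have := Nat.le_of_dvd (by norm_num) h2
    omega

lemma IsNSTorus.zS_mem {T : Subgroup SL2} (hT : IsNSTorus T) (hodd : Odd (Fintype.card F))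
    (hq : 5 ≤ Fintype.card F) : (zS : SL2) ∈ T := by
  obtain ⟨g, -, hE⟩ := hT.exists_noEig hodd hq
  rw [← hT.cent _ g.2 (coe_ne_one_of_noEig hE) (coe_ne_neg_one_of_noEig hE),
    Subgroup.mem_centralizer_singleton_iff]
  exact zS_comm (g : SL2)

lemma IsNSTorus.comm {T : Subgroup SL2} (hT : IsNSTorus T) (a b : T) : a * b = b * a := by
  have := hT.cyc
  obtain ⟨g, hg⟩ := IsCyclic.exists_generator (α := T)
  obtain ⟨i, rfl⟩ := hg a
  obtain ⟨j, rfl⟩ := hg b
  exact zpow_mul_comm g i j

/-- in a non-split torus, the elements without eigenvectors are those different from `±1` -/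
lemma IsNSTorus.noEig_iff {T : Subgroup SL2} (hT : IsNSTorus T) (hodd : Odd (Fintype.card F))
    (hq : 5 ≤ Fintype.card F) (a : T) :
    NoEig ((a : SL2) : Matrix (Fin 2) (Fin 2) F) ↔
      (a ≠ 1 ∧ a ≠ ⟨zS, hT.zS_mem hodd hq⟩) := by
  constructor
  · intro hE
    constructor
    · rintro rfl
      exact coe_ne_one_of_noEig hE rfl
    · rintro rfl
      exact coe_ne_neg_one_of_noEig hE zS_coe
  · rintro ⟨h1, h2⟩
    apply hT.noEig hodd a.2
    · intro h
      apply h1
      apply Subtype.ext
      apply coe_injective'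
      rw [h]; rfl
    · intro h
      apply h2
      apply Subtype.ext
      apply coe_injective'
      rw [h, zS_coe]

open Classical in
/-- sums over the elements without eigenvectors, on `ker det` and on a non-split torus -/
theorem IsNSTorus.sum_torus {T : Subgroup SL2} (hT : IsNSTorus T) (f : SL2 → ℂ)
    (hf : IsClassFunction SL2 f) (v : ℂ)
    (h : ∑ n : N F, (if NoEig ((n : GL (Fin 2) F) : Matrix (Fin 2) (Fin 2) F)
      then f (ι.symm n) else 0) = v) :
    ((Fintype.card Fˣ : ℂ) * ((Fintype.card Fˣ : ℂ) + 1)) *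
      ∑ c : T, (if NoEig ((c : SL2) : Matrix (Fin 2) (Fin 2) F) then f c else 0) = 2 * v := by
  have h1 : ∑ g : SL2, (if NoEig (g : Matrix (Fin 2) (Fin 2) F) then f g else 0) = v := by
    rw [← h, ← Equiv.sum_comp (ι (F := F)).toEquiv]
    apply Finset.sum_congr rfl
    intro g _
    simp only [MulEquiv.toEquiv_eq_coe, MulEquiv.coe_toEquiv, MulEquiv.symm_apply_apply]
    rw [ι_coe, toGL_coe]
  have h2 := hT.sum_noEig f hf
  rw [h1] at h2
  have h3 : ∑ c : SL2, (if c ∈ T ∧ NoEig (c : Matrix (Fin 2) (Fin 2) F) then f c else 0) =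
      ∑ c : T, (if NoEig ((c : SL2) : Matrix (Fin 2) (Fin 2) F) then f c else 0) := by
    have : ∀ c : SL2, (if c ∈ T ∧ NoEig (c : Matrix (Fin 2) (Fin 2) F) then f c else 0) =
        if c ∈ T then (if NoEig (c : Matrix (Fin 2) (Fin 2) F) then f c else 0) else 0 := by
      intro c
      by_cases h1 : c ∈ T <;> by_cases h2 : NoEig (c : Matrix (Fin 2) (Fin 2) F) <;> simp [h1, h2]
    rw [Finset.sum_congr rfl (fun c _ => this c), ← Finset.sum_filter,
      Finset.sum_subtype (Finset.univ.filter (fun c : SL2 => c ∈ T)) (p := fun c => c ∈ T)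
        (by intro x; simp)
        (fun c => if NoEig (c : Matrix (Fin 2) (Fin 2) F) then f c else 0)]
  rw [h3] at h2
  have hcard : (Nat.card SL2 : ℂ) = ((Fintype.card Fˣ : ℂ) + 2) *
      ((Fintype.card Fˣ : ℂ) * ((Fintype.card Fˣ : ℂ) + 1)) := by
    rw [Nat.card_congr (ι (F := F)).toEquiv, card_N]
    push_cast
    ring
  have hF : (Fintype.card F : ℂ) = (Fintype.card Fˣ : ℂ) + 1 := by
    rw [card_F_eq (F := F)]; push_cast; ring
  rw [hcard, hF] at h2
  have hne : ((Fintype.card Fˣ : ℂ) + 2) ≠ 0 := by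
    have : Fintype.card Fˣ + 2 ≠ 0 := by omega
    exact_mod_cast this
  apply mul_left_cancel₀ hne
  linear_combination -h2

end Cfsg.Agent.Helper38
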