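import Mathlib
import Cfsg.Agent.Lib.Helper38.SL2TorusSum

set_option autoImplicit false
set_option linter.unusedSectionVars false

/-! Every cyclic subgroup of order `q + 1` of `SL₂(F)`, `q` odd, is a non-split torus. -/

namespace Cfsg.Agent.Helper38

open Matrix Cfsg

variable {F : Type*} [Field F] [Fintype F] [DecidableEq F] [Fintype (N F)]

local notation "SL2" => Matrix.SpecialLinearGroup (Fin 2) F

lemma three_le_card (hodd : Odd (Fintype.card F)) : 3 ≤ Fintype.card F := by
  have := Fintype.one_lt_card (α := F)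
  obtain ⟨m, hm⟩ := hodd
  omega

/-- central elements of `SL₂` are `±1` -/
lemma center_coe_cases (z : SL2) (hz : z ∈ Subgroup.center SL2) :
    (z : Matrix (Fin 2) (Fin 2) F) = 1 ∨ (z : Matrix (Fin 2) (Fin 2) F) = -1 := by
  obtain ⟨r, hr, hz⟩ := Matrix.SpecialLinearGroup.mem_center_iff.mp hz
  rw [Fintype.card_fin] at hr
  have h' : (r - 1) * (r + 1) = 0 := by linear_combination hr
  rcases mul_eq_zero.mp h' with h | h
  · left
    have : r = 1 := by linear_combination h
    rw [← hz, this]
    simp
  · right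
    have : r = -1 := by linear_combination h
    rw [← hz, this]
    ext i j
    fin_cases i <;> fin_cases j <;> simp [Matrix.scalar_apply]

/-- an element of `SL₂` other than `±1` whose order divides `q + 1` has no eigenvector -/
lemma noEig_of_pow_SL (hodd : Odd (Fintype.card F)) (c : SL2)
    (hpow : c ^ (Fintype.card F + 1) = 1)
    (h1 : (c : Matrix (Fin 2) (Fin 2) F) ≠ 1) (h2 : (c : Matrix (Fin 2) (Fin 2) F) ≠ -1) :
    NoEig (c : Matrix (Fin 2) (Fin 2) F) := by
  have hpow' : (Matrix.SpecialLinearGroup.toGL c : GL (Fin 2) F) ^ (Fintype.card F + 1) = 1 := by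
    rw [← map_pow, hpow, map_one]
  rcases noEig_of_pow hodd _ (det_toGL' c) hpow' with h | h | h
  · exfalso
    apply h1
    rw [← toGL_coe, h]
    rfl
  · exfalso
    apply h2
    rw [← toGL_coe, h, sc_coe]
    ext i j
    fin_cases i <;> fin_cases j <;> simp
  · rwa [toGL_coe] at h

/-- a generator of a cyclic subgroup of order `q + 1` has no eigenvector -/
lemma gen_noEig (hodd : Odd (Fintype.card F)) {C : Subgroup SL2}
    (hcard : Nat.card C = Fintype.card F + 1) (g : C) (hg : ∀ x : C, x ∈ Subgroup.zpowers g) :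
    NoEig ((g : SL2) : Matrix (Fin 2) (Fin 2) F) := by
  have h3 := three_le_card hodd
  have hord : orderOf g = Fintype.card F + 1 := by
    rw [orderOf_eq_card_of_forall_mem_zpowers hg, hcard]
  apply noEig_of_pow_SL hodd
  · have := pow_orderOf_eq_one g
    rw [hord] at this
    have := congrArg Subtype.val this
    simpa using this
  · intro h1
    have : g = 1 := by
      apply Subtype.ext
      apply coe_injective'
      rw [h1]; rfl
    rw [this, orderOf_one] at hord
    omega
  · intro h1
    have : g * g = 1 := by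
      apply Subtype.ext
      apply coe_injective'
      change ((g : SL2) : Matrix (Fin 2) (Fin 2) F) * ((g : SL2) : Matrix (Fin 2) (Fin 2) F) = 1
      rw [h1]
      simp
    have h2 : orderOf g ∣ 2 := by
      apply orderOf_dvd_of_pow_eq_one
      rw [pow_two, this]
    have := Nat.le_of_dvd (by norm_num) h2
    omega

/-- conjugating a non-split torus -/
theorem IsNSTorus.of_map_conj (h : SL2) {C : Subgroup SL2}
    (hT : IsNSTorus (C.map (MulAut.conj h).toMonoidHom)) : IsNSTorus C := by
  have hmem : ∀ x : SL2, x ∈ C.map (MulAut.conj h).toMonoidHom ↔ h⁻¹ * x * h ∈ C := by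
    intro x
    rw [Subgroup.mem_map_equiv]
    simp [MulAut.conj_symm_apply]
  have hmem' : ∀ c : SL2, c ∈ C ↔ h * c * h⁻¹ ∈ C.map (MulAut.conj h).toMonoidHom := by
    intro c
    rw [hmem]
    have : h⁻¹ * (h * c * h⁻¹) * h = c := by group
    rw [this]
  have hinj : Function.Injective (MulAut.conj h).toMonoidHom := (MulAut.conj h).injective
  let e : C ≃* C.map (MulAut.conj h).toMonoidHom := C.equivMapOfInjective _ hinj
  refine ⟨?_, ?_, ?_, ?_, ?_⟩
  · have := hT.cyc
    exact isCyclic_of_surjective e.symm e.symm.surjective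
  · rw [Nat.card_congr e.toEquiv, hT.card]
  · intro g hg h1 h2
    have hg' := (hmem' g).mp hg
    have h1' : ((h * g * h⁻¹ : SL2) : Matrix (Fin 2) (Fin 2) F) ≠ 1 := by
      intro h3
      apply h1
      have h4 : h * g * h⁻¹ = 1 := coe_injective' (by rw [h3]; rfl)
      have h5 : g = 1 := by
        have := congrArg (fun y => h⁻¹ * y * h) h4
        simpa [mul_assoc] using this
      rw [h5]; rfl
    have h2' : ((h * g * h⁻¹ : SL2) : Matrix (Fin 2) (Fin 2) F) ≠ -1 := by
      intro h3
      apply h2
      have h4 : h * g * h⁻¹ = zS := coe_injective' (by rw [h3, zS_coe])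
      have h5 : g = zS := by
        calc g = h⁻¹ * (h * g * h⁻¹) * h := by group
          _ = h⁻¹ * zS * h := by rw [h4]
          _ = zS := by rw [← zS_comm h⁻¹, mul_assoc, inv_mul_cancel, mul_one]
      rw [h5, zS_coe]
    have hc := hT.cent _ hg' h1' h2'
    ext x
    rw [hmem' x, ← hc, Subgroup.mem_centralizer_singleton_iff, Subgroup.mem_centralizer_singleton_iff]
    constructor
    · intro hx
      calc h * x * h⁻¹ * (h * g * h⁻¹) = h * (x * g) * h⁻¹ := by group
        _ = h * (g * x) * h⁻¹ := by rw [hx]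
        _ = h * g * h⁻¹ * (h * x * h⁻¹) := by group
    · intro hx
      calc x * g = h⁻¹ * (h * x * h⁻¹ * (h * g * h⁻¹)) * h := by group
        _ = h⁻¹ * (h * g * h⁻¹ * (h * x * h⁻¹)) * h := by rw [hx]
        _ = g * x := by group
  · intro g hE
    obtain ⟨y, hy⟩ := hT.into g hE
    refine ⟨h⁻¹ * y, ?_⟩
    rw [hmem] at hy
    have : h⁻¹ * y * g * (h⁻¹ * y)⁻¹ = h⁻¹ * (y * g * y⁻¹) * h := by group
    rw [this]
    exact hy
  · rw [← hT.norm]
    have h1 := Subgroup.map_equiv_normalizer_eq C (MulAut.conj h)
    rw [← h1]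
    exact Nat.card_congr
      ((Subgroup.normalizer (C : Set SL2)).equivMapOfInjective _ hinj).toEquiv

/-- a cyclic subgroup of order `q + 1` of `SL₂(F)` is a non-split torus -/
theorem isNSTorus_of_cyclic (hodd : Odd (Fintype.card F)) (C : Subgroup SL2) (hC : IsCyclic C)
    (hcard : Nat.card C = Fintype.card F + 1) : IsNSTorus C := by
  obtain ⟨T, hT⟩ := exists_nsTorus (F := F) hodd
  obtain ⟨g, hg⟩ := IsCyclic.exists_generator (α := C)
  have hE := gen_noEig hodd hcard g hg
  obtain ⟨h, hh⟩ := hT.into g hE
  apply IsNSTorus.of_map_conj h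
  have hle : C.map (MulAut.conj h).toMonoidHom ≤ T := by
    intro x hx
    obtain ⟨c, hc, rfl⟩ := Subgroup.mem_map.mp hx
    obtain ⟨j, hj⟩ := hg ⟨c, hc⟩
    have hcj : c = (g : SL2) ^ j := by
      have := congrArg Subtype.val hj
      simpa using this.symm
    rw [hcj, map_zpow]
    apply zpow_mem
    simpa [MulAut.conj_apply] using hh
  have hinj : Function.Injective (MulAut.conj h).toMonoidHom := (MulAut.conj h).injective
  have hcd : Nat.card (C.map (MulAut.conj h).toMonoidHom) = Nat.card C :=
    (Nat.card_congr (C.equivMapOfInjective _ hinj).toEquiv).symm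
  have heq : C.map (MulAut.conj h).toMonoidHom = T := by
    apply Subgroup.eq_of_le_of_card_ge hle
    rw [hcd, hcard, hT.card]
  rw [heq]
  exact hT

lemma IsNSTorus.zS_mem' {T : Subgroup SL2} (hT : IsNSTorus T) (hodd : Odd (Fintype.card F)) :
    (zS : SL2) ∈ T := by
  have := hT.cyc
  obtain ⟨g, hg⟩ := IsCyclic.exists_generator (α := T)
  have hE := gen_noEig hodd hT.card g hg
  rw [← hT.cent _ g.2 (coe_ne_one_of_noEig hE) (coe_ne_neg_one_of_noEig hE),
    Subgroup.mem_centralizer_singleton_iff]
  exact zS_comm (g : SL2)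

/-- in a non-split torus, the elements without eigenvectors are those different from `±1` -/
lemma IsNSTorus.noEig_iff' {T : Subgroup SL2} (hT : IsNSTorus T) (hodd : Odd (Fintype.card F))
    (a : T) :
    NoEig ((a : SL2) : Matrix (Fin 2) (Fin 2) F) ↔
      (a ≠ 1 ∧ a ≠ ⟨zS, hT.zS_mem' hodd⟩) := by
  constructor
  · intro hE
    constructor
    · rintro rfl
      exact coe_ne_one_of_noEig hE rfl
    · rintro rfl
      exact coe_ne_neg_one_of_noEig hE zS_coe
  · rintro ⟨h1, h2⟩
    apply hT.noEig hodd a.2
    · intro h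
      apply h1
      apply Subtype.ext
      apply coe_injective'
      rw [h]; rfl
    · intro h
      apply h2
      apply Subtype.ext
      apply coe_injective'
      rw [h, zS_coe]

/-- the central elements of a non-split torus are those with eigenvectors -/
lemma IsNSTorus.mem_center_iff {T : Subgroup SL2} (hT : IsNSTorus T) (hodd : Odd (Fintype.card F))
    (a : T) :
    (a : SL2) ∈ Subgroup.center SL2 ↔ ¬ NoEig ((a : SL2) : Matrix (Fin 2) (Fin 2) F) := by
  constructor
  · intro hz hE
    rcases center_coe_cases _ hz with h | h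
    · exact coe_ne_one_of_noEig hE h
    · exact coe_ne_neg_one_of_noEig hE h
  · intro hE
    rw [hT.noEig_iff' hodd] at hE
    by_cases h1 : a = 1
    · rw [h1]
      exact one_mem _
    · have h2 : a = ⟨zS, hT.zS_mem' hodd⟩ := by
        by_contra h2
        exact hE ⟨h1, h2⟩
      rw [h2, Subgroup.mem_center_iff]
      intro g
      exact (zS_comm g).symm

end Cfsg.Agent.Helper38
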