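import Mathlib
import Cfsg.Prelude.Def_Blocks
import Cfsg.Agent.Lib.Helper38.SL2TorusConj
import Cfsg.Agent.Lib.Helper38.SL2Deg
import Cfsg.Agent.Lib.Helper15.PRegularCong
import Cfsg.Agent.Lib.Helper77.LocalRing
import Cfsg.Agent.Lib.Helper79.CharBasic
import Cfsg.Agent.S0914
import Cfsg.Agent.Lib.Helper74.DefectOrder
import Cfsg.Agent.Lib.Helper77.BlockIdem
import Cfsg.Agent.Lib.Helper77.Extended
import Cfsg.Agent.Lib.Helper3.CharOrtho
import Cfsg.Agent.Lib.Helper3.CharDecomp

set_option autoImplicit false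
set_option linter.unusedSectionVars false

/-! The `p`-blocks of `SL₂(F)`, `F` a finite field of odd characteristic `p`. -/

namespace Cfsg.Agent.Helper38

open Matrix Cfsg
open Cfsg.Agent.Helper81
open Cfsg.Agent.S2305 (dg)
open scoped ComplexConjugate

variable {F : Type*} [Field F] [Fintype F] [DecidableEq F] [Fintype (N F)]

local notation "SL2" => Matrix.SpecialLinearGroup (Fin 2) F

lemma toGL_inj {g h : SL2}
    (e : (Matrix.SpecialLinearGroup.toGL g : GL (Fin 2) F) = Matrix.SpecialLinearGroup.toGL h) :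
    g = h := by
  apply coe_injective'
  rw [← toGL_coe, ← toGL_coe h, e]

lemma toGL_zS2 : (Matrix.SpecialLinearGroup.toGL (zS : SL2) : GL (Fin 2) F) = sc (-1) := by
  rw [← ι_coe, ι_zS]
  rfl

lemma char_dvd_card (p : ℕ) [CharP F p] : p ∣ Fintype.card F := by
  rw [← CharP.cast_eq_zero_iff F p]
  exact FiniteField.cast_card_eq_zero F

/-- every element of `SL₂(F)` is `±` a `p`-element, or its centralizer has order prime to `p` -/
theorem SL2_elements (p : ℕ) [hp : Fact p.Prime] [CharP F p] (hodd : Odd (Fintype.card F))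
    (g : SL2) :
    (∃ u z : SL2, (z = 1 ∨ z = zS) ∧ u ^ p = 1 ∧ g = u * z) ∨
      ¬ p ∣ Nat.card (Subgroup.centralizer ({g} : Set SL2)) := by
  have hF := card_F_eq (F := F)
  have hpq := char_dvd_card (F := F) p
  have hp1 : 1 < p := hp.out.one_lt
  have hunp : (un (1 : F)) ^ p = 1 := by
    rw [un_pow, CharP.cast_eq_zero, un_zero]
  rcases N_cases (Matrix.SpecialLinearGroup.toGL g) (det_toGL' g) with h | h | h | h |
      ⟨a, d, had, -, h⟩ | hE
  · left
    refine ⟨1, 1, Or.inl rfl, one_pow _, ?_⟩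
    rw [mul_one]
    apply toGL_inj
    rw [h, map_one]
  · left
    refine ⟨1, zS, Or.inr rfl, one_pow _, ?_⟩
    rw [one_mul]
    apply toGL_inj
    rw [h, toGL_zS2]
  · left
    refine ⟨g, 1, Or.inl rfl, ?_, (mul_one g).symm⟩
    apply toGL_inj
    obtain ⟨c, hc⟩ := isConj_iff.mp h
    rw [map_pow, ← hc, conj_pow, hunp, map_one]
    group
  · left
    refine ⟨zS * g, zS, Or.inr rfl, ?_, ?_⟩
    · apply toGL_inj
      obtain ⟨c, hc⟩ := isConj_iff.mp h
      rw [map_pow, map_mul, toGL_zS2, ← hc, map_one]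
      have e : sc (-1) * (c * (sc (-1) * un (1 : F)) * c⁻¹) = c * un 1 * c⁻¹ := by
        calc sc (-1) * (c * (sc (-1) * un (1 : F)) * c⁻¹)
            = (sc (-1) * c) * (sc (-1) * un 1) * c⁻¹ := by simp only [mul_assoc]
          _ = (c * sc (-1)) * (sc (-1) * un 1) * c⁻¹ := by rw [sc_comm (-1) c]
          _ = c * ((sc (-1) * sc (-1)) * un 1) * c⁻¹ := by simp only [mul_assoc]
          _ = c * un 1 * c⁻¹ := by rw [sc_neg_sq, one_mul]
      rw [e, conj_pow, hunp]
      group
    · rw [mul_assoc, ← zS_comm g, ← mul_assoc, zS_mul_self, one_mul]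
  · right
    obtain ⟨c, hc⟩ := isConj_iff.mp h
    have hle : (Subgroup.centralizer ({g} : Set SL2)).map
        (Matrix.SpecialLinearGroup.toGL : SL2 →* GL (Fin 2) F) ≤
        Subgroup.centralizer ({c * dg a d * c⁻¹} : Set (GL (Fin 2) F)) := by
      intro x hx
      obtain ⟨y, hy, rfl⟩ := Subgroup.mem_map.mp hx
      rw [Subgroup.mem_centralizer_singleton_iff] at hy ⊢
      rw [hc, ← map_mul, ← map_mul, hy]
    have hinj : Function.Injective (Matrix.SpecialLinearGroup.toGL : SL2 →* GL (Fin 2) F) :=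
      fun x y e => toGL_inj e
    have hdvd := Subgroup.card_dvd_of_le hle
    rw [Subgroup.card_map_of_injective hinj, card_centralizer_conj_gen, card_centralizer_dg a d had]
      at hdvd
    intro hp'
    have h1 := dvd_trans hp' hdvd
    have h2 : p ∣ Fintype.card Fˣ := (Nat.Prime.dvd_mul hp.out).mp h1 |>.elim id id
    have h3 : p ∣ 1 := by
      have := (Nat.dvd_add_right h2).mp (hF ▸ hpq)
      exact this
    exact absurd (Nat.le_of_dvd one_pos h3) (by omega)
  · right
    obtain ⟨T, hT⟩ := exists_nsTorus (F := F) hodd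
    have hE' : NoEig (g : Matrix (Fin 2) (Fin 2) F) := by
      rw [← toGL_coe]; exact hE
    obtain ⟨y, hy⟩ := hT.into g hE'
    have hEc : NoEig ((y * g * y⁻¹ : SL2) : Matrix (Fin 2) (Fin 2) F) := (noEig_conj_SL y g).mpr hE'
    have hcent := hT.cent _ hy (coe_ne_one_of_noEig hEc) (coe_ne_neg_one_of_noEig hEc)
    have hcard : Nat.card (Subgroup.centralizer ({g} : Set SL2)) = Fintype.card F + 1 := by
      rw [← card_centralizer_conj_gen g y, hcent, hT.card]
    rw [hcard]
    intro hp'
    have h3 : p ∣ 1 := (Nat.dvd_add_right hpq).mp hp'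
    exact absurd (Nat.le_of_dvd one_pos h3) (by omega)

section blocks

open Cfsg.Agent.Helper77

variable {p : ℕ} {M : Ideal AlgInt}

/-- the quotient of an element of the local ideal by a natural number prime to `p` -/
lemma memLocalIdeal_div_nat (hM : IsPModular p M) {x : ℂ} (hx : MemLocalIdeal M x) (k : ℕ)
    (hk : ¬ p ∣ k) : MemLocalIdeal M (x / (k : ℂ)) := by
  have := isPrime_of_isPModular hM
  rw [div_eq_mul_inv]
  exact memLocalIdeal_mul_right hx (memLocalRing_inv (memLocalRing_natCast k)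
    (fun h => hk ((memLocalIdeal_natCast_iff hM k).mp h)))

lemma memLocalRing_irr (hM : IsPModular p M) {G : Type*} [Group G] [Finite G] {χ : G → ℂ}
    (hχ : IsIrrCharacter G χ) (g : G) : MemLocalRing M (χ g) := by
  have h := Cfsg.Agent.Helper79.irr_isIntegral ⟨χ, hχ⟩ g
  exact memLocalRing_algInt (ne_top_of_isPModular hM) ⟨χ g, h⟩

lemma card_SL2 : Nat.card SL2 =
    (Fintype.card F + 1) * ((Fintype.card F - 1) * Fintype.card F) := by
  have hF := card_F_eq (F := F)
  rw [Nat.card_congr (ι (F := F)).toEquiv, card_N, hF]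
  simp

/-- two irreducible characters of `SL₂(F)` of degree prime to `p` with the same central sign lie
in the same `p`-block -/
theorem sameBlock_of_sign [hp : Fact p.Prime] [CharP F p] (hM : IsPModular p M)
    (hodd : Odd (Fintype.card F)) {χ ψ : SL2 → ℂ} (hχ : IsIrrCharacter SL2 χ)
    (hψ : IsIrrCharacter SL2 ψ) (a b : ℕ) (hχ1 : χ 1 = (a : ℂ)) (hψ1 : ψ 1 = (b : ℂ))
    (ha : ¬ p ∣ a) (hb : ¬ p ∣ b) (s : ℂ) (hsχ : χ zS = s * χ 1) (hsψ : ψ zS = s * ψ 1) :
    SameBlock M χ ψ := by
  have := isPrime_of_isPModular hM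
  have ha0 : (a : ℂ) ≠ 0 := by
    have : a ≠ 0 := by rintro rfl; exact ha (dvd_zero p)
    exact_mod_cast this
  have hb0 : (b : ℂ) ≠ 0 := by
    have : b ≠ 0 := by rintro rfl; exact hb (dvd_zero p)
    exact_mod_cast this
  intro g
  unfold centralChar
  rcases SL2_elements p hodd g with ⟨u, z, hz, hu, rfl⟩ | hcent
  · have hcomm : Commute u z := by
      rcases hz with rfl | rfl
      · exact Commute.one_right u
      · exact (zS_comm u).symm
    have h1 := Cfsg.Agent.Helper15.char_mul_ppart_sub hM (IsIrrCharacter.isCharacter hχ) hcomm (k := 1)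
      (by rwa [pow_one])
    have h2 := Cfsg.Agent.Helper15.char_mul_ppart_sub hM (IsIrrCharacter.isCharacter hψ) hcomm (k := 1)
      (by rwa [pow_one])
    obtain ⟨t, htχ, htψ⟩ : ∃ t : ℂ, χ z = t * χ 1 ∧ ψ z = t * ψ 1 := by
      rcases hz with rfl | rfl
      · exact ⟨1, by ring, by ring⟩
      · exact ⟨s, hsχ, hsψ⟩
    have e : ((Subgroup.centralizer ({u * z} : Set SL2)).index : ℂ) * χ (u * z) / χ 1 -
        ((Subgroup.centralizer ({u * z} : Set SL2)).index : ℂ) * ψ (u * z) / ψ 1 =
        ((Subgroup.centralizer ({u * z} : Set SL2)).index : ℂ) *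
          ((χ (u * z) - χ z) / (a : ℂ) - (ψ (u * z) - ψ z) / (b : ℂ)) := by
      rw [htχ, htψ, hχ1, hψ1]
      field_simp
      ring
    rw [e]
    exact memLocalIdeal_mul_left (memLocalRing_natCast _)
      (memLocalIdeal_sub (memLocalIdeal_div_nat hM h1 a ha) (memLocalIdeal_div_nat hM h2 b hb))
  · have hidx : p ∣ (Subgroup.centralizer ({g} : Set SL2)).index := by
      have h1 := Subgroup.index_mul_card (Subgroup.centralizer ({g} : Set SL2))
      have h2 : p ∣ Nat.card SL2 := by
        rw [card_SL2]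
        exact Dvd.dvd.mul_left (Dvd.dvd.mul_left (char_dvd_card p) _) _
      rw [← h1] at h2
      rcases (Nat.Prime.dvd_mul hp.out).mp h2 with h | h
      · exact h
      · exact absurd h hcent
    have hI : MemLocalIdeal M (((Subgroup.centralizer ({g} : Set SL2)).index : ℕ) : ℂ) :=
      (memLocalIdeal_natCast_iff hM _).mpr hidx
    rw [hχ1, hψ1]
    exact memLocalIdeal_sub
      (memLocalIdeal_div_nat hM (memLocalIdeal_mul_right hI (memLocalRing_irr hM hχ g)) a ha)
      (memLocalIdeal_div_nat hM (memLocalIdeal_mul_right hI (memLocalRing_irr hM hψ g)) b hb)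

end blocks

/-- the central involution acts on an irreducible character by a sign -/
theorem SL2_sign {χ : SL2 → ℂ} (hχ : IsIrrCharacter SL2 χ) :
    ∃ s : ℂ, (s = 1 ∨ s = -1) ∧ χ zS = s * χ 1 := by
  have hψ : IsIrrCharacter (N F) (fun n => χ (ι.symm n)) := isIrrCharacter_comp_equiv ι.symm hχ
  obtain ⟨ω, -, hω⟩ := exists_central_sign hψ
  obtain ⟨d, hd, hd1⟩ := irr_one_pos hχ
  have hd0 : (d : ℂ) ≠ 0 := by exact_mod_cast hd.ne'
  have hzz : (zN : N F) * zN = 1 := by
    apply Subtype.ext
    exact sc_neg_sq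
  have h1 := hω 1
  have h2 := hω (zN * 1)
  rw [← mul_assoc, hzz, h1] at h2
  simp only [mul_one, map_one] at h1 h2
  rw [hd1] at h2
  have hω2 : (ω - 1) * (ω + 1) = 0 := by
    have : (d : ℂ) * ((ω - 1) * (ω + 1)) = 0 := by linear_combination -h2
    exact (mul_eq_zero.mp this).resolve_left hd0
  refine ⟨ω, ?_, h1⟩
  rcases mul_eq_zero.mp hω2 with h | h
  · left; linear_combination h
  · right; linear_combination h

/-- the degrees of the irreducible characters of `SL₂(F)` are `q` or prime to `p` -/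
theorem SL2_degree_cases (p : ℕ) [hp : Fact p.Prime] [CharP F p] {χ : SL2 → ℂ}
    (hχ : IsIrrCharacter SL2 χ) :
    ∃ k : ℕ, χ 1 = (k : ℂ) ∧ (k = Fintype.card F ∨ ¬ p ∣ k) := by
  obtain ⟨k, hk, hcases⟩ := SL2_degrees hχ
  refine ⟨k, hk, ?_⟩
  have hpq := char_dvd_card (F := F) p
  have hp1 : 1 < p := hp.out.one_lt
  have hnot1 : ¬ p ∣ 1 := fun h => absurd (Nat.le_of_dvd one_pos h) (by omega)
  rcases hcases with h | h | h | h | h | h
  · right; rw [h]; exact hnot1
  · left; exact h
  · right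
    rw [h]
    intro h'
    exact hnot1 ((Nat.dvd_add_right hpq).mp h')
  · right
    intro h'
    apply hnot1
    have : p ∣ k + 1 := h ▸ hpq
    exact (Nat.dvd_add_right h').mp this
  · right
    intro h'
    apply hnot1
    have h2 : p ∣ 2 * k := Dvd.dvd.mul_left h' 2
    rw [h] at h2
    exact (Nat.dvd_add_right hpq).mp h2
  · right
    intro h'
    apply hnot1
    have h2 : p ∣ 2 * k := Dvd.dvd.mul_left h' 2
    have h3 : p ∣ 2 * k + 1 := h ▸ hpq
    exact (Nat.dvd_add_right h2).mp h3

/-- the Steinberg character of `SL₂(F)` -/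
noncomputable def stSL : SL2 → ℂ := fun s => stein (1 : MulChar F ℂ) (Matrix.SpecialLinearGroup.toGL s)

theorem stSL_isIrr (hodd : Odd (Fintype.card F)) : IsIrrCharacter SL2 (stSL (F := F)) := by
  obtain ⟨ε, hε1, hε2, hε3⟩ := exists_quadratic (F := F) hodd
  have hns : ¬ stein (1 : MulChar F ℂ) * lin ε = stein 1 := by
    rw [stein_mul_lin, one_mul]
    intro h
    exact hε1 (stein_injective h)
  have h1 := res_irr_of_not_split hε1 hε3 (stein_isIrr (1 : MulChar F ℂ)) hns
  have h2 := isIrrCharacter_comp_equiv (ι (F := F)) h1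
  have h3 : (fun s : SL2 => stein (1 : MulChar F ℂ) ((ι s : N F) : GL (Fin 2) F)) = stSL := by
    funext s
    rw [ι_coe]
    rfl
  rw [← h3]
  exact h2

lemma stSL_one : stSL (F := F) 1 = (Fintype.card F : ℂ) := by
  unfold stSL
  rw [map_one]
  have := stein_sc (1 : MulChar F ℂ) (1 : Fˣ)
  have h1 : (sc (1 : Fˣ) : GL (Fin 2) F) = 1 := by
    apply Matrix.GeneralLinearGroup.ext
    intro i j
    rw [sc_coe]
    fin_cases i <;> fin_cases j <;> simp
  rw [h1] at this
  rw [this]
  simp

/-- the irreducible character of degree `q` of `SL₂(F)` is unique -/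
theorem stSL_unique {χ : SL2 → ℂ} (hχ : IsIrrCharacter SL2 χ)
    (hdeg : χ 1 = (Fintype.card F : ℂ)) : χ = stSL := by
  obtain ⟨X, hX, h⟩ := over_SL2 hχ
  rcases h with h | ⟨-, ε, -, -, χ', -, -, hsum, t, ht⟩
  · have hX1 : X 1 = (Fintype.card F : ℂ) := by
      have := h 1
      rw [map_one] at this
      rw [this, hdeg]
    obtain ⟨α, rfl⟩ := Cfsg.Agent.S2320.exists_stein_of_degree hX hX1
    funext s
    rw [← h s]
    unfold stSL
    have e : stein α = stein 1 * lin α := by rw [stein_mul_lin, one_mul]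
    rw [e, Pi.mul_apply]
    have : lin α (Matrix.SpecialLinearGroup.toGL s) = 1 := by
      unfold lin
      rw [det_toGL']
      simp
    rw [this, mul_one]
  · exfalso
    have h1 := hsum 1
    have h2 := ht 1 1 (by simp)
    rw [map_one] at h1
    rw [h2, hdeg] at h1
    apply Cfsg.Agent.S2321.no_degree_two_q hX
    rw [h1]
    ring

open Cfsg.Agent.Helper3 (fintypeIrr) in
/-- some irreducible character of `SL₂(F)` is odd -/
theorem exists_odd_char (hodd : Odd (Fintype.card F)) :
    ∃ χ : SL2 → ℂ, IsIrrCharacter SL2 χ ∧ χ zS = -χ 1 := by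
  classical
  by_contra hcon
  push Not at hcon
  have hall : ∀ χ : IrrCharacter SL2, (χ : SL2 → ℂ) zS = (χ : SL2 → ℂ) 1 := by
    intro χ
    obtain ⟨s, hs, h⟩ := SL2_sign χ.2
    rcases hs with rfl | rfl
    · rw [h, one_mul]
    · exfalso
      exact hcon χ χ.2 (by rw [h]; ring)
  have h1 := Cfsg.Agent.Helper3.column_orthogonality (1 : SL2) 1
  have h2 := Cfsg.Agent.Helper3.column_orthogonality (1 : SL2) zS
  rw [if_pos (IsConj.refl _)] at h1
  rw [if_neg (by rw [isConj_one_right]; exact zS_ne_one hodd)] at h2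
  simp only [hall] at h2
  rw [h2] at h1
  have : Nat.card (Subgroup.centralizer ({1} : Set SL2)) ≠ 0 := Nat.card_pos.ne'
  exact this (by exact_mod_cast h1.symm)

section blocks2

open Cfsg.Agent.Helper77

variable {p : ℕ} {M : Ideal AlgInt}

lemma sameBlock_symm' {G : Type*} [Group G] (hM : IsPModular p M) {χ ψ : G → ℂ}
    (h : SameBlock M χ ψ) : SameBlock M ψ χ := by
  have := isPrime_of_isPModular hM
  intro g
  have := memLocalIdeal_neg (h g)
  rwa [neg_sub] at this

lemma centralizer_zS_index : (Subgroup.centralizer ({zS} : Set SL2)).index = 1 := by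
  have : Subgroup.centralizer ({zS} : Set SL2) = ⊤ := by
    ext x
    rw [Subgroup.mem_centralizer_singleton_iff]
    simp only [Subgroup.mem_top, iff_true]
    exact (zS_comm x).symm
  rw [this, Subgroup.index_top]

/-- the block of `St` -/
theorem blockOf_stSL [hp : Fact p.Prime] [CharP F p] (hM : IsPModular p M)
    (hodd : Odd (Fintype.card F)) :
    blockOf M (stSL (F := F)) = {⟨stSL, stSL_isIrr hodd⟩} := by
  have h := (Cfsg.Agent.S0914.result p M hM (⟨stSL, stSL_isIrr hodd⟩ : IrrCharacter SL2)).mp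
  apply h
  have hdeg : charDegree (stSL (F := F)) = Fintype.card F := charDegree_of_eq _ _ stSL_one
  simp only
  rw [hdeg, card_SL2]
  have hq : 0 < Fintype.card F := Fintype.card_pos
  have h3 := three_le_card hodd
  have e : (Fintype.card F + 1) * ((Fintype.card F - 1) * Fintype.card F) / Fintype.card F =
      (Fintype.card F + 1) * (Fintype.card F - 1) := by
    rw [← mul_assoc]
    exact Nat.mul_div_cancel _ hq
  rw [e]
  have hpq := char_dvd_card (F := F) p
  have hp1 : 1 < p := hp.out.one_lt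
  have hnot1 : ¬ p ∣ 1 := fun h => absurd (Nat.le_of_dvd one_pos h) (by omega)
  intro h'
  rcases (Nat.Prime.dvd_mul hp.out).mp h' with h'' | h''
  · exact hnot1 ((Nat.dvd_add_right hpq).mp h'')
  · apply hnot1
    have : p ∣ (Fintype.card F - 1) + 1 := by
      rw [Nat.sub_add_cancel (by omega)]
      exact hpq
    exact (Nat.dvd_add_right h'').mp this

/-- the block of an irreducible character other than `St`, with central sign `s` -/
theorem blockOf_sign [hp : Fact p.Prime] [CharP F p] (hp2 : p ≠ 2) (hM : IsPModular p M)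
    (hodd : Odd (Fintype.card F)) (χ : IrrCharacter SL2)
    (hne : (χ : SL2 → ℂ) 1 ≠ (Fintype.card F : ℂ)) (s : ℂ) (hs : s = 1 ∨ s = -1)
    (hsχ : (χ : SL2 → ℂ) zS = s * (χ : SL2 → ℂ) 1) :
    blockOf M (χ : SL2 → ℂ) =
      {ψ : IrrCharacter SL2 | (ψ : SL2 → ℂ) zS = s * (ψ : SL2 → ℂ) 1 ∧
        (ψ : SL2 → ℂ) 1 ≠ (Fintype.card F : ℂ)} := by
  have := isPrime_of_isPModular hM
  obtain ⟨a, ha1, ha⟩ := SL2_degree_cases p χ.2
  have ha' : ¬ p ∣ a := by
    rcases ha with h | h
    · exfalso
      apply hne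
      rw [ha1, h]
    · exact h
  have ha0 : (a : ℂ) ≠ 0 := by
    have : a ≠ 0 := by rintro rfl; exact ha' (dvd_zero p)
    exact_mod_cast this
  have hnot2 : ¬ MemLocalIdeal M (2 : ℂ) := by
    intro h
    have h2 : MemLocalIdeal M ((2 : ℕ) : ℂ) := by simpa using h
    rw [memLocalIdeal_natCast_iff hM] at h2
    exact hp2 ((Nat.prime_dvd_prime_iff_eq hp.out Nat.prime_two).mp h2)
  ext ψ
  simp only [blockOf, Set.mem_ofPred_eq]
  constructor
  · intro hsb
    have hψne : (ψ : SL2 → ℂ) 1 ≠ (Fintype.card F : ℂ) := by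
      intro h
      have h1 : ψ = ⟨stSL, stSL_isIrr hodd⟩ := Subtype.ext (stSL_unique ψ.2 h)
      have h2 : χ ∈ blockOf M (stSL (F := F)) := by
        have := sameBlock_symm' hM hsb
        rw [h1] at this
        exact this
      rw [blockOf_stSL hM hodd, Set.mem_singleton_iff] at h2
      apply hne
      rw [h2]
      exact stSL_one
    refine ⟨?_, hψne⟩
    obtain ⟨s', hs', hsψ⟩ := SL2_sign ψ.2
    obtain ⟨b, hb1, hb⟩ := SL2_degree_cases p ψ.2
    have hb0 : (b : ℂ) ≠ 0 := by
      intro h0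
      have := Cfsg.Agent.Helper77.irrChar_one_ne_zero ψ.2
      rw [hb1] at this
      exact this h0
    have h := hsb zS
    unfold centralChar at h
    rw [centralizer_zS_index, hsχ, hsψ, ha1, hb1] at h
    have e : ((1 : ℕ) : ℂ) * (s * (a : ℂ)) / (a : ℂ) - ((1 : ℕ) : ℂ) * (s' * (b : ℂ)) / (b : ℂ) =
        s - s' := by
      field_simp
      push_cast
      ring
    rw [e] at h
    rcases hs with rfl | rfl <;> rcases hs' with rfl | rfl
    · exact hsψ
    · exfalso
      apply hnot2
      have : (1 : ℂ) - -1 = 2 := by norm_num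
      rwa [this] at h
    · exfalso
      apply hnot2
      have : (-1 : ℂ) - 1 = -2 := by norm_num
      rw [this] at h
      have := memLocalIdeal_neg h
      rwa [neg_neg] at this
    · exact hsψ
  · rintro ⟨hsψ, hψne⟩
    obtain ⟨b, hb1, hb⟩ := SL2_degree_cases p ψ.2
    have hb' : ¬ p ∣ b := by
      rcases hb with h | h
      · exfalso
        apply hψne
        rw [hb1, h]
      · exact h
    exact sameBlock_of_sign hM hodd χ.2 ψ.2 a b ha1 hb1 ha' hb' s hsχ hsψ

end blocks2

section defect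

open Cfsg.Agent.Helper77

universe u

/-- a block containing a character of degree prime to `p` has the Sylow `p`-subgroups as defect
groups -/
theorem sylow_isDefectGroup {G : Type u} [Group G] [Fintype G] {p : ℕ} [hp : Fact p.Prime]
    {M : Ideal AlgInt} (hM : IsPModular p M) {B : Set (IrrCharacter G)} (hB : IsPBlock M B)
    (χ : IrrCharacter G) (hχ : χ ∈ B) (hdeg : ¬ p ∣ charDegree (χ : G → ℂ)) (P : Sylow p G) :
    IsDefectGroup p M B (P : Subgroup G) := by
  have := isPrime_of_isPModular hM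
  obtain ⟨D, hD⟩ := exists_isDefectGroup (M := M) p hB
  have hcard := Cfsg.Agent.Helper74.DO.card_defectGroup hM hB D hD
  have hinf : sInf ((fun χ : IrrCharacter G => (charDegree (χ : G → ℂ)).factorization p) '' B) = 0 := by
    have hmem : 0 ∈ (fun χ : IrrCharacter G => (charDegree (χ : G → ℂ)).factorization p) '' B :=
      ⟨χ, hχ, Nat.factorization_eq_zero_of_not_dvd hdeg⟩
    exact Nat.le_zero.mp (Nat.sInf_le hmem)
  have hdef : blockDefect p B = (Nat.card G).factorization p := by
    unfold blockDefect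
    rw [hinf, Nat.sub_zero]
  rw [hdef] at hcard
  let D' : Sylow p G := Sylow.ofCard D hcard
  obtain ⟨g, hg⟩ := MulAction.exists_smul_eq G D' P
  have h1 := isDefectGroup_conj hD g
  have h2 : D.map (MulAut.conj g).toMonoidHom = (P : Subgroup G) := by
    rw [← hg]
    rfl
  rw [← h2]
  exact h1

end defect

end Cfsg.Agent.Helper38
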