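import Mathlib
import Cfsg.Agent.Lib.Helper38.SL2CuspSum
import Cfsg.Agent.S2322

set_option autoImplicit false
set_option linter.unusedSectionVars false

/-! The characters of degree `(q - 1) / 2` of `SL₂(F)`: sums over the elements without
eigenvectors. -/

namespace Cfsg.Agent.Helper38

open Matrix Cfsg
open Cfsg.Agent.Helper81
open Cfsg.Agent.S2305 (dg)
open Cfsg.Agent.S2322 (fam_of_deg)
open scoped ComplexConjugate

variable {F : Type*} [Field F] [Fintype F] [DecidableEq F] [Fintype (N F)]

/-- the trace of the inverse of an element of determinant one -/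
lemma tr2_inv (g : GL (Fin 2) F) (hdet : Matrix.GeneralLinearGroup.det g = 1) :
    tr2 g⁻¹ = tr2 g := by
  have hA : (g : Matrix (Fin 2) (Fin 2) F).det = 1 := by
    have := congrArg Units.val hdet
    rwa [Matrix.GeneralLinearGroup.val_det_apply] at this
  have h1 : ((g⁻¹ : GL (Fin 2) F) : Matrix (Fin 2) (Fin 2) F) * (g : Matrix (Fin 2) (Fin 2) F) = 1 := by
    rw [← Matrix.GeneralLinearGroup.coe_mul, inv_mul_cancel]; rfl
  have h2 : ((g⁻¹ : GL (Fin 2) F) : Matrix (Fin 2) (Fin 2) F) =
      (g : Matrix (Fin 2) (Fin 2) F).adjugate := by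
    have h3 := Matrix.mul_adjugate (g : Matrix (Fin 2) (Fin 2) F)
    rw [hA, one_smul] at h3
    calc ((g⁻¹ : GL (Fin 2) F) : Matrix (Fin 2) (Fin 2) F)
        = ((g⁻¹ : GL (Fin 2) F) : Matrix (Fin 2) (Fin 2) F) *
            ((g : Matrix (Fin 2) (Fin 2) F) * (g : Matrix (Fin 2) (Fin 2) F).adjugate) := by
          rw [h3, mul_one]
      _ = (g : Matrix (Fin 2) (Fin 2) F).adjugate := by rw [← mul_assoc, h1, one_mul]
  unfold tr2
  rw [h2, Matrix.adjugate_fin_two]
  simp
  ring

/-- a character of `GL₂` is real at the elements of determinant one without eigenvectors -/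
lemma real_of_noEig {X : GL (Fin 2) F → ℂ} (hX : IsIrrCharacter (GL (Fin 2) F) X)
    (g : GL (Fin 2) F) (hdet : Matrix.GeneralLinearGroup.det g = 1)
    (hE : NoEig (g : Matrix (Fin 2) (Fin 2) F)) : conj (X g) = X g := by
  have hcl := isClassFunction_of_isCharacter (IsIrrCharacter.isCharacter hX)
  have hdet' : Matrix.GeneralLinearGroup.det g⁻¹ = 1 := by rw [map_inv, hdet, inv_one]
  have hE' : NoEig ((g⁻¹ : GL (Fin 2) F) : Matrix (Fin 2) (Fin 2) F) := by
    rw [noEig_iff, tr2_inv g hdet, hdet']
    rw [noEig_iff, hdet] at hE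
    exact hE
  have hns : ∀ x : GL (Fin 2) F, NoEig (x : Matrix (Fin 2) (Fin 2) F) → ¬ ∃ a : Fˣ, x = sc a := by
    rintro x hx ⟨a, rfl⟩
    exact not_noEig_sc a hx
  have hconj := isConj_of_tr_det g⁻¹ g (hns _ hE') (hns _ hE) (tr2_inv g hdet) (by rw [hdet', hdet])
  obtain ⟨c, hc⟩ := isConj_iff.mp hconj
  have h := hcl g⁻¹ c
  rw [hc] at h
  rw [← Cfsg.Agent.Helper79.irr_inv ⟨X, hX⟩ g]
  exact h.symm

open Classical in
/-- the sums over the elements without eigenvectors of a character of degree `(q - 1) / 2` -/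
theorem half_cusp_data (hodd : Odd (Fintype.card F)) (hq : 5 ≤ Fintype.card F)
    {ψ : N F → ℂ} (hψ : IsIrrCharacter (N F) ψ) (k : ℕ) (hk : 2 * k = Fintype.card Fˣ)
    (hdeg : ψ 1 = (k : ℂ)) :
    ∃ ω : ℂ, (ω = 1 ∨ ω = -1) ∧ (∀ n : N F, ψ (zN * n) = ω * ψ n) ∧
      (∀ n : N F, NoEig ((n : GL (Fin 2) F) : Matrix (Fin 2) (Fin 2) F) → conj (ψ n) = ψ n) ∧
      (∑ n : N F, (if NoEig ((n : GL (Fin 2) F) : Matrix (Fin 2) (Fin 2) F)
          then ψ n * conj (ψ n) else 0) =
        (Fintype.card F : ℂ) * (Fintype.card Fˣ : ℂ) * (k : ℂ)) ∧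
      (∑ n : N F, (if NoEig ((n : GL (Fin 2) F) : Matrix (Fin 2) (Fin 2) F) then ψ n else 0) =
        (1 + ω) * (Fintype.card F : ℂ) * (k : ℂ)) := by
  classical
  have hF := card_F_eq (F := F)
  obtain ⟨X, hX, hcase⟩ := over_cases hψ
  rcases hcase with hres | ⟨-, ε, hε, hs, ψ', hψ', hneψ, hsum, t, ht⟩
  · exfalso
    have hX1 : X 1 = (k : ℂ) := by
      have := congrFun hres 1
      simp only [OneMemClass.coe_one] at this
      rw [this, hdeg]
    rcases fam_of_deg hX k hX1 with ⟨h1, -⟩ | ⟨h1, -⟩ | ⟨h1, -⟩ | ⟨h1, -⟩ <;> omega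
  · have hc := isClassFunction_of_isCharacter (IsIrrCharacter.isCharacter hψ)
    have hc' := isClassFunction_of_isCharacter (IsIrrCharacter.isCharacter hψ')
    have hswap := conj_swap hodd hε hc hc' hneψ t ht
    have hψ1 : ψ' 1 = ψ 1 := by
      rw [ht, conjFun_comm' ψ t 1 (by simp)]
    have hXn : ∀ n : N F, X n = ψ n + ψ' n := fun n => congrFun hsum n
    have hX1 : X 1 = ((2 * k : ℕ) : ℂ) := by
      have := hXn 1
      simp only [OneMemClass.coe_one] at this
      rw [this, hψ1, hdeg]
      push_cast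
      ring
    have hSC : (⟨X, hX⟩ : IrrCharacter (GL (Fin 2) F)) ∈ SC F := by
      rcases fam_of_deg hX (2 * k) hX1 with ⟨h1, -⟩ | ⟨h1, -⟩ | ⟨h1, -⟩ | ⟨-, h2⟩
      · omega
      · omega
      · omega
      · exact h2
    -- the central sign
    obtain ⟨ω, -, hω⟩ := exists_central_sign hψ
    have hk0 : (k : ℂ) ≠ 0 := by
      have : k ≠ 0 := by omega
      exact_mod_cast this
    have hzz : (zN : N F) * zN = 1 := by
      apply Subtype.ext
      exact sc_neg_sq
    have hω2 : ω = 1 ∨ ω = -1 := by
      have h1 := hω (zN * 1)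
      rw [← mul_assoc, hzz, one_mul, hω 1, hdeg] at h1
      have h2 : (ω - 1) * (ω + 1) = 0 := by
        have : (k : ℂ) * ((ω - 1) * (ω + 1)) = 0 := by linear_combination -h1
        exact (mul_eq_zero.mp this).resolve_left hk0
      rcases mul_eq_zero.mp h2 with h | h
      · left; linear_combination h
      · right; linear_combination h
    have hω' : ∀ n : N F, ψ' (zN * n) = ω * ψ' n := by
      intro n
      rw [ht, conjFun_apply, conjFun_apply, ← hω]
      congr 1
      apply Subtype.ext
      change t * (sc (-1) * (n : GL (Fin 2) F)) * t⁻¹ = sc (-1) * (t * (n : GL (Fin 2) F) * t⁻¹)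
      rw [← mul_assoc t, sc_comm (-1) t]
      group
    have hXz : X (sc (-1)) = ω * X 1 := by
      have h1 := hXn zN
      have h2 := hXn 1
      have h3 := hω 1
      have h4 := hω' 1
      rw [mul_one] at h3 h4
      simp only [OneMemClass.coe_one] at h2
      change X (sc (-1)) = _ at h1
      rw [h1, h2, h3, h4]
      ring
    have hX10 : X 1 ≠ 0 := by
      rw [hX1]
      have : 2 * k ≠ 0 := by omega
      exact_mod_cast this
    have hXω : ∀ g, X (sc (-1) * g) = ω * X g := by
      rcases even_cases (⟨X, hX⟩ : IrrCharacter (GL (Fin 2) F)) with ⟨h1, h2⟩ | ⟨h1, h2⟩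
      · simp only at h2
        have h3 := h2 1
        rw [mul_one, hXz] at h3
        have : ω = 1 := by
          have : X 1 * (ω - 1) = 0 := by linear_combination h3
          have := (mul_eq_zero.mp this).resolve_left hX10
          linear_combination this
        intro g
        rw [h2 g, this, one_mul]
      · simp only at h2
        have h3 := h2 1
        rw [mul_one, hXz] at h3
        have : ω = -1 := by
          have : X 1 * (ω + 1) = 0 := by linear_combination h3
          have := (mul_eq_zero.mp this).resolve_left hX10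
          linear_combination this
        intro g
        rw [h2 g, this]
        ring
    obtain ⟨hC1, hC2⟩ := cusp_sums hodd ⟨X, hX⟩ hSC ω hω2 hXω
    simp only at hC1 hC2
    have hnorm : classInner (fun n : N F => X n) (fun n : N F => X n) = 2 := by
      rw [norm_res hε.ne_one hε.uniq hX, if_pos hs]; norm_num
    rw [hnorm, card_N] at hC2
    -- values at the elements without eigenvectors
    obtain ⟨c, hc1⟩ := exists_nonsquare hε
    have hval : ∀ n : N F, NoEig ((n : GL (Fin 2) F) : Matrix (Fin 2) (Fin 2) F) →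
        X n = 2 * ψ n := by
      intro n hE
      obtain ⟨t', ht1, ht2⟩ := exists_comm_det hodd (n : GL (Fin 2) F)
        (MonoidHom.mem_ker.mp n.2) hE c
      have hl : lin ε t' = -1 := by
        unfold lin
        rw [ht2, hc1]
      have : ψ' n = ψ n := by
        rw [← (hswap t' hl).1, conjFun_comm' ψ t' n ht1]
      rw [hXn n, this]
      ring
    refine ⟨ω, hω2, hω, ?_, ?_, ?_⟩
    · intro n hE
      have h1 := real_of_noEig hX (n : GL (Fin 2) F) (MonoidHom.mem_ker.mp n.2) hE
      rw [hval n hE] at h1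
      have h2 : (2 : ℂ) ≠ 0 := two_ne_zero
      simp only [map_mul, map_ofNat] at h1
      exact mul_left_cancel₀ h2 h1
    · have e : ∀ n : N F, (if NoEig ((n : GL (Fin 2) F) : Matrix (Fin 2) (Fin 2) F)
          then X n * conj (X n) else 0) =
          4 * (if NoEig ((n : GL (Fin 2) F) : Matrix (Fin 2) (Fin 2) F)
            then ψ n * conj (ψ n) else 0) := by
        intro n
        by_cases hE : NoEig ((n : GL (Fin 2) F) : Matrix (Fin 2) (Fin 2) F)
        · rw [if_pos hE, if_pos hE, hval n hE]
          simp only [map_mul, map_ofNat]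
          ring
        · rw [if_neg hE, if_neg hE, mul_zero]
      rw [Finset.sum_congr rfl (fun n _ => e n), ← Finset.mul_sum] at hC2
      have hk' : (Fintype.card Fˣ : ℂ) = 2 * (k : ℂ) := by
        rw [← hk]; push_cast; ring
      have hF' : (Fintype.card F : ℂ) = 2 * (k : ℂ) + 1 := by
        rw [hF, ← hk]; push_cast; ring
      rw [hF', hk']
      rw [hk'] at hC2
      push_cast at hC2
      rw [hk'] at hC2
      linear_combination (1 / 4 : ℂ) * hC2
    · have e : ∀ n : N F, (if NoEig ((n : GL (Fin 2) F) : Matrix (Fin 2) (Fin 2) F)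
          then X n else 0) =
          2 * (if NoEig ((n : GL (Fin 2) F) : Matrix (Fin 2) (Fin 2) F) then ψ n else 0) := by
        intro n
        by_cases hE : NoEig ((n : GL (Fin 2) F) : Matrix (Fin 2) (Fin 2) F)
        · rw [if_pos hE, if_pos hE, hval n hE]
        · rw [if_neg hE, if_neg hE, mul_zero]
      rw [Finset.sum_congr rfl (fun n _ => e n), ← Finset.mul_sum] at hC1
      have hk' : (Fintype.card Fˣ : ℂ) = 2 * (k : ℂ) := by
        rw [← hk]; push_cast; ring
      have hF' : (Fintype.card F : ℂ) = 2 * (k : ℂ) + 1 := by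
        rw [hF, ← hk]; push_cast; ring
      rw [hF']
      rw [hk'] at hC1
      linear_combination (1 / 2 : ℂ) * hC1

end Cfsg.Agent.Helper38
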