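import Mathlib
import Cfsg.Agent.Lib.Helper38.SL2TorusConj
import Cfsg.Agent.Lib.Helper38.AbelTwo
import Cfsg.Agent.Lib.Helper38.SL2HalfVal

set_option autoImplicit false
set_option linter.unusedSectionVars false

/-! The values of the characters of degree `q - 1` of `SL₂(F)`, `q` odd, on a non-split torus. -/

namespace Cfsg.Agent.Helper38

open Matrix Cfsg
open Cfsg.Agent.Helper81
open Cfsg.Agent.S2305 (dg)
open Cfsg.Agent.S2322 (fam_of_deg SP_no_eigen)
open scoped ComplexConjugate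

variable {F : Type*} [Field F] [Fintype F] [DecidableEq F] [Fintype (N F)]

local notation "SL2" => Matrix.SpecialLinearGroup (Fin 2) F
local notation "Irr2" => IrrCharacter (GL (Fin 2) F)

lemma toGL_zS : (Matrix.SpecialLinearGroup.toGL (zS : SL2) : GL (Fin 2) F) = sc (-1) := by
  rw [← ι_coe, ι_zS]
  rfl

open Classical in
/-- a character of degree `q - 1` with the right sums over the elements without eigenvectors is
given on a non-split torus by a homomorphism `θ` with `θ² ≠ 1` -/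
theorem torus_theta (hodd : Odd (Fintype.card F)) {χ : SL2 → ℂ} (hχ : IsIrrCharacter SL2 χ)
    (hdeg : χ 1 = (Fintype.card Fˣ : ℂ)) (ω : ℂ) (hω2 : ω = 1 ∨ ω = -1)
    (hχz : χ zS = ω * χ 1)
    (hreal : ∀ s : SL2, NoEig (s : Matrix (Fin 2) (Fin 2) F) → conj (χ s) = χ s)
    (hG1 : ∑ n : N F, (if NoEig ((n : GL (Fin 2) F) : Matrix (Fin 2) (Fin 2) F)
        then χ (ι.symm n) * conj (χ (ι.symm n)) else 0) =
      (Fintype.card Fˣ : ℂ) * ((Fintype.card Fˣ : ℂ) - 2) * ((Fintype.card Fˣ : ℂ) + 1))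
    (hG2 : ∑ n : N F, (if NoEig ((n : GL (Fin 2) F) : Matrix (Fin 2) (Fin 2) F)
        then χ (ι.symm n) else 0) =
      (1 + ω) * (Fintype.card Fˣ : ℂ) * ((Fintype.card Fˣ : ℂ) + 1))
    {T : Subgroup SL2} (hT : IsNSTorus T) :
    ∃ θ : T →* ℂˣ, ((θ ⟨zS, hT.zS_mem' hodd⟩ : ℂˣ) : ℂ) = ω ∧ (∃ c : T, θ c ^ 2 ≠ 1) ∧
      ∀ c : T, NoEig ((c : SL2) : Matrix (Fin 2) (Fin 2) F) →
        χ c = -(((θ c : ℂˣ) : ℂ) + (((θ c)⁻¹ : ℂˣ) : ℂ)) := by
  have hF := card_F_eq (F := F)
  have h3 := three_le_card hodd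
  obtain ⟨k, hk⟩ : ∃ k : ℕ, Fintype.card Fˣ = 2 * k := by
    obtain ⟨m, hm⟩ := hodd
    exact ⟨m, by omega⟩
  have hkpos : 0 < k := by omega
  have hcl := isClassFunction_of_isCharacter (IsIrrCharacter.isCharacter hχ)
  have hcl2 : IsClassFunction SL2 (fun g => χ g * conj (χ g)) := by
    intro g h
    simp only
    rw [hcl]
  have hk' : (Fintype.card Fˣ : ℂ) = 2 * (k : ℂ) := by
    rw [hk]; push_cast; ring
  have hk0 : (k : ℂ) ≠ 0 := by exact_mod_cast hkpos.ne'
  have hk1 : (2 * (k : ℂ) + 1) ≠ 0 := by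
    have : 2 * k + 1 ≠ 0 := by omega
    exact_mod_cast this
  have hne : (2 * (k : ℂ) * (2 * (k : ℂ) + 1)) ≠ 0 := mul_ne_zero (mul_ne_zero two_ne_zero hk0) hk1
  -- the sums on the torus
  have hS1 : ∑ c : T, (if NoEig ((c : SL2) : Matrix (Fin 2) (Fin 2) F)
      then χ c * conj (χ c) else 0) = 4 * (k : ℂ) - 4 := by
    have h := hT.sum_torus (fun g => χ g * conj (χ g)) hcl2 _ hG1
    rw [hk'] at h
    apply mul_left_cancel₀ hne
    rw [h]
    ring
  have hS2 : ∑ c : T, (if NoEig ((c : SL2) : Matrix (Fin 2) (Fin 2) F) then χ c else 0) =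
      2 * (1 + ω) := by
    have h := hT.sum_torus χ hcl _ hG2
    rw [hk'] at h
    apply mul_left_cancel₀ hne
    rw [h]
    ring
  -- the central involution
  set z : T := ⟨zS, hT.zS_mem' hodd⟩ with hz
  have hz1 : z ≠ 1 := by
    intro h
    have := congrArg Subtype.val h
    exact zS_ne_one hodd this
  have hz2 : z * z = 1 := by
    apply Subtype.ext
    exact zS_mul_self
  have hiff := hT.noEig_iff' hodd
  have hcard : Nat.card T = 2 * (k + 1) := by rw [hT.card]; omega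
  have hΨ : IsCharacter T (fun c : T => χ c) := isCharacter_restrict T (IsIrrCharacter.isCharacter hχ)
  have hconv : ∀ f : SL2 → ℂ, ∑ a : T, (if a ≠ 1 ∧ a ≠ z then f a else 0) =
      ∑ c : T, (if NoEig ((c : SL2) : Matrix (Fin 2) (Fin 2) F) then f c else 0) := by
    intro f
    apply Finset.sum_congr rfl
    intro a _
    by_cases hE : NoEig ((a : SL2) : Matrix (Fin 2) (Fin 2) F)
    · rw [if_pos hE, if_pos ((hiff a).mp hE)]
    · rw [if_neg hE, if_neg (fun h => hE ((hiff a).mpr h))]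
  have := hT.cyc
  obtain ⟨θ, hθz, hθ2, hθ⟩ := abel_two_real hT.comm z hz1 hz2 k hcard (fun c : T => χ c) hΨ ω hω2
    (by simp only [OneMemClass.coe_one]; rw [hdeg, hk'])
    (by
      change χ zS = _
      rw [hχz, hdeg, hk'])
    (by rw [← hS1]; exact hconv (fun g => χ g * conj (χ g)))
    (by
      intro a h1 h2
      exact hreal _ ((hiff a).mpr ⟨h1, h2⟩))
    (by rw [← hS2]; exact hconv χ)
  refine ⟨θ, hθz, hθ2, ?_⟩
  intro c hE
  obtain ⟨h1, h2⟩ := (hiff c).mp hE
  exact hθ c h1 h2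

open Classical in
/-- a cuspidal character of `GL₂` with irreducible restriction `χ` to `SL₂` -/
theorem cusp_torus (hodd : Odd (Fintype.card F)) {X : GL (Fin 2) F → ℂ}
    (hX : IsIrrCharacter (GL (Fin 2) F) X) (hSC : (⟨X, hX⟩ : Irr2) ∈ SC F)
    {χ : SL2 → ℂ} (hχ : IsIrrCharacter SL2 χ)
    (hres : ∀ s : SL2, X (Matrix.SpecialLinearGroup.toGL s) = χ s)
    {T : Subgroup SL2} (hT : IsNSTorus T) :
    ∃ θ : T →* ℂˣ, (∃ c : T, θ c ^ 2 ≠ 1) ∧
      (∀ g, X (sc (-1) * g) = ((θ ⟨zS, hT.zS_mem' hodd⟩ : ℂˣ) : ℂ) * X g) ∧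
      ∀ c : T, NoEig ((c : SL2) : Matrix (Fin 2) (Fin 2) F) →
        χ c = -(((θ c : ℂˣ) : ℂ) + (((θ c)⁻¹ : ℂˣ) : ℂ)) := by
  have hX1 : X 1 = (Fintype.card Fˣ : ℂ) := by
    have := deg_spec (⟨X, hX⟩ : Irr2)
    rw [deg_SC _ hSC] at this
    exact this
  obtain ⟨ω, hω2, hXω⟩ : ∃ ω : ℂ, (ω = 1 ∨ ω = -1) ∧ ∀ g, X (sc (-1) * g) = ω * X g := by
    rcases even_cases (⟨X, hX⟩ : Irr2) with ⟨-, h2⟩ | ⟨-, h2⟩
    · exact ⟨1, Or.inl rfl, fun g => by rw [one_mul]; exact h2 g⟩
    · exact ⟨-1, Or.inr rfl, fun g => by rw [neg_one_mul]; exact h2 g⟩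
  obtain ⟨hC1, hC2⟩ := cusp_sums hodd ⟨X, hX⟩ hSC ω hω2 hXω
  simp only at hC1 hC2
  have hresN : ∀ n : N F, X n = χ (ι.symm n) := by
    intro n
    rw [← hres, ← ι_coe, MulEquiv.apply_symm_apply]
  have hψ : IsIrrCharacter (N F) (fun n => χ (ι.symm n)) := isIrrCharacter_comp_equiv ι.symm hχ
  have hnorm : classInner (fun n : N F => X n) (fun n : N F => X n) = 1 := by
    have : (fun n : N F => X n) = fun n => χ (ι.symm n) := funext hresN
    rw [this, irr_orthonormal hψ hψ, if_pos rfl]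
  rw [hnorm, card_N] at hC2
  have hdeg : χ 1 = (Fintype.card Fˣ : ℂ) := by
    rw [← hres, map_one, hX1]
  have hχz : χ zS = ω * χ 1 := by
    rw [← hres, toGL_zS, ← hres, map_one]
    have := hXω 1
    rwa [mul_one] at this
  have hreal : ∀ s : SL2, NoEig (s : Matrix (Fin 2) (Fin 2) F) → conj (χ s) = χ s := by
    intro s hE
    rw [← hres]
    exact real_of_noEig hX _ (det_toGL' s) (by rw [toGL_coe]; exact hE)
  have hG1 : ∑ n : N F, (if NoEig ((n : GL (Fin 2) F) : Matrix (Fin 2) (Fin 2) F)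
        then χ (ι.symm n) * conj (χ (ι.symm n)) else 0) =
      (Fintype.card Fˣ : ℂ) * ((Fintype.card Fˣ : ℂ) - 2) * ((Fintype.card Fˣ : ℂ) + 1) := by
    have e : ∀ n : N F, (if NoEig ((n : GL (Fin 2) F) : Matrix (Fin 2) (Fin 2) F)
        then χ (ι.symm n) * conj (χ (ι.symm n)) else 0) =
        (if NoEig ((n : GL (Fin 2) F) : Matrix (Fin 2) (Fin 2) F)
        then X n * conj (X n) else 0) := by
      intro n
      rw [hresN]
    rw [Finset.sum_congr rfl (fun n _ => e n), hC2]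
    push_cast
    ring
  have hG2 : ∑ n : N F, (if NoEig ((n : GL (Fin 2) F) : Matrix (Fin 2) (Fin 2) F)
        then χ (ι.symm n) else 0) =
      (1 + ω) * (Fintype.card Fˣ : ℂ) * ((Fintype.card Fˣ : ℂ) + 1) := by
    have e : ∀ n : N F, (if NoEig ((n : GL (Fin 2) F) : Matrix (Fin 2) (Fin 2) F)
        then χ (ι.symm n) else 0) =
        (if NoEig ((n : GL (Fin 2) F) : Matrix (Fin 2) (Fin 2) F) then X n else 0) := by
      intro n
      rw [hresN]
    rw [Finset.sum_congr rfl (fun n _ => e n), hC1]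
  obtain ⟨θ, hθz, hθ2, hθ⟩ := torus_theta hodd hχ hdeg ω hω2 hχz hreal hG1 hG2 hT
  refine ⟨θ, hθ2, ?_, hθ⟩
  intro g
  rw [hθz]
  exact hXω g

lemma sc_eq_bmat2 (a : Fˣ) : (sc a : GL (Fin 2) F) = bmat a a 0 := by
  apply Matrix.GeneralLinearGroup.ext
  intro i j
  rw [sc_coe]
  fin_cases i <;> fin_cases j <;> simp

open Classical in
/-- a character of degree `q - 1` of `SL₂` which is half of the restriction of a character of
`GL₂`: this happens only for `q = 3` -/
theorem split_q3_data (hodd : Odd (Fintype.card F)) {ψ : N F → ℂ} (hψ : IsIrrCharacter (N F) ψ)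
    (hdeg : ψ 1 = (Fintype.card Fˣ : ℂ)) {X : GL (Fin 2) F → ℂ}
    (hX : IsIrrCharacter (GL (Fin 2) F) X) {ε : MulChar F ℂ} (hε : QuadData ε)
    (hs : X * lin ε = X) {ψ' : N F → ℂ} (hψ' : IsIrrCharacter (N F) ψ') (hneψ : ψ ≠ ψ')
    (hsum : (fun n : N F => X n) = ψ + ψ') (t : GL (Fin 2) F)
    (ht : ψ' = conjFun (N F) normal_N ψ t) :
    Fintype.card Fˣ = 2 ∧ ψ zN = -ψ 1 ∧
      ∀ n : N F, NoEig ((n : GL (Fin 2) F) : Matrix (Fin 2) (Fin 2) F) → ψ n = 0 := by
  have hF := card_F_eq (F := F)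
  have h3 := three_le_card hodd
  have hc := isClassFunction_of_isCharacter (IsIrrCharacter.isCharacter hψ)
  have hc' := isClassFunction_of_isCharacter (IsIrrCharacter.isCharacter hψ')
  have hswap := conj_swap hodd hε hc hc' hneψ t ht
  have hψ1 : ψ' 1 = ψ 1 := by
    rw [ht, conjFun_comm' ψ t 1 (by simp)]
  have hXn : ∀ n : N F, X n = ψ n + ψ' n := fun n => congrFun hsum n
  have hX1 : X 1 = ((2 * Fintype.card Fˣ : ℕ) : ℂ) := by
    have := hXn 1
    simp only [OneMemClass.coe_one] at this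
    rw [this, hψ1, hdeg]
    push_cast
    ring
  obtain ⟨hn2, hSP⟩ : Fintype.card Fˣ = 2 ∧ (⟨X, hX⟩ : Irr2) ∈ SP F := by
    rcases fam_of_deg hX (2 * Fintype.card Fˣ) hX1 with ⟨h1, -⟩ | ⟨h1, -⟩ | ⟨h1, h2⟩ | ⟨h1, -⟩
    · omega
    · omega
    · exact ⟨by omega, h2⟩
    · omega
  have hq3 : Fintype.card F = 3 := by omega
  refine ⟨hn2, ?_, ?_⟩
  · -- the central sign
    have hSP' := hSP
    unfold SP at hSP'
    obtain ⟨x, hx, hx2⟩ := Finset.mem_image.mp hSP'
    have hx' : x.1 ≠ x.2 := (Finset.mem_offDiag.mp hx).2.2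
    have hXind : X = indFun (upperTriangularGL 2 F) (θ x.1 x.2) := by
      have := congrArg Subtype.val hx2
      rw [irrPS_val x hx'] at this
      exact this.symm
    have hβ : x.2 = x.1 * ε := by
      have h1 := hs
      rw [hXind, ind_mul_lin, ind_eq_iff] at h1
      rcases h1 with ⟨h2, -⟩ | ⟨h2, -⟩
      · exfalso
        apply hε.ne_one
        have : x.1 * ε = x.1 * 1 := by rw [h2, mul_one]
        exact mul_left_cancel this
      · exact h2.symm
    have hXz : X (sc (-1)) = -X 1 := by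
      rw [hX1]
      rw [hXind, sc_eq_bmat2, I_scalar, hβ, MulChar.mul_apply, quad_neg_one hodd hε, hq3, hn2]
      norm_num
      rw [← map_mul]
      simp
    obtain ⟨ω, -, hω⟩ := exists_central_sign hψ
    have hω' : ψ' (zN * 1) = ω * ψ' 1 := by
      rw [ht, conjFun_apply, conjFun_apply, ← hω]
      congr 1
      apply Subtype.ext
      change t * (sc (-1) * ((1 : N F) : GL (Fin 2) F)) * t⁻¹ =
        sc (-1) * (t * ((1 : N F) : GL (Fin 2) F) * t⁻¹)
      rw [← mul_assoc t, sc_comm (-1) t]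
      group
    have h1 := hXn zN
    have h2 := hXn 1
    have h3' := hω 1
    rw [mul_one] at h3' hω'
    simp only [OneMemClass.coe_one] at h2
    change X (sc (-1)) = _ at h1
    rw [hXz, h2, h3', hω', hψ1] at h1
    have hψ10 : ψ 1 ≠ 0 := by
      rw [hdeg, hn2]
      norm_num
    have hω1 : ω = -1 := by
      have : ψ 1 * (2 * (ω + 1)) = 0 := by linear_combination -h1
      rcases mul_eq_zero.mp this with h | h
      · exact absurd h hψ10
      · linear_combination (1 / 2 : ℂ) * h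
    rw [h3', hω1]
    ring
  · obtain ⟨c, hc1⟩ := exists_nonsquare hε
    intro n hE
    obtain ⟨t', ht1, ht2⟩ := exists_comm_det hodd (n : GL (Fin 2) F)
      (MonoidHom.mem_ker.mp n.2) hE c
    have hl : lin ε t' = -1 := by
      unfold lin
      rw [ht2, hc1]
    have h1 : ψ' n = ψ n := by
      rw [← (hswap t' hl).1, conjFun_comm' ψ t' n ht1]
    have h2 := hXn n
    rw [SP_no_eigen hX hSP _ hE, h1] at h2
    linear_combination -(1 / 2 : ℂ) * h2

open Classical in
/-- every irreducible character of degree `q - 1` of `SL₂(F)`, `q` odd, is given on a non-split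
torus by a homomorphism `θ` with `θ² ≠ 1` -/
theorem degree_torus (hodd : Odd (Fintype.card F)) {χ : SL2 → ℂ} (hχ : IsIrrCharacter SL2 χ)
    (hdeg : χ 1 = (Fintype.card Fˣ : ℂ)) {T : Subgroup SL2} (hT : IsNSTorus T) :
    ∃ θ : T →* ℂˣ, (∃ c : T, θ c ^ 2 ≠ 1) ∧
      ∀ c : T, NoEig ((c : SL2) : Matrix (Fin 2) (Fin 2) F) →
        χ c = -(((θ c : ℂˣ) : ℂ) + (((θ c)⁻¹ : ℂˣ) : ℂ)) := by
  have hF := card_F_eq (F := F)
  have h3 := three_le_card hodd
  have hψ : IsIrrCharacter (N F) (fun n => χ (ι.symm n)) := isIrrCharacter_comp_equiv ι.symm hχ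
  obtain ⟨X, hX, hcase⟩ := over_cases hψ
  rcases hcase with hres | ⟨-, ε, hε, hs, ψ', hψ', hneψ, hsum, t, ht⟩
  · have hres' : ∀ s : SL2, X (Matrix.SpecialLinearGroup.toGL s) = χ s := by
      intro s
      have := congrFun hres (ι s)
      simpa [ι_coe] using this
    have hX1 : X 1 = (Fintype.card Fˣ : ℂ) := by
      have := hres' 1
      rw [map_one] at this
      rw [this, hdeg]
    have hSC : (⟨X, hX⟩ : Irr2) ∈ SC F := by
      rcases fam_of_deg hX _ hX1 with ⟨h1, -⟩ | ⟨h1, -⟩ | ⟨h1, -⟩ | ⟨-, h2⟩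
      · omega
      · omega
      · omega
      · exact h2
    obtain ⟨θ, h1, -, h2⟩ := cusp_torus hodd hX hSC hχ hres' hT
    exact ⟨θ, h1, h2⟩
  · obtain ⟨hn2, hz, hzero⟩ := split_q3_data hodd hψ (by simp only [map_one]; exact hdeg) hX hε hs
      hψ' hneψ hsum t ht
    have hzero' : ∀ s : SL2, NoEig (s : Matrix (Fin 2) (Fin 2) F) → χ s = 0 := by
      intro s hE
      have := hzero (ι s) (by rw [ι_coe, toGL_coe]; exact hE)
      simpa using this
    have hsum0 : ∀ f : SL2 → ℂ, (∀ s : SL2, NoEig (s : Matrix (Fin 2) (Fin 2) F) → f s = 0) →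
        ∑ n : N F, (if NoEig ((n : GL (Fin 2) F) : Matrix (Fin 2) (Fin 2) F)
          then f (ι.symm n) else 0) = 0 := by
      intro f hf
      apply Finset.sum_eq_zero
      intro n _
      by_cases hE : NoEig ((n : GL (Fin 2) F) : Matrix (Fin 2) (Fin 2) F)
      · rw [if_pos hE]
        apply hf
        rw [← toGL_coe, ← ι_coe, MulEquiv.apply_symm_apply]
        exact hE
      · rw [if_neg hE]
    obtain ⟨θ, -, h1, h2⟩ := torus_theta hodd hχ hdeg (-1) (Or.inr rfl)
      (by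
        simp only [map_one] at hz
        rw [neg_one_mul]
        unfold zS
        exact hz)
      (by
        intro s hE
        rw [hzero' s hE, map_zero])
      (by
        rw [hsum0 (fun g => χ g * conj (χ g)) (fun s hE => by rw [hzero' s hE, zero_mul]),
          hn2]
        norm_num)
      (by
        rw [hsum0 χ hzero']
        ring)
      hT
    exact ⟨θ, h1, h2⟩

end Cfsg.Agent.Helper38
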