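import Mathlib
import Cfsg.Agent.Lib.Helper38.SL2CuspTorus

set_option autoImplicit false
set_option linter.unusedSectionVars false

/-! Every homomorphism `θ` with `θ² ≠ 1` of a non-split torus of `SL₂(F)`, `q` odd, comes from a
cuspidal character of `GL₂(F)` with irreducible restriction: a counting argument. -/

namespace Cfsg.Agent.Helper38

open Matrix Cfsg
open Cfsg.Agent.Helper81
open Cfsg.Agent.S2305 (dg)
open scoped ComplexConjugate

variable {F : Type*} [Field F] [Fintype F] [DecidableEq F] [Fintype (N F)]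

local notation "SL2" => Matrix.SpecialLinearGroup (Fin 2) F
local notation "Irr2" => IrrCharacter (GL (Fin 2) F)
local notation "IrrN" => IrrCharacter (N F)

/-- the character `X` of `GL₂` has the values given by `θ` on the torus `T` -/
def TorusMatch (T : Subgroup SL2) (z : T) (X : GL (Fin 2) F → ℂ) (θ : T →* ℂˣ) : Prop :=
  (∀ g, X (sc (-1) * g) = ((θ z : ℂˣ) : ℂ) * X g) ∧
    ∀ c : T, NoEig ((c : SL2) : Matrix (Fin 2) (Fin 2) F) →
      X (Matrix.SpecialLinearGroup.toGL (c : SL2)) = -(((θ c : ℂˣ) : ℂ) + (((θ c)⁻¹ : ℂˣ) : ℂ))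

/-- two cuspidal characters with the same `θ` agree on `SL₂` -/
theorem match_unique {T : Subgroup SL2} (hT : IsNSTorus T) (z : T)
    (X X' : Irr2) (hX : X ∈ SC F) (hX' : X' ∈ SC F) (θ : T →* ℂˣ)
    (h : TorusMatch T z (X : GL (Fin 2) F → ℂ) θ) (h' : TorusMatch T z (X' : GL (Fin 2) F → ℂ) θ)
    (g : GL (Fin 2) F) (hdet : Matrix.GeneralLinearGroup.det g = 1) :
    (X : GL (Fin 2) F → ℂ) g = (X' : GL (Fin 2) F → ℂ) g := by
  have hcl := isClassFunction_of_isCharacter (IsIrrCharacter.isCharacter X.2)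
  have hcl' := isClassFunction_of_isCharacter (IsIrrCharacter.isCharacter X'.2)
  have h1 : (X : GL (Fin 2) F → ℂ) 1 = (X' : GL (Fin 2) F → ℂ) 1 := by
    rw [deg_spec, deg_spec, deg_SC X hX, deg_SC X' hX']
  have hu : (X : GL (Fin 2) F → ℂ) (un 1) = (X' : GL (Fin 2) F → ℂ) (un 1) := by
    rw [un_SC X hX, un_SC X' hX']
  rcases N_cases g hdet with rfl | rfl | hc | hc | ⟨a, d, had, -, hc⟩ | hE
  · exact h1
  · have e1 := h.1 1
    have e2 := h'.1 1
    rw [mul_one] at e1 e2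
    rw [e1, e2, h1]
  · obtain ⟨c, rfl⟩ := isConj_iff.mp hc
    rw [hcl, hcl', hu]
  · obtain ⟨c, rfl⟩ := isConj_iff.mp hc
    rw [hcl, hcl', h.1, h'.1, hu]
  · obtain ⟨c, rfl⟩ := isConj_iff.mp hc
    rw [hcl, hcl', SC_dg X hX a d had, SC_dg X' hX' a d had]
  · set s : SL2 := ι.symm ⟨g, MonoidHom.mem_ker.mpr hdet⟩ with hs
    have hsg : (Matrix.SpecialLinearGroup.toGL s : GL (Fin 2) F) = g := by
      rw [← ι_coe, hs, MulEquiv.apply_symm_apply]
    have hEs : NoEig (s : Matrix (Fin 2) (Fin 2) F) := by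
      rw [← toGL_coe, hsg]
      exact hE
    obtain ⟨y, hy⟩ := hT.into s hEs
    have hEc : NoEig ((y * s * y⁻¹ : SL2) : Matrix (Fin 2) (Fin 2) F) := (noEig_conj_SL y s).mpr hEs
    have e1 := h.2 ⟨_, hy⟩ hEc
    have e2 := h'.2 ⟨_, hy⟩ hEc
    simp only [map_mul, map_inv, hsg] at e1 e2
    rw [hcl] at e1
    rw [hcl'] at e2
    rw [e1, e2]

/-- the cuspidal characters which are not fixed by the quadratic twist -/
lemma exists_nonsplit_SC {ε : MulChar F ℂ} (hε1 : ε ≠ 1) (hε2 : ε ^ 2 = 1) :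
    ∃ s : Finset Irr2, (∀ X : Irr2, X ∈ s ↔ X ∈ SC F ∧ ¬ Split ε X) ∧
      2 * s.card = Fintype.card Fˣ * Fintype.card Fˣ := by
  classical
  refine ⟨(SC F).filter (fun X => ¬ Split ε X), ?_, ?_⟩
  · intro X
    rw [Finset.mem_filter]
  · have h1 := card_SC (F := F)
    have h2 := card_split_SC (F := F) hε1 hε2
    have h3 := card_split_SP (F := F) hε1 hε2
    have h4 := Finset.card_filter_add_card_filter_not (s := SC F) (Split ε)
    omega

/-- at most `q - 1` irreducible characters of `GL₂` lie over a given character of `SL₂` -/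
lemma card_le_of_cons {ε : MulChar F ℂ} (hε : QuadData ε) (ψ₀ : IrrN) (u : Finset Irr2)
    (hu : ∀ X ∈ u, ψ₀ ∈ cons X) : u.card ≤ Fintype.card Fˣ := by
  rw [← sum_cnum_over hε ψ₀]
  calc u.card = ∑ X ∈ u, 1 := Finset.card_eq_sum_ones u
    _ ≤ ∑ X ∈ u, _ := Finset.sum_le_sum (fun X hX => by
        rw [if_pos (hu X hX)]
        unfold cnum
        split_ifs <;> norm_num)
    _ ≤ _ := Finset.sum_le_sum_of_subset (Finset.subset_univ u)

set_option maxHeartbeats 400000 in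
/-- every `θ` with `θ² ≠ 1` comes from a cuspidal character with irreducible restriction -/
theorem exists_cusp_of_theta (hodd : Odd (Fintype.card F)) {T : Subgroup SL2} (hT : IsNSTorus T)
    (θ : T →* ℂˣ) (hθ : ∃ c : T, θ c ^ 2 ≠ 1) :
    ∃ X : Irr2, X ∈ SC F ∧ IsIrrCharacter (N F) (fun n : N F => (X : GL (Fin 2) F → ℂ) n) ∧
      TorusMatch T ⟨zS, hT.zS_mem' hodd⟩ (X : GL (Fin 2) F → ℂ) θ := by
  obtain ⟨ε, hε1, hε2, hε3⟩ := exists_quadratic (F := F) hodd
  have hε : QuadData ε := ⟨hε1, hε2, hε3⟩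
  set z : T := ⟨zS, hT.zS_mem' hodd⟩ with hz
  have hz1 : z ≠ 1 := by
    intro h
    have := congrArg Subtype.val h
    exact zS_ne_one hodd this
  have hz2 : z * z = 1 := by
    apply Subtype.ext
    exact zS_mul_self
  have hn := two_le_card_units (F := F) hodd
  have hF := card_F_eq (F := F)
  have hcyc := hT.cyc
  obtain ⟨𝒩, hmem𝒩, hcard𝒩⟩ := exists_nonsplit_SC (F := F) hε1 hε2
  have hN : ∀ X ∈ 𝒩, X ∈ SC F ∧ IsIrrCharacter (N F) (fun n : N F => (X : GL (Fin 2) F → ℂ) n) := by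
    intro X hX
    rw [hmem𝒩] at hX
    exact ⟨hX.1, res_irr_of_not_split hε1 hε3 X.2 hX.2⟩
  obtain ⟨Θ, hmemΘ, hcardΘ⟩ := exists_finset_hom z hz1 hz2
  have hΘ : Θ.card ≤ Fintype.card Fˣ := by
    rw [hT.card] at hcardΘ
    omega
  -- every character matches at least two homomorphisms
  have hlower : ∀ X ∈ 𝒩, ∃ θ₁ ∈ Θ, ∃ θ₂ ∈ Θ, θ₁ ≠ θ₂ ∧
      TorusMatch T z (X : GL (Fin 2) F → ℂ) θ₁ ∧ TorusMatch T z (X : GL (Fin 2) F → ℂ) θ₂ := by
    intro X hX
    obtain ⟨hSC, hirr⟩ := hN X hX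
    have hχ : IsIrrCharacter SL2 (fun s : SL2 => (X : GL (Fin 2) F → ℂ)
        (Matrix.SpecialLinearGroup.toGL s)) := by
      have h1 := isIrrCharacter_comp_equiv (ι (F := F)) hirr
      have h2 : (fun s : SL2 => (X : GL (Fin 2) F → ℂ) ((ι s : N F) : GL (Fin 2) F)) =
          fun s : SL2 => (X : GL (Fin 2) F → ℂ) (Matrix.SpecialLinearGroup.toGL s) := by
        funext s
        rw [ι_coe]
      rw [← h2]
      exact h1
    obtain ⟨θ₁, hθ₁, hc₁, hv₁⟩ := cusp_torus hodd X.2 (by rw [Subtype.coe_eta]; exact hSC) hχ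
      (fun s => rfl) hT
    have hm₁ : TorusMatch T z (X : GL (Fin 2) F → ℂ) θ₁ := ⟨hc₁, hv₁⟩
    have hm₂ : TorusMatch T z (X : GL (Fin 2) F → ℂ) θ₁⁻¹ := by
      constructor
      · intro g
        rw [hc₁ g]
        congr 1
        rw [MonoidHom.inv_apply]
        have : (θ₁ z)⁻¹ = θ₁ z := by
          apply inv_eq_of_mul_eq_one_left
          rw [← map_mul, hz2, map_one]
        rw [this]
      · intro c hE
        rw [hv₁ c hE, MonoidHom.inv_apply, inv_inv]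
        ring
    have hne : θ₁ ≠ θ₁⁻¹ := by
      intro h
      obtain ⟨c, hc⟩ := hθ₁
      apply hc
      have := DFunLike.congr_fun h c
      rw [MonoidHom.inv_apply] at this
      rw [pow_two]
      nth_rewrite 2 [this]
      exact mul_inv_cancel _
    have hθ₂ : ∃ c : T, (θ₁⁻¹) c ^ 2 ≠ 1 := by
      obtain ⟨c, hc⟩ := hθ₁
      refine ⟨c, ?_⟩
      rw [MonoidHom.inv_apply, inv_pow]
      intro h
      exact hc (inv_eq_one.mp h)
    exact ⟨θ₁, (hmemΘ θ₁).mpr hθ₁, θ₁⁻¹, (hmemΘ _).mpr hθ₂, hne, hm₁, hm₂⟩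
  -- every homomorphism is matched by at most `q - 1` characters
  have hupper : ∀ θ' ∈ Θ, ∀ u : Finset Irr2, u ⊆ 𝒩 →
      (∀ X ∈ u, TorusMatch T z (X : GL (Fin 2) F → ℂ) θ') → u.card ≤ Fintype.card Fˣ := by
    intro θ' _ u hu𝒩 hu
    by_cases hemp : u = ∅
    · rw [hemp]
      simp
    · obtain ⟨X₀, hX₀⟩ := Finset.nonempty_iff_ne_empty.mpr hemp
      obtain ⟨hSC₀, hirr₀⟩ := hN X₀ (hu𝒩 hX₀)
      apply card_le_of_cons hε ⟨fun n : N F => (X₀ : GL (Fin 2) F → ℂ) n, hirr₀⟩ u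
      intro X hX
      obtain ⟨hSC, hirr⟩ := hN X (hu𝒩 hX)
      unfold cons
      rw [Finset.mem_filter]
      refine ⟨Finset.mem_univ _, ?_⟩
      have heq : res (X : GL (Fin 2) F → ℂ) = fun n : N F => (X₀ : GL (Fin 2) F → ℂ) n := by
        funext n
        exact match_unique hT z X X₀ hSC hSC₀ θ' (hu X hX) (hu X₀ hX₀) n (MonoidHom.mem_ker.mp n.2)
      rw [heq]
      simp only
      rw [irr_orthonormal hirr₀ hirr₀, if_pos rfl]
      exact one_ne_zero
  obtain ⟨X, hX, hm⟩ := double_count 𝒩 Θ (fun X θ' => TorusMatch T z (X : GL (Fin 2) F → ℂ) θ')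
    (Fintype.card Fˣ) (by omega) hcard𝒩 hΘ hlower hupper θ ((hmemΘ θ).mpr hθ)
  obtain ⟨h1, h2⟩ := hN X hX
  exact ⟨X, h1, h2, hm⟩

end Cfsg.Agent.Helper38
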