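import Mathlib
import Cfsg.Agent.Lib.Helper38.GL2Even
import Cfsg.Agent.Lib.Helper38.SL2Deg

set_option autoImplicit false
set_option linter.unusedSectionVars false

/-! Irreducible characters of `SL₂(F)`, `q ≥ 7` odd, of degrees `q + 1` and `q - 1` which are
trivial on the centre. -/

namespace Cfsg.Agent.Helper38

open Matrix Cfsg
open Cfsg.Agent.Helper81 Cfsg.Agent.Helper79
open Cfsg.Agent.Helper3 (fintypeIrr)

variable {F : Type*} [Field F] [Fintype F] [DecidableEq F] [Fintype (N F)]

local notation "SL2" => Matrix.SpecialLinearGroup (Fin 2) F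
local notation "Irr2" => IrrCharacter (GL (Fin 2) F)

variable {ε : MulChar F ℂ}

/-- an even character of `GL₂` not fixed by the quadratic twist gives an irreducible character of
`SL₂` trivial on the centre -/
theorem even_restrict (hε : QuadData ε) (X : Irr2) (heven : EvenChar X) (hs : ¬ Split ε X) :
    ∃ χ : IrrCharacter SL2, Subgroup.center SL2 ≤ irrKer χ ∧
      (χ : SL2 → ℂ) 1 = (X : GL (Fin 2) F → ℂ) 1 := by
  have h1 : IsIrrCharacter (N F) (fun n : N F => (X : GL (Fin 2) F → ℂ) n) :=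
    res_irr_of_not_split hε.ne_one hε.uniq X.2 hs
  have h2 : IsIrrCharacter SL2 (fun s => (X : GL (Fin 2) F → ℂ) (Matrix.SpecialLinearGroup.toGL s)) :=
    isIrrCharacter_comp_equiv ι h1
  refine ⟨⟨_, h2⟩, ?_, ?_⟩
  · intro z hz
    rw [mem_irrKer]
    simp only [map_one]
    obtain ⟨a, ha, hza⟩ := center_SL2_toGL z hz
    rw [hza]
    have h3 : ((a : F) - 1) * ((a : F) + 1) = 0 := by
      have := congrArg Units.val ha
      simp only [Units.val_mul, Units.val_one] at this
      linear_combination this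
    rcases mul_eq_zero.mp h3 with h | h
    · have : a = 1 := Units.ext (by simpa using sub_eq_zero.mp h)
      rw [this, sc_one]
    · have : a = -1 := Units.ext (by simpa using eq_neg_of_add_eq_zero_left h)
      rw [this]
      exact heven
  · simp only [map_one]

/-- even characters of degrees `q + 1` and `q - 1` of `SL₂(q)`, `q ≥ 7` odd -/
theorem exists_even_SL2 (hodd : Odd (Fintype.card F)) (h7 : 7 ≤ Fintype.card F) :
    (∃ χ : IrrCharacter SL2, Subgroup.center SL2 ≤ irrKer χ ∧
      (χ : SL2 → ℂ) 1 = ((Fintype.card F + 1 : ℕ) : ℂ)) ∧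
    (∃ χ : IrrCharacter SL2, Subgroup.center SL2 ≤ irrKer χ ∧
      (χ : SL2 → ℂ) 1 = ((Fintype.card F - 1 : ℕ) : ℂ)) := by
  classical
  obtain ⟨ε, hε1, hε2, hε3⟩ := exists_quadratic hodd
  have hε : QuadData ε := ⟨hε1, hε2, hε3⟩
  have hF := card_F_eq (F := F)
  obtain ⟨⟨X, hX, he, hs⟩, ⟨Y, hY, he', hs'⟩⟩ := exists_even_nonsplit hodd hε (by omega)
  constructor
  · obtain ⟨χ, h1, h2⟩ := even_restrict hε X he hs
    refine ⟨χ, h1, ?_⟩
    rw [h2, deg_spec, deg_SP X hX, hF]
  · obtain ⟨χ, h1, h2⟩ := even_restrict hε Y he' hs'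
    refine ⟨χ, h1, ?_⟩
    rw [h2, deg_spec, deg_SC Y hY, hF]
    simp

end Cfsg.Agent.Helper38
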