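import Mathlib
import Cfsg.Agent.Lib.Helper14.SPIDefs

/-!
# SPI server (helper14, S5961): piece (JOIN) `join_fam`
-/

set_option autoImplicit false

namespace Cfsg.Agent.Helper38.SPI

open Module Polynomial Cfsg.Agent.Helper14.SPI

/-- (JOIN) two orthogonal families on orthogonal complementary subspaces. -/
theorem join_fam {F V : Type*} [Field F] [AddCommGroup V] [Module F V] {K K' : Type*}
    (B : LinearMap.BilinForm F V) (hB : B.IsAlt) (U R T : Submodule F V)
    (hUR : U ⊓ R = ⊥) (hsup : U ⊔ R = T) (horth : ∀ u ∈ U, ∀ w ∈ R, B u w = 0)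
    (E : K → Submodule F V) (W : K' → Submodule F V)
    (hE : IsOrthFam B U E) (hW : IsOrthFam B R W) :
    IsOrthFam B T (Sum.elim E W) := by
  have hEU : ∀ k, E k ≤ U := fun k => hE.sup ▸ le_iSup E k
  have hWR : ∀ k, W k ≤ R := fun k => hW.sup ▸ le_iSup W k
  have hdUR : Disjoint U R := disjoint_iff.2 hUR
  refine ⟨?_, ?_, ?_, ?_⟩
  · rw [iSupIndep_def]
    rintro (k | k)
    · have h1 : (⨆ (j : K ⊕ K') (_ : j ≠ Sum.inl k), Sum.elim E W j) ≤
          (⨆ (a : K) (_ : a ≠ k), E a) ⊔ R := by
        refine iSup₂_le ?_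
        rintro (a | b) hj
        · have hak : a ≠ k := fun h => hj (by rw [h])
          exact le_sup_of_le_left (le_iSup₂_of_le a hak le_rfl)
        · exact le_sup_of_le_right (hWR b)
      refine Disjoint.mono_right h1 ?_
      refine Disjoint.disjoint_sup_right_of_disjoint_sup_left (hE.indep k) ?_
      refine Disjoint.mono_left ?_ hdUR
      exact sup_le (hEU k) (iSup₂_le fun a _ => hEU a)
    · have h1 : (⨆ (j : K ⊕ K') (_ : j ≠ Sum.inr k), Sum.elim E W j) ≤
          (⨆ (b : K') (_ : b ≠ k), W b) ⊔ U := by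
        refine iSup₂_le ?_
        rintro (a | b) hj
        · exact le_sup_of_le_right (hEU a)
        · have hbk : b ≠ k := fun h => hj (by rw [h])
          exact le_sup_of_le_left (le_iSup₂_of_le b hbk le_rfl)
      refine Disjoint.mono_right h1 ?_
      refine Disjoint.disjoint_sup_right_of_disjoint_sup_left (hW.indep k) ?_
      refine Disjoint.mono_left ?_ hdUR.symm
      exact sup_le (hWR k) (iSup₂_le fun b _ => hWR b)
  · rw [iSup_sum]
    show (⨆ i, E i) ⊔ (⨆ j, W j) = T
    rw [hE.sup, hW.sup, hsup]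
  · rintro (k | k)
    · exact hE.nondeg k
    · exact hW.nondeg k
  · rintro (k | k) (k' | k') hkk' u hu v hv
    · exact hE.orth k k' (fun h => hkk' (by rw [h])) u hu v hv
    · exact horth u (hEU k hu) v (hWR k' hv)
    · have h1 := horth v (hEU k' hv) u (hWR k hu)
      rw [← hB.neg_eq, h1, neg_zero]
    · exact hW.orth k k' (fun h => hkk' (by rw [h])) u hu v hv

end Cfsg.Agent.Helper38.SPI
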