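import Mathlib

set_option autoImplicit false
set_option linter.unusedSectionVars false

/-!
# The Weil representation of `SL₂(E)` in characteristic 2: the generating matrices

`E` is a finite field of odd order, `K` a field of characteristic 2 and `χ` a nontrivial additive
character of `E` with values in `K`.  On the functions `E → K` we consider the operators
`X(t) = ` multiplication by `χ(t z²)`, the Fourier transform `F` with kernel `χ(2 z w)` and the
dilations `D(t)`.  In characteristic 2 all quadratic Gauss sums are equal to `1`.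
-/

namespace Cfsg.Agent.Helper38.WeilTwo

open Matrix Finset

variable {E K : Type*} [Field E] [Fintype E] [DecidableEq E] [Field K] [CharP K 2]
variable (χ : AddChar E K)

/-- multiplication by the quadratic character `χ(t z²)` -/
def Xm (t : E) : Matrix E E K := Matrix.diagonal fun z => χ (t * z ^ 2)

/-- the Fourier transform -/
def Fm : Matrix E E K := Matrix.of fun z w => χ (2 * z * w)

/-- the dilation `f ↦ f(t ·)` -/
def Dm (K : Type*) [Field K] (t : E) : Matrix E E K := Matrix.of fun z w => if w = t * z then 1 else 0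

/-- the Gauss kernel -/
def Gm (s : E) : Matrix E E K := Matrix.of fun z v => χ (-((z - v) ^ 2 / s))

theorem Xm_add (t u : E) : Xm χ t * Xm χ u = Xm χ (t + u) := by
  unfold Xm
  rw [Matrix.diagonal_mul_diagonal]
  congr 1
  funext z
  rw [add_mul, AddChar.map_add_eq_mul]

theorem Xm_zero : Xm χ 0 = 1 := by
  unfold Xm
  simp

theorem Dm_mul (s t : E) : Dm K s * Dm K t = Dm K (t * s) := by
  ext z v
  rw [Matrix.mul_apply]
  simp only [Dm, Matrix.of_apply]
  rw [Finset.sum_eq_single (s * z)]
  · simp [mul_assoc]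
  · intro w _ hw
    rw [if_neg hw, zero_mul]
  · intro h
    exact absurd (Finset.mem_univ _) h

theorem Dm_one : Dm K (1 : E) = 1 := by
  ext z v
  simp only [Dm, Matrix.of_apply, one_mul, Matrix.one_apply]
  by_cases h : z = v
  · simp [h]
  · rw [if_neg h, if_neg (fun h' => h h'.symm)]

theorem Dm_Xm (t u : E) : Dm K t * Xm χ u = Xm χ (u * t ^ 2) * Dm K t := by
  ext z v
  unfold Xm
  rw [Matrix.mul_diagonal, Matrix.diagonal_mul]
  simp only [Dm, Matrix.of_apply]
  by_cases h : v = t * z
  · rw [if_pos h, h, one_mul, mul_one]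
    congr 1
    ring
  · rw [if_neg h, zero_mul, mul_zero]

variable {χ}

theorem sum_char_mul (hχ : χ ≠ 1) {c : E} (hc : c ≠ 0) : ∑ w : E, χ (c * w) = 0 := by
  have hprim := AddChar.IsPrimitive.of_ne_one hχ
  have := AddChar.sum_eq_zero_of_ne_one (hprim hc)
  simpa [AddChar.mulShift_apply] using this

theorem card_cast (h2 : (2 : E) ≠ 0) : ((Fintype.card E : ℕ) : K) = 1 := by
  have hodd : Fintype.card E % 2 = 1 := by
    apply FiniteField.odd_card_of_char_ne_two
    intro h
    apply h2
    have : CharP E 2 := by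
      rw [← h]
      exact ringChar.charP E
    exact CharTwo.two_eq_zero
  have : Fintype.card E = 2 * (Fintype.card E / 2) + 1 := by omega
  rw [this]
  push_cast
  rw [CharTwo.two_eq_zero, zero_mul, zero_add]

/-- a sum of an even function over `E` is its value at `0` (characteristic 2) -/
theorem sum_even (h2 : (2 : E) ≠ 0) (g : E → K) (hg : ∀ b, g (-b) = g b) : ∑ b : E, g b = g 0 := by
  rw [← Finset.add_sum_erase Finset.univ g (Finset.mem_univ 0)]
  have : ∑ b ∈ Finset.univ.erase (0 : E), g b = 0 := by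
    apply Finset.sum_involution (fun b _ => -b)
    · intro b _
      rw [hg]
      exact CharTwo.add_self_eq_zero _
    · intro b hb _ h
      have hb0 : b ≠ 0 := Finset.ne_of_mem_erase hb
      have : (2 : E) * b = 0 := by linear_combination -h
      rcases mul_eq_zero.mp this with h1 | h1
      · exact h2 h1
      · exact hb0 h1
    · intro b _
      exact neg_neg b
    · intro b hb
      have hb0 : b ≠ 0 := Finset.ne_of_mem_erase hb
      exact Finset.mem_erase.mpr ⟨neg_ne_zero.mpr hb0, Finset.mem_univ _⟩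
  rw [this, add_zero]

/-- the quadratic Gauss sums in characteristic 2 -/
theorem gauss (h2 : (2 : E) ≠ 0) {s : E} (hs : s ≠ 0) (m : E) :
    ∑ b : E, χ (s * b ^ 2 + 2 * b * m) = χ (-(m ^ 2 / s)) := by
  have h1 : ∀ b : E, s * b ^ 2 + 2 * b * m = s * (b + m / s) ^ 2 + -(m ^ 2 / s) := by
    intro b
    field_simp
    ring
  simp_rw [h1, AddChar.map_add_eq_mul]
  rw [← Finset.sum_mul]
  have h3 : ∑ b : E, χ (s * (b + m / s) ^ 2) = ∑ b : E, χ (s * b ^ 2) :=
    Fintype.sum_equiv (Equiv.addRight (m / s)) _ _ (fun b => rfl)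
  rw [h3, sum_even h2 (fun b => χ (s * b ^ 2)) (fun b => by ring_nf)]
  simp

variable (χ)

theorem Fm_sq (hχ : χ ≠ 1) (h2 : (2 : E) ≠ 0) : Fm χ * Fm χ = Dm K (-1 : E) := by
  ext z v
  rw [Matrix.mul_apply]
  simp only [Fm, Dm, Matrix.of_apply]
  have h1 : ∀ w : E, χ (2 * z * w) * χ (2 * w * v) = χ ((2 * (z + v)) * w) := by
    intro w
    rw [← AddChar.map_add_eq_mul]
    congr 1
    ring
  simp_rw [h1]
  by_cases h : v = -1 * z
  · rw [if_pos h]
    have : 2 * (z + v) = 0 := by rw [h]; ring
    simp only [this, zero_mul, AddChar.map_zero_eq_one, Finset.sum_const, Finset.card_univ,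
      nsmul_eq_mul, mul_one]
    exact card_cast h2
  · rw [if_neg h]
    apply sum_char_mul hχ
    intro h0
    apply h
    rcases mul_eq_zero.mp h0 with h3 | h3
    · exact absurd h3 h2
    · linear_combination h3

theorem Fm_Dm {t : E} (ht : t ≠ 0) : Fm χ * Dm K t = Dm K t⁻¹ * Fm χ := by
  ext z v
  rw [Matrix.mul_apply, Matrix.mul_apply]
  simp only [Fm, Dm, Matrix.of_apply]
  rw [Finset.sum_eq_single (t⁻¹ * v), Finset.sum_eq_single (t⁻¹ * z)]
  · rw [if_pos (by field_simp), if_pos rfl, mul_one, one_mul]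
    congr 1
    ring
  · intro w _ hw
    rw [if_neg hw, zero_mul]
  · intro h
    exact absurd (Finset.mem_univ _) h
  · intro w _ hw
    rw [if_neg, mul_zero]
    intro h
    apply hw
    rw [h]
    field_simp
  · intro h
    exact absurd (Finset.mem_univ _) h

/-- the conjugate of `X(s)` by the Fourier transform is a Gauss kernel -/
theorem Fm_Xm_Fm (h2 : (2 : E) ≠ 0) {s : E} (hs : s ≠ 0) :
    Fm χ * Xm χ s * (Dm K (-1 : E) * Fm χ) = Gm χ s := by
  ext z v
  rw [Matrix.mul_apply]
  unfold Xm
  simp only [Matrix.mul_diagonal]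
  have h1 : ∀ w : E, (Dm K (-1 : E) * Fm χ) w v = χ (2 * (-w) * v) := by
    intro w
    rw [Matrix.mul_apply]
    simp only [Fm, Dm, Matrix.of_apply]
    rw [Finset.sum_eq_single (-1 * w)]
    · rw [if_pos rfl, one_mul]
      congr 1
      ring
    · intro u _ hu
      rw [if_neg hu, zero_mul]
    · intro h
      exact absurd (Finset.mem_univ _) h
  simp_rw [h1]
  simp only [Fm, Gm, Matrix.of_apply]
  have h3 : ∀ w : E, χ (2 * z * w) * χ (s * w ^ 2) * χ (2 * (-w) * v) =
      χ (s * w ^ 2 + 2 * w * (z - v)) := by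
    intro w
    rw [← AddChar.map_add_eq_mul, ← AddChar.map_add_eq_mul]
    congr 1
    ring
  simp_rw [h3]
  exact gauss h2 hs (z - v)

theorem Xm_Gm_Xm {t : E} (ht : t ≠ 0) : Xm χ t * Gm χ t⁻¹ * Xm χ t = Dm K t * Fm χ := by
  ext z v
  unfold Xm
  rw [Matrix.mul_diagonal, Matrix.diagonal_mul, Matrix.mul_apply]
  simp only [Fm, Gm, Dm, Matrix.of_apply]
  rw [Finset.sum_eq_single (t * z)]
  · rw [if_pos rfl, one_mul, ← AddChar.map_add_eq_mul, ← AddChar.map_add_eq_mul]
    congr 1
    field_simp
    ring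
  · intro w _ hw
    rw [if_neg hw, zero_mul]
  · intro h
    exact absurd (Finset.mem_univ _) h

end Cfsg.Agent.Helper38.WeilTwo
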