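import Mathlib
import Cfsg.Agent.Lib.Helper38.WeilTwoMat
import Cfsg.Agent.Lib.Helper38.SL2Lift

set_option autoImplicit false
set_option linter.unusedSectionVars false

/-!
# The Weil representation of `SL₂(E)` in characteristic 2
-/

namespace Cfsg.Agent.Helper38.WeilTwo

open Matrix Finset Cfsg.Agent.Helper38.SL2Pres

variable {E K : Type*} [Field E] [Fintype E] [DecidableEq E] [Field K] [CharP K 2]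
variable (χ : AddChar E K) (hχ : χ ≠ 1) (h2 : (2 : E) ≠ 0)

/-- `X(t)` as a unit -/
def Xu (t : E) : (Matrix E E K)ˣ :=
  ⟨Xm χ t, Xm χ (-t), by rw [Xm_add, add_neg_cancel, Xm_zero],
    by rw [Xm_add, neg_add_cancel, Xm_zero]⟩

/-- the dilation as a unit -/
def Du (K : Type*) [Field K] [CharP K 2] {t : E} (ht : t ≠ 0) : (Matrix E E K)ˣ :=
  ⟨Dm K t, Dm K t⁻¹, by rw [Dm_mul, inv_mul_cancel₀ ht, Dm_one],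
    by rw [Dm_mul, mul_inv_cancel₀ ht, Dm_one]⟩

include hχ h2 in
theorem Fm_mul_inv : Fm χ * (Dm K (-1 : E) * Fm χ) = 1 := by
  have hne : (-1 : E) ≠ 0 := neg_ne_zero.mpr one_ne_zero
  rw [← Matrix.mul_assoc, Fm_Dm χ hne, inv_neg, inv_one, Matrix.mul_assoc, Fm_sq χ hχ h2, Dm_mul]
  have : (-1 : E) * -1 = 1 := by ring
  rw [this, Dm_one]

include hχ h2 in
theorem Fm_inv_mul : Dm K (-1 : E) * Fm χ * Fm χ = 1 := by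
  rw [Matrix.mul_assoc, Fm_sq χ hχ h2, Dm_mul]
  have : (-1 : E) * -1 = 1 := by ring
  rw [this, Dm_one]

/-- the Fourier transform as a unit -/
def Fu : (Matrix E E K)ˣ :=
  ⟨Fm χ, Dm K (-1 : E) * Fm χ, Fm_mul_inv χ hχ h2, Fm_inv_mul χ hχ h2⟩

/-- `Y(t) = F X(-t) F⁻¹` -/
def Yu (t : E) : (Matrix E E K)ˣ := Fu χ hχ h2 * Xu χ (-t) * (Fu χ hχ h2)⁻¹

theorem Xu_add (t u : E) : Xu χ t * Xu χ u = Xu χ (t + u) := Units.ext (Xm_add χ t u)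

theorem Xu_zero : Xu χ (0 : E) = 1 := Units.ext (Xm_zero χ)

theorem Yu_add (t u : E) : Yu χ hχ h2 t * Yu χ hχ h2 u = Yu χ hχ h2 (t + u) := by
  unfold Yu
  have : Fu χ hχ h2 * Xu χ (-t) * (Fu χ hχ h2)⁻¹ * (Fu χ hχ h2 * Xu χ (-u) * (Fu χ hχ h2)⁻¹) =
      Fu χ hχ h2 * (Xu χ (-t) * Xu χ (-u)) * (Fu χ hχ h2)⁻¹ := by group
  rw [this, Xu_add, neg_add]

/-- `w(t) = D(t) F` -/
theorem W_eq {t : E} (ht : t ≠ 0) :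
    Xu χ t * Yu χ hχ h2 (-t⁻¹) * Xu χ t = Du K ht * Fu χ hχ h2 := by
  apply Units.ext
  change Xm χ t * (Fm χ * Xm χ (- -t⁻¹) * (Dm K (-1 : E) * Fm χ)) * Xm χ t = Dm K t * Fm χ
  rw [neg_neg, Fm_Xm_Fm χ h2 (inv_ne_zero ht), Xm_Gm_Xm χ ht]

theorem Fu_Du {t : E} (ht : t ≠ 0) :
    Fu χ hχ h2 * Du K (inv_ne_zero ht) = Du K ht * Fu χ hχ h2 := by
  apply Units.ext
  change Fm χ * Dm K t⁻¹ = Dm K t * Fm χ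
  rw [Fm_Dm χ (inv_ne_zero ht), inv_inv]

theorem Du_Xu {t : E} (ht : t ≠ 0) (u : E) :
    Du K ht * Xu χ u = Xu χ (u * t ^ 2) * Du K ht := by
  apply Units.ext
  exact Dm_Xm χ t u

theorem conjX {t : E} (ht : t ≠ 0) (u : E) :
    (Xu χ t * Yu χ hχ h2 (-t⁻¹) * Xu χ t) * Xu χ u * (Xu χ t * Yu χ hχ h2 (-t⁻¹) * Xu χ t)⁻¹ =
      Yu χ hχ h2 (-(t⁻¹ ^ 2 * u)) := by
  rw [W_eq χ hχ h2 ht, ← Fu_Du χ hχ h2 ht]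
  unfold Yu
  rw [neg_neg]
  have h1 : Fu χ hχ h2 * Du K (inv_ne_zero ht) * Xu χ u * (Fu χ hχ h2 * Du K (inv_ne_zero ht))⁻¹ =
      Fu χ hχ h2 * (Du K (inv_ne_zero ht) * Xu χ u) * (Du K (inv_ne_zero ht))⁻¹ *
        (Fu χ hχ h2)⁻¹ := by group
  rw [h1, Du_Xu χ (inv_ne_zero ht) u]
  have h3 : Fu χ hχ h2 * (Xu χ (u * t⁻¹ ^ 2) * Du K (inv_ne_zero ht)) * (Du K (inv_ne_zero ht))⁻¹ *
      (Fu χ hχ h2)⁻¹ = Fu χ hχ h2 * Xu χ (u * t⁻¹ ^ 2) * (Fu χ hχ h2)⁻¹ := by group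
  rw [h3, mul_comm u]

/-- the central element `F²` commutes with `X(u)` -/
theorem Fu_sq_comm (u : E) :
    Fu χ hχ h2 * Fu χ hχ h2 * Xu χ u = Xu χ u * (Fu χ hχ h2 * Fu χ hχ h2) := by
  apply Units.ext
  change Fm χ * Fm χ * Xm χ u = Xm χ u * (Fm χ * Fm χ)
  rw [Fm_sq χ hχ h2, Dm_Xm]
  have : u * (-1 : E) ^ 2 = u := by ring
  rw [this]

theorem Yu_alt (s : E) :
    (Fu χ hχ h2)⁻¹ * Xu χ s * Fu χ hχ h2 = Fu χ hχ h2 * Xu χ s * (Fu χ hχ h2)⁻¹ := by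
  have h1 : Fu χ hχ h2 * Xu χ s * (Fu χ hχ h2)⁻¹ =
      (Fu χ hχ h2)⁻¹ * (Fu χ hχ h2 * Fu χ hχ h2 * Xu χ s) * (Fu χ hχ h2)⁻¹ := by group
  rw [h1, Fu_sq_comm]
  group

theorem conjY {t : E} (ht : t ≠ 0) (u : E) :
    (Yu χ hχ h2 t * Xu χ (-t⁻¹) * Yu χ hχ h2 t) * Yu χ hχ h2 u *
      (Yu χ hχ h2 t * Xu χ (-t⁻¹) * Yu χ hχ h2 t)⁻¹ = Xu χ (-(t⁻¹ ^ 2 * u)) := by
  have hnt : -t ≠ 0 := neg_ne_zero.mpr ht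
  -- `w'(t) = F w(-t) F⁻¹`
  have hW : Yu χ hχ h2 t * Xu χ (-t⁻¹) * Yu χ hχ h2 t =
      Fu χ hχ h2 * (Xu χ (-t) * Yu χ hχ h2 (-(-t)⁻¹) * Xu χ (-t)) * (Fu χ hχ h2)⁻¹ := by
    have e1 : Yu χ hχ h2 (-(-t)⁻¹) = (Fu χ hχ h2)⁻¹ * Xu χ (-t⁻¹) * Fu χ hχ h2 := by
      rw [Yu_alt]
      unfold Yu
      rw [inv_neg, neg_neg]
    rw [e1]
    unfold Yu
    group
  have hY : Yu χ hχ h2 u = Fu χ hχ h2 * Xu χ (-u) * (Fu χ hχ h2)⁻¹ := rfl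
  rw [hW, hY]
  have e2 : Fu χ hχ h2 * (Xu χ (-t) * Yu χ hχ h2 (-(-t)⁻¹) * Xu χ (-t)) * (Fu χ hχ h2)⁻¹ *
      (Fu χ hχ h2 * Xu χ (-u) * (Fu χ hχ h2)⁻¹) *
      (Fu χ hχ h2 * (Xu χ (-t) * Yu χ hχ h2 (-(-t)⁻¹) * Xu χ (-t)) * (Fu χ hχ h2)⁻¹)⁻¹ =
      Fu χ hχ h2 * ((Xu χ (-t) * Yu χ hχ h2 (-(-t)⁻¹) * Xu χ (-t)) * Xu χ (-u) *
        (Xu χ (-t) * Yu χ hχ h2 (-(-t)⁻¹) * Xu χ (-t))⁻¹) * (Fu χ hχ h2)⁻¹ := by group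
  rw [e2, conjX χ hχ h2 hnt (-u)]
  unfold Yu
  have e3 : Fu χ hχ h2 * (Fu χ hχ h2 * Xu χ (- -((-t)⁻¹ ^ 2 * -u)) * (Fu χ hχ h2)⁻¹) *
      (Fu χ hχ h2)⁻¹ = (Fu χ hχ h2 * Fu χ hχ h2 * Xu χ (- -((-t)⁻¹ ^ 2 * -u))) *
        (Fu χ hχ h2)⁻¹ * (Fu χ hχ h2)⁻¹ := by group
  rw [e3, Fu_sq_comm]
  have e4 : Xu χ (- -((-t)⁻¹ ^ 2 * -u)) * (Fu χ hχ h2 * Fu χ hχ h2) * (Fu χ hχ h2)⁻¹ *
      (Fu χ hχ h2)⁻¹ = Xu χ (- -((-t)⁻¹ ^ 2 * -u)) := by group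
  rw [e4]
  congr 1
  rw [inv_neg]
  ring

theorem rel : Rel (Xu (K := K) χ) (Yu χ hχ h2) :=
  ⟨Xu_add χ, Yu_add χ hχ h2, fun _ u ht => conjX χ hχ h2 ht u, fun _ u ht => conjY χ hχ h2 ht u⟩

end Cfsg.Agent.Helper38.WeilTwo
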