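import Mathlib
import Cfsg.Agent.Lib.Helper38.WeilTwoRep

set_option autoImplicit false
set_option linter.unusedSectionVars false

/-!
# The Weil representation in characteristic 2: the action on functions and its odd part
-/

namespace Cfsg.Agent.Helper38.WeilTwo

open Matrix Finset Cfsg.Agent.Helper38.SL2Pres

/-- restriction of a representation to an invariant subspace -/
def restrictHom {G K S : Type*} [Group G] [Field K] [AddCommGroup S] [Module K S]
    (Ψ : G →* (S ≃ₗ[K] S)) (V : Submodule K S) (hinv : ∀ g, ∀ f ∈ V, Ψ g f ∈ V) :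
    G →* (V ≃ₗ[K] V) where
  toFun g := LinearEquiv.ofLinearMap ((Ψ g).toLinearMap.restrict (hinv g))
    ((Ψ g⁻¹).toLinearMap.restrict (hinv g⁻¹))
    (by
      apply LinearMap.ext
      rintro ⟨f, hf⟩
      apply Subtype.ext
      change Ψ g (Ψ g⁻¹ f) = f
      rw [← LinearEquiv.mul_apply, ← map_mul, mul_inv_cancel, map_one]
      rfl)
    (by
      apply LinearMap.ext
      rintro ⟨f, hf⟩
      apply Subtype.ext
      change Ψ g⁻¹ (Ψ g f) = f
      rw [← LinearEquiv.mul_apply, ← map_mul, inv_mul_cancel, map_one]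
      rfl)
  map_one' := by
    apply LinearEquiv.ext
    rintro ⟨f, hf⟩
    apply Subtype.ext
    change Ψ 1 f = f
    rw [map_one]
    rfl
  map_mul' g h := by
    apply LinearEquiv.ext
    rintro ⟨f, hf⟩
    apply Subtype.ext
    change Ψ (g * h) f = Ψ g (Ψ h f)
    rw [map_mul]
    rfl

theorem restrictHom_apply {G K S : Type*} [Group G] [Field K] [AddCommGroup S] [Module K S]
    (Ψ : G →* (S ≃ₗ[K] S)) (V : Submodule K S) (hinv : ∀ g, ∀ f ∈ V, Ψ g f ∈ V) (g : G) (f : V) :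
    ((restrictHom Ψ V hinv g f : V) : S) = Ψ g (f : S) := rfl

variable {E K : Type*} [Field E] [Fintype E] [DecidableEq E] [Field K] [CharP K 2]
variable (χ : AddChar E K) (hχ : χ ≠ 1) (h2 : (2 : E) ≠ 0)

/-- matrices acting on functions -/
def toFn (K : Type*) [Field K] (E : Type*) [Fintype E] [DecidableEq E] :
    (Matrix E E K)ˣ →* ((E → K) ≃ₗ[K] (E → K)) :=
  (LinearMap.GeneralLinearGroup.generalLinearEquiv K (E → K)).toMonoidHom.comp
    Matrix.GeneralLinearGroup.toLin.toMonoidHom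

omit [Field E] [CharP K 2] in
theorem toFn_apply (M : (Matrix E E K)ˣ) (f : E → K) :
    toFn K E M f = (M : Matrix E E K).mulVec f := rfl

/-- the Weil representation on matrices -/
noncomputable def Phi : Matrix.SpecialLinearGroup (Fin 2) E →* (Matrix E E K)ˣ :=
  Classical.choose (exists_hom_of_rel (rel χ hχ h2))

theorem Phi_xmat (t : E) : Phi χ hχ h2 (xmat t) = Xu χ t :=
  (Classical.choose_spec (exists_hom_of_rel (rel χ hχ h2))).1 t

theorem Phi_ymat (t : E) : Phi χ hχ h2 (ymat t) = Yu χ hχ h2 t :=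
  (Classical.choose_spec (exists_hom_of_rel (rel χ hχ h2))).2 t

/-- the Weil representation on functions -/
noncomputable def Psi : Matrix.SpecialLinearGroup (Fin 2) E →* ((E → K) ≃ₗ[K] (E → K)) :=
  (toFn K E).comp (Phi χ hχ h2)

theorem Psi_xmat (t : E) (f : E → K) (z : E) :
    Psi χ hχ h2 (xmat t) f z = χ (t * z ^ 2) * f z := by
  change toFn K E (Phi χ hχ h2 (xmat t)) f z = _
  rw [Phi_xmat, toFn_apply]
  change (Xm χ t).mulVec f z = _
  unfold Xm
  rw [Matrix.mulVec_diagonal]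

/-- the diagonal element -/
def hd {t : E} (ht : t ≠ 0) : Matrix.SpecialLinearGroup (Fin 2) E :=
  ⟨!![t, 0; 0, t⁻¹], by rw [Matrix.det_fin_two_of, mul_inv_cancel₀ ht]; ring⟩

omit [Fintype E] [DecidableEq E] in
theorem hd_eq {t : E} (ht : t ≠ 0) :
    hd ht = (xmat t * ymat (-t⁻¹) * xmat t) * (xmat 1 * ymat (-(1 : E)⁻¹) * xmat 1)⁻¹ := by
  rw [eq_mul_inv_iff_mul_eq]
  apply sl_ext
  rw [Matrix.SpecialLinearGroup.coe_mul, wmat_coe ht, wmat_coe one_ne_zero]
  change !![t, 0; 0, t⁻¹] * !![0, 1; -(1 : E)⁻¹, 0] = _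
  rw [Matrix.mul_fin_two]
  apply mat2_ext <;> simp

theorem Du_one : Du K (one_ne_zero : (1 : E) ≠ 0) = 1 := Units.ext Dm_one

theorem Phi_hd {t : E} (ht : t ≠ 0) : Phi χ hχ h2 (hd ht) = Du K ht := by
  rw [hd_eq ht, map_mul, map_inv, map_mul, map_mul, map_mul, map_mul, Phi_xmat, Phi_ymat,
    Phi_xmat, Phi_ymat, W_eq χ hχ h2 ht, W_eq χ hχ h2 one_ne_zero, Du_one, one_mul]
  group

theorem Psi_hd {t : E} (ht : t ≠ 0) (f : E → K) (z : E) :
    Psi χ hχ h2 (hd ht) f z = f (t * z) := by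
  change toFn K E (Phi χ hχ h2 (hd ht)) f z = _
  rw [Phi_hd, toFn_apply]
  change (Dm K t).mulVec f z = _
  rw [Matrix.mulVec, dotProduct]
  simp only [Dm, Matrix.of_apply]
  rw [Finset.sum_eq_single (t * z)]
  · rw [if_pos rfl, one_mul]
  · intro w _ hw
    rw [if_neg hw, zero_mul]
  · intro h
    exact absurd (Finset.mem_univ _) h

omit [Fintype E] [DecidableEq E] in
theorem neg_one_eq : (-1 : Matrix.SpecialLinearGroup (Fin 2) E) =
    hd (neg_ne_zero.mpr (one_ne_zero : (1 : E) ≠ 0)) := by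
  apply sl_ext
  rw [Matrix.SpecialLinearGroup.coe_neg, Matrix.SpecialLinearGroup.coe_one]
  change -1 = !![(-1 : E), 0; 0, (-1 : E)⁻¹]
  rw [inv_neg, inv_one]
  rw [← Matrix.ext_iff]
  intro i j
  fin_cases i <;> fin_cases j <;> simp

theorem Psi_neg_one (f : E → K) (z : E) :
    Psi χ hχ h2 (-1) f z = f (-z) := by
  rw [neg_one_eq, Psi_hd, neg_one_mul]

/-- symmetrization -/
def sym (K : Type*) [Field K] (E : Type*) [Field E] : (E → K) →ₗ[K] (E → K) where
  toFun f z := f z + f (-z)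
  map_add' f g := by
    funext z
    simp only [Pi.add_apply]
    ring
  map_smul' c f := by
    funext z
    simp only [Pi.smul_apply, smul_eq_mul, RingHom.id_apply]
    ring

/-- the odd part of the Weil representation (characteristic 2) -/
def Vw (K : Type*) [Field K] (E : Type*) [Field E] : Submodule K (E → K) := LinearMap.range (sym K E)

theorem sym_eq (f : E → K) : sym K E f = f + Psi χ hχ h2 (-1) f := by
  funext z
  rw [Pi.add_apply, Psi_neg_one]
  rfl

theorem Psi_sym (g : Matrix.SpecialLinearGroup (Fin 2) E) (f : E → K) :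
    Psi χ hχ h2 g (sym K E f) = sym K E (Psi χ hχ h2 g f) := by
  rw [sym_eq χ hχ h2, sym_eq χ hχ h2, map_add, ← LinearEquiv.mul_apply, ← LinearEquiv.mul_apply,
    ← map_mul, ← map_mul]
  congr 3
  rw [mul_neg, neg_mul, mul_one, one_mul]

theorem Vw_inv (g : Matrix.SpecialLinearGroup (Fin 2) E) :
    ∀ f ∈ Vw K E, Psi χ hχ h2 g f ∈ Vw K E := by
  rintro f ⟨f0, rfl⟩
  exact ⟨Psi χ hχ h2 g f0, (Psi_sym χ hχ h2 g f0).symm⟩

/-- the representation on the odd part -/
noncomputable def rhoE : Matrix.SpecialLinearGroup (Fin 2) E →* (Vw K E ≃ₗ[K] Vw K E) :=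
  restrictHom (Psi χ hχ h2) (Vw K E) (Vw_inv χ hχ h2)

theorem rhoE_apply (g : Matrix.SpecialLinearGroup (Fin 2) E) (f : Vw K E) :
    ((rhoE χ hχ h2 g f : Vw K E) : E → K) = Psi χ hχ h2 g (f : E → K) := rfl

omit [Fintype E] [DecidableEq E] [CharP K 2] in
theorem Vw_even (f : Vw K E) (z : E) : (f : E → K) (-z) = (f : E → K) z := by
  obtain ⟨f0, hf0⟩ := f.2
  rw [← hf0]
  change f0 (-z) + f0 (- -z) = f0 z + f0 (-z)
  rw [neg_neg, add_comm]

omit [Fintype E] [DecidableEq E] in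
theorem Vw_zero (f : Vw K E) : (f : E → K) 0 = 0 := by
  obtain ⟨f0, hf0⟩ := f.2
  rw [← hf0]
  change f0 0 + f0 (-0) = 0
  rw [neg_zero]
  exact CharTwo.add_self_eq_zero _

theorem rhoE_neg_one : rhoE χ hχ h2 (-1) = 1 := by
  apply LinearEquiv.ext
  intro f
  apply Subtype.ext
  rw [rhoE_apply]
  funext z
  rw [Psi_neg_one, Vw_even]
  rfl

end Cfsg.Agent.Helper38.WeilTwo
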