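import Mathlib
import Cfsg.Agent.Lib.Helper38.WeilTwoAct

set_option autoImplicit false
set_option linter.unusedSectionVars false

/-!
# Element orders in the odd part of the Weil representation (characteristic 2)
-/

namespace Cfsg.Agent.Helper38.WeilTwo

open Matrix Finset Cfsg.Agent.Helper38.SL2Pres

variable {E K : Type*} [Field E] [Fintype E] [DecidableEq E] [Field K] [CharP K 2]
variable (χ : AddChar E K) (hχ : χ ≠ 1) (h2 : (2 : E) ≠ 0)

omit [Fintype E] [DecidableEq E] [CharP K 2] in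
theorem lequiv_one_apply {M : Type*} [AddCommGroup M] [Module K M] (x : M) :
    (1 : M ≃ₗ[K] M) x = x := rfl

theorem rhoE_hd {t : E} (ht : t ≠ 0) (f : Vw K E) (z : E) :
    ((rhoE χ hχ h2 (hd ht) f : Vw K E) : E → K) z = (f : E → K) (t * z) := by
  rw [rhoE_apply, Psi_hd]

theorem rhoE_xmat (t : E) (f : Vw K E) (z : E) :
    ((rhoE χ hχ h2 (xmat t) f : Vw K E) : E → K) z = χ (t * z ^ 2) * (f : E → K) z := by
  rw [rhoE_apply, Psi_xmat]

omit [Fintype E] [DecidableEq E] in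
theorem hd_eq_of_eq {s t : E} (hs : s ≠ 0) (ht : t ≠ 0) (h : s = t) : hd hs = hd ht := by
  subst h
  rfl

omit [Fintype E] [DecidableEq E] in
theorem hd_one : hd (one_ne_zero : (1 : E) ≠ 0) = 1 := by
  apply sl_ext
  rw [Matrix.SpecialLinearGroup.coe_one]
  change !![(1 : E), 0; 0, (1 : E)⁻¹] = 1
  rw [inv_one]
  rw [← Matrix.ext_iff]
  intro i j
  fin_cases i <;> fin_cases j <;> simp

omit [Fintype E] [DecidableEq E] in
theorem hd_mul {s t : E} (hs : s ≠ 0) (ht : t ≠ 0) :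
    hd hs * hd ht = hd (mul_ne_zero hs ht) := by
  apply sl_ext
  rw [Matrix.SpecialLinearGroup.coe_mul]
  change !![s, 0; 0, s⁻¹] * !![t, 0; 0, t⁻¹] = !![s * t, 0; 0, (s * t)⁻¹]
  rw [Matrix.mul_fin_two]
  apply mat2_ext
  · ring
  · ring
  · ring
  · rw [mul_inv]; ring

omit [Fintype E] [DecidableEq E] in
theorem hd_pow {t : E} (ht : t ≠ 0) (j : ℕ) : (hd ht) ^ j = hd (pow_ne_zero j ht) := by
  induction j with
  | zero =>
    rw [pow_zero]
    exact (hd_one.symm.trans (hd_eq_of_eq _ _ (pow_zero t).symm))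
  | succ j ih =>
    rw [pow_succ, ih, hd_mul]
    exact hd_eq_of_eq _ _ (pow_succ t j).symm

/-- the symmetrized delta function at `1` -/
def v1 (K : Type*) [Field K] (E : Type*) [Field E] [DecidableEq E] : Vw K E :=
  ⟨sym K E (Pi.single 1 1), ⟨_, rfl⟩⟩

omit [Fintype E] [CharP K 2] in
theorem v1_apply (z : E) :
    (v1 K E : E → K) z = (if z = 1 then 1 else 0) + (if -z = 1 then 1 else 0) := by
  change (Pi.single 1 1 : E → K) z + (Pi.single 1 1 : E → K) (-z) = _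
  rw [Pi.single_apply, Pi.single_apply]

omit [Fintype E] [CharP K 2] in
theorem v1_one (h2 : (2 : E) ≠ 0) : (v1 K E : E → K) 1 = 1 := by
  rw [v1_apply, if_pos rfl, if_neg, add_zero]
  intro h
  apply h2
  linear_combination -h

omit [Fintype E] [CharP K 2] in
theorem v1_of_ne (z : E) (hz1 : z ≠ 1) (hz2 : z ≠ -1) : (v1 K E : E → K) z = 0 := by
  rw [v1_apply, if_neg hz1, if_neg, add_zero]
  intro h
  apply hz2
  rw [← h, neg_neg]

omit [Fintype E] [CharP K 2] in
theorem v1_ne_zero (h2 : (2 : E) ≠ 0) : v1 K E ≠ 0 := by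
  intro h
  have := v1_one (K := K) h2
  rw [h] at this
  exact zero_ne_one this

theorem rhoE_neg (g : Matrix.SpecialLinearGroup (Fin 2) E) :
    rhoE (K := K) χ hχ h2 (-g) = rhoE χ hχ h2 g := by
  have : -g = (-1) * g := by rw [neg_mul, one_mul]
  rw [this, map_mul, rhoE_neg_one, one_mul]

theorem rhoE_hd_of_pm {t : E} (ht : t ≠ 0) (h : t = 1 ∨ t = -1) :
    rhoE (K := K) χ hχ h2 (hd ht) = 1 := by
  rcases h with h | h
  · rw [hd_eq_of_eq ht one_ne_zero h, hd_one, map_one]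
  · rw [hd_eq_of_eq ht (neg_ne_zero.mpr one_ne_zero) h, ← neg_one_eq, rhoE_neg_one]

theorem rhoE_conj_pow {t : E} (ht : t ≠ 0) (g k : Matrix.SpecialLinearGroup (Fin 2) E)
    (hg : g = k * hd ht * k⁻¹) (j : ℕ) :
    (rhoE (K := K) χ hχ h2 g) ^ j =
      rhoE χ hχ h2 k * rhoE χ hχ h2 (hd (pow_ne_zero j ht)) * (rhoE χ hχ h2 k)⁻¹ := by
  rw [← map_pow, hg, conj_pow, hd_pow, map_mul, map_mul, map_inv]

/-- the torus element of order `m` modulo sign: group part of order `m` with nonzero power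
sum on a suitable vector -/
theorem torus_data {t : E} (ht : t ≠ 0) (m : ℕ) (hm : 0 < m) (htm : t ^ m = 1 ∨ t ^ m = -1)
    (hlt : ∀ j : ℕ, 0 < j → j < m → t ^ j ≠ 1 ∧ t ^ j ≠ -1)
    (g k : Matrix.SpecialLinearGroup (Fin 2) E) (hg : g = k * hd ht * k⁻¹) :
    (rhoE (K := K) χ hχ h2 g) ^ m = 1 ∧
    (∀ n : ℕ, (rhoE (K := K) χ hχ h2 g) ^ n = 1 → m ∣ n) ∧
    ∑ j ∈ Finset.range m, ((rhoE (K := K) χ hχ h2 g) ^ j) (rhoE χ hχ h2 k (v1 K E)) ≠ 0 := by
  have hpow := rhoE_conj_pow (K := K) χ hχ h2 ht g k hg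
  have hm1 : (rhoE (K := K) χ hχ h2 g) ^ m = 1 := by
    rw [hpow m, rhoE_hd_of_pm χ hχ h2 _ htm, mul_one, mul_inv_cancel]
  -- nontrivial torus elements move `v1`
  have hmove : ∀ j : ℕ, 0 < j → j < m →
      rhoE (K := K) χ hχ h2 (hd (pow_ne_zero j ht)) ≠ 1 := by
    intro j hj0 hjm h
    have h1 := congrArg (fun T : Vw K E ≃ₗ[K] Vw K E => ((T (v1 K E) : Vw K E) : E → K) 1) h
    rw [rhoE_hd, mul_one, lequiv_one_apply, v1_one h2,
      v1_of_ne _ (hlt j hj0 hjm).1 (hlt j hj0 hjm).2] at h1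
    exact zero_ne_one h1
  refine ⟨hm1, ?_, ?_⟩
  · intro n hn
    have hr : (rhoE (K := K) χ hχ h2 g) ^ (n % m) = 1 := by
      have h1 : (rhoE (K := K) χ hχ h2 g) ^ n =
          ((rhoE (K := K) χ hχ h2 g) ^ m) ^ (n / m) * (rhoE (K := K) χ hχ h2 g) ^ (n % m) := by
        rw [← pow_mul, ← pow_add, Nat.div_add_mod]
      rw [hn, hm1, one_pow, one_mul] at h1
      exact h1.symm
    apply Nat.dvd_of_mod_eq_zero
    by_contra hne
    have hpos : 0 < n % m := Nat.pos_of_ne_zero hne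
    have hlt' : n % m < m := Nat.mod_lt n hm
    apply hmove (n % m) hpos hlt'
    rw [hpow (n % m)] at hr
    have h3 : rhoE (K := K) χ hχ h2 k * rhoE χ hχ h2 (hd (pow_ne_zero (n % m) ht)) =
        rhoE χ hχ h2 k := by
      have := congrArg (fun T => T * rhoE (K := K) χ hχ h2 k) hr
      simp only [inv_mul_cancel_right, one_mul] at this
      exact this
    exact mul_eq_left.mp h3
  · intro hsum
    have h1 : ∑ j ∈ Finset.range m, ((rhoE (K := K) χ hχ h2 g) ^ j) (rhoE χ hχ h2 k (v1 K E)) =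
        rhoE χ hχ h2 k (∑ j ∈ Finset.range m,
          rhoE χ hχ h2 (hd (pow_ne_zero j ht)) (v1 K E)) := by
      rw [map_sum]
      apply Finset.sum_congr rfl
      intro j _
      rw [hpow j, LinearEquiv.mul_apply, LinearEquiv.mul_apply, ← LinearEquiv.mul_apply (_)⁻¹,
        inv_mul_cancel, lequiv_one_apply]
    rw [h1] at hsum
    have h3 : ∑ j ∈ Finset.range m,
        rhoE (K := K) χ hχ h2 (hd (pow_ne_zero j ht)) (v1 K E) = 0 := by
      apply (rhoE (K := K) χ hχ h2 k).injective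
      rw [hsum, map_zero]
    have h4 := congrArg (fun f : Vw K E => (f : E → K) 1) h3
    simp only [Submodule.coe_sum, Finset.sum_apply, Submodule.coe_zero, Pi.zero_apply] at h4
    rw [Finset.sum_eq_single 0] at h4
    · rw [rhoE_hd, mul_one, pow_zero, v1_one h2] at h4
      exact one_ne_zero h4
    · intro j hj hj0
      rw [rhoE_hd, mul_one]
      exact v1_of_ne _ (hlt j (Nat.pos_of_ne_zero hj0) (Finset.mem_range.mp hj)).1
        (hlt j (Nat.pos_of_ne_zero hj0) (Finset.mem_range.mp hj)).2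
    · intro h0
      exact absurd (Finset.mem_range.mpr hm) h0

/-- the unipotent elements act without fixed points -/
theorem fpf_xmat (s : E) (hs : ∀ z : E, z ≠ 0 → χ (s * z ^ 2) ≠ 1) (f : Vw K E)
    (hf : rhoE χ hχ h2 (xmat s) f = f) : f = 0 := by
  apply Subtype.ext
  funext z
  rw [Submodule.coe_zero, Pi.zero_apply]
  by_cases hz : z = 0
  · rw [hz, Vw_zero]
  · have h1 := congrArg (fun f : Vw K E => (f : E → K) z) hf
    rw [rhoE_xmat] at h1
    have h3 : (χ (s * z ^ 2) - 1) * (f : E → K) z = 0 := by linear_combination h1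
    rcases mul_eq_zero.mp h3 with h | h
    · exact absurd (sub_eq_zero.mp h) (hs z hz)
    · exact h

theorem fpf_conj (s : E) (hs : ∀ z : E, z ≠ 0 → χ (s * z ^ 2) ≠ 1)
    (g k : Matrix.SpecialLinearGroup (Fin 2) E)
    (hg : g = k * xmat s * k⁻¹ ∨ g = -(k * xmat s * k⁻¹)) (f : Vw K E)
    (hf : rhoE χ hχ h2 g f = f) : f = 0 := by
  have hg' : rhoE (K := K) χ hχ h2 g =
      rhoE χ hχ h2 k * rhoE χ hχ h2 (xmat s) * (rhoE χ hχ h2 k)⁻¹ := by
    rcases hg with h | h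
    · rw [h, map_mul, map_mul, map_inv]
    · rw [h, rhoE_neg, map_mul, map_mul, map_inv]
  rw [hg', LinearEquiv.mul_apply, LinearEquiv.mul_apply] at hf
  have h1 : rhoE χ hχ h2 (xmat s) ((rhoE (K := K) χ hχ h2 k)⁻¹ f) =
      (rhoE (K := K) χ hχ h2 k)⁻¹ f := by
    apply (rhoE (K := K) χ hχ h2 k).injective
    rw [hf, ← LinearEquiv.mul_apply, mul_inv_cancel, lequiv_one_apply]
  have h3 := fpf_xmat χ hχ h2 s hs _ h1
  have h4 : f = rhoE (K := K) χ hχ h2 k ((rhoE (K := K) χ hχ h2 k)⁻¹ f) := by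
    rw [← LinearEquiv.mul_apply, mul_inv_cancel, lequiv_one_apply]
  rw [h4, h3, map_zero]

end Cfsg.Agent.Helper38.WeilTwo
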