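import Mathlib
import Cfsg.Agent.Lib.Helper38.WeilTwoOrd
import Cfsg.Agent.Lib.Helper38.AffGroup2
import Cfsg.Agent.Lib.Helper41.SL2Spec
import Cfsg.Agent.Lib.Helper41.SL2ClassOdd

set_option autoImplicit false
set_option linter.unusedSectionVars false

/-!
# The group `V ⋊ L₂(p)` (`V` the odd part of a Weil module in characteristic 2) and its element orders
-/

namespace Cfsg.Agent.Helper38.WeilTwo

open Matrix Finset Cfsg.Agent.Helper38.SL2Pres Cfsg.Agent.Helper41 Cfsg.Agent.Helper38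

variable (p : ℕ) [Fact p.Prime]
variable {E K : Type} [Field E] [Fintype E] [DecidableEq E] [Algebra (ZMod p) E]
variable [Field K] [CharP K 2]
variable (χ : AddChar E K) (hχ : χ ≠ 1) (h2 : (2 : E) ≠ 0)

/-- the inclusion `SL₂(p) → SL₂(E)` -/
def iota (E : Type) [Field E] [Algebra (ZMod p) E] :
    Matrix.SpecialLinearGroup (Fin 2) (ZMod p) →* Matrix.SpecialLinearGroup (Fin 2) E :=
  Matrix.SpecialLinearGroup.map (algebraMap (ZMod p) E)

omit [Fintype E] [DecidableEq E] in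
theorem iota_coe (g : Matrix.SpecialLinearGroup (Fin 2) (ZMod p)) :
    ((iota p E g : Matrix.SpecialLinearGroup (Fin 2) E) : Matrix (Fin 2) (Fin 2) E) =
      (algebraMap (ZMod p) E).mapMatrix (g : Matrix (Fin 2) (Fin 2) (ZMod p)) := rfl

omit [Fintype E] [DecidableEq E] in
theorem iota_xmat (s : ZMod p) : iota p E (xmat s) = xmat (algebraMap (ZMod p) E s) := by
  apply sl_ext
  rw [iota_coe, xmat_coe, xmat_coe, RingHom.mapMatrix_apply]
  rw [← Matrix.ext_iff]
  intro i j
  fin_cases i <;> fin_cases j <;> simp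

omit [Fintype E] [DecidableEq E] in
theorem iota_neg (g : Matrix.SpecialLinearGroup (Fin 2) (ZMod p)) :
    iota p E (-g) = -iota p E g := by
  apply sl_ext
  rw [iota_coe, Matrix.SpecialLinearGroup.coe_neg, Matrix.SpecialLinearGroup.coe_neg, iota_coe,
    map_neg]

omit [Fintype E] [DecidableEq E] in
theorem iota_hd {s : ZMod p} (hs : s ≠ 0) (hs' : algebraMap (ZMod p) E s ≠ 0) :
    iota p E (hd hs) = hd hs' := by
  apply sl_ext
  rw [iota_coe, RingHom.mapMatrix_apply]
  change (!![s, 0; 0, s⁻¹] : Matrix (Fin 2) (Fin 2) (ZMod p)).map (algebraMap (ZMod p) E) =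
    !![algebraMap (ZMod p) E s, 0; 0, (algebraMap (ZMod p) E s)⁻¹]
  rw [← Matrix.ext_iff]
  intro i j
  fin_cases i <;> fin_cases j <;> simp

/-- the representation of `SL₂(p)` -/
noncomputable def rhoP : Matrix.SpecialLinearGroup (Fin 2) (ZMod p) →* (Vw K E ≃ₗ[K] Vw K E) :=
  (rhoE χ hχ h2).comp (iota p E)

theorem rhoP_apply (g : Matrix.SpecialLinearGroup (Fin 2) (ZMod p)) :
    rhoP p χ hχ h2 g = rhoE χ hχ h2 (iota p E g) := rfl

/-- the acting group `L₂(p)` -/
noncomputable def QP : Subgroup (Vw K E ≃ₗ[K] Vw K E) := (rhoP p χ hχ h2).range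

/-- the element of `QP` given by a matrix -/
noncomputable def qmk (g : Matrix.SpecialLinearGroup (Fin 2) (ZMod p)) : QP p χ hχ h2 :=
  ⟨rhoP p χ hχ h2 g, ⟨g, rfl⟩⟩

theorem qmk_pow (g : Matrix.SpecialLinearGroup (Fin 2) (ZMod p)) (n : ℕ) :
    qmk p χ hχ h2 g ^ n = qmk p χ hχ h2 (g ^ n) := by
  apply Subtype.ext
  rw [Subgroup.coe_pow]
  change rhoP p χ hχ h2 g ^ n = rhoP p χ hχ h2 (g ^ n)
  rw [map_pow]

theorem qmk_eq_one_iff (g : Matrix.SpecialLinearGroup (Fin 2) (ZMod p)) :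
    qmk p χ hχ h2 g = 1 ↔ rhoP p χ hχ h2 g = 1 := by
  constructor
  · intro h
    exact congrArg Subtype.val h
  · intro h
    exact Subtype.ext h

theorem qmk_smul (g : Matrix.SpecialLinearGroup (Fin 2) (ZMod p)) (f : Vw K E) :
    qmk p χ hχ h2 g • f = rhoP p χ hχ h2 g f := rfl

theorem qmk_pow_smul (g : Matrix.SpecialLinearGroup (Fin 2) (ZMod p)) (n : ℕ) (f : Vw K E) :
    qmk p χ hχ h2 g ^ n • f = (rhoP p χ hχ h2 g ^ n) f := by
  rw [qmk_pow, qmk_smul, map_pow]

theorem exists_qmk (a : QP p χ hχ h2) : ∃ g, a = qmk p χ hχ h2 g := by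
  obtain ⟨g, hg⟩ := a.2
  exact ⟨g, Subtype.ext hg.symm⟩

/-- the group -/
abbrev HP := Aff (QP p χ hχ h2) (Vw K E)

omit [Fintype E] [DecidableEq E] in
theorem two_smul_zero (w : Vw K E) : 2 • w = 0 := by
  rw [two_nsmul]
  apply Subtype.ext
  funext z
  exact CharTwo.add_self_eq_zero ((w : E → K) z)

/-- `rhoP` kills scalar matrices `± 1` -/
theorem rhoP_scalar (g : Matrix.SpecialLinearGroup (Fin 2) (ZMod p))
    (h : (g : Matrix (Fin 2) (Fin 2) (ZMod p)) = 1 ∨ (g : Matrix (Fin 2) (Fin 2) (ZMod p)) = -1) :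
    rhoP p χ hχ h2 g = 1 := by
  rcases h with h | h
  · have : g = 1 := sl_ext (by rw [h, Matrix.SpecialLinearGroup.coe_one])
    rw [this, map_one]
  · have : g = -1 := sl_ext (by
      rw [h, Matrix.SpecialLinearGroup.coe_neg, Matrix.SpecialLinearGroup.coe_one])
    rw [this, rhoP_apply, iota_neg, map_one, rhoE_neg_one]

theorem coe_pow_scalar (g : Matrix.SpecialLinearGroup (Fin 2) (ZMod p)) (n : ℕ)
    (h : (g : Matrix (Fin 2) (Fin 2) (ZMod p)) ^ n = 1 ∨
      (g : Matrix (Fin 2) (Fin 2) (ZMod p)) ^ n = -1) :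
    ((g ^ n : Matrix.SpecialLinearGroup (Fin 2) (ZMod p)) : Matrix (Fin 2) (Fin 2) (ZMod p)) = 1 ∨
      ((g ^ n : Matrix.SpecialLinearGroup (Fin 2) (ZMod p)) :
        Matrix (Fin 2) (Fin 2) (ZMod p)) = -1 := by
  rw [Matrix.SpecialLinearGroup.coe_pow]
  exact h

/-- the hypothesis on the character: it is nontrivial on all `s z²` -/
def Star : Prop :=
  ∀ s : ZMod p, s ≠ 0 → ∀ z : E, z ≠ 0 → χ (algebraMap (ZMod p) E s * z ^ 2) ≠ 1

omit [Fintype E] [DecidableEq E] in
theorem unipSL_one (b : ZMod p) : unipSL (1 : ZMod p) b (one_pow 2) = xmat b := rfl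

omit [Fintype E] [DecidableEq E] in
theorem unipSL_neg_one (b : ZMod p) :
    unipSL (-1 : ZMod p) b (by ring) = -xmat (-b) := by
  apply sl_ext
  rw [Matrix.SpecialLinearGroup.coe_neg, xmat_coe]
  change !![(-1 : ZMod p), b; 0, -1] = -!![1, -b; 0, 1]
  rw [← Matrix.ext_iff]
  intro i j
  fin_cases i <;> fin_cases j <;> simp

/-- non-scalar elements of trace `± 2` act without fixed points -/
theorem fpf_of_trace (hstar : Star p χ) (g : Matrix.SpecialLinearGroup (Fin 2) (ZMod p))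
    (ht : (g : Matrix (Fin 2) (Fin 2) (ZMod p)).trace ^ 2 = 4)
    (hns : ¬ ((g : Matrix (Fin 2) (Fin 2) (ZMod p)) 0 1 = 0 ∧
      (g : Matrix (Fin 2) (Fin 2) (ZMod p)) 1 0 = 0 ∧
      (g : Matrix (Fin 2) (Fin 2) (ZMod p)) 0 0 = (g : Matrix (Fin 2) (Fin 2) (ZMod p)) 1 1))
    (f : Vw K E) (hf : rhoP p χ hχ h2 g f = f) : f = 0 := by
  set t := (g : Matrix (Fin 2) (Fin 2) (ZMod p)).trace with htdef
  have h4 : (t - 2) * (t + 2) = 0 := by linear_combination ht
  rcases mul_eq_zero.mp h4 with h | h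
  · have htr : t = 2 * 1 := by linear_combination h
    obtain ⟨U, b, hb, hU⟩ := exists_conj_unipSL g 1 (one_pow 2) htr hns
    rw [unipSL_one] at hU
    have hg : g = U⁻¹ * xmat b * (U⁻¹)⁻¹ := by
      rw [← hU]
      group
    apply fpf_conj χ hχ h2 (algebraMap (ZMod p) E b) (hstar b hb) (iota p E g) (iota p E U⁻¹)
      _ f hf
    left
    rw [← iota_xmat, ← map_inv, ← map_mul, ← map_mul, ← hg]
  · have htr : t = 2 * (-1) := by linear_combination h
    obtain ⟨U, b, hb, hU⟩ := exists_conj_unipSL g (-1) (by ring) htr hns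
    rw [unipSL_neg_one] at hU
    have hg : g = -(U⁻¹ * xmat (-b) * (U⁻¹)⁻¹) := by
      have : U⁻¹ * (U * g * U⁻¹) * (U⁻¹)⁻¹ = g := by group
      rw [← this, hU, mul_neg, neg_mul]
    apply fpf_conj χ hχ h2 (algebraMap (ZMod p) E (-b)) (hstar (-b) (neg_ne_zero.mpr hb))
      (iota p E g) (iota p E U⁻¹) _ f hf
    right
    rw [← iota_xmat, ← map_inv, ← map_mul, ← map_mul, ← iota_neg, ← hg]

/-- every element order divides `p`, `p - 1` or `p + 1` -/
theorem pow_cases (hp2 : p ≠ 2) (hstar : Star p χ) (x : HP p χ hχ h2) :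
    x ^ p = 1 ∨ x ^ (p - 1) = 1 ∨ x ^ (p + 1) = 1 := by
  have hpodd : p % 2 = 1 := by
    rcases (Fact.out : p.Prime).eq_two_or_odd with h | h
    · exact absurd h hp2
    · exact h
  have hp3 : 3 ≤ p := by
    have := (Fact.out : p.Prime).two_le
    omega
  obtain ⟨g, hg⟩ := exists_qmk p χ hχ h2 x.a
  set t := (g : Matrix (Fin 2) (Fin 2) (ZMod p)).trace with ht
  by_cases ht4 : t ^ 2 = 4
  · have hu := coe_pow_scalar p g p (unipotent_pow p (g : Matrix (Fin 2) (Fin 2) (ZMod p)) g.2 ht4)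
    by_cases hns : ((g : Matrix (Fin 2) (Fin 2) (ZMod p)) 0 1 = 0 ∧
      (g : Matrix (Fin 2) (Fin 2) (ZMod p)) 1 0 = 0 ∧
      (g : Matrix (Fin 2) (Fin 2) (ZMod p)) 0 0 = (g : Matrix (Fin 2) (Fin 2) (ZMod p)) 1 1)
    · -- scalar: the group part is trivial
      right; left
      obtain ⟨h01, h10, h00⟩ := hns
      have hdet := g.2
      rw [Matrix.det_fin_two, h01, h10, ← h00] at hdet
      have hsq : ((g : Matrix (Fin 2) (Fin 2) (ZMod p)) 0 0 - 1) *
          ((g : Matrix (Fin 2) (Fin 2) (ZMod p)) 0 0 + 1) = 0 := by linear_combination hdet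
      have hsc : (g : Matrix (Fin 2) (Fin 2) (ZMod p)) = 1 ∨
          (g : Matrix (Fin 2) (Fin 2) (ZMod p)) = -1 := by
        rcases mul_eq_zero.mp hsq with h | h
        · left
          have h0 : (g : Matrix (Fin 2) (Fin 2) (ZMod p)) 0 0 = 1 := by linear_combination h
          rw [← Matrix.ext_iff]
          intro i j
          fin_cases i <;> fin_cases j <;> simp [h01, h10, ← h00, h0]
        · right
          have h0 : (g : Matrix (Fin 2) (Fin 2) (ZMod p)) 0 0 = -1 := by linear_combination h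
          rw [← Matrix.ext_iff]
          intro i j
          fin_cases i <;> fin_cases j <;> simp [h01, h10, ← h00, h0]
      have ha : x.a ^ 1 = 1 := by
        rw [pow_one, hg, qmk_eq_one_iff]
        exact rhoP_scalar p χ hχ h2 g hsc
      have hx2 : x ^ (1 * 2) = 1 := Aff.pow_mul_two_eq_one two_smul_zero x 1 ha
      obtain ⟨k, hk⟩ : ∃ k, p - 1 = 1 * 2 * k := ⟨(p - 1) / 2, by omega⟩
      rw [hk, pow_mul, hx2, one_pow]
    · left
      have hfix : ∀ w : Vw K E, x.a • w = w → w = 0 := by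
        intro w hw
        rw [hg, qmk_smul] at hw
        exact fpf_of_trace p χ hχ h2 hstar g ht4 hns w hw
      apply Aff.pow_eq_one_of_fpf x hfix
      rw [hg, qmk_pow, qmk_eq_one_iff]
      exact rhoP_scalar p χ hχ h2 _ hu
  · right
    have hgcd : Nat.gcd 2 (Fintype.card (ZMod p) - 1) = 2 := by
      rw [ZMod.card]
      apply Nat.gcd_eq_left
      omega
    have hss := semisimple_pow p (g : Matrix (Fin 2) (Fin 2) (ZMod p)) g.2 ht4
    rw [hgcd, ZMod.card] at hss
    rcases hss with hs | hs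
    · left
      have ha : x.a ^ ((p - 1) / 2) = 1 := by
        rw [hg, qmk_pow, qmk_eq_one_iff]
        exact rhoP_scalar p χ hχ h2 _ (coe_pow_scalar p g _ hs)
      have := Aff.pow_mul_two_eq_one two_smul_zero x _ ha
      have he : (p - 1) / 2 * 2 = p - 1 := by omega
      rw [he] at this
      exact this
    · right
      have ha : x.a ^ ((p + 1) / 2) = 1 := by
        rw [hg, qmk_pow, qmk_eq_one_iff]
        exact rhoP_scalar p χ hχ h2 _ (coe_pow_scalar p g _ hs)
      have := Aff.pow_mul_two_eq_one two_smul_zero x _ ha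
      have he : (p + 1) / 2 * 2 = p + 1 := by omega
      rw [he] at this
      exact this

end Cfsg.Agent.Helper38.WeilTwo
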