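import Mathlib
import Cfsg.Agent.Lib.Helper38.WeilTwoModel

set_option autoImplicit false
set_option linter.unusedSectionVars false

/-!
# The group `V ⋊ L₂(p)`: existence of elements of orders `p`, `p - 1`, `p + 1`
-/

namespace Cfsg.Agent.Helper38.WeilTwo

open Matrix Finset Cfsg.Agent.Helper38.SL2Pres Cfsg.Agent.Helper41 Cfsg.Agent.Helper38

variable (p : ℕ) [Fact p.Prime]
variable {E K : Type} [Field E] [Fintype E] [DecidableEq E] [Algebra (ZMod p) E]
variable [Field K] [CharP K 2]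
variable (χ : AddChar E K) (hχ : χ ≠ 1) (h2 : (2 : E) ≠ 0)

theorem xmat_one_pow (R : Type*) [Field R] (n : ℕ) : (xmat (1 : R)) ^ n = xmat (n : R) := by
  induction n with
  | zero =>
    rw [pow_zero, Nat.cast_zero]
    apply sl_ext
    rw [Matrix.SpecialLinearGroup.coe_one, xmat_coe]
    rw [← Matrix.ext_iff]
    intro i j
    fin_cases i <;> fin_cases j <;> simp
  | succ n ih =>
    rw [pow_succ, ih, xmat_add, Nat.cast_succ]

theorem exists_p (hstar : Star p χ) : ∃ x : HP p χ hχ h2, orderOf x = p := by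
  refine ⟨Aff.inr (qmk p χ hχ h2 (xmat 1)), ?_⟩
  rw [Aff.orderOf_inr]
  apply orderOf_eq_prime
  · rw [qmk_pow, qmk_eq_one_iff, xmat_one_pow, ZMod.natCast_self]
    have : xmat (0 : ZMod p) = 1 := by
      have := xmat_one_pow (ZMod p) 0
      rw [pow_zero, Nat.cast_zero] at this
      exact this.symm
    rw [this, map_one]
  · rw [Ne, qmk_eq_one_iff]
    intro h
    have h1 : rhoP p χ hχ h2 (xmat 1) (v1 K E) = v1 K E := by
      rw [h]
      rfl
    rw [rhoP_apply, iota_xmat] at h1
    exact v1_ne_zero h2 (fpf_xmat χ hχ h2 _ (hstar 1 one_ne_zero) _ h1)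

omit [Fact p.Prime] in
/-- an element of order `2 m` in a field: its powers below `m` avoid `± 1` -/
theorem pm_data {R : Type*} [Field R] (t : R) (m : ℕ) (hn : orderOf t = 2 * m) :
    (t ^ m = 1 ∨ t ^ m = -1) ∧ ∀ j : ℕ, 0 < j → j < m → t ^ j ≠ 1 ∧ t ^ j ≠ -1 := by
  have h1 : t ^ (2 * m) = 1 := by rw [← hn]; exact pow_orderOf_eq_one t
  constructor
  · have h3 : (t ^ m - 1) * (t ^ m + 1) = 0 := by
      have : t ^ (2 * m) = t ^ m * t ^ m := by rw [two_mul, pow_add]
      rw [this] at h1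
      linear_combination h1
    rcases mul_eq_zero.mp h3 with h | h
    · left; linear_combination h
    · right; linear_combination h
  · intro j hj0 hjm
    have key : t ^ (2 * j) ≠ 1 := by
      intro h
      have hd := orderOf_dvd_of_pow_eq_one h
      rw [hn] at hd
      have := Nat.le_of_dvd (by omega) hd
      omega
    constructor
    · intro h
      apply key
      rw [mul_comm, pow_mul, h, one_pow]
    · intro h
      apply key
      rw [mul_comm, pow_mul, h]
      ring

/-- the torus elements give elements of order `2 m` -/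
theorem exists_two_mul {t : E} (ht : t ≠ 0) (m : ℕ) (hm : 0 < m) (hn : orderOf t = 2 * m)
    (g : Matrix.SpecialLinearGroup (Fin 2) (ZMod p)) (k : Matrix.SpecialLinearGroup (Fin 2) E)
    (hg : iota p E g = k * hd ht * k⁻¹) : ∃ x : HP p χ hχ h2, orderOf x = 2 * m := by
  obtain ⟨htm, hlt⟩ := pm_data t m hn
  obtain ⟨h1, h2', h3⟩ := torus_data (K := K) χ hχ h2 ht m hm htm hlt (iota p E g) k hg
  refine ⟨⟨rhoE χ hχ h2 k (v1 K E), qmk p χ hχ h2 g⟩, ?_⟩
  apply Aff.orderOf_eq_two_mul_of_sum two_smul_zero _ m hm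
  · change qmk p χ hχ h2 g ^ m = 1
    rw [qmk_pow, qmk_eq_one_iff, map_pow]
    exact h1
  · intro n hn'
    change qmk p χ hχ h2 g ^ n = 1 at hn'
    rw [qmk_pow, qmk_eq_one_iff, map_pow] at hn'
    exact h2' n hn'
  · change ∑ j ∈ Finset.range m, qmk p χ hχ h2 g ^ j • (rhoE χ hχ h2 k (v1 K E)) ≠ 0
    rw [Finset.sum_congr rfl (fun j _ => qmk_pow_smul p χ hχ h2 g j _)]
    exact h3

theorem exists_sub_one (hp2 : p ≠ 2) : ∃ x : HP p χ hχ h2, orderOf x = p - 1 := by
  have hpodd : p % 2 = 1 := by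
    rcases (Fact.out : p.Prime).eq_two_or_odd with h | h
    · exact absurd h hp2
    · exact h
  have hp3 : 3 ≤ p := by
    have := (Fact.out : p.Prime).two_le
    omega
  obtain ⟨l, hl⟩ := IsCyclic.exists_generator (α := (ZMod p)ˣ)
  have hord : orderOf l = p - 1 := by
    rw [orderOf_eq_card_of_forall_mem_zpowers hl, Nat.card_eq_fintype_card, ZMod.card_units]
  have hl0 : (l : ZMod p) ≠ 0 := l.ne_zero
  have ht0 : algebraMap (ZMod p) E (l : ZMod p) ≠ 0 := by
    rw [Ne, map_eq_zero_iff _ (algebraMap (ZMod p) E).injective]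
    exact hl0
  have hordt : orderOf (algebraMap (ZMod p) E (l : ZMod p)) = 2 * ((p - 1) / 2) := by
    have h1 : orderOf (algebraMap (ZMod p) E (l : ZMod p)) = orderOf (l : ZMod p) :=
      orderOf_injective ((algebraMap (ZMod p) E : ZMod p →+* E) : ZMod p →* E)
        (algebraMap (ZMod p) E).injective _
    rw [h1, orderOf_units, hord]
    omega
  have he : p - 1 = 2 * ((p - 1) / 2) := by omega
  rw [he]
  apply exists_two_mul p χ hχ h2 ht0 ((p - 1) / 2) (by omega) hordt (hd hl0) 1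
  rw [iota_hd p hl0 ht0, one_mul, inv_one, mul_one]

theorem exists_add_one (hp2 : p ≠ 2)
    (hex : ∃ (z : E) (hz : z ≠ 0) (g : Matrix.SpecialLinearGroup (Fin 2) (ZMod p))
      (k : Matrix.SpecialLinearGroup (Fin 2) E), orderOf z = p + 1 ∧
      iota p E g = k * hd hz * k⁻¹) : ∃ x : HP p χ hχ h2, orderOf x = p + 1 := by
  have hpodd : p % 2 = 1 := by
    rcases (Fact.out : p.Prime).eq_two_or_odd with h | h
    · exact absurd h hp2
    · exact h
  obtain ⟨z, hz, g, k, hord, hg⟩ := hex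
  have he : p + 1 = 2 * ((p + 1) / 2) := by omega
  rw [he]
  rw [he] at hord
  exact exists_two_mul p χ hχ h2 hz ((p + 1) / 2) (by omega) hord g k hg

/-- the set of element orders of the model -/
theorem model_spectrum (hp2 : p ≠ 2) (hstar : Star p χ)
    (hex : ∃ (z : E) (hz : z ≠ 0) (g : Matrix.SpecialLinearGroup (Fin 2) (ZMod p))
      (k : Matrix.SpecialLinearGroup (Fin 2) E), orderOf z = p + 1 ∧
      iota p E g = k * hd hz * k⁻¹) :
    Set.range (orderOf : HP p χ hχ h2 → ℕ) = {n | n ∣ p ∨ n ∣ p - 1 ∨ n ∣ p + 1} := by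
  have hp3 : 2 ≤ p := (Fact.out : p.Prime).two_le
  exact SpecBasic.range_orderOf_eq p (p - 1) (p + 1) (by omega) (by omega) (by omega)
    (pow_cases p χ hχ h2 hp2 hstar) (exists_p p χ hχ h2 hstar) (exists_sub_one p χ hχ h2 hp2)
    (exists_add_one p χ hχ h2 hp2 hex)

/-- the model has a nontrivial abelian normal subgroup -/
theorem model_normal :
    ∃ N : Subgroup (HP p χ hχ h2), N.Normal ∧ N ≠ ⊥ ∧ Group.IsSolvable N := by
  refine ⟨(Aff.proj : HP p χ hχ h2 →* QP p χ hχ h2).ker, inferInstance, ?_, ?_⟩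
  · exact Aff.ker_proj_ne_bot (v1 K E) (v1_ne_zero h2)
  · exact Aff.ker_proj_solvable

theorem model_finite [Finite K] : Finite (HP p χ hχ h2) := by
  have : Finite (Vw K E ≃ₗ[K] Vw K E) :=
    Finite.of_injective (fun e => (e : Vw K E → Vw K E)) DFunLike.coe_injective
  exact Aff.finite_of_finite

end Cfsg.Agent.Helper38.WeilTwo
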