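import Mathlib
import Cfsg.Agent.Lib.Helper38.WeilTwoModel

set_option autoImplicit false
set_option linter.unusedSectionVars false

/-!
# The nonsplit torus of `SL₂(p)` diagonalized over the field with `p²` elements
-/

namespace Cfsg.Agent.Helper38.WeilTwo

open Matrix Finset Cfsg.Agent.Helper38.SL2Pres Cfsg.Agent.Helper41 Cfsg.Agent.Helper38

variable (p : ℕ) [Fact p.Prime]
variable {E : Type} [Field E] [Fintype E] [Algebra (ZMod p) E]

/-- an element of order `p + 1` in the field with `p²` elements -/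
theorem exists_orderOf_add_one (hcard : Fintype.card E = p ^ 2) :
    ∃ z : E, z ≠ 0 ∧ orderOf z = p + 1 := by
  classical
  have hp1 : 1 ≤ p := (Fact.out : p.Prime).one_lt.le
  obtain ⟨z0, hz0⟩ := IsCyclic.exists_generator (α := Eˣ)
  have hord : orderOf z0 = (p + 1) * (p - 1) := by
    rw [orderOf_eq_card_of_forall_mem_zpowers hz0, Nat.card_eq_fintype_card, Fintype.card_units,
      hcard]
    have := Nat.sq_sub_sq p 1
    rw [one_pow] at this
    exact this
  have hpm : p - 1 ≠ 0 ∨ p - 1 = 0 := by omega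
  have hp2 : 2 ≤ p := (Fact.out : p.Prime).two_le
  refine ⟨((z0 ^ (p - 1) : Eˣ) : E), Units.ne_zero _, ?_⟩
  rw [orderOf_units, orderOf_pow' z0 (by omega), hord, Nat.gcd_mul_left_left,
    Nat.mul_div_cancel _ (by omega)]

theorem exists_torus (hp2 : p ≠ 2) (hcard : Fintype.card E = p ^ 2) :
    ∃ (z : E) (hz : z ≠ 0) (g : Matrix.SpecialLinearGroup (Fin 2) (ZMod p))
      (k : Matrix.SpecialLinearGroup (Fin 2) E), orderOf z = p + 1 ∧
      iota p E g = k * hd hz * k⁻¹ := by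
  have hp3 : 3 ≤ p := by
    have := (Fact.out : p.Prime).two_le
    omega
  have : CharP E p := charP_of_injective_algebraMap (algebraMap (ZMod p) E).injective p
  obtain ⟨z, hz, hord⟩ := exists_orderOf_add_one p hcard
  have hzp1 : z ^ (p + 1) = 1 := by rw [← hord]; exact pow_orderOf_eq_one z
  have hzp : z ^ p = z⁻¹ := by
    rw [pow_succ] at hzp1
    exact eq_inv_of_mul_eq_one_left hzp1
  have htp : (z + z⁻¹) ^ Fintype.card (ZMod p) = z + z⁻¹ := by
    rw [ZMod.card, add_pow_char, inv_pow, hzp, inv_inv, add_comm]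
  obtain ⟨c, hc⟩ := mem_range_of_pow_card_eq (F := ZMod p) (z + z⁻¹) htp
  have hd0 : z - z⁻¹ ≠ 0 := by
    intro h
    have h1 : z ^ 2 = 1 := by
      have : z = z⁻¹ := sub_eq_zero.mp h
      rw [pow_two]
      nth_rewrite 2 [this]
      exact mul_inv_cancel₀ hz
    have := orderOf_dvd_of_pow_eq_one h1
    rw [hord] at this
    have := Nat.le_of_dvd (by norm_num) this
    omega
  have hz2 : z ^ 2 - 1 ≠ 0 := by
    intro h
    apply hd0
    field_simp
    rw [mul_zero]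
    exact h
  let g : Matrix.SpecialLinearGroup (Fin 2) (ZMod p) :=
    ⟨!![c, -1; 1, 0], by rw [Matrix.det_fin_two_of]; ring⟩
  let k : Matrix.SpecialLinearGroup (Fin 2) E :=
    ⟨!![z, z⁻¹ * (z - z⁻¹)⁻¹; 1, (z - z⁻¹)⁻¹], by
      rw [Matrix.det_fin_two_of]
      have : z * (z - z⁻¹)⁻¹ - z⁻¹ * (z - z⁻¹)⁻¹ * 1 = (z - z⁻¹) * (z - z⁻¹)⁻¹ := by ring
      rw [this, mul_inv_cancel₀ hd0]⟩
  refine ⟨z, hz, g, k, hord, ?_⟩
  rw [eq_mul_inv_iff_mul_eq]
  apply sl_ext
  rw [Matrix.SpecialLinearGroup.coe_mul, Matrix.SpecialLinearGroup.coe_mul, iota_coe,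
    RingHom.mapMatrix_apply]
  change (!![c, -1; 1, 0] : Matrix (Fin 2) (Fin 2) (ZMod p)).map (algebraMap (ZMod p) E) *
    !![z, z⁻¹ * (z - z⁻¹)⁻¹; 1, (z - z⁻¹)⁻¹] =
    !![z, z⁻¹ * (z - z⁻¹)⁻¹; 1, (z - z⁻¹)⁻¹] * !![z, 0; 0, z⁻¹]
  have hmap : (!![c, -1; 1, 0] : Matrix (Fin 2) (Fin 2) (ZMod p)).map (algebraMap (ZMod p) E) =
      !![z + z⁻¹, -1; 1, 0] := by
    rw [← hc]
    rw [← Matrix.ext_iff]
    intro i j
    fin_cases i <;> fin_cases j <;> simp
  rw [hmap, Matrix.mul_fin_two, Matrix.mul_fin_two]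
  apply mat2_ext
  · field_simp
    ring
  · field_simp
    ring
  · ring
  · ring

end Cfsg.Agent.Helper38.WeilTwo
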