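import Mathlib
import Cfsg.Agent.Lib.Helper38.WeilTwoExist
import Cfsg.Agent.Lib.Helper38.WeilTwoTorus

set_option autoImplicit false
set_option linter.unusedSectionVars false

/-!
# Concrete fields and characters for the Weil module in characteristic 2
-/

namespace Cfsg.Agent.Helper38.WeilTwo

open Matrix Finset Cfsg.Agent.Helper38.SL2Pres Cfsg.Agent.Helper41 Cfsg.Agent.Helper38

section generic

variable (p : ℕ) [Fact p.Prime]
variable {E : Type} [Field E] [Fintype E] [Algebra (ZMod p) E]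

/-- elements of the prime field are squares in the field with `p²` elements -/
theorem isSquare_algebraMap (hp2 : p ≠ 2) (hcard : Fintype.card E = p ^ 2) (r : ZMod p) :
    IsSquare (algebraMap (ZMod p) E r) := by
  have hpodd : p % 2 = 1 := by
    rcases (Fact.out : p.Prime).eq_two_or_odd with h | h
    · exact absurd h hp2
    · exact h
  have : CharP E p := charP_of_injective_algebraMap (algebraMap (ZMod p) E).injective p
  have hchar : ringChar E ≠ 2 := by
    rw [ringChar.eq E p]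
    exact hp2
  by_cases hr : r = 0
  · rw [hr, map_zero]
    exact ⟨0, by ring⟩
  · have hr' : algebraMap (ZMod p) E r ≠ 0 := by
      rw [Ne, map_eq_zero_iff _ (algebraMap (ZMod p) E).injective]
      exact hr
    rw [FiniteField.isSquare_iff hchar hr', hcard]
    obtain ⟨k, hk⟩ : ∃ k, p = 2 * k + 1 := ⟨p / 2, by omega⟩
    have he : p ^ 2 / 2 = (p - 1) * (k + 1) := by
      have h1 : p ^ 2 = 2 * ((p - 1) * (k + 1)) + 1 := by
        have hp1 : p - 1 = 2 * k := by omega
        rw [hp1, hk]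
        ring
      omega
    rw [he, pow_mul, ← map_pow, ZMod.pow_card_sub_one_eq_one hr, map_one, one_pow]

end generic

section quad

open QuadraticAlgebra

variable (p : ℕ) [Fact p.Prime] (ε : ZMod p)

theorem quad_algebraMap_mul_re (s : ZMod p) (w : QuadraticAlgebra (ZMod p) ε 0) :
    (algebraMap (ZMod p) (QuadraticAlgebra (ZMod p) ε 0) s * w).re = s * w.re := by
  rw [QuadraticAlgebra.algebraMap_eq, QuadraticAlgebra.re_mul]
  ring

theorem quad_eq_of_re_zero (w : QuadraticAlgebra (ZMod p) ε 0) (h : w.re = 0) :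
    w = algebraMap (ZMod p) (QuadraticAlgebra (ZMod p) ε 0) w.im * (ω : QuadraticAlgebra (ZMod p) ε 0) := by
  rw [QuadraticAlgebra.algebraMap_eq]
  ext
  · rw [QuadraticAlgebra.re_mul, h]
    simp
  · rw [QuadraticAlgebra.im_mul]
    simp

/-- the linear functional `z ↦ re (c z)` -/
def quadFun (c : QuadraticAlgebra (ZMod p) ε 0) : QuadraticAlgebra (ZMod p) ε 0 →+ ZMod p :=
  (QuadraticAlgebra.reₗ ε 0).toAddMonoidHom.comp (AddMonoidHom.mulLeft c)

theorem quadFun_apply (c z : QuadraticAlgebra (ZMod p) ε 0) : quadFun p ε c z = (c * z).re := rfl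

variable [Fact (∀ r : ZMod p, r ^ 2 ≠ ε + 0 * r)]

/-- the character `ψ₀ ∘ re (c ·)` with `c = ω θ⁻¹`, `θ` a nonsquare, is nontrivial on all `s z²` -/
theorem quad_star {K : Type} [Field K] (hp2 : p ≠ 2)
    [Fintype (QuadraticAlgebra (ZMod p) ε 0)]
    (hcard : Fintype.card (QuadraticAlgebra (ZMod p) ε 0) = p ^ 2)
    (ψ : AddChar (ZMod p) K) (hψ : ∀ x : ZMod p, ψ x = 1 → x = 0)
    (θ : QuadraticAlgebra (ZMod p) ε 0) (hθ : ¬ IsSquare θ) :
    Star p (ψ.compAddMonoidHom (quadFun p ε ((ω : QuadraticAlgebra (ZMod p) ε 0) * θ⁻¹))) := by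
  intro s hs z hz h
  rw [AddChar.compAddMonoidHom_apply, quadFun_apply] at h
  have h1 := hψ _ h
  have hθ0 : θ ≠ 0 := by
    rintro rfl
    exact hθ ⟨0, by ring⟩
  have hω0 : (ω : QuadraticAlgebra (ZMod p) ε 0) ≠ 0 := by
    intro h0
    have := congrArg QuadraticAlgebra.im h0
    rw [QuadraticAlgebra.omega_im, QuadraticAlgebra.im_zero] at this
    exact one_ne_zero this
  have h3 : ((ω : QuadraticAlgebra (ZMod p) ε 0) * θ⁻¹ * z ^ 2).re = 0 := by
    have : (ω : QuadraticAlgebra (ZMod p) ε 0) * θ⁻¹ *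
        (algebraMap (ZMod p) (QuadraticAlgebra (ZMod p) ε 0) s * z ^ 2) =
        algebraMap (ZMod p) (QuadraticAlgebra (ZMod p) ε 0) s *
          ((ω : QuadraticAlgebra (ZMod p) ε 0) * θ⁻¹ * z ^ 2) := by ring
    rw [this, quad_algebraMap_mul_re] at h1
    rcases mul_eq_zero.mp h1 with h | h
    · exact absurd h hs
    · exact h
  have h4 := quad_eq_of_re_zero p ε _ h3
  set r := ((ω : QuadraticAlgebra (ZMod p) ε 0) * θ⁻¹ * z ^ 2).im with hr
  have h5 : z ^ 2 = algebraMap (ZMod p) (QuadraticAlgebra (ZMod p) ε 0) r * θ := by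
    have h6 : (ω : QuadraticAlgebra (ZMod p) ε 0) * (θ⁻¹ * z ^ 2) =
        (ω : QuadraticAlgebra (ZMod p) ε 0) *
          algebraMap (ZMod p) (QuadraticAlgebra (ZMod p) ε 0) r := by
      rw [← mul_assoc, h4]
      ring
    have h7 := mul_left_cancel₀ hω0 h6
    rw [← h7]
    field_simp
  obtain ⟨u, hu⟩ := isSquare_algebraMap p hp2 hcard r
  have hu0 : u ≠ 0 := by
    rintro rfl
    rw [mul_zero] at hu
    rw [hu, zero_mul] at h5
    exact hz (pow_eq_zero_iff two_ne_zero |>.mp h5)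
  apply hθ
  refine ⟨z / u, ?_⟩
  rw [hu] at h5
  field_simp
  rw [h5]
  ring

end quad

/-- a character of `ZMod p` with trivial kernel, in characteristic two -/
theorem exists_zmod_char (p : ℕ) [Fact p.Prime] (hp2 : p ≠ 2) :
    ∃ ψ : AddChar (ZMod p) (GaloisField 2 (p - 1)), ∀ x : ZMod p, ψ x = 1 → x = 0 := by
  have hp3 : 3 ≤ p := by
    have := (Fact.out : p.Prime).two_le
    omega
  have hpodd : p % 2 = 1 := by
    rcases (Fact.out : p.Prime).eq_two_or_odd with h | h
    · exact absurd h hp2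
    · exact h
  have : Fact (Nat.Prime 2) := ⟨Nat.prime_two⟩
  have hcard : Nat.card (GaloisField 2 (p - 1))ˣ = 2 ^ (p - 1) - 1 := by
    rw [Nat.card_units, GaloisField.card 2 (p - 1) (by omega)]
  have hdvd : p ∣ Nat.card (GaloisField 2 (p - 1))ˣ := by
    rw [hcard, ← ZMod.natCast_eq_zero_iff]
    have h2 : (2 : ZMod p) ≠ 0 := by
      intro h
      have : ((2 : ℕ) : ZMod p) = 0 := by exact_mod_cast h
      rw [ZMod.natCast_eq_zero_iff] at this
      have := Nat.le_of_dvd (by norm_num) this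
      omega
    have h1 := ZMod.pow_card_sub_one_eq_one h2
    rw [Nat.cast_sub Nat.one_le_two_pow, Nat.cast_pow, Nat.cast_ofNat, h1, Nat.cast_one, sub_self]
  obtain ⟨u, hu⟩ := exists_prime_orderOf_dvd_card' (G := (GaloisField 2 (p - 1))ˣ) p hdvd
  have hup : ((u : GaloisField 2 (p - 1))) ^ p = 1 := by
    have h := pow_orderOf_eq_one u
    rw [hu] at h
    have h' := congrArg Units.val h
    rw [Units.val_pow_eq_pow_val, Units.val_one] at h'
    exact h'
  refine ⟨AddChar.zmodChar p hup, ?_⟩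
  intro x hx
  rw [AddChar.zmodChar_apply] at hx
  have h1 : u ^ x.val = 1 := by
    apply Units.ext
    rw [Units.val_pow_eq_pow_val, hx, Units.val_one]
  have h3 := orderOf_dvd_of_pow_eq_one h1
  rw [hu] at h3
  have h4 : x.val < p := ZMod.val_lt x
  have h5 : x.val = 0 := Nat.eq_zero_of_dvd_of_lt h3 h4
  exact (ZMod.val_eq_zero x).mp h5

/-- the model group for an odd prime `p` -/
theorem exists_model_odd (p : ℕ) [Fact p.Prime] (hp2 : p ≠ 2) :
    ∃ (G : Type) (_ : Group G) (_ : Finite G) (N : Subgroup G), N.Normal ∧ N ≠ ⊥ ∧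
      Group.IsSolvable N ∧
      Set.range (orderOf : G → ℕ) = {n | n ∣ p ∨ n ∣ p - 1 ∨ n ∣ p + 1} := by
  classical
  have hchar : ringChar (ZMod p) ≠ 2 := by
    rw [ZMod.ringChar_zmod_n]
    exact hp2
  obtain ⟨ε, hε⟩ := FiniteField.exists_nonsquare hchar
  have : Fact (∀ r : ZMod p, r ^ 2 ≠ ε + 0 * r) := ⟨by
    intro r h
    apply hε
    exact ⟨r, by rw [← pow_two, h]; ring⟩⟩
  let _ : Fintype (QuadraticAlgebra (ZMod p) ε 0) :=
    Fintype.ofEquiv _ (QuadraticAlgebra.equivProd ε 0).symm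
  have hcard : Fintype.card (QuadraticAlgebra (ZMod p) ε 0) = p ^ 2 := by
    rw [Fintype.card_congr (QuadraticAlgebra.equivProd ε 0), Fintype.card_prod, ZMod.card, pow_two]
  have : CharP (QuadraticAlgebra (ZMod p) ε 0) p :=
    charP_of_injective_algebraMap
      (algebraMap (ZMod p) (QuadraticAlgebra (ZMod p) ε 0)).injective p
  have hcharE : ringChar (QuadraticAlgebra (ZMod p) ε 0) ≠ 2 := by
    rw [ringChar.eq _ p]
    exact hp2
  have h2 : (2 : QuadraticAlgebra (ZMod p) ε 0) ≠ 0 := Ring.two_ne_zero hcharE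
  obtain ⟨θ, hθ⟩ := FiniteField.exists_nonsquare hcharE
  obtain ⟨ψ, hψ⟩ := exists_zmod_char p hp2
  have hstar := quad_star p ε hp2 hcard ψ hψ θ hθ
  set χ := ψ.compAddMonoidHom (quadFun p ε ((QuadraticAlgebra.omega : QuadraticAlgebra (ZMod p) ε 0) * θ⁻¹))
    with hχdef
  have hχ : χ ≠ 1 := by
    intro h
    apply hstar 1 one_ne_zero 1 one_ne_zero
    rw [h]
    rfl
  have : Fact (Nat.Prime 2) := ⟨Nat.prime_two⟩
  have hfin := model_finite p χ hχ h2
  refine ⟨HP p χ hχ h2, inferInstance, hfin, ?_⟩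
  obtain ⟨N, hN1, hN2, hN3⟩ := model_normal p χ hχ h2
  exact ⟨N, hN1, hN2, hN3, model_spectrum p χ hχ h2 hp2 hstar (exists_torus p hp2 hcard)⟩

end Cfsg.Agent.Helper38.WeilTwo
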